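import Groth.Agent.Lib.Helper72.GrpdPts
import Mathlib.AlgebraicGeometry.Morphisms.Separated

/-!
# Sections over a one-point affine scheme are closed immersions; `s` is separated when `e` is a
closed immersion

* `isPreimmersion_of_section`: a section of a morphism is a preimmersion.
* `isClosedImmersion_of_section`: a section `e : U ⟶ R` of `s : R ⟶ U`, with `U` affine with at most
  one point, is a closed immersion.
* `isPullback_diagonal`: the diagonal of `s : R ⟶ U` is the base change of `e` along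
  `(α, β) ↦ α ∘ β⁻¹`.
* `isSeparated_s`: `G.s` is separated as soon as `G.e` is a closed immersion.
-/

set_option autoImplicit false

universe u

namespace Groth.Agent.Lib.Helper72.GrpdPts

open AlgebraicGeometry CategoryTheory CategoryTheory.Limits Grpd

theorem isPreimmersion_of_section {X Y : Scheme.{u}} (e : Y ⟶ X) (s : X ⟶ Y) (h : e ≫ s = 𝟙 Y) :
    IsPreimmersion e := by
  haveI : SurjectiveOnStalks (e ≫ s) := by rw [h]; infer_instance
  haveI : SurjectiveOnStalks e := SurjectiveOnStalks.of_comp (f := e) (g := s)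
  refine ⟨?_⟩
  refine Function.LeftInverse.isEmbedding (f := s) (g := e) ?_ s.continuous e.continuous
  intro y
  rw [← Scheme.Hom.comp_apply, h]
  rfl

theorem isClosedImmersion_of_section {R U : Scheme.{u}} [IsAffine U] [Subsingleton U]
    (e : U ⟶ R) (s : R ⟶ U) (h : e ≫ s = 𝟙 U) : IsClosedImmersion e := by
  haveI := isPreimmersion_of_section e s h
  apply IsClosedImmersion.of_isPreimmersion
  rw [← closure_subset_iff_isClosed]
  intro y hy
  by_cases hne : Nonempty U
  · obtain ⟨u₀⟩ := hne
    have hrange : Set.range e = {e u₀} := by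
      ext z
      constructor
      · rintro ⟨u, rfl⟩
        rw [Subsingleton.elim u u₀]
        rfl
      · rintro rfl
        exact ⟨u₀, rfl⟩
    rw [hrange] at hy ⊢
    have hspec : e u₀ ⤳ y := specializes_iff_mem_closure.2 hy
    obtain ⟨V, hV, hyV, -⟩ := exists_isAffineOpen_mem_and_subset (x := y) (U := ⊤) trivial
    have hxV : e u₀ ∈ V := hspec.mem_open V.isOpen hyV
    have hsub : Set.range e ⊆ Set.range V.ι := by
      rw [hrange, Scheme.Opens.range_ι]
      rintro _ rfl
      exact hxV
    let eV : U ⟶ V := IsOpenImmersion.lift V.ι e hsub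
    have heV : eV ≫ V.ι = e := IsOpenImmersion.lift_fac _ _ _
    haveI : IsAffine (V : Scheme.{u}) := hV
    haveI : IsClosedImmersion (eV ≫ V.ι ≫ s) := by
      rw [← Category.assoc, heV, h]
      infer_instance
    haveI : IsClosedImmersion eV := IsClosedImmersion.of_comp eV (V.ι ≫ s)
    have hcl : IsClosed (Set.range eV) := eV.isClosedEmbedding.isClosed_range
    have hrangeV : Set.range eV = {eV u₀} := by
      ext z
      constructor
      · rintro ⟨u, rfl⟩
        rw [Subsingleton.elim u u₀]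
        rfl
      · rintro rfl
        exact ⟨u₀, rfl⟩
    have hx' : V.ι (eV u₀) = e u₀ := by rw [← Scheme.Hom.comp_apply, heV]
    have hspecV : eV u₀ ⤳ (⟨y, hyV⟩ : V) := by
      rw [← V.ι.isOpenEmbedding.isInducing.specializes_iff, hx']
      exact hspec
    have hmem : (⟨y, hyV⟩ : V) ∈ Set.range eV := by
      rw [hrangeV] at hcl ⊢
      have := specializes_iff_mem_closure.1 hspecV
      rwa [hcl.closure_eq] at this
    rw [hrangeV] at hmem
    have : y = V.ι (eV u₀) := by
      rw [← Set.mem_singleton_iff.1 hmem]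
      rfl
    rw [this, hx']
    rfl
  · have : Set.range e = ∅ := by
      rw [Set.range_eq_empty_iff]
      exact not_nonempty_iff.1 hne
    rw [this, closure_empty] at hy
    exact hy.elim

variable {S : Scheme.{u}} (G : Grpd.GroupoidScheme S)

lemma div_cond : pullback.fst G.s G.s ≫ G.s = (pullback.snd G.s G.s ≫ G.i) ≫ G.t := by
  rw [Category.assoc, G.i_t]; exact pullback.condition

/-- `(α, β) ↦ α ∘ β⁻¹` on pairs with the same source. -/
noncomputable def divMap : pullback G.s G.s ⟶ G.R :=
  mul G (pullback.fst G.s G.s) (pullback.snd G.s G.s ≫ G.i) (div_cond G)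

lemma divMap_t : divMap G ≫ G.t = pullback.fst G.s G.s ≫ G.t := by
  rw [divMap, mul_t]

lemma comp_divMap {X : Scheme.{u}} (γ : X ⟶ pullback G.s G.s) (α β : X ⟶ G.R)
    (hα : α = γ ≫ pullback.fst G.s G.s) (hβ : β = γ ≫ pullback.snd G.s G.s)
    (hαβ : α ≫ G.s = (β ≫ G.i) ≫ G.t) : γ ≫ divMap G = mul G α (β ≫ G.i) hαβ := by
  rw [divMap]
  have h1 : (γ ≫ pullback.fst G.s G.s) ≫ G.s =
      (γ ≫ pullback.snd G.s G.s ≫ G.i) ≫ G.t := by
    rw [Category.assoc, Category.assoc, div_cond]
  rw [comp_mul G γ _ _ (div_cond G) h1]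
  exact mul_congr G hα.symm (by rw [hβ, Category.assoc]) h1 hαβ

lemma diagonal_div : pullback.diagonal G.s ≫ divMap G = G.t ≫ G.e := by
  rw [divMap]
  have h1 : (pullback.diagonal G.s ≫ pullback.fst G.s G.s) ≫ G.s =
      (pullback.diagonal G.s ≫ pullback.snd G.s G.s ≫ G.i) ≫ G.t := by
    rw [Category.assoc, Category.assoc, div_cond]
  rw [comp_mul G (pullback.diagonal G.s) _ _ (div_cond G) h1]
  have e1 : pullback.diagonal G.s ≫ pullback.fst G.s G.s = 𝟙 G.R := pullback.diagonal_fst _
  have e2 : pullback.diagonal G.s ≫ pullback.snd G.s G.s ≫ G.i = 𝟙 G.R ≫ G.i := by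
    rw [← Category.assoc, pullback.diagonal_snd]
  have h2 : 𝟙 G.R ≫ G.s = (𝟙 G.R ≫ G.i) ≫ G.t := by
    rw [Category.id_comp, Category.id_comp, G.i_t]
  refine (mul_congr G e1 e2 h1 h2).trans ((mul_i G (𝟙 G.R) h2).trans ?_)
  rw [Category.id_comp]

theorem isPullback_diagonal : IsPullback G.t (pullback.diagonal G.s) G.e (divMap G) := by
  refine IsPullback.of_isLimit' ⟨(diagonal_div G).symm⟩ ?_
  refine PullbackCone.IsLimit.mk _ (fun c => c.snd ≫ pullback.fst G.s G.s) ?_ ?_ ?_
  · intro c
    -- `α ≫ t = u`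
    have hc := c.condition
    have h1 : (c.fst ≫ G.e) ≫ G.t = c.fst := by rw [Category.assoc, G.e_t, Category.comp_id]
    rw [← h1, hc, Category.assoc, Category.assoc, divMap_t]
  · intro c
    have hc := c.condition
    obtain ⟨α, hα⟩ : ∃ α, α = c.snd ≫ pullback.fst G.s G.s := ⟨_, rfl⟩
    obtain ⟨β, hβ⟩ : ∃ β, β = c.snd ≫ pullback.snd G.s G.s := ⟨_, rfl⟩
    have hαβ : α ≫ G.s = (β ≫ G.i) ≫ G.t := by
      rw [hα, hβ, Category.assoc, Category.assoc, Category.assoc, G.i_t, pullback.condition]
    -- `c.snd ≫ div = mul α (β ≫ i)`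
    have hdiv : c.snd ≫ divMap G = mul G α (β ≫ G.i) hαβ := comp_divMap G c.snd α β hα hβ hαβ
    have hu : c.fst = β ≫ G.t := by
      have h1 : (c.fst ≫ G.e) ≫ G.s = c.fst := by rw [Category.assoc, G.e_s, Category.comp_id]
      rw [← h1, hc, hdiv, mul_s, Category.assoc, G.i_s]
    have hmul : mul G α (β ≫ G.i) hαβ = β ≫ G.t ≫ G.e := by
      rw [← hdiv, ← hc, hu, Category.assoc]
    have h2 : mul G α (β ≫ G.i) hαβ ≫ G.s = β ≫ G.t := by
      rw [mul_s, Category.assoc, G.i_s]
    have h3 : (β ≫ G.t ≫ G.e) ≫ G.s = β ≫ G.t := by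
      rw [Category.assoc, Category.assoc, G.e_s, Category.comp_id]
    have hαeqβ : α = β :=
      ((mul_i_mul' G α β hαβ h2).symm.trans (mul_congr G hmul rfl h2 h3)).trans
        (e_mul G β _ rfl h3)
    apply pullback.hom_ext
    · rw [Category.assoc, pullback.diagonal_fst, Category.comp_id]
    · rw [Category.assoc, pullback.diagonal_snd, Category.comp_id, ← hα, ← hβ]
      exact hαeqβ
  · intro c m hm₁ hm₂
    rw [← hm₂, Category.assoc, pullback.diagonal_fst, Category.comp_id]

theorem isSeparated_s [IsClosedImmersion G.e] : IsSeparated G.s :=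
  ⟨MorphismProperty.of_isPullback (P := @IsClosedImmersion) (isPullback_diagonal G) inferInstance⟩

end Groth.Agent.Lib.Helper72.GrpdPts
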