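import Mathlib.RingTheory.RingHom.StandardSmooth
import Mathlib.RingTheory.Etale.Field
import Mathlib.RingTheory.Spectrum.Prime.Chevalley
import Mathlib.Algebra.MvPolynomial.Funext
import Mathlib.FieldTheory.IsSepClosed
import Mathlib.AlgebraicGeometry.Morphisms.Smooth

/-!
# Rational points of smooth schemes over a separably closed field

* `infinite_of_isSepClosed`: a separably closed field is infinite.
* `exists_retraction_of_isStandardSmooth`: a nontrivial standard smooth algebra over a separably
  closed field `K` has a `K`-point.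
* `exists_section_of_smooth`: a nonempty smooth scheme over a separably closed field has a
  rational point.
-/

set_option autoImplicit false
universe u
open CategoryTheory AlgebraicGeometry Polynomial

namespace Groth.Agent.Lib.Helper72.SepPoint

/-- Separably closed fields are infinite. -/
theorem infinite_of_isSepClosed (K : Type*) [Field K] [IsSepClosed K] : Infinite K := by
  apply Infinite.of_not_fintype
  intro hfin
  set n := Fintype.card K
  set f := (X : K[X]) ^ (n + 1) - 1
  have hfsep : Separable f := separable_X_pow_sub_C 1 (by simp [n]) one_ne_zero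
  apply Nat.not_succ_le_self (Fintype.card K)
  have hroot : n.succ = Fintype.card (f.rootSet K) := by
    rw [card_rootSet_eq_natDegree hfsep (IsSepClosed.splits_domain _ hfsep)]
    unfold f
    rw [← C_1, natDegree_X_pow_sub_C]
  rw [hroot]
  exact Fintype.card_le_of_injective _ Subtype.coe_injective

open TensorProduct in
/-- A nontrivial standard smooth algebra over a separably closed field `K` has a `K`-point. -/
theorem exists_retraction_of_isStandardSmooth (K : Type u) [Field K] [IsSepClosed K]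
    (A : Type u) [CommRing A] [Nontrivial A] (φ : K →+* A) (hφ : φ.IsStandardSmooth) :
    ∃ χ : A →+* K, χ.comp φ = RingHom.id K := by
  classical
  haveI := infinite_of_isSepClosed K
  obtain ⟨n, g, hg, hge⟩ := hφ.exists_etale_mvPolynomial
  algebraize [g]
  -- the image of `Spec A → 𝔸ⁿ` is open and nonempty
  have hopen : IsOpenMap (PrimeSpectrum.comap (algebraMap (MvPolynomial (Fin n) K) A)) :=
    PrimeSpectrum.isOpenMap_comap_of_hasGoingDown_of_finitePresentation
  have hW : IsOpen (Set.range (PrimeSpectrum.comap (algebraMap (MvPolynomial (Fin n) K) A))) :=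
    hopen.isOpen_range
  obtain ⟨𝔮₀⟩ : Nonempty (PrimeSpectrum A) := inferInstance
  obtain ⟨_, ⟨h, rfl⟩, h𝔭, hsub⟩ :=
    PrimeSpectrum.isTopologicalBasis_basic_opens.exists_subset_of_mem_open
      (Set.mem_range_self 𝔮₀) hW
  have hh : h ≠ 0 := by
    rintro rfl
    exact h𝔭 (Ideal.zero_mem _)
  -- a rational point in `D(h)`
  obtain ⟨a, ha⟩ : ∃ a : Fin n → K, MvPolynomial.eval a h ≠ 0 := by
    by_contra hcon
    push Not at hcon
    exact hh (MvPolynomial.funext fun x => by simpa using hcon x)
  let ev : MvPolynomial (Fin n) K →+* K := MvPolynomial.eval a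
  let 𝔪 : PrimeSpectrum (MvPolynomial (Fin n) K) := ⟨RingHom.ker ev, RingHom.ker_isPrime ev⟩
  have h𝔪 : 𝔪 ∈ Set.range (PrimeSpectrum.comap (algebraMap (MvPolynomial (Fin n) K) A)) :=
    hsub (by
      show h ∉ RingHom.ker ev
      rw [RingHom.mem_ker]
      exact ha)
  obtain ⟨𝔮, h𝔮⟩ := h𝔪
  have h𝔮' : ∀ p : MvPolynomial (Fin n) K, g p ∈ 𝔮.asIdeal ↔ ev p = 0 := by
    intro p
    have := congrArg (fun 𝔯 : PrimeSpectrum (MvPolynomial (Fin n) K) => p ∈ 𝔯.asIdeal) h𝔮
    have this' : (algebraMap (MvPolynomial (Fin n) K) A) p ∈ 𝔮.asIdeal ↔ ev p = 0 := by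
      simpa [𝔪, RingHom.mem_ker] using this
    exact this'
  -- `K` as an algebra over the polynomial ring via evaluation at `a`
  letI algPK : Algebra (MvPolynomial (Fin n) K) K := ev.toAlgebra
  have hevC : ∀ c : K, ev (MvPolynomial.C c) = c := fun c => by simp [ev]
  -- the fibre over `a`
  let B := K ⊗[MvPolynomial (Fin n) K] A
  haveI : Algebra.Etale K B := inferInstance
  haveI : Nontrivial B := by
    let f₁ : K →ₐ[MvPolynomial (Fin n) K] A ⧸ 𝔮.asIdeal :=
      { toRingHom := (Ideal.Quotient.mk 𝔮.asIdeal).comp φ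
        commutes' := fun p => by
          show (Ideal.Quotient.mk 𝔮.asIdeal) (φ (ev p)) = (Ideal.Quotient.mk 𝔮.asIdeal) (g p)
          rw [Ideal.Quotient.eq, ← hg]
          show g (MvPolynomial.C (ev p)) - g p ∈ 𝔮.asIdeal
          rw [← map_sub, h𝔮', map_sub, hevC, sub_self] }
    let f : B →ₐ[MvPolynomial (Fin n) K] A ⧸ 𝔮.asIdeal :=
      Algebra.TensorProduct.lift f₁ (IsScalarTower.toAlgHom _ _ _) (fun _ _ => Commute.all _ _)
    exact RingHom.domain_nontrivial f.toRingHom
  obtain ⟨𝔯⟩ : Nonempty (PrimeSpectrum B) := inferInstance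
  let e := Algebra.FormallyEtale.equivPiOfIsSepClosed K B
  let χ' : B →ₐ[K] K := (Pi.evalAlgHom K (fun _ : PrimeSpectrum B => K) 𝔯).comp e.toAlgHom
  refine ⟨χ'.toRingHom.comp
    (Algebra.TensorProduct.includeRight (R := MvPolynomial (Fin n) K) (A := K) (B := A)).toRingHom,
    ?_⟩
  ext c
  have h1 : (Algebra.TensorProduct.includeRight (R := MvPolynomial (Fin n) K) (A := K) (B := A))
      (φ c) = algebraMap K B c := by
    rw [← hg]
    show (1 : K) ⊗ₜ[MvPolynomial (Fin n) K] (g (MvPolynomial.C c)) = _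
    have : g (MvPolynomial.C c) = (MvPolynomial.C c : MvPolynomial (Fin n) K) • (1 : A) := by
      rw [Algebra.smul_def, mul_one]; rfl
    rw [this, ← TensorProduct.smul_tmul, Algebra.smul_def, mul_one]
    show (ev (MvPolynomial.C c)) ⊗ₜ[MvPolynomial (Fin n) K] (1 : A) = _
    rw [hevC]
    rfl
  show χ' (Algebra.TensorProduct.includeRight (φ c)) = c
  rw [h1, AlgHom.commutes]
  rfl

/-- A nonempty smooth scheme over a separably closed field has a rational point. -/
theorem exists_section_of_smooth {K : Type u} [Field K] [IsSepClosed K] {X : Scheme.{u}}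
    (f : X ⟶ Spec (CommRingCat.of K)) [Smooth f] [Nonempty X] :
    ∃ s : Spec (CommRingCat.of K) ⟶ X, s ≫ f = 𝟙 _ := by
  obtain ⟨x⟩ := ‹Nonempty X›
  obtain ⟨U, hU, V, hV, hxV, e, hf⟩ := Smooth.exists_isStandardSmooth f x
  have hUtop : U = ⊤ := by
    ext y
    simp only [TopologicalSpace.Opens.coe_top, Set.mem_univ, iff_true]
    have : y = f x := Subsingleton.elim (α := PrimeSpectrum K) _ _
    rw [this]
    exact e hxV
  subst hUtop
  let ψe : K ≃+* Γ(Spec (CommRingCat.of K), ⊤) :=
    (Scheme.ΓSpecIso (CommRingCat.of K)).symm.commRingCatIsoToRingEquiv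
  have hψ : (ψe : K →+* Γ(Spec (CommRingCat.of K), ⊤)).IsStandardSmooth :=
    (RingHom.IsStandardSmoothOfRelativeDimension.equiv ψe).isStandardSmooth
  have hφ := hf.comp hψ
  haveI : Nonempty V := ⟨⟨x, hxV⟩⟩
  haveI : Nontrivial Γ(X, V) := inferInstance
  obtain ⟨χ, hχ⟩ := exists_retraction_of_isStandardSmooth K Γ(X, V) _ hφ
  refine ⟨Spec.map (CommRingCat.ofHom χ) ≫ hV.fromSpec, ?_⟩
  rw [Category.assoc, ← IsAffineOpen.SpecMap_appLE_fromSpec f hU hV e,
    IsAffineOpen.fromSpec_top, Scheme.isoSpec_Spec_inv, ← Spec.map_comp, ← Spec.map_comp]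
  rw [← Spec.map_id]
  congr 1
  ext c
  exact congrArg (fun θ : K →+* K => θ c) hχ

end Groth.Agent.Lib.Helper72.SepPoint
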