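import Mathlib
import Groth.Agent.Lib.Helper72.EquivFlat
import Groth.Agent.Lib.Helper19.Grp.OrbitHomogeneity

/-!
# Dominance of the graph morphism and birational equivariant covers (helper72)

Let `n : Xt ⟶ X` be a surjective equivariant morphism of `S`-schemes with "actions"
`a : G ⊗ X ⟶ X`, `b : G ⊗ Xt ⟶ Xt`, which is an isomorphism over an open `V` of `X` whose
preimage is dense in `Xt`, and with `Xt` universally open over `S`.  Then the graph morphism of `a`
is dominant iff the graph morphism of `b` is.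
-/

set_option autoImplicit false
universe u

open CategoryTheory MonoidalCategory CartesianMonoidalCategory AlgebraicGeometry Limits

namespace Groth.Agent.Lib.Helper72.NormHomog

variable {S : Scheme.{u}}

section Whisker

variable {A B : Over S} (φ : A ⟶ B) (K : Over S)

lemma surjective_whiskerLeft [Surjective φ.left] : Surjective (K ◁ φ).left :=
  MorphismProperty.of_isPullback (P := @Surjective)
    ((Groth.Agent.Lib.Helper19.isPullback_whiskerLeft_snd K φ).map (Over.forget S)).flip
    (inferInstanceAs (Surjective φ.left))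

lemma surjective_whiskerRight [Surjective φ.left] : Surjective (φ ▷ K).left :=
  MorphismProperty.of_isPullback (P := @Surjective)
    ((Groth.Agent.Lib.Helper72.EquivFlat.isPullback_fst_whiskerRight φ K).map (Over.forget S))
    (inferInstanceAs (Surjective φ.left))

lemma surjective_tensorHom {A' B' : Over S} (ψ : A' ⟶ B') [Surjective φ.left]
    [Surjective ψ.left] : Surjective (φ ⊗ₘ ψ).left := by
  rw [MonoidalCategory.tensorHom_def, Over.comp_left]
  haveI := surjective_whiskerRight φ A'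
  haveI := surjective_whiskerLeft ψ B
  infer_instance

end Whisker

variable {G X Xt : Over S} (a : G ⊗ X ⟶ X) (b : G ⊗ Xt ⟶ Xt) (n : Xt ⟶ X)

lemma graph_comp (hb : (G ◁ n) ≫ a = b ≫ n) :
    lift (snd G Xt) b ≫ (n ⊗ₘ n) = (G ◁ n) ≫ lift (snd G X) a := by
  apply CartesianMonoidalCategory.hom_ext
  · simp
  · simp [hb]

lemma isDominant_of_cover (hb : (G ◁ n) ≫ a = b ≫ n) [Surjective n.left]
    (h : IsDominant (lift (snd G Xt) b).left) : IsDominant (lift (snd G X) a).left := by
  haveI := surjective_tensorHom n n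
  haveI : IsDominant (lift (snd G Xt) b ≫ (n ⊗ₘ n)).left := by
    rw [Over.comp_left]; infer_instance
  rw [graph_comp a b n hb, Over.comp_left] at this
  exact IsDominant.of_comp (G ◁ n).left _

/-- the open subobject `V` of `X` -/
abbrev sub (V : X.left.Opens) : Over S := Over.mk (V.ι ≫ X.hom)

/-- its inclusion -/
abbrev incl (V : X.left.Opens) : sub V ⟶ X := Over.homMk V.ι rfl

/-- the section of `n` over `V` -/
noncomputable def sec (V : X.left.Opens) [IsIso (n.left ∣_ V)] : sub V ⟶ Xt :=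
  Over.homMk (inv (n.left ∣_ V) ≫ (n.left ⁻¹ᵁ V).ι) (by
    show (inv (n.left ∣_ V) ≫ (n.left ⁻¹ᵁ V).ι) ≫ Xt.hom = V.ι ≫ X.hom
    rw [← Over.w n, Category.assoc, ← Category.assoc (n.left ⁻¹ᵁ V).ι, ← morphismRestrict_ι,
      Category.assoc, IsIso.inv_hom_id_assoc])

lemma sec_comp (V : X.left.Opens) [IsIso (n.left ∣_ V)] : sec n V ≫ n = incl V := by
  ext
  show (inv (n.left ∣_ V) ≫ (n.left ⁻¹ᵁ V).ι) ≫ n.left = V.ι
  rw [Category.assoc, ← morphismRestrict_ι, IsIso.inv_hom_id_assoc]

instance (V : X.left.Opens) [IsIso (n.left ∣_ V)] : IsOpenImmersion (sec n V).left := by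
  show IsOpenImmersion (inv (n.left ∣_ V) ≫ (n.left ⁻¹ᵁ V).ι)
  infer_instance

lemma range_sec (V : X.left.Opens) [IsIso (n.left ∣_ V)] :
    Set.range (sec n V).left = n.left ⁻¹' (V : Set X.left) := by
  show Set.range (inv (n.left ∣_ V) ≫ (n.left ⁻¹ᵁ V).ι) = _
  rw [Scheme.Hom.comp_base, TopCat.coe_comp, Set.range_comp,
    Set.range_eq_univ.mpr (inv (n.left ∣_ V)).surjective, Set.image_univ, Scheme.Opens.range_ι]
  rfl

instance (V : X.left.Opens) : IsOpenImmersion (incl (S := S) V).left := by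
  show IsOpenImmersion V.ι
  infer_instance

theorem isDominant_cover (hb : (G ◁ n) ≫ a = b ≫ n) [Surjective n.left]
    [UniversallyOpen Xt.hom] (V : X.left.Opens) [IsIso (n.left ∣_ V)]
    (hdense : Dense (n.left ⁻¹' (V : Set X.left)))
    (h : IsDominant (lift (snd G X) a).left) : IsDominant (lift (snd G Xt) b).left := by
  set σ : sub V ⊗ sub V ⟶ Xt ⊗ Xt := sec n V ⊗ₘ sec n V with hσ
  set jj : sub V ⊗ sub V ⟶ X ⊗ X := incl V ⊗ₘ incl V with hjj
  have hσjj : σ ≫ (n ⊗ₘ n) = jj := by
    rw [hσ, hjj, tensorHom_comp_tensorHom, sec_comp]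
  haveI : IsOpenImmersion σ.left := by
    rw [hσ, Over.tensorHom_left]; infer_instance
  haveI : IsOpenImmersion jj.left := by
    rw [hjj, Over.tensorHom_left]; infer_instance
  have hrange : Set.range σ.left = (fst Xt Xt).left ⁻¹' (n.left ⁻¹' (V : Set X.left)) ∩
      (snd Xt Xt).left ⁻¹' (n.left ⁻¹' (V : Set X.left)) := by
    rw [hσ, Over.tensorHom_left, Scheme.Pullback.range_map, range_sec]
    rfl
  haveI : UniversallyOpen (fst Xt Xt).left := by
    rw [Over.fst_left]; infer_instance
  haveI : UniversallyOpen (snd Xt Xt).left := by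
    rw [Over.snd_left]; infer_instance
  have hVo : IsOpen (n.left ⁻¹' (V : Set X.left)) := V.2.preimage n.left.continuous
  have hOdense : Dense (Set.range σ.left) := by
    rw [hrange]
    exact (hdense.preimage (fst Xt Xt).left.isOpenMap).inter_of_isOpen_left
      (hdense.preimage (snd Xt Xt).left.isOpenMap) (hVo.preimage (fst Xt Xt).left.continuous)
  have hOopen : IsOpen (Set.range σ.left) := σ.left.isOpenEmbedding.isOpen_range
  haveI := surjective_whiskerLeft n G
  refine ⟨dense_iff_inter_open.mpr fun W hW hWne => ?_⟩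
  -- shrink `W` into the range of `σ`
  obtain ⟨z₀, hz₀W, hz₀O⟩ := hOdense.inter_open_nonempty W hW hWne
  obtain ⟨y₀, hy₀⟩ := hz₀O
  have hYo : IsOpen (σ.left ⁻¹' W) := hW.preimage σ.left.continuous
  have hJo : IsOpen (jj.left '' (σ.left ⁻¹' W)) := jj.left.isOpenEmbedding.isOpenMap _ hYo
  have hJne : (jj.left '' (σ.left ⁻¹' W)).Nonempty :=
    ⟨jj.left y₀, y₀, by show σ.left y₀ ∈ W; rw [hy₀]; exact hz₀W, rfl⟩
  obtain ⟨p, hpJ, ⟨w, hw⟩⟩ := h.denseRange.inter_open_nonempty _ hJo hJne
  obtain ⟨y, hyW, hy⟩ := hpJ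
  obtain ⟨wt, hwt⟩ := (G ◁ n).left.surjective w
  refine ⟨(lift (snd G Xt) b).left wt, ?_, ⟨wt, rfl⟩⟩
  -- the image of `Γt wt` under `n ⊗ n` is `jj y`
  have h1 : (n ⊗ₘ n).left ((lift (snd G Xt) b).left wt) = jj.left y := by
    rw [← Scheme.Hom.comp_apply, ← Over.comp_left, graph_comp a b n hb, Over.comp_left,
      Scheme.Hom.comp_apply, hwt, hw, hy]
  -- hence `Γt wt` is in the range of `σ`
  have e1 : ∀ z, n.left ((fst Xt Xt).left z) = (fst X X).left ((n ⊗ₘ n).left z) := by
    intro z
    rw [← Scheme.Hom.comp_apply, ← Scheme.Hom.comp_apply, ← Over.comp_left, ← Over.comp_left,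
      tensorHom_fst]
  have e2 : ∀ z, n.left ((snd Xt Xt).left z) = (snd X X).left ((n ⊗ₘ n).left z) := by
    intro z
    rw [← Scheme.Hom.comp_apply, ← Scheme.Hom.comp_apply, ← Over.comp_left, ← Over.comp_left,
      tensorHom_snd]
  have e3 : ∀ z, (fst X X).left (jj.left z) = V.ι ((fst (sub V) (sub V)).left z) := by
    intro z
    rw [← Scheme.Hom.comp_apply, ← Over.comp_left, hjj, tensorHom_fst, Over.comp_left,
      Scheme.Hom.comp_apply]
    rfl
  have e4 : ∀ z, (snd X X).left (jj.left z) = V.ι ((snd (sub V) (sub V)).left z) := by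
    intro z
    rw [← Scheme.Hom.comp_apply, ← Over.comp_left, hjj, tensorHom_snd, Over.comp_left,
      Scheme.Hom.comp_apply]
    rfl
  have h2 : (lift (snd G Xt) b).left wt ∈ Set.range σ.left := by
    rw [hrange]
    constructor
    · show n.left ((fst Xt Xt).left ((lift (snd G Xt) b).left wt)) ∈ V
      rw [e1, h1, e3]
      exact ((fst (sub V) (sub V)).left y).2
    · show n.left ((snd Xt Xt).left ((lift (snd G Xt) b).left wt)) ∈ V
      rw [e2, h1, e4]
      exact ((snd (sub V) (sub V)).left y).2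
  obtain ⟨y', hy'⟩ := h2
  have h3 : jj.left y' = jj.left y := by
    rw [← h1, ← hy', ← Scheme.Hom.comp_apply, ← Over.comp_left, hσjj]
  have h4 : y' = y := jj.left.isOpenEmbedding.injective h3
  rw [← hy', h4]
  exact hyW

end Groth.Agent.Lib.Helper72.NormHomog
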