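import Groth.Agent.Lib.Helper72.GrpComp
import Mathlib.AlgebraicGeometry.Morphisms.Integral

/-!
# The identity component of a group scheme over a field is geometrically irreducible
-/

set_option autoImplicit false

universe u

namespace Groth.Agent.Lib.Helper72.GrpComp

open AlgebraicGeometry CategoryTheory CategoryTheory.Limits MonoidalCategory
  CartesianMonoidalCategory MonObj GrpObj

variable {K : Type u} [Field K] (G : Over (Spec (CommRingCat.of K))) [GrpObj G]
  {K' : Type u} [Field K'] (g : Spec (CommRingCat.of K') ⟶ Spec (CommRingCat.of K))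

theorem isPullback_unit :
    IsPullback (unitS (bc G g)) g (pullback.fst G.hom g) (unitS G) := by
  have hright : IsPullback (pullback.snd G.hom g) (pullback.fst G.hom g) g G.hom :=
    (IsPullback.of_hasPullback G.hom g).flip
  have houter : IsPullback (unitS (bc G g) ≫ pullback.snd G.hom g) g g (unitS G ≫ G.hom) := by
    have h1 : unitS (bc G g) ≫ pullback.snd G.hom g = 𝟙 _ := unit_hom (bc G g)
    rw [h1, unit_hom]
    exact IsPullback.of_horiz_isIso ⟨by simp⟩
  exact IsPullback.of_right houter (unitS_bc_fst G g) hright

lemma eq_ePt_of_fst_eq (y : ↑(pullback G.hom g)) (hy : pullback.fst G.hom g y = ePt G) :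
    y = ePt (bc G g) := by
  obtain ⟨z, hz1, hz2⟩ := Scheme.Pullback.exists_preimage_pullback (f := pullback.fst G.hom g)
    (g := unitS G) y (IsLocalRing.closedPoint K) hy
  have h1 : (isPullback_unit G g).isoPullback.inv ≫ unitS (bc G g) = pullback.fst _ _ := by
    rw [Iso.inv_comp_eq]; simp
  have h2 : unitS (bc G g) ((isPullback_unit G g).isoPullback.inv z) = y := by
    rw [← Scheme.Hom.comp_apply, h1, hz1]
  rw [← h2]
  unfold ePt
  congr 1
  exact Subsingleton.elim (α := PrimeSpectrum K') _ _

/-- The preimage of the identity component under a closed base change map is the identity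
component. -/
theorem preimage_component_eq (hcl : IsClosedMap (pullback.fst G.hom g)) {Z₀ : Set G.left}
    (hZ₀ : Z₀ ∈ irreducibleComponents G.left) (he : ePt G ∈ Z₀) :
    (pullback.fst G.hom g) ⁻¹' Z₀ = irreducibleComponent (ePt (bc G g)) := by
  have hgen : GeneralizingMap (pullback.fst G.hom g) := Flat.generalizingMap _
  apply Set.Subset.antisymm
  · intro y hy
    have hW := irreducibleComponent_mem_irreducibleComponents y
    obtain ⟨w', hw'⟩ := QuasiSober.sober hW.1 isClosed_irreducibleComponent
    have hw'cl : closure {w'} ∈ irreducibleComponents ↥(pullback G.hom g) := by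
      rw [hw'.def]; exact hW
    have h1 : closure {pullback.fst G.hom g w'} ∈ irreducibleComponents G.left :=
      Groth.Agent.Lib.Helper51.closure_image_mem_irreducibleComponents hgen hw'cl
    have hyw : w' ⤳ y := by
      rw [specializes_iff_mem_closure, hw'.def]; exact mem_irreducibleComponent
    have h2 : pullback.fst G.hom g y ∈ closure {pullback.fst G.hom g w'} :=
      specializes_iff_mem_closure.1 (hyw.map (pullback.fst G.hom g).continuous)
    have h3 : closure {pullback.fst G.hom g w'} = Z₀ :=
      eq_of_mem G h1 hZ₀ _ h2 hy
    -- `π` is closed, so `e` lifts to a specialization of `w'`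
    have h4 : ePt G ∈ pullback.fst G.hom g '' closure {w'} := by
      have hc : IsClosed (pullback.fst G.hom g '' closure {w'}) := hcl _ isClosed_closure
      have : closure {pullback.fst G.hom g w'} ⊆ pullback.fst G.hom g '' closure {w'} :=
        closure_minimal (Set.singleton_subset_iff.2 ⟨w', subset_closure rfl, rfl⟩) hc
      exact this (h3 ▸ he)
    obtain ⟨e'', he''1, he''2⟩ := h4
    have h5 : e'' = ePt (bc G g) := eq_ePt_of_fst_eq G g e'' he''2
    rw [hw'.def, h5] at he''1
    have h6 : irreducibleComponent y = irreducibleComponent (ePt (bc G g)) :=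
      eq_of_ePt_mem (bc G g) hW (irreducibleComponent_mem_irreducibleComponents _) he''1
        mem_irreducibleComponent
    rw [← h6]
    exact mem_irreducibleComponent
  · have hT : IsIrreducible (closure (pullback.fst G.hom g ''
        irreducibleComponent (ePt (bc G g)))) :=
      (isIrreducible_irreducibleComponent.image _
        (pullback.fst G.hom g).continuous.continuousOn).closure
    obtain ⟨Z₁, hZ₁, hsub⟩ := exists_mem_irreducibleComponents_subset_of_isIrreducible _ hT
    have heZ₁ : ePt G ∈ Z₁ := by
      apply hsub
      apply subset_closure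
      exact ⟨ePt (bc G g), mem_irreducibleComponent, fst_ePt_bc G g⟩
    have h1 : Z₁ = Z₀ := eq_of_ePt_mem G hZ₁ hZ₀ heZ₁ he
    intro y hy
    show pullback.fst G.hom g y ∈ Z₀
    rw [← h1]
    exact hsub (subset_closure ⟨y, hy, rfl⟩)

end Groth.Agent.Lib.Helper72.GrpComp
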