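import Groth.Agent.Lib.Helper72.GrpGen
import Groth.Agent.S7517
import Groth.Agent.S0346
import Mathlib.AlgebraicGeometry.Noetherian

/-!
# The identity component of a group scheme over a field

For a group scheme `G` over a field, the connected component of the identity coincides with the
(unique) irreducible component through the identity, and it is quasi-compact.
-/

set_option autoImplicit false

universe u

namespace Groth.Agent.Lib.Helper72.GrpConn

open AlgebraicGeometry CategoryTheory CategoryTheory.Limits MonoidalCategory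
  CartesianMonoidalCategory MonObj GrpObj Groth.Agent.Lib.Helper72.GrpComp
  Groth.Agent.Lib.Helper72.GrpGen

variable {K : Type u} [Field K] (G : Over (Spec (CommRingCat.of K))) [GrpObj G]

/-- `A · W` is open when `A` is the range of a morphism and `W` is open (projections from a product
over a field are open). -/
theorem isOpen_mulSet_range {T : Scheme.{u}} (j : T ⟶ G.left) {W : Set G.left} (hW : IsOpen W) :
    IsOpen (mulSet G (Set.range j) W) := by
  let T' : Over (Spec (CommRingCat.of K)) := Over.mk (j ≫ G.hom)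
  let ψ : T' ⟶ G := Over.homMk j rfl
  have h1 : ψ ▷ G ≫ μ[G] = (Groth.Agent.Lib.Helper89.shear ψ).hom ≫ snd T' G :=
    (Groth.Agent.Lib.Helper89.shear_hom_snd ψ).symm
  have h2 : (ψ ▷ G).left ≫ mulS G =
      (Groth.Agent.Lib.Helper89.shear ψ).hom.left ≫ (snd T' G).left := by
    unfold mulS
    rw [← Over.comp_left, h1, Over.comp_left]
  have : UniversallyOpen (snd T' G).left := by
    rw [Over.snd_left]
    infer_instance
  have hopen : IsOpenMap ((ψ ▷ G).left ≫ mulS G) := by
    rw [h2]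
    exact Scheme.Hom.isOpenMap _
  have hr : Set.range (ψ ▷ G).left = pullback.fst G.hom G.hom ⁻¹' Set.range j := by
    rw [Over.whiskerRight_left, Scheme.Pullback.range_map]
    simp
    rfl
  have hset : mulSet G (Set.range j) W =
      ((ψ ▷ G).left ≫ mulS G) '' ((ψ ▷ G).left ⁻¹' (pullback.snd G.hom G.hom ⁻¹' W)) := by
    unfold mulSet
    rw [Scheme.Hom.comp_base, TopCat.coe_comp, Set.image_comp, Set.image_preimage_eq_inter_range,
      hr, Set.inter_comm]
  rw [hset]
  exact hopen _ ((hW.preimage (pullback.snd G.hom G.hom).continuous).preimage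
    (ψ ▷ G).left.continuous)

set_option backward.isDefEq.respectTransparency false in
/-- `Z₀ · C ⊆ C` for the identity component `Z₀` and any irreducible component `C`. -/
theorem mulSet_subset_component {Z₀ C : Set G.left}
    (h₀ : Z₀ ∈ irreducibleComponents G.left) (he : ePt G ∈ Z₀)
    (hC : C ∈ irreducibleComponents G.left) : mulSet G Z₀ C ⊆ C := by
  obtain ⟨Y₁, j₁, hj₁, hred₁, hr₁, hl₁⟩ :=
    exists_reduced_closedSubscheme Z₀ (isClosed_of_mem_irreducibleComponents Z₀ h₀)
  obtain ⟨Y₂, j₂, hj₂, hred₂, hr₂, hl₂⟩ :=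
    exists_reduced_closedSubscheme C (isClosed_of_mem_irreducibleComponents C hC)
  have : IrreducibleSpace Y₁ := irreducibleSpace_of_range j₁ (hr₁ ▸ h₀.1)
  have : IrreducibleSpace Y₂ := irreducibleSpace_of_range j₂ (hr₂ ▸ hC.1)
  obtain ⟨e₁, he₁'⟩ := hl₁ (unitS G) (by rw [range_unit]; exact Set.singleton_subset_iff.2 he)
  have : GeometricallyIrreducible (j₁ ≫ G.hom) :=
    Groth.Agent.S7517.result K G Y₁ j₁ (hr₁ ▸ h₀) (hr₁ ▸ he)
  have : IrreducibleSpace ↥(pullback (j₁ ≫ G.hom) (j₂ ≫ G.hom)) := inferInstance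
  let φ : pullback (j₁ ≫ G.hom) (j₂ ≫ G.hom) ⟶ G.left :=
    pullback.map (j₁ ≫ G.hom) (j₂ ≫ G.hom) G.hom G.hom j₁ j₂ (𝟙 _) (by simp) (by simp) ≫
      μ[G].left
  have hT : IsIrreducible (closure (Set.range φ)) := by
    rw [← Set.image_univ]
    exact ((IrreducibleSpace.isIrreducible_univ _).image φ φ.continuous.continuousOn).closure
  have hsub₂ : C ⊆ closure (Set.range φ) := by
    refine subset_trans ?_ subset_closure
    rw [← hr₂]
    rintro _ ⟨y, rfl⟩
    have hc : ((j₂ ≫ G.hom) ≫ e₁) ≫ j₁ ≫ G.hom = 𝟙 Y₂ ≫ j₂ ≫ G.hom := by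
      rw [Category.id_comp, Category.assoc (j₂ ≫ G.hom), reassoc_of% he₁', unit_hom]
      exact Category.comp_id _
    have hs : pullback.lift ((j₂ ≫ G.hom) ≫ e₁) (𝟙 Y₂) hc ≫ φ = j₂ := by
      have h3 : pullback.lift ((j₂ ≫ G.hom) ≫ e₁) (𝟙 Y₂) hc ≫
          pullback.map (j₁ ≫ G.hom) (j₂ ≫ G.hom) G.hom G.hom j₁ j₂ (𝟙 _) (by simp) (by simp) =
          pullback.lift ((j₂ ≫ G.hom) ≫ unitS G) j₂ (unit_cond G j₂).symm := by
        apply pullback.hom_ext
        · simp [he₁']
        · simp <;> exact Category.id_comp _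
      show pullback.lift ((j₂ ≫ G.hom) ≫ e₁) (𝟙 Y₂) hc ≫ (_ ≫ _) = _
      rw [← Category.assoc, h3]
      exact lift_mul_unit G j₂
    exact ⟨pullback.lift ((j₂ ≫ G.hom) ≫ e₁) (𝟙 Y₂) hc y, by
      rw [← Scheme.Hom.comp_apply, hs]⟩
  have hle : closure (Set.range φ) ⊆ C := hC.2 hT hsub₂
  rintro _ ⟨q, ⟨hq1, hq2⟩, rfl⟩
  have hq : q ∈ Set.range (pullback.map (j₁ ≫ G.hom) (j₂ ≫ G.hom) G.hom G.hom j₁ j₂ (𝟙 _)
      (by simp) (by simp)) := by
    rw [Scheme.Pullback.range_map, hr₁, hr₂]
    exact ⟨hq1, hq2⟩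
  obtain ⟨p, rfl⟩ := hq
  exact hle (subset_closure ⟨p, rfl⟩)

/-- Right translation data as in `GrpGen.exists_trans_data`, with the extra information that the
translation map is generalizing. -/
theorem exists_trans_data' {K' : Type u} [Field K'] (ρ : Spec (CommRingCat.of K') ⟶ G.left) :
    ∃ (t : pullback G.hom (ρ ≫ G.hom) ⟶ G.left)
      (v : Spec (CommRingCat.of K') ⟶ pullback G.hom (ρ ≫ G.hom))
      (d : pullback G.hom (ρ ≫ G.hom) ⟶ pullback G.hom G.hom),
      IsOpenMap t ∧ GeneralizingMap t ∧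
      v ≫ pullback.fst G.hom (ρ ≫ G.hom) = (ρ ≫ G.hom) ≫ unitS G ∧ v ≫ t = ρ ∧
      d ≫ pullback.fst G.hom G.hom = pullback.fst G.hom (ρ ≫ G.hom) ≫ invS G ∧
      d ≫ pullback.snd G.hom G.hom = t ∧
      d ≫ mulS G = pullback.snd G.hom (ρ ≫ G.hom) ≫ ρ := by
  have : IsIntegral (GrpdPts.ofGrp G).U := inferInstanceAs (IsIntegral (Spec (CommRingCat.of K)))
  have : Subsingleton (GrpdPts.ofGrp G).U :=
    inferInstanceAs (Subsingleton (PrimeSpectrum K))
  have hgen : GeneralizingMap (GrpdPts.trans (GrpdPts.ofGrp G) ρ) := by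
    have h : GrpdPts.trans (GrpdPts.ofGrp G) ρ =
        GrpdPts.transHom (GrpdPts.ofGrp G) ρ ≫ pullback.fst G.hom (ρ ≫ G.hom) :=
      (GrpdPts.transHom_fst (GrpdPts.ofGrp G) ρ).symm
    rw [h]
    have h1 : GeneralizingMap (GrpdPts.transHom (GrpdPts.ofGrp G) ρ) :=
      (GrpdPts.transHom (GrpdPts.ofGrp G) ρ).homeomorph.isOpenEmbedding.generalizingMap
    have h2 : GeneralizingMap (pullback.fst G.hom (ρ ≫ G.hom)) := Flat.generalizingMap _
    exact h1.comp h2
  exact ⟨GrpdPts.trans (GrpdPts.ofGrp G) ρ, GrpdPts.transUnit (GrpdPts.ofGrp G) ρ,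
    GrpdPts.transDiv (GrpdPts.ofGrp G) ρ, GrpdPts.trans_isOpenMap (GrpdPts.ofGrp G) ρ, hgen,
    (GrpdPts.transUnit_fst (GrpdPts.ofGrp G) ρ).trans (Category.assoc _ _ _).symm,
    GrpdPts.transUnit_trans (GrpdPts.ofGrp G) ρ, pullback.lift_fst _ _ _, pullback.lift_snd _ _ _,
    GrpdPts.transDiv_c (GrpdPts.ofGrp G) ρ⟩

lemma invS_ePt : invS G (ePt G) = ePt G := by
  have h : unitS G ≫ invS G = unitS G := congrArg CommaMorphism.left (GrpObj.one_inv (G := G))
  exact app_eq h _

/-- An irreducible set containing the identity lies in the identity component. -/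
lemma subset_of_isIrreducible_of_ePt_mem {Z₀ : Set G.left}
    (h₀ : Z₀ ∈ irreducibleComponents G.left) (he : ePt G ∈ Z₀) {T : Set G.left}
    (hT : IsIrreducible T) (heT : ePt G ∈ T) : T ⊆ Z₀ := by
  obtain ⟨Z₁, hZ₁, hsub⟩ := exists_mem_irreducibleComponents_subset_of_isIrreducible _ hT
  have : Z₁ = Z₀ := eq_of_ePt_mem G hZ₁ h₀ (hsub heT) he
  exact this ▸ hsub

/-- An irreducible set containing `x` lies in the irreducible component through `x`. -/
lemma subset_of_isIrreducible_of_mem {C : Set G.left}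
    (hC : C ∈ irreducibleComponents G.left) {x : G.left} (hx : x ∈ C) {T : Set G.left}
    (hT : IsIrreducible T) (hxT : x ∈ T) : T ⊆ C := by
  obtain ⟨Z₁, hZ₁, hsub⟩ := exists_mem_irreducibleComponents_subset_of_isIrreducible _ hT
  have : Z₁ = C := eq_of_mem G hZ₁ hC x (hsub hxT) hx
  exact this ▸ hsub

lemma invS_mem {Z₀ : Set G.left} (h₀ : Z₀ ∈ irreducibleComponents G.left) (he : ePt G ∈ Z₀)
    {z : G.left} (hz : z ∈ Z₀) : invS G z ∈ Z₀ := by
  have hirr : IsIrreducible (invS G '' Z₀) :=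
    h₀.1.image _ (invS G).continuous.continuousOn
  exact subset_of_isIrreducible_of_ePt_mem G h₀ he hirr ⟨ePt G, he, invS_ePt G⟩ ⟨z, hz, rfl⟩

/-- If the irreducible component `C` through `x` meets the open set `W`, then `x ∈ (N ∩ Z₀) · W`
for every open neighbourhood `N` of the identity. -/
theorem mem_mulSet_of_inter_nonempty {Z₀ C W N : Set G.left}
    (h₀ : Z₀ ∈ irreducibleComponents G.left) (he : ePt G ∈ Z₀)
    (hC : C ∈ irreducibleComponents G.left) (hW : IsOpen W) (hCW : (C ∩ W).Nonempty)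
    (hN : IsOpen N) (heN : ePt G ∈ N) {x : G.left} (hx : x ∈ C) :
    x ∈ mulSet G (N ∩ Z₀) W := by
  obtain ⟨ρ, hρ⟩ : ∃ ρ : Spec (CommRingCat.of (G.left.residueField x)) ⟶ G.left,
      ∀ z, ρ z = x := ⟨G.left.fromSpecResidueField x, fun z =>
    Scheme.fromSpecResidueField_apply _ _⟩
  obtain ⟨t, v, d, -, hgen, hv1, hv2, hd1, hd2, hd3⟩ := exists_trans_data' G ρ
  obtain ⟨pt, hpt⟩ : ∃ pt : Spec (CommRingCat.of (G.left.residueField x)), pt = pt := ⟨IsLocalRing.closedPoint _, rfl⟩
  have hY := irreducibleComponent_mem_irreducibleComponents (v pt)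
  obtain ⟨y₀, hy₀⟩ := QuasiSober.sober hY.1 isClosed_irreducibleComponent
  have hπe : pullback.fst G.hom (ρ ≫ G.hom) (v pt) = ePt G := by
    rw [app_eq hv1, Scheme.Hom.comp_apply]
    have h2 : (ρ ≫ G.hom) pt = IsLocalRing.closedPoint K :=
      Subsingleton.elim (α := PrimeSpectrum K) _ _
    rw [h2]
    rfl
  have ha : ∀ p ∈ irreducibleComponent (v pt), pullback.fst G.hom (ρ ≫ G.hom) p ∈ Z₀ := by
    have hirr : IsIrreducible (pullback.fst G.hom (ρ ≫ G.hom) '' irreducibleComponent (v pt)) :=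
      hY.1.image _ (pullback.fst G.hom (ρ ≫ G.hom)).continuous.continuousOn
    intro p hp
    exact subset_of_isIrreducible_of_ePt_mem G h₀ he hirr
      ⟨v pt, mem_irreducibleComponent, hπe⟩ ⟨p, hp, rfl⟩
  have hcl : closure {y₀} ∈ irreducibleComponents ↥(pullback G.hom (ρ ≫ G.hom)) := by
    rw [hy₀.def]; exact hY
  have h1 : closure {t y₀} ∈ irreducibleComponents G.left :=
    Groth.Agent.Lib.Helper51.closure_image_mem_irreducibleComponents hgen hcl
  have htx : t (v pt) = x := by rw [app_eq hv2, hρ]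
  have h2 : x ∈ closure {t y₀} := by
    have hs : y₀ ⤳ v pt := by
      rw [specializes_iff_mem_closure, hy₀.def]; exact mem_irreducibleComponent
    have hs' := hs.map t.continuous
    rw [htx] at hs'
    exact specializes_iff_mem_closure.1 hs'
  have h3 : closure {t y₀} = C := eq_of_mem G h1 hC x h2 hx
  have hty₀ : t y₀ ∈ W := by
    obtain ⟨w, hwC, hwW⟩ := hCW
    rw [← h3] at hwC
    exact (specializes_iff_mem_closure.2 hwC).mem_open hW hwW
  have hO₁ : IsOpen (pullback.fst G.hom (ρ ≫ G.hom) ⁻¹' (invS G ⁻¹' N)) :=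
    (hN.preimage (invS G).continuous).preimage (pullback.fst G.hom (ρ ≫ G.hom)).continuous
  have hO₂ : IsOpen (t ⁻¹' W) := hW.preimage t.continuous
  obtain ⟨p, hpY, hp1, hp2⟩ := hY.1.2 _ _ hO₁ hO₂
    ⟨v pt, mem_irreducibleComponent, by
      show invS G (pullback.fst G.hom (ρ ≫ G.hom) (v pt)) ∈ N
      rw [hπe, invS_ePt]; exact heN⟩
    ⟨y₀, by rw [← hy₀.def]; exact subset_closure rfl, hty₀⟩
  refine ⟨d p, ⟨⟨?_, ?_⟩, ?_⟩, ?_⟩
  · show pullback.fst G.hom G.hom _ ∈ N
    rw [app_eq hd1, Scheme.Hom.comp_apply]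
    exact hp1
  · show pullback.fst G.hom G.hom _ ∈ Z₀
    rw [app_eq hd1, Scheme.Hom.comp_apply]
    exact invS_mem G h₀ he (ha p hpY)
  · show pullback.snd G.hom G.hom _ ∈ W
    rw [app_eq hd2]
    exact hp2
  · rw [app_eq hd3, Scheme.Hom.comp_apply, hρ]

lemma mulSet_mono {A A' W W' : Set G.left} (hA : A ⊆ A') (hW : W ⊆ W') :
    mulSet G A W ⊆ mulSet G A' W' :=
  Set.image_mono (Set.inter_subset_inter (Set.preimage_mono hA) (Set.preimage_mono hW))

/-- The identity component of a group scheme over a field is quasi-compact. -/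
theorem isCompact_identityComponent {Z₀ : Set G.left}
    (h₀ : Z₀ ∈ irreducibleComponents G.left) (he : ePt G ∈ Z₀) : IsCompact Z₀ := by
  obtain ⟨_, ⟨U, hU, rfl⟩, heU, -⟩ :=
    G.left.isBasis_affineOpens.exists_subset_of_mem_open (Set.mem_univ (ePt G)) isOpen_univ
  have hsub : Z₀ ⊆ mulSet G U U := fun x hx =>
    mulSet_mono G Set.inter_subset_left subset_rfl
      (mem_mulSet_of_inter_nonempty G h₀ he h₀ U.isOpen ⟨ePt G, he, heU⟩ U.isOpen heU hx)
  exact (isCompact_mulSet G U U hU.isCompact hU.isCompact).of_isClosed_subset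
    (isClosed_of_mem_irreducibleComponents _ h₀) hsub

section specialization

/-- Points in the closure of the range of `Spec B → Spec A` are specializations of points of the
range (cf. `Helper51.VSubm.exists_specializes_of_mem_closure_image_comap`). -/
lemma exists_specializes_of_mem_closure_range_comap {A B : Type u} [CommRing A] [CommRing B]
    (φ : A →+* B) (z' : PrimeSpectrum A)
    (hz' : z' ∈ closure (Set.range (PrimeSpectrum.comap φ))) :
    ∃ z, PrimeSpectrum.comap φ z ⤳ z' := by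
  rw [PrimeSpectrum.closure_range_comap] at hz'
  obtain ⟨q, -, hq, hqle⟩ := z'.asIdeal.exists_ideal_comap_le_prime (⊥ : Ideal B) hz'
  exact ⟨⟨q, hq⟩, (PrimeSpectrum.le_iff_specializes ⟨q.comap φ, inferInstance⟩ z').mp hqle⟩

lemma exists_specializes_of_mem_closure_range {P Q : Scheme.{u}} [IsAffine P] [IsAffine Q]
    (g : P ⟶ Q) (z' : Q) (hz' : z' ∈ closure (Set.range g)) :
    ∃ z, g z ⤳ z' := by
  let eP := Scheme.homeoOfIso P.isoSpec
  let eQ := Scheme.homeoOfIso Q.isoSpec
  have hnat : ∀ p, eQ (g p) = PrimeSpectrum.comap g.appTop.hom (eP p) := by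
    intro p
    have := Scheme.isoSpec_hom_naturality g
    have h2 := congrArg (fun h => h.base p) this
    exact h2.symm
  have hz'' : eQ z' ∈ closure (Set.range (PrimeSpectrum.comap g.appTop.hom)) := by
    have h1 : Set.range (PrimeSpectrum.comap g.appTop.hom) = eQ '' Set.range g := by
      ext x
      constructor
      · rintro ⟨p, rfl⟩
        refine ⟨g (eP.symm p), ⟨_, rfl⟩, ?_⟩
        rw [hnat, Homeomorph.apply_symm_apply]
      · rintro ⟨_, ⟨p, rfl⟩, rfl⟩
        exact ⟨eP p, (hnat p).symm⟩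
    rw [h1]
    exact image_closure_subset_closure_image eQ.continuous ⟨z', hz', rfl⟩
  obtain ⟨z₀, hspec⟩ := exists_specializes_of_mem_closure_range_comap _ _ hz''
  refine ⟨eP.symm z₀, ?_⟩
  have h3 : PrimeSpectrum.comap g.appTop.hom z₀ = eQ (g (eP.symm z₀)) := by
    rw [hnat, Homeomorph.apply_symm_apply]
  rw [h3] at hspec
  exact eQ.isInducing.specializes_iff.1 hspec

/-- In a quasi-separated scheme, every point of the closure of a quasi-compact open set is a
specialization of a point of that set. -/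
theorem exists_specializes_of_mem_closure {X : Scheme.{u}} [QuasiSeparatedSpace X] (W : X.Opens)
    (hW : IsCompact (W : Set X)) {y : X} (hy : y ∈ closure (W : Set X)) :
    ∃ w ∈ W, w ⤳ y := by
  obtain ⟨V, hV, hyV⟩ : ∃ V : X.Opens, IsAffineOpen V ∧ y ∈ V := by
    obtain ⟨_, ⟨V, hV, rfl⟩, hyV, -⟩ :=
      X.isBasis_affineOpens.exists_subset_of_mem_open (Set.mem_univ y) isOpen_univ
    exact ⟨V, hV, hyV⟩
  have hWV : IsCompact ((W ⊓ V : X.Opens) : Set X) :=
    QuasiSeparatedSpace.inter_isCompact _ _ W.isOpen hW V.isOpen hV.isCompact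
  have hc : CompactSpace (W ⊓ V).toScheme := isCompact_iff_compactSpace.1 hWV
  obtain ⟨R, g, hg⟩ := compactSpace_iff_exists.mp hc
  have hVaff : IsAffine V.toScheme := hV
  let h : Spec R ⟶ V.toScheme := g ≫ X.homOfLE (inf_le_right : W ⊓ V ≤ V)
  have hcomp : h ≫ V.ι = g ≫ (W ⊓ V).ι := by
    show (g ≫ _) ≫ _ = _
    rw [Category.assoc, Scheme.homOfLE_ι]
  have hrange : V.ι '' Set.range h = ((W ⊓ V : X.Opens) : Set X) := by
    rw [← Set.range_comp]
    have : (V.ι : _ → _) ∘ (h : _ → _) = ((h ≫ V.ι : Spec R ⟶ X) : _ → _) := rfl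
    rw [this, hcomp]
    have h2 : ((g ≫ (W ⊓ V).ι : Spec R ⟶ X) : _ → _) = ((W ⊓ V).ι : _ → _) ∘ (g : _ → _) := rfl
    rw [h2, Set.range_comp, Set.range_eq_univ.2 hg, Set.image_univ, Scheme.Opens.range_ι]
  have hy' : (⟨y, hyV⟩ : V.toScheme) ∈ closure (Set.range h) := by
    rw [V.ι.isEmbedding.closure_eq_preimage_closure_image]
    show y ∈ closure (V.ι '' Set.range h)
    rw [hrange]
    have := V.isOpen.inter_closure (t := (W : Set X)) ⟨hyV, hy⟩
    rw [Set.inter_comm] at this
    exact this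
  obtain ⟨z, hz⟩ := exists_specializes_of_mem_closure_range h _ hy'
  refine ⟨V.ι (h z), ?_, hz.map V.ι.continuous⟩
  have : V.ι (h z) ∈ V.ι '' Set.range h := ⟨_, ⟨z, rfl⟩, rfl⟩
  rw [hrange] at this
  exact this.1

end specialization

instance : QuasiSeparatedSpace G.left := by
  have hqc : QuasiCompact (unitS G) := inferInstance
  have hqs : QuasiSeparated G.hom := (Groth.Agent.S0346.result _ G).2.2 hqc
  exact quasiSeparatedSpace_of_quasiSeparated G.hom

/-- Any irreducible component different from the identity component can be separated from the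
identity by an open and closed subset. -/
theorem exists_isClopen {Z₀ C : Set G.left}
    (h₀ : Z₀ ∈ irreducibleComponents G.left) (he : ePt G ∈ Z₀)
    (hC : C ∈ irreducibleComponents G.left) (hne : C ≠ Z₀) :
    ∃ S : Set G.left, IsClopen S ∧ ePt G ∈ S ∧ S ∩ C = ∅ := by
  have heC : ePt G ∉ C := fun h => hne (eq_of_ePt_mem G hC h₀ h he)
  have hCcl : IsClosed C := isClosed_of_mem_irreducibleComponents _ hC
  obtain ⟨_, ⟨W, hW, rfl⟩, heW, hWC⟩ :=
    G.left.isBasis_affineOpens.exists_subset_of_mem_open heC hCcl.isOpen_compl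
  obtain ⟨Y₁, j₁, -, -, hr₁, -⟩ :=
    exists_reduced_closedSubscheme Z₀ (isClosed_of_mem_irreducibleComponents Z₀ h₀)
  have hopen : IsOpen (mulSet G Z₀ W) := hr₁ ▸ isOpen_mulSet_range G j₁ W.isOpen
  have hchar : ∀ x, x ∈ mulSet G Z₀ W ↔
      ∃ C' ∈ irreducibleComponents G.left, x ∈ C' ∧ (C' ∩ (W : Set G.left)).Nonempty := by
    intro x
    constructor
    · rintro ⟨q, ⟨hq1, hq2⟩, rfl⟩
      refine ⟨irreducibleComponent (pullback.snd G.hom G.hom q),
        irreducibleComponent_mem_irreducibleComponents _, ?_, ⟨_, mem_irreducibleComponent, hq2⟩⟩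
      exact mulSet_subset_component G h₀ he (irreducibleComponent_mem_irreducibleComponents _)
        ⟨q, ⟨hq1, mem_irreducibleComponent⟩, rfl⟩
    · rintro ⟨C', hC', hxC', hne'⟩
      exact mulSet_mono G Set.inter_subset_right subset_rfl
        (mem_mulSet_of_inter_nonempty G h₀ he hC' W.isOpen hne' isOpen_univ (Set.mem_univ _) hxC')
  refine ⟨mulSet G Z₀ W, ⟨?_, hopen⟩, ?_, ?_⟩
  · -- closedness
    rw [← closure_subset_iff_isClosed]
    have hsub : mulSet G Z₀ W ⊆ closure (W : Set G.left) := by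
      intro x hx
      obtain ⟨C', hC', hxC', w, hwC', hwW⟩ := (hchar x).1 hx
      obtain ⟨ζ, hζ⟩ := QuasiSober.sober hC'.1 (isClosed_of_mem_irreducibleComponents _ hC')
      have hζW : ζ ∈ (W : Set G.left) := by
        rw [← hζ.def] at hwC'
        exact (specializes_iff_mem_closure.2 hwC').mem_open W.isOpen hwW
      rw [← hζ.def] at hxC'
      exact closure_mono (Set.singleton_subset_iff.2 hζW) hxC'
    intro y hy
    have hy' : y ∈ closure (W : Set G.left) := closure_minimal hsub isClosed_closure hy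
    obtain ⟨w, hwW, hwy⟩ := exists_specializes_of_mem_closure W hW.isCompact hy'
    rw [hchar]
    refine ⟨irreducibleComponent y, irreducibleComponent_mem_irreducibleComponents _,
      mem_irreducibleComponent, w, ?_, hwW⟩
    exact subset_of_isIrreducible_of_mem G (irreducibleComponent_mem_irreducibleComponents y)
      mem_irreducibleComponent isIrreducible_singleton.closure
      (specializes_iff_mem_closure.1 hwy) (subset_closure rfl)
  · rw [hchar]
    exact ⟨Z₀, h₀, he, ePt G, he, heW⟩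
  · rw [Set.eq_empty_iff_forall_notMem]
    rintro x ⟨hxS, hxC⟩
    obtain ⟨C', hC', hxC', w, hwC', hwW⟩ := (hchar x).1 hxS
    have : C' = C := eq_of_mem G hC' hC x hxC' hxC
    rw [this] at hwC'
    exact hWC hwW hwC'

/-- The connected component of the identity is the irreducible component through the identity. -/
theorem connectedComponent_ePt {Z₀ : Set G.left}
    (h₀ : Z₀ ∈ irreducibleComponents G.left) (he : ePt G ∈ Z₀) :
    connectedComponent (ePt G) = Z₀ := by
  apply Set.Subset.antisymm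
  · intro x hx
    by_contra hxZ
    have hC := irreducibleComponent_mem_irreducibleComponents x
    have hne : irreducibleComponent x ≠ Z₀ := fun h => hxZ (h ▸ mem_irreducibleComponent)
    obtain ⟨S, hS, heS, hSC⟩ := exists_isClopen G h₀ he hC hne
    have hxS : x ∈ S := hS.connectedComponent_subset heS hx
    have : x ∈ S ∩ irreducibleComponent x := ⟨hxS, mem_irreducibleComponent⟩
    rw [hSC] at this
    exact this
  · exact h₀.1.isPreirreducible.isPreconnected.subset_connectedComponent he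

end Groth.Agent.Lib.Helper72.GrpConn
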