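import Groth.Agent.Lib.Helper17.FpInvariance
import Groth.Agent.Lib.Helper17.SelfProd
import Groth.Prelude.Def_AlgSt2

/-!
# The self-product `𝒳 ×_C 𝒳` is invariant under equivalences over `C`

For `e : 𝒳 ⥤ᵇ 𝒴` over `C`: `prodMap e : 𝒳 ×_C 𝒳 ⥤ᵇ 𝒴 ×_C 𝒴`, an equivalence over `C` when `e` is,
and the 2-isomorphism `diag_𝒳 ⋙ prodMap e ≅ e ⋙ diag_𝒴`.
-/

set_option autoImplicit false
universe u

namespace Groth.Agent.Lib.Helper72.SelfProdEquiv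

open CategoryTheory CategoryTheory.Functor FibCat AlgebraicGeometry
open Groth.Agent.Lib.Helper17 Groth.Agent.Lib.Helper17.FP Groth.Agent.Lib.Helper17.EO
  Groth.Agent.Lib.Helper17.FI Groth.Agent.Lib.Helper17.SP

variable {S : Scheme.{u}} {𝒳 𝒴 : AlgSt.Cat S}

theorem isEquivOver_id (𝒜 : AlgSt.Cat S) :
    FibCat.IsEquivOver (BasedFunctor.id 𝒜) := by
  rw [Groth.Agent.S5139.result]
  refine ⟨⟨⟨fun {X Y} f => ⟨f, rfl⟩⟩, ⟨fun {X Y} f g h => h⟩⟩, fun η => ⟨η, Iso.refl _, ?_⟩⟩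
  exact IsHomLift.id rfl

variable (e : 𝒳 ⥤ᵇ 𝒴)

/-- step 1: change the second factor and the base. -/
def ε (x : 𝒳.obj) :
    (BasedFunctor.id (selfOver (Over S))).obj ((toSelf 𝒳).obj x) ≅ (toSelf 𝒴).obj (e.obj x) :=
  eqToIso (e.w_obj x).symm

theorem ε_nat {x x₁ : 𝒳.obj} (β : x ⟶ x₁) :
    (BasedFunctor.id (selfOver (Over S))).map ((toSelf 𝒳).map β) ≫ (ε e x₁).hom =
      (ε e x).hom ≫ (toSelf 𝒴).map (e.map β) := by
  have h : 𝒴.p.map (e.map β) = eqToHom (e.w_obj x) ≫ 𝒳.p.map β ≫ eqToHom (e.w_obj x₁).symm :=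
    Functor.congr_hom e.w β
  change 𝒳.p.map β ≫ eqToHom (e.w_obj x₁).symm = eqToHom (e.w_obj x).symm ≫ 𝒴.p.map (e.map β)
  rw [h]
  simp

theorem ε_lift (x : 𝒳.obj) : (selfOver (Over S)).p.IsHomLift (𝟙 (𝒳.p.obj x)) (ε e x).hom := by
  change (𝟭 (Over S)).IsHomLift (𝟙 (𝒳.p.obj x)) (eqToHom (e.w_obj x).symm)
  exact IsHomLift.of_fac _ _ _ rfl (e.w_obj x) (by simp)

/-- step 2: change the first leg up to isomorphism. -/
def τ (x : 𝒳.obj) : (BasedFunctor.comp e (toSelf 𝒴)).obj x ≅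
    (BasedFunctor.comp (toSelf 𝒳) (BasedFunctor.id (selfOver (Over S)))).obj x :=
  eqToIso (e.w_obj x)

theorem τ_nat {x x₁ : 𝒳.obj} (β : x ⟶ x₁) :
    (BasedFunctor.comp e (toSelf 𝒴)).map β ≫ (τ e x₁).hom =
      (τ e x).hom ≫ (BasedFunctor.comp (toSelf 𝒳) (BasedFunctor.id (selfOver (Over S)))).map β := by
  have h : 𝒴.p.map (e.map β) = eqToHom (e.w_obj x) ≫ 𝒳.p.map β ≫ eqToHom (e.w_obj x₁).symm :=
    Functor.congr_hom e.w β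
  change 𝒴.p.map (e.map β) ≫ eqToHom (e.w_obj x₁) = eqToHom (e.w_obj x) ≫ 𝒳.p.map β
  rw [h]
  simp

theorem τ_lift (x : 𝒳.obj) : (selfOver (Over S)).p.IsHomLift (𝟙 (𝒳.p.obj x)) (τ e x).hom := by
  change (𝟭 (Over S)).IsHomLift (𝟙 (𝒳.p.obj x)) (eqToHom (e.w_obj x))
  exact IsHomLift.of_fac _ _ _ (e.w_obj x) rfl (by simp)

/-- step 1 -/
def B₁ : fp (toSelf 𝒳) (toSelf 𝒳) ⥤ᵇ
    fp (BasedFunctor.comp (toSelf 𝒳) (BasedFunctor.id (selfOver (Over S)))) (toSelf 𝒴) :=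
  sq e (BasedFunctor.id (selfOver (Over S))) (toSelf 𝒴) (toSelf 𝒳) (toSelf 𝒳) (ε e) (ε_nat e) (ε_lift e)

/-- step 2 -/
def B₂ : fp (BasedFunctor.comp (toSelf 𝒳) (BasedFunctor.id (selfOver (Over S)))) (toSelf 𝒴) ⥤ᵇ
    fp (BasedFunctor.comp e (toSelf 𝒴)) (toSelf 𝒴) :=
  tw (BasedFunctor.comp (toSelf 𝒳) (BasedFunctor.id (selfOver (Over S))))
    (BasedFunctor.comp e (toSelf 𝒴)) (toSelf 𝒴) (τ e) (τ_nat e) (τ_lift e)

/-- step 3 -/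
def B₃ : fp (BasedFunctor.comp e (toSelf 𝒴)) (toSelf 𝒴) ⥤ᵇ fp (toSelf 𝒴) (toSelf 𝒴) :=
  fa e (toSelf 𝒴) (toSelf 𝒴)

/-- The functor `𝒳 ×_C 𝒳 ⥤ᵇ 𝒴 ×_C 𝒴` induced by `e`. -/
def prodMap : fp (toSelf 𝒳) (toSelf 𝒳) ⥤ᵇ fp (toSelf 𝒴) (toSelf 𝒴) :=
  BasedFunctor.comp (BasedFunctor.comp (B₁ e) (B₂ e)) (B₃ e)

theorem prodMap_isEquivOver (he : FibCat.IsEquivOver e) : FibCat.IsEquivOver (prodMap e) := by
  refine isEquivOver_comp _ _ (isEquivOver_comp _ _ ?_ ?_) ?_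
  · exact sq_isEquivOver _ _ _ _ _ _ _ _ he (isEquivOver_id _)
  · exact tw_isEquivOver _ _ _ _ _ _
  · exact fa_isEquivOver _ _ _ he

theorem prodMap_obj_fst (z : (fp (toSelf 𝒳) (toSelf 𝒳)).obj) :
    ((prodMap e).obj z).obj.fst = e.obj z.obj.fst := rfl

theorem prodMap_obj_snd (z : (fp (toSelf 𝒳) (toSelf 𝒳)).obj) :
    ((prodMap e).obj z).obj.snd = e.obj z.obj.snd := rfl

theorem prodMap_map_fst {z z' : (fp (toSelf 𝒳) (toSelf 𝒳)).obj} (k : z ⟶ z') :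
    ((prodMap e).map k).hom.fst = e.map k.hom.fst := rfl

theorem prodMap_map_snd {z z' : (fp (toSelf 𝒳) (toSelf 𝒳)).obj} (k : z ⟶ z') :
    ((prodMap e).map k).hom.snd = e.map k.hom.snd := rfl

/-- `diag_𝒳 ⋙ prodMap e ≅ e ⋙ diag_𝒴`. -/
def diagIso : BasedFunctor.comp (diag (toSelf 𝒳)) (prodMap e) ≅
    BasedFunctor.comp e (diag (toSelf 𝒴)) :=
  BasedNatIso.mkNatIso
    (NatIso.ofComponents
      (fun x => mkIsoSq (z := (prodMap e).obj ((diag (toSelf 𝒳)).obj x))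
        (z' := (diag (toSelf 𝒴)).obj (e.obj x)) (Iso.refl _) (Iso.refl _)
        (by
          change 𝒴.p.IsHomLift (𝒴.p.map (𝟙 (e.obj x))) (𝟙 (e.obj x))
          infer_instance))
      (fun {x x'} f => by
        apply hom_ext
        · change e.map f ≫ 𝟙 _ = 𝟙 _ ≫ e.map f
          rw [Category.comp_id, Category.id_comp]
        · change e.map f ≫ 𝟙 _ = 𝟙 _ ≫ e.map f
          rw [Category.comp_id, Category.id_comp]))
    (fun x => by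
      rw [isHomLift_iff_fst]
      change 𝒴.p.IsHomLift (𝟙 (𝒳.p.obj x)) (𝟙 (e.obj x))
      exact IsHomLift.id (e.w_obj x))

end Groth.Agent.Lib.Helper72.SelfProdEquiv
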