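import Groth.Agent.Lib.Helper72.GrpComp
import Groth.Agent.Lib.Helper89.Shear
import Mathlib.AlgebraicGeometry.Morphisms.UniversallyOpen

/-!
# The open subgroup generated by a quasi-compact neighbourhood of the identity
-/

set_option autoImplicit false

universe u

namespace Groth.Agent.Lib.Helper72.GrpGen

open AlgebraicGeometry CategoryTheory CategoryTheory.Limits MonoidalCategory
  CartesianMonoidalCategory MonObj GrpObj Groth.Agent.Lib.Helper72.GrpComp

variable {K : Type u} [Field K] (G : Over (Spec (CommRingCat.of K))) [GrpObj G]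

/-- Multiplication as a morphism of schemes. -/
noncomputable def mulS : pullback G.hom G.hom ⟶ G.left := μ[G].left

/-- Inversion as a morphism of schemes. -/
noncomputable def invS : G.left ⟶ G.left := ι[G].left

theorem isOpenMap_mulS : IsOpenMap (mulS G) := by
  have h1 : μ[G] = (Groth.Agent.Lib.Helper89.shear (𝟙 G)).hom ≫ snd G G := by
    rw [Groth.Agent.Lib.Helper89.shear_hom_snd, id_whiskerRight, Category.id_comp]
  have h2 : mulS G = (Groth.Agent.Lib.Helper89.shear (𝟙 G)).hom.left ≫ (snd G G).left := by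
    unfold mulS
    rw [h1, Over.comp_left]
  have : UniversallyOpen (snd G G).left := by
    rw [Over.snd_left]
    infer_instance
  rw [h2]
  exact Scheme.Hom.isOpenMap _

lemma invS_invS : invS G ≫ invS G = 𝟙 _ := by
  have : ι[G] ≫ ι[G] = 𝟙 G := GrpObj.inv_comp_inv G
  exact congrArg CommaMorphism.left this

/-- The product set `A · W`. -/
def mulSet (A W : Set G.left) : Set G.left :=
  mulS G '' (pullback.fst G.hom G.hom ⁻¹' A ∩ pullback.snd G.hom G.hom ⁻¹' W)

lemma isOpen_mulSet {A W : Set G.left} (hA : IsOpen A) (hW : IsOpen W) : IsOpen (mulSet G A W) :=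
  isOpenMap_mulS G _ ((hA.preimage (pullback.fst G.hom G.hom).continuous).inter
    (hW.preimage (pullback.snd G.hom G.hom).continuous))

lemma isCompact_mulSet (A W : G.left.Opens) (hA : IsCompact (A : Set G.left))
    (hW : IsCompact (W : Set G.left)) : IsCompact (mulSet G A W) := by
  have hr : pullback.fst G.hom G.hom ⁻¹' (A : Set G.left) ∩
      pullback.snd G.hom G.hom ⁻¹' (W : Set G.left) =
      Set.range (pullback.map (A.ι ≫ G.hom) (W.ι ≫ G.hom) G.hom G.hom A.ι W.ι (𝟙 _)
        (by simp) (by simp)) := by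
    rw [Scheme.Pullback.range_map]
    simp
  have hAc : CompactSpace A.toScheme := isCompact_iff_compactSpace.1 hA
  have hWc : CompactSpace W.toScheme := isCompact_iff_compactSpace.1 hW
  have hqc : QuasiCompact (A.ι ≫ G.hom) := by
    let f : A.toScheme ⟶ Spec (CommRingCat.of K) := A.ι ≫ G.hom
    exact (HasAffineProperty.iff_of_isAffine (P := @QuasiCompact) (f := f)).mpr hAc
  have : CompactSpace ↥(pullback (A.ι ≫ G.hom) (W.ι ≫ G.hom)) := inferInstance
  unfold mulSet
  rw [hr]
  exact (isCompact_range (Scheme.Hom.continuous _)).image (mulS G).continuous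

/-- Iterated products `B · (B · (… · B))`. -/
def pw (B : Set G.left) : ℕ → Set G.left
  | 0 => B
  | n + 1 => mulSet G B (pw B n)

lemma isOpen_pw {B : Set G.left} (hB : IsOpen B) (n : ℕ) : IsOpen (pw G B n) := by
  induction n with
  | zero => exact hB
  | succ n ih => exact isOpen_mulSet G hB ih

lemma isCompact_pw (B : G.left.Opens) (hB : IsCompact (B : Set G.left)) (n : ℕ) :
    IsCompact (pw G B n) := by
  induction n with
  | zero => exact hB
  | succ n ih => exact isCompact_mulSet G B ⟨pw G B n, isOpen_pw G B.isOpen n⟩ hB ih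

lemma app_eq {X Y Z : Scheme.{u}} {a : X ⟶ Y} {b : Y ⟶ Z} {c : X ⟶ Z} (h : a ≫ b = c) (z : X) :
    b (a z) = c z := by
  rw [← h]; rfl

/-- Right translation by a field-valued point `ρ`, with unit and division maps, stated without
reference to the groupoid structure. -/
theorem exists_trans_data {K' : Type u} [Field K'] (ρ : Spec (CommRingCat.of K') ⟶ G.left) :
    ∃ (t : pullback G.hom (ρ ≫ G.hom) ⟶ G.left)
      (v : Spec (CommRingCat.of K') ⟶ pullback G.hom (ρ ≫ G.hom))
      (d : pullback G.hom (ρ ≫ G.hom) ⟶ pullback G.hom G.hom),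
      IsOpenMap t ∧ v ≫ pullback.fst G.hom (ρ ≫ G.hom) = (ρ ≫ G.hom) ≫ unitS G ∧ v ≫ t = ρ ∧
      d ≫ pullback.fst G.hom G.hom = pullback.fst G.hom (ρ ≫ G.hom) ≫ invS G ∧
      d ≫ pullback.snd G.hom G.hom = t ∧
      d ≫ mulS G = pullback.snd G.hom (ρ ≫ G.hom) ≫ ρ := by
  have : IsIntegral (GrpdPts.ofGrp G).U := inferInstanceAs (IsIntegral (Spec (CommRingCat.of K)))
  have : Subsingleton (GrpdPts.ofGrp G).U :=
    inferInstanceAs (Subsingleton (PrimeSpectrum K))
  exact ⟨GrpdPts.trans (GrpdPts.ofGrp G) ρ, GrpdPts.transUnit (GrpdPts.ofGrp G) ρ,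
    GrpdPts.transDiv (GrpdPts.ofGrp G) ρ, GrpdPts.trans_isOpenMap (GrpdPts.ofGrp G) ρ,
    (GrpdPts.transUnit_fst (GrpdPts.ofGrp G) ρ).trans (Category.assoc _ _ _).symm,
    GrpdPts.transUnit_trans (GrpdPts.ofGrp G) ρ, pullback.lift_fst _ _ _, pullback.lift_snd _ _ _,
    GrpdPts.transDiv_c (GrpdPts.ofGrp G) ρ⟩

/-- The union of the powers of a symmetric open neighbourhood of the identity is closed. -/
theorem isClosed_iUnion_pw (B : G.left.Opens) (he : ePt G ∈ B)
    (hsymm : ∀ y, y ∈ B → invS G y ∈ B) : IsClosed (⋃ n, pw G (B : Set G.left) n) := by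
  rw [← closure_subset_iff_isClosed]
  intro x hx
  obtain ⟨ρ, hρ⟩ : ∃ ρ : Spec (CommRingCat.of (G.left.residueField x)) ⟶ G.left,
      ∀ z, ρ z = x := ⟨G.left.fromSpecResidueField x, fun z =>
    Scheme.fromSpecResidueField_apply _ _⟩
  obtain ⟨t, v, d, ht, hv1, hv2, hd1, hd2, hd3⟩ := exists_trans_data G ρ
  have hN : IsOpen (t '' (pullback.fst G.hom (ρ ≫ G.hom) ⁻¹' (B : Set G.left))) :=
    ht _ (B.isOpen.preimage (pullback.fst G.hom (ρ ≫ G.hom)).continuous)
  have hxN : x ∈ t '' (pullback.fst G.hom (ρ ≫ G.hom) ⁻¹' (B : Set G.left)) := by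
    refine ⟨v (IsLocalRing.closedPoint _), ?_, ?_⟩
    · show pullback.fst G.hom (ρ ≫ G.hom) _ ∈ B
      rw [app_eq hv1, Scheme.Hom.comp_apply]
      have h2 : (ρ ≫ G.hom) (IsLocalRing.closedPoint _) = IsLocalRing.closedPoint K :=
        Subsingleton.elim (α := PrimeSpectrum K) _ _
      rw [h2]
      exact he
    · rw [app_eq hv2, hρ]
  obtain ⟨_, ⟨q, hq1, rfl⟩, hq2⟩ := mem_closure_iff.1 hx _ hN hxN
  obtain ⟨n, hn⟩ := Set.mem_iUnion.1 hq2
  refine Set.mem_iUnion.2 ⟨n + 1, ?_⟩
  show x ∈ mulSet G B (pw G B n)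
  refine ⟨d q, ⟨?_, ?_⟩, ?_⟩
  · show pullback.fst G.hom G.hom _ ∈ B
    rw [app_eq hd1, Scheme.Hom.comp_apply]
    exact hsymm _ hq1
  · show pullback.snd G.hom G.hom _ ∈ pw G B n
    rw [app_eq hd2]
    exact hn
  · rw [app_eq hd3, Scheme.Hom.comp_apply, hρ]

end Groth.Agent.Lib.Helper72.GrpGen
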