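import Mathlib.AlgebraicGeometry.Morphisms.SchemeTheoreticallyDominant
import Mathlib.AlgebraicGeometry.Morphisms.ClosedImmersion
import Mathlib.AlgebraicGeometry.IdealSheaf.Functorial

/-!
# Scheme-theoretically dominant morphisms: images, lifting, products over a field

* `toImage_dominant`: `f.toImage` is scheme-theoretically dominant for quasi-compact `f`.
* `exists_lift_of_dominant`: a morphism `h : W ⟶ Y` factors through a closed immersion `ι : Z ⟶ Y`
  as soon as `p ≫ h` does, for some scheme-theoretically dominant `p : W₀ ⟶ W`.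
* `dominant_pullback_map`: over an integral one-point base, the fibre product of two quasi-compact
  scheme-theoretically dominant morphisms is scheme-theoretically dominant.
-/

universe u

open CategoryTheory CategoryTheory.Limits AlgebraicGeometry

namespace Groth.Agent.Lib.Helper72.SchDominant

theorem toImage_dominant {X Y : Scheme.{u}} (f : X ⟶ Y) [QuasiCompact f] :
    IsSchemeTheoreticallyDominant f.toImage := by
  rw [isSchemeTheoreticallyDominant_iff]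
  refine Scheme.IdealSheafData.ext_of_iSup_eq_top
    (fun V : Y.affineOpens => ⟨f.imageι ⁻¹ᵁ V.1, V.2.preimage f.imageι⟩) ?_ fun V => ?_
  · show ⨆ V : Y.affineOpens, f.imageι ⁻¹ᵁ V.1 = ⊤
    rw [← Scheme.Hom.preimage_iSup, iSup_affineOpens_eq_top, Scheme.Hom.preimage_top]
  · rw [Scheme.Hom.ker_apply, Scheme.IdealSheafData.ideal_bot, Pi.bot_apply,
      ← RingHom.injective_iff_ker_eq_bot]
    exact f.toImage_app_injective V

theorem exists_lift_of_dominant {W₀ W Y Z : Scheme.{u}} (p : W₀ ⟶ W)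
    [IsSchemeTheoreticallyDominant p] (h : W ⟶ Y) (ι : Z ⟶ Y) [IsClosedImmersion ι]
    (g₀ : W₀ ⟶ Z) (hg : g₀ ≫ ι = p ≫ h) : ∃ g : W ⟶ Z, g ≫ ι = h := by
  have hker : ι.ker ≤ h.ker := by
    calc ι.ker = (⊥ : Scheme.IdealSheafData Z).map ι := (Scheme.IdealSheafData.map_bot ι).symm
      _ ≤ g₀.ker.map ι := Scheme.IdealSheafData.map_mono ι bot_le
      _ = (g₀ ≫ ι).ker := Scheme.IdealSheafData.map_ker g₀ ι
      _ = (p ≫ h).ker := by rw [hg]
      _ = p.ker.map h := (Scheme.IdealSheafData.map_ker p h).symm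
      _ = (⊥ : Scheme.IdealSheafData W).map h := by rw [p.ker_eq_bot]
      _ = h.ker := Scheme.IdealSheafData.map_bot h
  exact ⟨IsClosedImmersion.lift ι h hker, IsClosedImmersion.lift_fac ι h hker⟩

section

variable {S : Scheme.{u}} [IsIntegral S] [Subsingleton S]

theorem isPullback_map_left {X₁ X Y₁ : Scheme.{u}} (f₁ : X₁ ⟶ X)
    (x' : X₁ ⟶ S) (y' : Y₁ ⟶ S) (x : X ⟶ S) (eq₁ : x' ≫ 𝟙 S = f₁ ≫ x) :
    IsPullback (pullback.fst x' y')
      (pullback.map x' y' x y' f₁ (𝟙 Y₁) (𝟙 S) eq₁ (by simp)) f₁ (pullback.fst x y') := by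
  have hx : x' = f₁ ≫ x := by rw [← eq₁, Category.comp_id]
  subst hx
  refine IsPullback.flip (IsPullback.of_right (h₁₂ := pullback.snd x y') (h₂₂ := x) (v₁₃ := y')
    ?_ ?_ (IsPullback.of_hasPullback x y').flip)
  · have : pullback.map (f₁ ≫ x) y' x y' f₁ (𝟙 Y₁) (𝟙 S) eq₁ (by simp) ≫ pullback.snd x y' =
        pullback.snd (f₁ ≫ x) y' := by
      rw [pullback.lift_snd, Category.comp_id]
    rw [this]
    exact (IsPullback.of_hasPullback (f₁ ≫ x) y').flip
  · rw [pullback.lift_fst]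

theorem isPullback_map_right {X Y₁ Y : Scheme.{u}} (f₂ : Y₁ ⟶ Y)
    (x : X ⟶ S) (y' : Y₁ ⟶ S) (y : Y ⟶ S) (eq₂ : y' ≫ 𝟙 S = f₂ ≫ y) :
    IsPullback (pullback.snd x y')
      (pullback.map x y' x y (𝟙 X) f₂ (𝟙 S) (by simp) eq₂) f₂ (pullback.snd x y) := by
  have hy : y' = f₂ ≫ y := by rw [← eq₂, Category.comp_id]
  subst hy
  refine IsPullback.flip (IsPullback.of_right (h₁₂ := pullback.fst x y) (h₂₂ := y) (v₁₃ := x)
    ?_ ?_ (IsPullback.of_hasPullback x y))
  · have : pullback.map x (f₂ ≫ y) x y (𝟙 X) f₂ (𝟙 S) (by simp) eq₂ ≫ pullback.fst x y =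
        pullback.fst x (f₂ ≫ y) := by
      rw [pullback.lift_fst, Category.comp_id]
    rw [this]
    exact IsPullback.of_hasPullback x (f₂ ≫ y)
  · rw [pullback.lift_snd]

theorem dominant_pullback_map_left {X₁ X Y₁ : Scheme.{u}} (f₁ : X₁ ⟶ X)
    [IsSchemeTheoreticallyDominant f₁] [QuasiCompact f₁]
    (x' : X₁ ⟶ S) (y' : Y₁ ⟶ S) (x : X ⟶ S) (eq₁ : x' ≫ 𝟙 S = f₁ ≫ x) :
    IsSchemeTheoreticallyDominant (pullback.map x' y' x y' f₁ (𝟙 Y₁) (𝟙 S) eq₁ (by simp)) := by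
  haveI : Flat (pullback.fst x y') := MorphismProperty.pullback_fst (P := @Flat) _ _ inferInstance
  exact IsSchemeTheoreticallyDominant.of_isPullback (isPullback_map_left f₁ x' y' x eq₁)

theorem dominant_pullback_map_right {X Y₁ Y : Scheme.{u}} (f₂ : Y₁ ⟶ Y)
    [IsSchemeTheoreticallyDominant f₂] [QuasiCompact f₂]
    (x : X ⟶ S) (y' : Y₁ ⟶ S) (y : Y ⟶ S) (eq₂ : y' ≫ 𝟙 S = f₂ ≫ y) :
    IsSchemeTheoreticallyDominant (pullback.map x y' x y (𝟙 X) f₂ (𝟙 S) (by simp) eq₂) := by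
  haveI : Flat (pullback.snd x y) := MorphismProperty.pullback_snd (P := @Flat) _ _ inferInstance
  exact IsSchemeTheoreticallyDominant.of_isPullback (isPullback_map_right f₂ x y' y eq₂)

set_option backward.isDefEq.respectTransparency false in
theorem dominant_pullback_map {X₁ X Y₁ Y : Scheme.{u}} (f₁ : X₁ ⟶ X) (f₂ : Y₁ ⟶ Y)
    [IsSchemeTheoreticallyDominant f₁] [QuasiCompact f₁]
    [IsSchemeTheoreticallyDominant f₂] [QuasiCompact f₂]
    (x' : X₁ ⟶ S) (y' : Y₁ ⟶ S) (x : X ⟶ S) (y : Y ⟶ S)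
    (eq₁ : x' ≫ 𝟙 S = f₁ ≫ x) (eq₂ : y' ≫ 𝟙 S = f₂ ≫ y) :
    IsSchemeTheoreticallyDominant (pullback.map x' y' x y f₁ f₂ (𝟙 S) eq₁ eq₂) := by
  have e : pullback.map x' y' x y f₁ f₂ (𝟙 S) eq₁ eq₂ =
      pullback.map x' y' x y' f₁ (𝟙 Y₁) (𝟙 S) eq₁ (by simp) ≫
        pullback.map x y' x y (𝟙 X) f₂ (𝟙 S) (by simp) eq₂ := by
    apply pullback.hom_ext <;> simp
  rw [e]
  haveI := dominant_pullback_map_left f₁ x' y' x eq₁
  haveI := dominant_pullback_map_right f₂ x y' y eq₂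
  infer_instance

end

end Groth.Agent.Lib.Helper72.SchDominant
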