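import Groth.Agent.Lib.Helper72.QuotGrp
import Mathlib.CategoryTheory.Subobject.FactorThru
import Mathlib.CategoryTheory.Subobject.Basic
import Mathlib.CategoryTheory.EffectiveEpi.Basic

set_option autoImplicit false

namespace Groth.Agent.Lib.Helper72

open CategoryTheory CategoryTheory.Limits MonoidalCategory CartesianMonoidalCategory MonObj

section transportMono

variable {E : Type*} [Category E] [CartesianMonoidalCategory E]

/-- transport of a group structure to a subobject closed under the operations. -/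
@[reducible] noncomputable def grpObjOfMono {M P : E} [GrpObj M] (i : P ⟶ M) [Mono i]
    (m : P ⊗ P ⟶ P) (hm : m ≫ i = (i ⊗ₘ i) ≫ μ) (o : 𝟙_ E ⟶ P) (ho : o ≫ i = η)
    (v : P ⟶ P) (hv : v ≫ i = i ≫ ι) : GrpObj P where
  one := o
  mul := m
  inv := v
  one_mul := by
    rw [← cancel_mono i, Category.assoc, hm]
    have a1 : o ▷ P ≫ (i ⊗ₘ i) = (𝟙_ E ◁ i) ≫ (η ▷ M) := by
      rw [← tensorHom_id, tensorHom_comp_tensorHom, ho, Category.id_comp, ← id_tensorHom,
        ← tensorHom_id, tensorHom_comp_tensorHom, Category.id_comp, Category.comp_id]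
    rw [reassoc_of% a1, MonObj.one_mul, leftUnitor_naturality]
  mul_one := by
    rw [← cancel_mono i, Category.assoc, hm]
    have a1 : P ◁ o ≫ (i ⊗ₘ i) = (i ▷ 𝟙_ E) ≫ (M ◁ η) := by
      rw [← id_tensorHom, tensorHom_comp_tensorHom, ho, Category.id_comp, ← id_tensorHom,
        ← tensorHom_id, tensorHom_comp_tensorHom, Category.id_comp, Category.comp_id]
    rw [reassoc_of% a1, MonObj.mul_one, rightUnitor_naturality]
  mul_assoc := by
    rw [← cancel_mono i]
    have a1 : m ▷ P ≫ (i ⊗ₘ i) = ((i ⊗ₘ i) ⊗ₘ i) ≫ (μ ▷ M) := by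
      rw [← tensorHom_id, tensorHom_comp_tensorHom, hm, Category.id_comp, ← tensorHom_id,
        tensorHom_comp_tensorHom, Category.comp_id]
    have a2 : P ◁ m ≫ (i ⊗ₘ i) = (i ⊗ₘ (i ⊗ₘ i)) ≫ (M ◁ μ) := by
      rw [← id_tensorHom, tensorHom_comp_tensorHom, hm, Category.id_comp, ← id_tensorHom,
        tensorHom_comp_tensorHom, Category.comp_id]
    simp only [Category.assoc]
    rw [hm, reassoc_of% a1, MonObj.mul_assoc, reassoc_of% a2, associator_naturality_assoc]
  left_inv := by
    rw [← cancel_mono i, Category.assoc, hm]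
    have a1 : lift v (𝟙 P) ≫ (i ⊗ₘ i) = i ≫ lift ι (𝟙 M) := by
      ext
      · simp [hv]
      · simp
    rw [reassoc_of% a1, GrpObj.left_inv, Category.assoc, ho, ← Category.assoc]
    congr 1
    exact toUnit_unique _ _
  right_inv := by
    rw [← cancel_mono i, Category.assoc, hm]
    have a1 : lift (𝟙 P) v ≫ (i ⊗ₘ i) = i ≫ lift (𝟙 M) ι := by
      ext
      · simp
      · simp [hv]
    rw [reassoc_of% a1, GrpObj.right_inv, Category.assoc, ho, ← Category.assoc]
    congr 1
    exact toUnit_unique _ _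

end transportMono

section closed

variable {E : Type*} [Category E] [CartesianMonoidalCategory E]

/-- closure conditions for a subobject of a group object, in terms of generalized elements. -/
structure SubClosed {M : E} [GrpObj M] (A : Subobject M) : Prop where
  one : A.Factors (η : 𝟙_ E ⟶ M)
  mul : ∀ {T : E} (g₁ g₂ : T ⟶ M), A.Factors g₁ → A.Factors g₂ → A.Factors (g₁ * g₂)
  inv : ∀ {T : E} (g : T ⟶ M), A.Factors g → A.Factors g⁻¹

lemma SubClosed.one' {M : E} [GrpObj M] {A : Subobject M} (h : SubClosed A) (T : E) :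
    A.Factors (1 : T ⟶ M) := by
  rw [Hom.one_def]
  exact Subobject.factors_of_factors_right _ h.one

lemma subClosed_of_grpObj {M : E} [hM : GrpObj M] (A : Subobject M)
    (h : ∃ str : GrpObj (A : E), @IsMonHom E _ _ _ _ str.toMonObj hM.toMonObj A.arrow) :
    SubClosed A := by
  obtain ⟨str, hstr⟩ := h
  refine ⟨?_, ?_, ?_⟩
  · have h1 : (η : 𝟙_ E ⟶ (A : E)) ≫ A.arrow = η := IsMonHom.one_hom A.arrow
    rw [← h1]
    exact Subobject.factors_comp_arrow _
  · intro T g₁ g₂ h₁ h₂
    have e₁ := Subobject.factorThru_arrow A g₁ h₁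
    have e₂ := Subobject.factorThru_arrow A g₂ h₂
    rw [← e₁, ← e₂, ← MonObj.mul_comp]
    exact Subobject.factors_comp_arrow _
  · intro T g h₁
    have e₁ := Subobject.factorThru_arrow A g h₁
    rw [← e₁, ← GrpObj.inv_comp]
    exact Subobject.factors_comp_arrow _

lemma grpObj_of_subClosed {M : E} [hM : GrpObj M] (A : Subobject M) (h : SubClosed A) :
    ∃ str : GrpObj (A : E), @IsMonHom E _ _ _ _ str.toMonObj hM.toMonObj A.arrow := by
  have hmf : A.Factors ((fst (A : E) (A : E) ≫ A.arrow) * (snd (A : E) (A : E) ≫ A.arrow)) :=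
    h.mul _ _ (Subobject.factors_comp_arrow _) (Subobject.factors_comp_arrow _)
  have hvf : A.Factors (A.arrow ≫ ι) := by
    rw [← Hom.inv_def]
    exact h.inv _ (Subobject.factors_self A)
  have hm : A.factorThru _ hmf ≫ A.arrow = (A.arrow ⊗ₘ A.arrow) ≫ μ := by
    rw [Subobject.factorThru_arrow, Hom.mul_def]
    congr 1
    ext <;> simp
  refine ⟨grpObjOfMono A.arrow (A.factorThru _ hmf) hm (A.factorThru _ h.one)
    (Subobject.factorThru_arrow _ _ _) (A.factorThru _ hvf) (Subobject.factorThru_arrow _ _ _), ?_⟩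
  exact @IsMonHom.mk _ _ _ _ _ (_) _ _ (Subobject.factorThru_arrow _ _ _) hm

lemma subClosed_iff {M : E} [hM : GrpObj M] (A : Subobject M) :
    (∃ str : GrpObj (A : E), @IsMonHom E _ _ _ _ str.toMonObj hM.toMonObj A.arrow) ↔
      SubClosed A :=
  ⟨subClosed_of_grpObj A, grpObj_of_subClosed A⟩

end closed

section factors

variable {E : Type*} [Category E] [HasPullbacks E]

lemma pullback_factors_iff {X Y T : E} (f : X ⟶ Y) (A : Subobject Y) (g : T ⟶ X) :
    ((Subobject.pullback f).obj A).Factors g ↔ A.Factors (g ≫ f) := by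
  have hP := Subobject.isPullback f A
  constructor
  · intro h
    have e := Subobject.factorThru_arrow _ g h
    rw [← e, Category.assoc, ← hP.w, ← Category.assoc]
    exact Subobject.factors_comp_arrow _
  · intro h
    have e := Subobject.factorThru_arrow _ _ h
    have : hP.lift (A.factorThru _ h) g e ≫ ((Subobject.pullback f).obj A).arrow = g :=
      hP.lift_snd _ _ _
    rw [← this]
    exact Subobject.factors_comp_arrow _

/-- descent of a factorization through a subobject along an effective epimorphism. -/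
lemma factors_of_effectiveEpi_comp {T' T Y : E} (e : T' ⟶ T) [EffectiveEpi e] (A : Subobject Y)
    (g : T ⟶ Y) (h : A.Factors (e ≫ g)) : A.Factors g := by
  have he := Subobject.factorThru_arrow _ _ h
  have hdesc : ∀ {Z : E} (g₁ g₂ : Z ⟶ T'), g₁ ≫ e = g₂ ≫ e →
      g₁ ≫ A.factorThru _ h = g₂ ≫ A.factorThru _ h := by
    intro Z g₁ g₂ hg
    rw [← cancel_mono A.arrow, Category.assoc, Category.assoc, he, reassoc_of% hg]
  have : EffectiveEpi.desc e (A.factorThru _ h) hdesc ≫ A.arrow = g := by
    have hepi : Epi e := inferInstance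
    rw [← cancel_epi e, EffectiveEpi.fac_assoc, he]
  rw [← this]
  exact Subobject.factors_comp_arrow _

end factors

end Groth.Agent.Lib.Helper72
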