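import Groth.Agent.Lib.Helper72.QuotAct
import Mathlib.CategoryTheory.Monoidal.Braided.Basic

set_option autoImplicit false

namespace Groth.Agent.Lib.Helper72

open CategoryTheory CategoryTheory.Limits MonoidalCategory CartesianMonoidalCategory MonObj

section stable

variable {E : Type*} [Category E] [CartesianMonoidalCategory E]

/-- an epimorphism that stays an epimorphism after `X ◁ -` for every `X`. -/
def StableEpi {A B : E} (q : A ⟶ B) : Prop := ∀ X : E, Epi (X ◁ q)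

lemma StableEpi.epi {A B : E} {q : A ⟶ B} (h : StableEpi q) : Epi q := by
  have := h (𝟙_ E)
  have e : q = (λ_ A).inv ≫ (𝟙_ E ◁ q) ≫ (λ_ B).hom := by simp
  rw [e]
  infer_instance

lemma StableEpi.whiskerLeft {A B : E} {q : A ⟶ B} (h : StableEpi q) (Y : E) :
    StableEpi (Y ◁ q) := by
  intro X
  have := h (X ⊗ Y)
  have e : X ◁ Y ◁ q = (α_ X Y A).inv ≫ ((X ⊗ Y) ◁ q) ≫ (α_ X Y B).hom := by simp
  rw [e]
  infer_instance

lemma StableEpi.of_iso_conj {A B A' B' : E} {q : A ⟶ B} (h : StableEpi q) (e₁ : A' ≅ A)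
    (e₂ : B ≅ B') : StableEpi (e₁.hom ≫ q ≫ e₂.hom) := by
  intro X
  have := h X
  rw [MonoidalCategory.whiskerLeft_comp, MonoidalCategory.whiskerLeft_comp]
  infer_instance

lemma StableEpi.whiskerRight {A B : E} {q : A ⟶ B} (h : StableEpi q) (Y : E) :
    StableEpi (q ▷ Y) := by
  let : BraidedCategory E := BraidedCategory.ofCartesianMonoidalCategory
  have e : q ▷ Y = (β_ A Y).hom ≫ (Y ◁ q) ≫ (β_ Y B).hom := by
    rw [← BraidedCategory.braiding_naturality_left_assoc]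
    simp
  rw [e]
  exact (h.whiskerLeft Y).of_iso_conj (β_ A Y) (β_ Y B)

lemma StableEpi.comp {A B D : E} {q₁ : A ⟶ B} {q₂ : B ⟶ D} (h₁ : StableEpi q₁)
    (h₂ : StableEpi q₂) : StableEpi (q₁ ≫ q₂) := by
  intro X
  have := h₁ X
  have := h₂ X
  rw [MonoidalCategory.whiskerLeft_comp]
  infer_instance

lemma StableEpi.tensorHom {A B A' B' : E} {q₁ : A ⟶ B} {q₂ : A' ⟶ B'} (h₁ : StableEpi q₁)
    (h₂ : StableEpi q₂) : StableEpi (q₁ ⊗ₘ q₂) := by
  rw [tensorHom_def]
  exact (h₁.whiskerRight _).comp (h₂.whiskerLeft _)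

lemma stableEpi_coequalizer_π {A B : E} (f g : A ⟶ B) [HasCoequalizer f g]
    [∀ X : E, PreservesColimit (parallelPair f g) (tensorLeft X)] :
    StableEpi (coequalizer.π f g) :=
  fun X => ⟨fun _ _ h => whisker_π_hom_ext f g X h⟩

end stable

section transport

variable {E : Type*} [Category E] [CartesianMonoidalCategory E]

/-- transport of a group structure along a stable epimorphism compatible with
multiplication and inverse. -/
@[reducible] noncomputable def grpObjOfStableEpi {G Q : E} [GrpObj G] (p : G ⟶ Q)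
    (hp : StableEpi p) (m : Q ⊗ Q ⟶ Q) (hm : (p ⊗ₘ p) ≫ m = μ ≫ p) (i : Q ⟶ Q)
    (hi : p ≫ i = ι ≫ p) : GrpObj Q where
  one := η ≫ p
  mul := m
  inv := i
  one_mul := by
    have := (hp.whiskerLeft (𝟙_ E)).epi
    rw [← cancel_epi (𝟙_ E ◁ p), comp_whiskerRight, Category.assoc, whisker_exchange_assoc,
      ← tensorHom_def'_assoc, hm, MonObj.one_mul_assoc, leftUnitor_naturality]
  mul_one := by
    have := (hp.whiskerRight (𝟙_ E)).epi
    rw [← cancel_epi (p ▷ 𝟙_ E), MonoidalCategory.whiskerLeft_comp, Category.assoc,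
      ← whisker_exchange_assoc, ← tensorHom_def_assoc, hm, MonObj.mul_one_assoc,
      rightUnitor_naturality]
  mul_assoc := by
    have := ((hp.tensorHom hp).tensorHom hp).epi
    rw [← cancel_epi ((p ⊗ₘ p) ⊗ₘ p)]
    have a1 : ((p ⊗ₘ p) ⊗ₘ p) ≫ m ▷ Q = (((p ⊗ₘ p) ≫ m) ⊗ₘ p) := by
      rw [← tensorHom_id, tensorHom_comp_tensorHom, Category.comp_id]
    have a2 : ((μ ≫ p) ⊗ₘ p) = μ ▷ G ≫ (p ⊗ₘ p) := by
      rw [← tensorHom_id, tensorHom_comp_tensorHom, Category.id_comp]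
    have a3 : (p ⊗ₘ (p ⊗ₘ p)) ≫ Q ◁ m = (p ⊗ₘ ((p ⊗ₘ p) ≫ m)) := by
      rw [← id_tensorHom, tensorHom_comp_tensorHom, Category.comp_id]
    have a4 : (p ⊗ₘ (μ ≫ p)) = G ◁ μ ≫ (p ⊗ₘ p) := by
      rw [← id_tensorHom, tensorHom_comp_tensorHom, Category.id_comp]
    have e1 : ((p ⊗ₘ p) ⊗ₘ p) ≫ m ▷ Q ≫ m = μ ▷ G ≫ μ ≫ p := by
      rw [← Category.assoc, a1, hm, a2, Category.assoc, hm]
    have e2 : ((p ⊗ₘ p) ⊗ₘ p) ≫ (α_ Q Q Q).hom ≫ Q ◁ m ≫ m =
        (α_ G G G).hom ≫ G ◁ μ ≫ μ ≫ p := by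
      rw [associator_naturality_assoc, ← Category.assoc (p ⊗ₘ p ⊗ₘ p), a3, hm, a4,
        Category.assoc, hm]
    rw [e1, e2, MonObj.mul_assoc_assoc]
  left_inv := by
    have := hp.epi
    rw [← cancel_epi p, comp_lift_assoc, hi, Category.comp_id]
    have e : lift (ι ≫ p) p = lift ι (𝟙 G) ≫ (p ⊗ₘ p) := by simp
    rw [e, Category.assoc, hm, GrpObj.left_inv_assoc, ← Category.assoc p, toUnit_unique (p ≫ toUnit Q) (toUnit G)]
  right_inv := by
    have := hp.epi
    rw [← cancel_epi p, comp_lift_assoc, hi, Category.comp_id]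
    have e : lift p (ι ≫ p) = lift (𝟙 G) ι ≫ (p ⊗ₘ p) := by simp
    rw [e, Category.assoc, hm, GrpObj.right_inv_assoc, ← Category.assoc p, toUnit_unique (p ≫ toUnit Q) (toUnit G)]

end transport

section whiskerRight

variable {E : Type*} [Category E] [CartesianMonoidalCategory E]
variable {A B : E} (f g : A ⟶ B) [HasCoequalizer f g]

lemma preservesColimit_tensorRight_of_tensorLeft (Y : E)
    [PreservesColimit (parallelPair f g) (tensorLeft Y)] :
    PreservesColimit (parallelPair f g) (tensorRight Y) := by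
  let : BraidedCategory E := BraidedCategory.ofCartesianMonoidalCategory
  exact preservesColimit_of_natIso _ (BraidedCategory.tensorLeftIsoTensorRight Y)

noncomputable def whiskerRightCoeqIsColimit (Y : E)
    [PreservesColimit (parallelPair f g) (tensorLeft Y)] :
    IsColimit (Cofork.ofπ (coequalizer.π f g ▷ Y)
      (by rw [← comp_whiskerRight, ← comp_whiskerRight, coequalizer.condition]) :
        Cofork (f ▷ Y) (g ▷ Y)) :=
  haveI := preservesColimit_tensorRight_of_tensorLeft f g Y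
  isColimitOfHasCoequalizerOfPreservesColimit (tensorRight Y) f g

noncomputable def whiskerRightDesc (Y : E) [PreservesColimit (parallelPair f g) (tensorLeft Y)]
    {W : E} (k : B ⊗ Y ⟶ W) (hk : f ▷ Y ≫ k = g ▷ Y ≫ k) : coequalizer f g ⊗ Y ⟶ W :=
  Cofork.IsColimit.desc (whiskerRightCoeqIsColimit f g Y) k hk

@[reassoc]
lemma whiskerRight_π_desc (Y : E) [PreservesColimit (parallelPair f g) (tensorLeft Y)] {W : E}
    (k : B ⊗ Y ⟶ W) (hk : f ▷ Y ≫ k = g ▷ Y ≫ k) :
    coequalizer.π f g ▷ Y ≫ whiskerRightDesc f g Y k hk = k :=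
  Cofork.IsColimit.π_desc' (whiskerRightCoeqIsColimit f g Y) k hk

end whiskerRight

end Groth.Agent.Lib.Helper72
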