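import Mathlib.AlgebraicGeometry.Morphisms.UniversallyOpen
import Mathlib.AlgebraicGeometry.IdealSheaf.Functorial
import Mathlib.AlgebraicGeometry.Morphisms.ClosedImmersion
import Mathlib.AlgebraicGeometry.PullbackCarrier

/-!
# Fibre products over the spectrum of a field: density of images

* `mem_range_pullback_map`: points of the image of `pullback.map`.
* `denseRange_pullback_map`: a fibre product (over an integral one-point scheme) of two morphisms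
  with dense image has dense image.
* `comp_mem_closure`: the closure of the image of a "subgroupoid" is closed under composition,
  set-theoretically.
-/

universe u

open CategoryTheory CategoryTheory.Limits AlgebraicGeometry

namespace Groth.Agent.Lib.Helper72.FieldBase

theorem isIntegral_of_iso_spec_field {U : Scheme.{u}} (k : Type u) [Field k]
    (eU : U ≅ Spec (CommRingCat.of k)) : IsIntegral U := by
  haveI : Nonempty U := ⟨eU.inv (IsLocalRing.closedPoint k)⟩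
  exact isIntegral_of_isOpenImmersion eU.hom

theorem subsingleton_of_iso_spec_field {U : Scheme.{u}} (k : Type u) [Field k]
    (eU : U ≅ Spec (CommRingCat.of k)) : Subsingleton U := by
  haveI : Subsingleton (Spec (CommRingCat.of k)) :=
    inferInstanceAs (Subsingleton (PrimeSpectrum k))
  exact eU.hom.homeomorph.injective.subsingleton

set_option backward.isDefEq.respectTransparency false in
theorem mem_range_pullback_map {X₁ X Y₁ Y S : Scheme.{u}} (f₁ : X₁ ⟶ X) (f₂ : Y₁ ⟶ Y)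
    (x' : X₁ ⟶ S) (y' : Y₁ ⟶ S) (x : X ⟶ S) (y : Y ⟶ S)
    (eq₁ : x' ≫ 𝟙 S = f₁ ≫ x) (eq₂ : y' ≫ 𝟙 S = f₂ ≫ y)
    (p : ↑(pullback x y)) (h₁ : pullback.fst x y p ∈ Set.range f₁)
    (h₂ : pullback.snd x y p ∈ Set.range f₂) :
    p ∈ Set.range (pullback.map x' y' x y f₁ f₂ (𝟙 S) eq₁ eq₂) := by
  obtain ⟨x₁, hx₁⟩ := h₁
  obtain ⟨y₁, hy₁⟩ := h₂
  obtain ⟨q₁, hq₁a, hq₁b⟩ := Scheme.Pullback.exists_preimage_pullback
    (f := f₁) (g := pullback.fst x y) x₁ p hx₁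
  have hq : (pullback.snd f₁ (pullback.fst x y) ≫ pullback.snd x y) q₁ = f₂ y₁ := by
    rw [Scheme.Hom.comp_apply, hq₁b, hy₁]
  obtain ⟨q₂, hq₂a, hq₂b⟩ := Scheme.Pullback.exists_preimage_pullback
    (f := pullback.snd f₁ (pullback.fst x y) ≫ pullback.snd x y) (g := f₂) q₁ y₁ hq
  have hl : (pullback.fst (pullback.snd f₁ (pullback.fst x y) ≫ pullback.snd x y) f₂ ≫
      pullback.fst f₁ (pullback.fst x y)) ≫ x' =
      pullback.snd (pullback.snd f₁ (pullback.fst x y) ≫ pullback.snd x y) f₂ ≫ y' := by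
    rw [Category.comp_id] at eq₁ eq₂
    rw [eq₁, eq₂, Category.assoc, pullback.condition_assoc, pullback.condition]
    have hc := pullback.condition (f := pullback.snd f₁ (pullback.fst x y) ≫ pullback.snd x y)
      (g := f₂)
    rw [← Category.assoc _ f₂ y, ← hc, Category.assoc, Category.assoc]
  refine ⟨pullback.lift _ _ hl q₂, ?_⟩
  have : pullback.lift _ _ hl ≫ pullback.map x' y' x y f₁ f₂ (𝟙 S) eq₁ eq₂ =
      pullback.fst (pullback.snd f₁ (pullback.fst x y) ≫ pullback.snd x y) f₂ ≫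
        pullback.snd f₁ (pullback.fst x y) := by
    apply pullback.hom_ext
    · simp [pullback.condition]
    · simp [pullback.condition]
  rw [← Scheme.Hom.comp_apply, this, Scheme.Hom.comp_apply, hq₂a, hq₁b]

section

variable {S : Scheme.{u}} [IsIntegral S] [Subsingleton S]

theorem denseRange_pullback_map_left {X₁ X Y₁ : Scheme.{u}} (f₁ : X₁ ⟶ X)
    (x' : X₁ ⟶ S) (y' : Y₁ ⟶ S) (x : X ⟶ S) (eq₁ : x' ≫ 𝟙 S = f₁ ≫ x)
    (h : DenseRange f₁) :
    DenseRange (pullback.map x' y' x y' f₁ (𝟙 Y₁) (𝟙 S) eq₁ (by simp)) := by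
  have hopen : IsOpenMap (pullback.fst x y') := (pullback.fst x y').isOpenMap
  refine Dense.mono ?_ (h.preimage hopen)
  intro p hp
  exact mem_range_pullback_map f₁ (𝟙 Y₁) x' y' x y' eq₁ (by simp) p hp ⟨_, rfl⟩

theorem denseRange_pullback_map_right {X Y₁ Y : Scheme.{u}} (f₂ : Y₁ ⟶ Y)
    (x : X ⟶ S) (y' : Y₁ ⟶ S) (y : Y ⟶ S) (eq₂ : y' ≫ 𝟙 S = f₂ ≫ y)
    (h : DenseRange f₂) :
    DenseRange (pullback.map x y' x y (𝟙 X) f₂ (𝟙 S) (by simp) eq₂) := by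
  have hopen : IsOpenMap (pullback.snd x y) := (pullback.snd x y).isOpenMap
  refine Dense.mono ?_ (h.preimage hopen)
  intro p hp
  exact mem_range_pullback_map (𝟙 X) f₂ x y' x y (by simp) eq₂ p ⟨_, rfl⟩ hp

set_option backward.isDefEq.respectTransparency false in
theorem denseRange_pullback_map {X₁ X Y₁ Y : Scheme.{u}} (f₁ : X₁ ⟶ X) (f₂ : Y₁ ⟶ Y)
    (x' : X₁ ⟶ S) (y' : Y₁ ⟶ S) (x : X ⟶ S) (y : Y ⟶ S)
    (eq₁ : x' ≫ 𝟙 S = f₁ ≫ x) (eq₂ : y' ≫ 𝟙 S = f₂ ≫ y)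
    (h₁ : DenseRange f₁) (h₂ : DenseRange f₂) :
    DenseRange (pullback.map x' y' x y f₁ f₂ (𝟙 S) eq₁ eq₂) := by
  have e : pullback.map x' y' x y f₁ f₂ (𝟙 S) eq₁ eq₂ =
      pullback.map x' y' x y' f₁ (𝟙 Y₁) (𝟙 S) eq₁ (by simp) ≫
        pullback.map x y' x y (𝟙 X) f₂ (𝟙 S) (by simp) eq₂ := by
    apply pullback.hom_ext <;> simp
  rw [e]
  exact (denseRange_pullback_map_right f₂ x y' y eq₂ h₂).comp
    (denseRange_pullback_map_left f₁ x' y' x eq₁ h₁) (Scheme.Hom.continuous _)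

/-- The reduced induced closed subscheme on the closure of the image of `a`, together with a
surjective morphism `ρ : R' ⟶ R₁` such that `ρ ≫ a` factors through it with dense image. -/
theorem exists_closure_subscheme {R₁ R₂ : Scheme.{u}} (a : R₁ ⟶ R₂) :
    ∃ (Z R' : Scheme.{u}) (ι : Z ⟶ R₂) (ρ : R' ⟶ R₁) (a' : R' ⟶ Z),
      IsClosedImmersion ι ∧ Set.range ι = closure (Set.range a) ∧ Function.Surjective ρ ∧
        a' ≫ ι = ρ ≫ a ∧ DenseRange a' := by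
  let Zc : TopologicalSpace.Closeds R₂ := ⟨closure (Set.range a), isClosed_closure⟩
  let I := Scheme.IdealSheafData.vanishingIdeal Zc
  let J := Scheme.IdealSheafData.vanishingIdeal (⊤ : TopologicalSpace.Closeds R₁)
  have hι : Set.range I.subschemeι = closure (Set.range a) := by
    rw [Scheme.IdealSheafData.range_subschemeι, Scheme.IdealSheafData.coe_support_vanishingIdeal]
    rfl
  have hρ : Function.Surjective J.subschemeι := by
    rw [← Set.range_eq_univ, Scheme.IdealSheafData.range_subschemeι,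
      Scheme.IdealSheafData.coe_support_vanishingIdeal]
    rfl
  have hker : I.subschemeι.ker ≤ (J.subschemeι ≫ a).ker := by
    rw [Scheme.IdealSheafData.ker_subschemeι, Scheme.Hom.ker_comp,
      Scheme.IdealSheafData.ker_subschemeι, Scheme.IdealSheafData.map_vanishingIdeal]
    apply Scheme.IdealSheafData.vanishingIdeal_antimono
    intro x hx
    change x ∈ closure (a '' Set.univ) at hx
    rwa [Set.image_univ] at hx
  let a' := IsClosedImmersion.lift I.subschemeι (J.subschemeι ≫ a) hker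
  have ha' : a' ≫ I.subschemeι = J.subschemeι ≫ a := IsClosedImmersion.lift_fac _ _ _
  refine ⟨I.subscheme, J.subscheme, I.subschemeι, J.subschemeι, a', inferInstance, hι, hρ, ha', ?_⟩
  have hind : Topology.IsInducing I.subschemeι := I.subschemeι.isEmbedding.isInducing
  rw [DenseRange, hind.dense_iff]
  intro z
  have h1 : I.subschemeι '' Set.range a' = Set.range a := by
    rw [← Set.range_comp]
    have : (⇑I.subschemeι ∘ ⇑a') = ⇑a ∘ ⇑J.subschemeι := by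
      funext w
      show (a' ≫ I.subschemeι) w = (J.subschemeι ≫ a) w
      rw [ha']
    rw [this, hρ.range_comp]
  rw [h1, ← hι]
  exact ⟨z, rfl⟩

set_option backward.isDefEq.respectTransparency false in
/-- Over an integral one-point base: if the composite (via `c₂`) of two composable arrows in the
image of `a` is again in the image of `a`, then the closure of the image of `a` is stable under
`c₂`, set-theoretically. -/
theorem comp_mem_closure {R₁ R₂ : Scheme.{u}} (s₂ t₂ : R₂ ⟶ S) (a : R₁ ⟶ R₂)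
    (c₂ : pullback s₂ t₂ ⟶ R₂) (γ : pullback (a ≫ s₂) (a ≫ t₂) ⟶ R₁)
    (hγ : γ ≫ a = pullback.map (a ≫ s₂) (a ≫ t₂) s₂ t₂ a a (𝟙 S) (by simp) (by simp) ≫ c₂)
    (p : ↑(pullback s₂ t₂)) (h₁ : pullback.fst s₂ t₂ p ∈ closure (Set.range a))
    (h₂ : pullback.snd s₂ t₂ p ∈ closure (Set.range a)) : c₂ p ∈ closure (Set.range a) := by
  obtain ⟨Z, R', ι, ρ, a', _, hι, hρ, ha', hd⟩ := exists_closure_subscheme a
  rw [← hι] at h₁ h₂
  obtain ⟨q, rfl⟩ := mem_range_pullback_map ι ι (ι ≫ s₂) (ι ≫ t₂) s₂ t₂ (by simp) (by simp)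
    p h₁ h₂
  have e₁ : (ρ ≫ a ≫ s₂) ≫ 𝟙 S = a' ≫ ι ≫ s₂ := by rw [Category.comp_id, reassoc_of% ha']
  have e₂ : (ρ ≫ a ≫ t₂) ≫ 𝟙 S = a' ≫ ι ≫ t₂ := by rw [Category.comp_id, reassoc_of% ha']
  have hM := denseRange_pullback_map a' a' (ρ ≫ a ≫ s₂) (ρ ≫ a ≫ t₂) (ι ≫ s₂) (ι ≫ t₂) e₁ e₂ hd hd
  have key : pullback.map (ρ ≫ a ≫ s₂) (ρ ≫ a ≫ t₂) (ι ≫ s₂) (ι ≫ t₂) a' a' (𝟙 S) e₁ e₂ ≫
      pullback.map (ι ≫ s₂) (ι ≫ t₂) s₂ t₂ ι ι (𝟙 S) (by simp) (by simp) ≫ c₂ =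
      (pullback.map (ρ ≫ a ≫ s₂) (ρ ≫ a ≫ t₂) (a ≫ s₂) (a ≫ t₂) ρ ρ (𝟙 S) (by simp) (by simp) ≫
        γ) ≫ a := by
    have h3 : pullback.map (ρ ≫ a ≫ s₂) (ρ ≫ a ≫ t₂) (ι ≫ s₂) (ι ≫ t₂) a' a' (𝟙 S) e₁ e₂ ≫
        pullback.map (ι ≫ s₂) (ι ≫ t₂) s₂ t₂ ι ι (𝟙 S) (by simp) (by simp) =
        pullback.map (ρ ≫ a ≫ s₂) (ρ ≫ a ≫ t₂) (a ≫ s₂) (a ≫ t₂) ρ ρ (𝟙 S) (by simp) (by simp) ≫
          pullback.map (a ≫ s₂) (a ≫ t₂) s₂ t₂ a a (𝟙 S) (by simp) (by simp) := by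
      apply pullback.hom_ext
      · simp [ha']
      · simp [ha']
    calc _ = (pullback.map (ρ ≫ a ≫ s₂) (ρ ≫ a ≫ t₂) (ι ≫ s₂) (ι ≫ t₂) a' a' (𝟙 S) e₁ e₂ ≫
          pullback.map (ι ≫ s₂) (ι ≫ t₂) s₂ t₂ ι ι (𝟙 S) (by simp) (by simp)) ≫ c₂ :=
            (Category.assoc _ _ _).symm
      _ = _ := congrArg (· ≫ c₂) h3
      _ = _ := Category.assoc _ _ _
      _ = _ := congrArg (_ ≫ ·) hγ.symm
      _ = _ := (Category.assoc _ _ _).symm
  refine hM.induction_on (p := fun q => (pullback.map (ι ≫ s₂) (ι ≫ t₂) s₂ t₂ ι ι (𝟙 S) (by simp)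
    (by simp) ≫ c₂) q ∈ closure (Set.range a)) q ?_ ?_
  · exact isClosed_closure.preimage (Scheme.Hom.continuous _)
  · intro w
    apply subset_closure
    rw [← Scheme.Hom.comp_apply, key, Scheme.Hom.comp_apply]
    exact ⟨_, rfl⟩

/-- Variant of `comp_mem_closure` with names for `a ≫ s₂` and `a ≫ t₂`. -/
theorem comp_mem_closure' {R₁ R₂ : Scheme.{u}} (s₂ t₂ : R₂ ⟶ S) (a : R₁ ⟶ R₂)
    (c₂ : pullback s₂ t₂ ⟶ R₂) (s₁ t₁ : R₁ ⟶ S) (hs : s₁ ≫ 𝟙 S = a ≫ s₂)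
    (ht : t₁ ≫ 𝟙 S = a ≫ t₂) (γ : pullback s₁ t₁ ⟶ R₁)
    (hγ : γ ≫ a = pullback.map s₁ t₁ s₂ t₂ a a (𝟙 S) hs ht ≫ c₂)
    (p : ↑(pullback s₂ t₂)) (h₁ : pullback.fst s₂ t₂ p ∈ closure (Set.range a))
    (h₂ : pullback.snd s₂ t₂ p ∈ closure (Set.range a)) : c₂ p ∈ closure (Set.range a) := by
  obtain rfl : s₁ = a ≫ s₂ := by rw [← hs, Category.comp_id]
  obtain rfl : t₁ = a ≫ t₂ := by rw [← ht, Category.comp_id]
  exact comp_mem_closure s₂ t₂ a c₂ γ hγ p h₁ h₂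

end

end Groth.Agent.Lib.Helper72.FieldBase
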