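import Groth.Agent.Lib.Helper72.GrpdRestrict
import Groth.Agent.Lib.Helper72.FieldBase
import Mathlib.AlgebraicGeometry.ResidueField
import Mathlib.Topology.LocallyClosed

/-!
# Right translation in a groupoid scheme and "locally closed subgroupoids are closed"

For a groupoid scheme `G` over `S` and a `K`-point `ρ : K ⟶ G.R`, right translation by `ρ`
is the morphism `trans G ρ : R ×_{s, U, tρ} K ⟶ R`, `(α, x) ↦ α ∘ ρ(x)`.  It is the composite of an
isomorphism onto `R ×_{s, U, sρ} K` and the first projection; in particular it is an open map when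
`G.U` is integral with one point.

`isClosed_of_isLocallyClosed`: over such a base, a locally closed subset `W` of `R` which contains
the identities, is stable under inverse and composition, and whose closure is stable under
composition, is closed.
-/

set_option autoImplicit false

universe u

namespace Groth.Agent.Lib.Helper72.GrpdPts

open AlgebraicGeometry CategoryTheory CategoryTheory.Limits Grpd

variable {S : Scheme.{u}} (G : Grpd.GroupoidScheme S) {K : Scheme.{u}} (ρ : K ⟶ G.R)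

lemma trans_cond : pullback.fst G.s (ρ ≫ G.t) ≫ G.s = (pullback.snd G.s (ρ ≫ G.t) ≫ ρ) ≫ G.t := by
  rw [Category.assoc]; exact pullback.condition

/-- right translation by `ρ`: `(α, x) ↦ α ∘ ρ(x)`. -/
noncomputable def trans : pullback G.s (ρ ≫ G.t) ⟶ G.R :=
  mul G (pullback.fst G.s (ρ ≫ G.t)) (pullback.snd G.s (ρ ≫ G.t) ≫ ρ) (trans_cond G ρ)

lemma trans_s : trans G ρ ≫ G.s = pullback.snd G.s (ρ ≫ G.t) ≫ ρ ≫ G.s := by
  rw [trans, mul_s, Category.assoc]

lemma trans_t : trans G ρ ≫ G.t = pullback.fst G.s (ρ ≫ G.t) ≫ G.t := by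
  rw [trans, mul_t]

/-- `(α, x) ↦ (α ∘ ρ(x), x)`. -/
noncomputable def transHom : pullback G.s (ρ ≫ G.t) ⟶ pullback G.s (ρ ≫ G.s) :=
  pullback.lift (trans G ρ) (pullback.snd G.s (ρ ≫ G.t)) (trans_s G ρ)

lemma transInv_cond : pullback.fst G.s (ρ ≫ G.s) ≫ G.s =
    ((pullback.snd G.s (ρ ≫ G.s) ≫ ρ) ≫ G.i) ≫ G.t := by
  rw [Category.assoc, G.i_t, Category.assoc]; exact pullback.condition

lemma transInv_cond' :
    mul G (pullback.fst G.s (ρ ≫ G.s)) ((pullback.snd G.s (ρ ≫ G.s) ≫ ρ) ≫ G.i)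
      (transInv_cond G ρ) ≫ G.s = pullback.snd G.s (ρ ≫ G.s) ≫ ρ ≫ G.t := by
  rw [mul_s, Category.assoc, G.i_s, Category.assoc]

/-- `(β, x) ↦ (β ∘ ρ(x)⁻¹, x)`. -/
noncomputable def transInv : pullback G.s (ρ ≫ G.s) ⟶ pullback G.s (ρ ≫ G.t) :=
  pullback.lift (mul G (pullback.fst G.s (ρ ≫ G.s)) ((pullback.snd G.s (ρ ≫ G.s) ≫ ρ) ≫ G.i)
    (transInv_cond G ρ)) (pullback.snd G.s (ρ ≫ G.s)) (transInv_cond' G ρ)

lemma transHom_fst : transHom G ρ ≫ pullback.fst G.s (ρ ≫ G.s) = trans G ρ :=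
  pullback.lift_fst _ _ _

lemma transHom_snd : transHom G ρ ≫ pullback.snd G.s (ρ ≫ G.s) = pullback.snd G.s (ρ ≫ G.t) :=
  pullback.lift_snd _ _ _

lemma transInv_fst : transInv G ρ ≫ pullback.fst G.s (ρ ≫ G.t) =
    mul G (pullback.fst G.s (ρ ≫ G.s)) ((pullback.snd G.s (ρ ≫ G.s) ≫ ρ) ≫ G.i)
      (transInv_cond G ρ) :=
  pullback.lift_fst _ _ _

lemma transInv_snd : transInv G ρ ≫ pullback.snd G.s (ρ ≫ G.t) = pullback.snd G.s (ρ ≫ G.s) :=
  pullback.lift_snd _ _ _

lemma transHom_transInv : transHom G ρ ≫ transInv G ρ = 𝟙 _ := by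
  apply pullback.hom_ext
  · rw [Category.assoc, transInv_fst, Category.id_comp]
    have h1 : (transHom G ρ ≫ pullback.fst G.s (ρ ≫ G.s)) ≫ G.s =
        (transHom G ρ ≫ (pullback.snd G.s (ρ ≫ G.s) ≫ ρ) ≫ G.i) ≫ G.t := by
      rw [Category.assoc, Category.assoc, transInv_cond]
    rw [comp_mul G (transHom G ρ) _ _ (transInv_cond G ρ) h1]
    have e1 : transHom G ρ ≫ pullback.fst G.s (ρ ≫ G.s) =
        mul G (pullback.fst G.s (ρ ≫ G.t)) (pullback.snd G.s (ρ ≫ G.t) ≫ ρ) (trans_cond G ρ) :=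
      transHom_fst G ρ
    have e2 : transHom G ρ ≫ (pullback.snd G.s (ρ ≫ G.s) ≫ ρ) ≫ G.i =
        (pullback.snd G.s (ρ ≫ G.t) ≫ ρ) ≫ G.i := by
      rw [← Category.assoc, ← Category.assoc, transHom_snd]
    have h2 : mul G (pullback.fst G.s (ρ ≫ G.t)) (pullback.snd G.s (ρ ≫ G.t) ≫ ρ)
        (trans_cond G ρ) ≫ G.s = ((pullback.snd G.s (ρ ≫ G.t) ≫ ρ) ≫ G.i) ≫ G.t := by
      rw [mul_s, Category.assoc _ G.i, G.i_t]
    exact (mul_congr G e1 e2 h1 h2).trans (mul_mul_i G _ _ (trans_cond G ρ) h2)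
  · rw [Category.assoc, transInv_snd, transHom_snd, Category.id_comp]

lemma transInv_transHom : transInv G ρ ≫ transHom G ρ = 𝟙 _ := by
  apply pullback.hom_ext
  · rw [Category.assoc, transHom_fst, Category.id_comp, trans]
    have h1 : (transInv G ρ ≫ pullback.fst G.s (ρ ≫ G.t)) ≫ G.s =
        (transInv G ρ ≫ pullback.snd G.s (ρ ≫ G.t) ≫ ρ) ≫ G.t := by
      rw [Category.assoc, Category.assoc, trans_cond]
    rw [comp_mul G (transInv G ρ) _ _ (trans_cond G ρ) h1]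
    have e2 : transInv G ρ ≫ pullback.snd G.s (ρ ≫ G.t) ≫ ρ =
        pullback.snd G.s (ρ ≫ G.s) ≫ ρ := by
      rw [← Category.assoc, transInv_snd]
    have h2 : mul G (pullback.fst G.s (ρ ≫ G.s)) ((pullback.snd G.s (ρ ≫ G.s) ≫ ρ) ≫ G.i)
        (transInv_cond G ρ) ≫ G.s = (pullback.snd G.s (ρ ≫ G.s) ≫ ρ) ≫ G.t := by
      rw [mul_s, Category.assoc _ G.i, G.i_s]
    exact (mul_congr G (transInv_fst G ρ) e2 h1 h2).trans
      (mul_i_mul' G _ _ (transInv_cond G ρ) h2)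
  · rw [Category.assoc, transHom_snd, transInv_snd, Category.id_comp]

instance : IsIso (transHom G ρ) :=
  ⟨transInv G ρ, transHom_transInv G ρ, transInv_transHom G ρ⟩

/-- Right translation is an open map when `G.U` is integral with one point. -/
theorem trans_isOpenMap [IsIntegral G.U] [Subsingleton G.U] : IsOpenMap (trans G ρ) := by
  have h : trans G ρ = transHom G ρ ≫ pullback.fst G.s (ρ ≫ G.s) := (transHom_fst G ρ).symm
  rw [h]
  exact (transHom G ρ ≫ pullback.fst G.s (ρ ≫ G.s)).isOpenMap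

theorem fst_isOpenMap [IsIntegral G.U] [Subsingleton G.U] :
    IsOpenMap (pullback.fst G.s (ρ ≫ G.t)) :=
  (pullback.fst G.s (ρ ≫ G.t)).isOpenMap

/-- The identity point of the translation domain. -/
noncomputable def transUnit : K ⟶ pullback G.s (ρ ≫ G.t) :=
  pullback.lift (ρ ≫ G.t ≫ G.e) (𝟙 K) (by
    rw [Category.assoc, Category.assoc, G.e_s, Category.comp_id, Category.id_comp])

lemma transUnit_fst : transUnit G ρ ≫ pullback.fst G.s (ρ ≫ G.t) = ρ ≫ G.t ≫ G.e :=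
  pullback.lift_fst _ _ _

lemma transUnit_snd : transUnit G ρ ≫ pullback.snd G.s (ρ ≫ G.t) = 𝟙 K :=
  pullback.lift_snd _ _ _

lemma transUnit_trans : transUnit G ρ ≫ trans G ρ = ρ := by
  rw [trans]
  have h1 : (transUnit G ρ ≫ pullback.fst G.s (ρ ≫ G.t)) ≫ G.s =
      (transUnit G ρ ≫ pullback.snd G.s (ρ ≫ G.t) ≫ ρ) ≫ G.t := by
    rw [Category.assoc, Category.assoc, trans_cond]
  rw [comp_mul G (transUnit G ρ) _ _ (trans_cond G ρ) h1]
  have e2 : transUnit G ρ ≫ pullback.snd G.s (ρ ≫ G.t) ≫ ρ = ρ := by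
    rw [← Category.assoc, transUnit_snd, Category.id_comp]
  have h2 : (ρ ≫ G.t ≫ G.e) ≫ G.s = ρ ≫ G.t := by
    rw [Category.assoc, Category.assoc, G.e_s, Category.comp_id]
  exact (mul_congr G (transUnit_fst G ρ) e2 h1 h2).trans (e_mul G ρ _ rfl h2)

/-- `(α, x) ↦ (α ∘ ρ(x), ρ(x)⁻¹)`, with composite `α`. -/
noncomputable def transBack : pullback G.s (ρ ≫ G.t) ⟶ pullback G.s G.t :=
  pullback.lift (trans G ρ) ((pullback.snd G.s (ρ ≫ G.t) ≫ ρ) ≫ G.i) (by
    rw [trans, mul_s, Category.assoc _ G.i, G.i_t])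

lemma transBack_c : transBack G ρ ≫ G.c = pullback.fst G.s (ρ ≫ G.t) := by
  have h2 : mul G (pullback.fst G.s (ρ ≫ G.t)) (pullback.snd G.s (ρ ≫ G.t) ≫ ρ)
      (trans_cond G ρ) ≫ G.s = ((pullback.snd G.s (ρ ≫ G.t) ≫ ρ) ≫ G.i) ≫ G.t := by
    rw [mul_s, Category.assoc _ G.i, G.i_t]
  exact mul_mul_i G _ _ (trans_cond G ρ) h2

/-- `(α, x) ↦ (α⁻¹, α ∘ ρ(x))`, with composite `ρ(x)`. -/
noncomputable def transDiv : pullback G.s (ρ ≫ G.t) ⟶ pullback G.s G.t :=
  pullback.lift (pullback.fst G.s (ρ ≫ G.t) ≫ G.i) (trans G ρ) (by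
    rw [trans, mul_t, Category.assoc, G.i_s])

lemma transDiv_c : transDiv G ρ ≫ G.c = pullback.snd G.s (ρ ≫ G.t) ≫ ρ := by
  have h2 : (pullback.fst G.s (ρ ≫ G.t) ≫ G.i) ≫ G.s =
      mul G (pullback.fst G.s (ρ ≫ G.t)) (pullback.snd G.s (ρ ≫ G.t) ≫ ρ)
        (trans_cond G ρ) ≫ G.t := by
    rw [mul_t, Category.assoc, G.i_s]
  exact i_mul_mul G _ _ (trans_cond G ρ) h2

/-- A locally closed "subgroupoid" (set-theoretically) of a groupoid scheme over an integral
one-point scheme is closed. -/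
theorem isClosed_of_isLocallyClosed [IsIntegral G.U] [Subsingleton G.U] (W : Set G.R)
    (he : ∀ u : G.U, G.e u ∈ W) (hi : ∀ r ∈ W, G.i r ∈ W)
    (hc : ∀ p : ↑(pullback G.s G.t), pullback.fst G.s G.t p ∈ W → pullback.snd G.s G.t p ∈ W →
      G.c p ∈ W)
    (hc' : ∀ p : ↑(pullback G.s G.t), pullback.fst G.s G.t p ∈ closure W →
      pullback.snd G.s G.t p ∈ closure W → G.c p ∈ closure W)
    (hlc : IsLocallyClosed W) : IsClosed W := by
  have hi' : ∀ r ∈ closure W, G.i r ∈ closure W := by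
    intro r hr
    have h1 : G.i r ∈ G.i '' closure W := ⟨r, hr, rfl⟩
    have h2 := image_closure_subset_closure_image (s := W) G.i.continuous h1
    refine closure_mono ?_ h2
    rintro _ ⟨w, hw, rfl⟩
    exact hi w hw
  obtain ⟨O, Z, hO, hZ, hW⟩ := hlc
  have hWO : ∀ r ∈ closure W, r ∈ O → r ∈ W := by
    intro r hr hrO
    rw [hW]
    refine ⟨hrO, ?_⟩
    have : closure W ⊆ Z := by
      rw [hW]
      exact closure_minimal Set.inter_subset_right hZ
    exact this hr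
  have hWsubO : W ⊆ O := by rw [hW]; exact Set.inter_subset_left
  rw [← closure_subset_iff_isClosed]
  intro r hr
  let ρ := G.R.fromSpecResidueField r
  have hρ : ∀ x, ρ x = r := fun x => Scheme.fromSpecResidueField_apply r x
  obtain ⟨x₀⟩ : Nonempty ↥(Spec (G.R.residueField r)) := inferInstance
  let z₀ := transUnit G ρ x₀
  have hz₀fst : pullback.fst G.s (ρ ≫ G.t) z₀ ∈ O := by
    apply hWsubO
    show (pullback.fst G.s (ρ ≫ G.t)) ((transUnit G ρ) x₀) ∈ W
    rw [← Scheme.Hom.comp_apply, transUnit_fst]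
    simp only [Scheme.Hom.comp_apply]
    exact he _
  have hz₀trans : trans G ρ z₀ = r := by
    show (trans G ρ) ((transUnit G ρ) x₀) = r
    rw [← Scheme.Hom.comp_apply, transUnit_trans, hρ]
  have hNopen : IsOpen ((pullback.fst G.s (ρ ≫ G.t)) ⁻¹' O) :=
    hO.preimage (pullback.fst G.s (ρ ≫ G.t)).continuous
  have himg := trans_isOpenMap G ρ _ hNopen
  have hr_img : r ∈ trans G ρ '' ((pullback.fst G.s (ρ ≫ G.t)) ⁻¹' O) := ⟨z₀, hz₀fst, hz₀trans⟩
  obtain ⟨_, ⟨z, hzO, rfl⟩, hzW⟩ := mem_closure_iff.1 hr _ himg hr_img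
  -- `fst z ∈ closure W`
  have h1 : pullback.fst G.s (ρ ≫ G.t) z ∈ closure W := by
    have := hc' (transBack G ρ z) (by
        show (pullback.fst G.s G.t) ((transBack G ρ) z) ∈ closure W
        rw [← Scheme.Hom.comp_apply, transBack, pullback.lift_fst]
        exact subset_closure hzW) (by
        show (pullback.snd G.s G.t) ((transBack G ρ) z) ∈ closure W
        rw [← Scheme.Hom.comp_apply, transBack, pullback.lift_snd]
        simp only [Scheme.Hom.comp_apply]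
        apply hi'
        rw [hρ]
        exact hr)
    rwa [← Scheme.Hom.comp_apply, transBack_c] at this
  have h2 : pullback.fst G.s (ρ ≫ G.t) z ∈ W := hWO _ h1 hzO
  have h3 := hc (transDiv G ρ z) (by
      show (pullback.fst G.s G.t) ((transDiv G ρ) z) ∈ W
      rw [← Scheme.Hom.comp_apply, transDiv, pullback.lift_fst]
      simp only [Scheme.Hom.comp_apply]
      exact hi _ h2) (by
      show (pullback.snd G.s G.t) ((transDiv G ρ) z) ∈ W
      rw [← Scheme.Hom.comp_apply, transDiv, pullback.lift_snd]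
      exact hzW)
  rw [← Scheme.Hom.comp_apply, transDiv_c] at h3
  simp only [Scheme.Hom.comp_apply] at h3
  rwa [hρ] at h3

end Groth.Agent.Lib.Helper72.GrpdPts
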