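import Groth.Prelude.Def_Grpd

set_option autoImplicit false

universe u

namespace Groth.Agent.Lib.Helper72.GrpdPts

open AlgebraicGeometry CategoryTheory CategoryTheory.Limits

variable {S : Scheme.{u}} (G : Grpd.GroupoidScheme S) {T : Scheme.{u}}

/-- composition of `T`-points: `mul α β = α ∘ β`. -/
noncomputable def mul (α β : T ⟶ G.R) (h : α ≫ G.s = β ≫ G.t) : T ⟶ G.R :=
  pullback.lift α β h ≫ G.c

lemma mul_s (α β : T ⟶ G.R) (h : α ≫ G.s = β ≫ G.t) : mul G α β h ≫ G.s = β ≫ G.s :=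
  G.comp_s α β h

lemma mul_t (α β : T ⟶ G.R) (h : α ≫ G.s = β ≫ G.t) : mul G α β h ≫ G.t = α ≫ G.t :=
  G.comp_t α β h

lemma mul_congr {α α' β β' : T ⟶ G.R} (hα : α = α') (hβ : β = β') (h : α ≫ G.s = β ≫ G.t)
    (h' : α' ≫ G.s = β' ≫ G.t) : mul G α β h = mul G α' β' h' := by
  subst hα hβ; rfl

lemma mul_assoc (α β γ : T ⟶ G.R) (h₁ : α ≫ G.s = β ≫ G.t) (h₂ : β ≫ G.s = γ ≫ G.t)
    (h₃ : mul G α β h₁ ≫ G.s = γ ≫ G.t) (h₄ : α ≫ G.s = mul G β γ h₂ ≫ G.t) :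
    mul G (mul G α β h₁) γ h₃ = mul G α (mul G β γ h₂) h₄ :=
  G.assoc α β γ h₁ h₂

lemma mul_e (α : T ⟶ G.R) (η : T ⟶ G.R) (hη : η = α ≫ G.s ≫ G.e) (h : α ≫ G.s = η ≫ G.t) :
    mul G α η h = α := by
  subst hη
  exact G.comp_e α

lemma e_mul (α : T ⟶ G.R) (η : T ⟶ G.R) (hη : η = α ≫ G.t ≫ G.e) (h : η ≫ G.s = α ≫ G.t) :
    mul G η α h = α := by
  subst hη
  exact G.e_comp α

lemma mul_i (α : T ⟶ G.R) (h : α ≫ G.s = (α ≫ G.i) ≫ G.t) :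
    mul G α (α ≫ G.i) h = α ≫ G.t ≫ G.e :=
  G.comp_i α

lemma i_mul (α : T ⟶ G.R) (h : (α ≫ G.i) ≫ G.s = α ≫ G.t) :
    mul G (α ≫ G.i) α h = α ≫ G.s ≫ G.e :=
  G.i_comp α

lemma comp_mul {T' : Scheme.{u}} (γ : T' ⟶ T) (α β : T ⟶ G.R) (h : α ≫ G.s = β ≫ G.t)
    (h' : (γ ≫ α) ≫ G.s = (γ ≫ β) ≫ G.t) :
    γ ≫ mul G α β h = mul G (γ ≫ α) (γ ≫ β) h' := by
  unfold mul
  rw [← Category.assoc]
  congr 1
  apply pullback.hom_ext
  · rw [Category.assoc, pullback.lift_fst, pullback.lift_fst]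
  · rw [Category.assoc, pullback.lift_snd, pullback.lift_snd]

lemma fst_mul_snd : mul G (pullback.fst G.s G.t) (pullback.snd G.s G.t) pullback.condition = G.c := by
  unfold mul
  have : pullback.lift (pullback.fst G.s G.t) (pullback.snd G.s G.t) pullback.condition = 𝟙 _ := by
    apply pullback.hom_ext
    · rw [pullback.lift_fst, Category.id_comp]
    · rw [pullback.lift_snd, Category.id_comp]
  rw [this, Category.id_comp]

lemma comp_c (γ : T ⟶ pullback G.s G.t)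
    (h : (γ ≫ pullback.fst G.s G.t) ≫ G.s = (γ ≫ pullback.snd G.s G.t) ≫ G.t) :
    γ ≫ G.c = mul G (γ ≫ pullback.fst G.s G.t) (γ ≫ pullback.snd G.s G.t) h := by
  rw [← fst_mul_snd, comp_mul]

/-- `α⁻¹ ∘ (α ∘ β) = β`. -/
lemma i_mul_mul (α β : T ⟶ G.R) (h : α ≫ G.s = β ≫ G.t)
    (h' : (α ≫ G.i) ≫ G.s = mul G α β h ≫ G.t) :
    mul G (α ≫ G.i) (mul G α β h) h' = β := by
  have h1 : (α ≫ G.i) ≫ G.s = α ≫ G.t := by rw [Category.assoc, G.i_s]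
  rw [← mul_assoc G (α ≫ G.i) α β h1 h (by rw [mul_s, h])]
  refine (mul_congr G (i_mul G α h1) rfl _ ?_).trans (e_mul G β _ ?_ _)
  · rw [Category.assoc, Category.assoc, G.e_s, Category.comp_id, h]
  · rw [← Category.assoc, ← Category.assoc, h]

/-- `α ∘ (α⁻¹ ∘ β) = β`. -/
lemma mul_i_mul (α β : T ⟶ G.R) (h : (α ≫ G.i) ≫ G.s = β ≫ G.t)
    (h' : α ≫ G.s = mul G (α ≫ G.i) β h ≫ G.t) :
    mul G α (mul G (α ≫ G.i) β h) h' = β := by
  have h1 : α ≫ G.s = (α ≫ G.i) ≫ G.t := by rw [Category.assoc, G.i_t]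
  rw [← mul_assoc G α (α ≫ G.i) β h1 h (by rw [mul_s, h])]
  refine (mul_congr G (mul_i G α h1) rfl _ ?_).trans (e_mul G β _ ?_ _)
  · rw [Category.assoc, Category.assoc, G.e_s, Category.comp_id, ← h, Category.assoc, G.i_s]
  · rw [← Category.assoc, ← Category.assoc, ← h, Category.assoc α G.i G.s, G.i_s]

/-- `(α ∘ β) ∘ β⁻¹ = α`. -/
lemma mul_mul_i (α β : T ⟶ G.R) (h : α ≫ G.s = β ≫ G.t)
    (h' : mul G α β h ≫ G.s = (β ≫ G.i) ≫ G.t) :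
    mul G (mul G α β h) (β ≫ G.i) h' = α := by
  have h1 : β ≫ G.s = (β ≫ G.i) ≫ G.t := by rw [Category.assoc, G.i_t]
  rw [mul_assoc G α β (β ≫ G.i) h h1 _ (by rw [mul_t, h])]
  refine (mul_congr G rfl (mul_i G β h1) _ ?_).trans (mul_e G α _ ?_ _)
  · rw [Category.assoc, Category.assoc, G.e_t, Category.comp_id, h]
  · rw [← Category.assoc, ← Category.assoc, h]

/-- `(α ∘ β⁻¹) ∘ β = α`. -/
lemma mul_i_mul' (α β : T ⟶ G.R) (h : α ≫ G.s = (β ≫ G.i) ≫ G.t)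
    (h' : mul G α (β ≫ G.i) h ≫ G.s = β ≫ G.t) :
    mul G (mul G α (β ≫ G.i) h) β h' = α := by
  have h1 : (β ≫ G.i) ≫ G.s = β ≫ G.t := by rw [Category.assoc, G.i_s]
  rw [mul_assoc G α (β ≫ G.i) β h h1 _ (by rw [mul_t, h])]
  refine (mul_congr G rfl (i_mul G β h1) _ ?_).trans (mul_e G α _ ?_ _)
  · rw [Category.assoc, Category.assoc, G.e_t, Category.comp_id, h, Category.assoc, G.i_t]
  · rw [← Category.assoc, ← Category.assoc, h, Category.assoc β G.i G.t, G.i_t]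

end Groth.Agent.Lib.Helper72.GrpdPts
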