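import Groth.Agent.Lib.Helper77.FlatDepth2
import Groth.Agent.Lib.Helper4.GorCM
import Groth.Agent.Lib.Helper56.FibreCM
import Groth.Agent.Lib.Helper11.CMLocalize
import Mathlib

/-!
# Existence of a Cohen–Macaulay maximal ideal in a finite-dimensional noetherian Jacobson ring
(helper72)
-/

set_option autoImplicit false
universe u

namespace Groth.Agent.Lib.Helper72.CMPoint

open LocCoh IsLocalRing
open Groth.Agent.Lib.Helper77.FlatDepth

/-- a noetherian local ring of dimension `0` is Cohen–Macaulay -/
theorem isCM_of_dim_zero (R : Type u) [CommRing R] [IsLocalRing R] [IsNoetherianRing R]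
    (h : ringKrullDim R = 0) : IsCohenMacaulayLocalRing R := by
  obtain ⟨e, he⟩ := exists_nat_depth R
  have h0 : ringKrullDim R = ((0 : ℕ) : WithBot ℕ∞) := by simpa using h
  have hle := depth_le_dim_nat R 0 e h0 he
  rw [isCM_iff_nat R 0 e h0 he]
  omega

/-- if `f` is a regular element of the maximal ideal and `R/f` is Cohen–Macaulay then so is `R` -/
theorem isCM_of_quotient (R : Type u) [CommRing R] [IsLocalRing R] [IsNoetherianRing R] (f : R)
    (hfm : f ∈ maximalIdeal R) (hf : IsSMulRegular R f)
    (h : IsCohenMacaulayLocalRing (R ⧸ Ideal.span {f})) : IsCohenMacaulayLocalRing R := by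
  have hL : IsLocalRing (R ⧸ Ideal.span {f}) := h.toIsLocalRing
  obtain ⟨d, hd⟩ := exists_nat_dim (R ⧸ Ideal.span {f})
  obtain ⟨e, he⟩ := exists_nat_depth (R ⧸ Ideal.span {f})
  have hde := (isCM_iff_nat _ d e hd he).mp h
  have h1 := Groth.Agent.Lib.Helper4.GorCM.depth_quot_add_one R f hfm hf
  have h2 := ringKrullDim_quotient_span_singleton_succ_eq_ringKrullDim hf hfm
  rw [he] at h1
  rw [hd] at h2
  rw [isCM_iff_nat R (d + 1) (e + 1) (by rw [← h2]; push_cast; rfl) (by rw [← h1]; push_cast; rfl)]
  omega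

/-- in a noetherian Jacobson ring in which every nonzerodivisor is a unit, every prime is maximal -/
theorem krullDimLE_zero_of_forall_isUnit (B : Type u) [CommRing B] [IsNoetherianRing B]
    [IsJacobsonRing B] (h : ∀ f : B, f ∈ nonZeroDivisors B → IsUnit f) : Ring.KrullDimLE 0 B := by
  classical
  rw [Ring.krullDimLE_zero_iff]
  intro P hP
  have hfin := associatedPrimes.finite B B
  have hmax : ∀ m : Ideal B, m.IsMaximal → m ∈ associatedPrimes B B := by
    intro m hm
    have hsub : (m : Set B) ⊆ ⋃ p ∈ associatedPrimes B B, (p : Set B) := by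
      rw [biUnion_associatedPrimes_eq_compl_nonZeroDivisors]
      intro x hx hx'
      exact hm.ne_top (Ideal.eq_top_of_isUnit_mem _ hx (h x hx'))
    have hsub' : (m : Set B) ⊆ ⋃ i ∈ (↑hfin.toFinset : Set (Ideal B)), ((id i : Ideal B) : Set B) := by
      simpa using hsub
    obtain ⟨p, hp, hmp⟩ := (Ideal.subset_union_prime (s := hfin.toFinset) (f := id) ⊥ ⊥
      (fun i hi _ _ => by
        have : i ∈ associatedPrimes B B := by simpa using hi
        exact this.isPrime)).mp hsub'
    have hp' : p ∈ associatedPrimes B B := by simpa using hp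
    have : m = p := hm.eq_of_le (hp'.isPrime.ne_top) hmp
    rwa [this]
  have hJ : P.jacobson = P := IsJacobsonRing.out' P hP.isRadical
  let F : Finset (Ideal B) := hfin.toFinset.filter (fun J => P ≤ J ∧ J.IsMaximal)
  have hF : F.inf id ≤ P.jacobson := by
    refine le_sInf ?_
    rintro J ⟨hPJ, hJmax⟩
    have hJF : J ∈ F := by
      simp only [F, Finset.mem_filter, Set.Finite.mem_toFinset]
      exact ⟨hmax J hJmax, hPJ, hJmax⟩
    exact Finset.inf_le (f := id) hJF
  rw [hJ] at hF
  obtain ⟨J, hJF, hJP⟩ := (hP.inf_le').mp hF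
  simp only [F, Finset.mem_filter, Set.Finite.mem_toFinset] at hJF
  have : P = J := le_antisymm hJF.2.1 hJP
  rw [this]
  exact hJF.2.2

/-- the dimension zero case -/
theorem exists_of_krullDimLE_zero (B : Type u) [CommRing B] [IsNoetherianRing B] [Nontrivial B]
    [Ring.KrullDimLE 0 B] :
    ∃ m : Ideal B, ∃ _ : m.IsMaximal, IsCohenMacaulayLocalRing (Localization.AtPrime m) := by
  obtain ⟨m, hm⟩ := Ideal.exists_maximal B
  refine ⟨m, hm, ?_⟩
  haveI : IsNoetherianRing (Localization.AtPrime m) :=
    IsLocalization.isNoetherianRing m.primeCompl _ inferInstance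
  apply isCM_of_dim_zero
  apply le_antisymm
  · rw [IsLocalization.AtPrime.ringKrullDim_eq_height m]
    exact (Ideal.height_le_ringKrullDim_of_ne_top hm.ne_top).trans
      (by simpa using (Ring.krullDimLE_iff (n := 0) (R := B)).mp inferInstance)
  · exact ringKrullDim_nonneg_of_nontrivial

/-- the induction step: lifting a Cohen–Macaulay maximal ideal from `B/f` to `B` -/
theorem step (B : Type u) [CommRing B] [IsNoetherianRing B] (f : B) (hf : f ∈ nonZeroDivisors B)
    (m' : Ideal (B ⧸ Ideal.span {f})) [hm' : m'.IsMaximal]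
    (hCM : IsCohenMacaulayLocalRing (Localization.AtPrime m')) :
    ∃ m : Ideal B, ∃ _ : m.IsMaximal, IsCohenMacaulayLocalRing (Localization.AtPrime m) := by
  let I : Ideal B := Ideal.span {f}
  let m : Ideal B := m'.comap (Ideal.Quotient.mk I)
  have hm : m.IsMaximal := Ideal.comap_isMaximal_of_surjective _ Ideal.Quotient.mk_surjective
  refine ⟨m, hm, ?_⟩
  let R := Localization.AtPrime m
  haveI : IsNoetherianRing R := IsLocalization.isNoetherianRing m.primeCompl _ inferInstance
  have hloc : IsLocalization (Algebra.algebraMapSubmonoid (B ⧸ I) m.primeCompl)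
      (R ⧸ I.map (algebraMap B R)) := inferInstance
  have hsub : Algebra.algebraMapSubmonoid (B ⧸ I) m.primeCompl = m'.primeCompl := by
    ext x
    constructor
    · rintro ⟨b, hb, rfl⟩
      exact hb
    · intro hx
      obtain ⟨b, rfl⟩ := Ideal.Quotient.mk_surjective x
      exact ⟨b, hx, rfl⟩
  have hloc' : IsLocalization m'.primeCompl (R ⧸ I.map (algebraMap B R)) := hsub ▸ hloc
  let e : Localization.AtPrime m' ≃ₐ[B ⧸ I] (R ⧸ I.map (algebraMap B R)) :=
    IsLocalization.algEquiv m'.primeCompl _ _
  have hCM2 : IsCohenMacaulayLocalRing (R ⧸ I.map (algebraMap B R)) :=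
    Groth.Agent.Lib.Helper56.isCohenMacaulayLocalRing_of_ringEquiv e.toRingEquiv hCM
  have hmap : I.map (algebraMap B R) = Ideal.span {algebraMap B R f} := by
    simp [I, Ideal.map_span]
  have hCM3 : IsCohenMacaulayLocalRing (R ⧸ Ideal.span {algebraMap B R f}) :=
    Groth.Agent.Lib.Helper56.isCohenMacaulayLocalRing_of_ringEquiv (Ideal.quotEquivOfEq hmap) hCM2
  apply isCM_of_quotient R (algebraMap B R f) ?_ ?_ hCM3
  · rw [IsLocalization.AtPrime.to_map_mem_maximal_iff R m]
    show Ideal.Quotient.mk I f ∈ m'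
    rw [Ideal.Quotient.eq_zero_iff_mem.mpr (Ideal.mem_span_singleton_self f)]
    exact zero_mem _
  · have h1 : algebraMap B R f ∈ nonZeroDivisors R :=
      IsLocalization.map_nonZeroDivisors_le m.primeCompl R ⟨f, hf, rfl⟩
    intro a b hab
    simp only [smul_eq_mul] at hab
    have h2 : (a - b) * algebraMap B R f = 0 := by
      rw [sub_mul, mul_comm a, mul_comm b, hab, sub_self]
    exact sub_eq_zero.mp ((mem_nonZeroDivisors_iff_right.mp h1) _ h2)

/-- **Main algebraic statement**: a nontrivial noetherian Jacobson ring of finite Krull dimension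
has a maximal ideal at which it is Cohen–Macaulay. -/
theorem exists_maximal_CM (n : ℕ) : ∀ (B : Type u) [CommRing B] [IsNoetherianRing B]
    [IsJacobsonRing B] [Nontrivial B], ringKrullDim B ≤ n →
    ∃ m : Ideal B, ∃ _ : m.IsMaximal, IsCohenMacaulayLocalRing (Localization.AtPrime m) := by
  induction n with
  | zero =>
    intro B _ _ _ _ h
    haveI : Ring.KrullDimLE 0 B := Ring.krullDimLE_iff.mpr (by simpa using h)
    exact exists_of_krullDimLE_zero B
  | succ n ih =>
    intro B _ _ _ _ h
    by_cases hu : ∀ f : B, f ∈ nonZeroDivisors B → IsUnit f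
    · haveI := krullDimLE_zero_of_forall_isUnit B hu
      exact exists_of_krullDimLE_zero B
    · push Not at hu
      obtain ⟨f, hf, hfu⟩ := hu
      have hne : Ideal.span {f} ≠ ⊤ := by
        rwa [Ne, Ideal.span_singleton_eq_top]
      haveI : Nontrivial (B ⧸ Ideal.span {f}) := Ideal.Quotient.nontrivial_iff.mpr hne
      haveI : IsJacobsonRing (B ⧸ Ideal.span {f}) :=
        isJacobsonRing_of_surjective ⟨Ideal.Quotient.mk _, Ideal.Quotient.mk_surjective⟩
      have hdim : ringKrullDim (B ⧸ Ideal.span {f}) ≤ n := by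
        have h1 := ringKrullDim_quotient_succ_le_of_nonZeroDivisor hf
        have h2 : ringKrullDim (B ⧸ Ideal.span {f}) + 1 ≤ (n : WithBot ℕ∞) + 1 :=
          h1.trans (by simpa using h)
        exact Groth.Agent.Lib.Helper67.withBot_enat_le_of_add_one_le h2
      obtain ⟨m', hm', hCM⟩ := ih (B ⧸ Ideal.span {f}) hdim
      exact step B f hf m' hCM

end Groth.Agent.Lib.Helper72.CMPoint
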