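import Groth.Agent.Lib.Helper73.DimFT.Scheme
import Groth.Agent.Lib.Helper84.TopDim

/-!
# Schemes locally of finite type over a field whose local dimension is constant on closed points
-/

set_option autoImplicit false

universe u

namespace Groth.Agent.Lib.Helper72.DimLFT

open AlgebraicGeometry CategoryTheory CategoryTheory.Limits
open Groth.Agent.Lib.Helper73

lemma localDim_mono_of_specializes {X : Type*} [TopologicalSpace X] {x y : X} (h : x ⤳ y) :
    FlatMor.localDim X x ≤ FlatMor.localDim X y := by
  unfold FlatMor.localDim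
  refine le_iInf fun U => ?_
  exact iInf_le (fun U : {U : TopologicalSpace.Opens X // x ∈ U} =>
    topologicalKrullDim ↥(U.1 : Set X)) ⟨U.1, h.mem_open U.1.isOpen U.2⟩

lemma localDim_le_of_homeomorph {X Y : Type*} [TopologicalSpace X] [TopologicalSpace Y]
    (φ : X ≃ₜ Y) (x : X) : FlatMor.localDim X x ≤ FlatMor.localDim Y (φ x) := by
  unfold FlatMor.localDim
  refine le_iInf fun V => ?_
  let U : {U : TopologicalSpace.Opens X // x ∈ U} :=
    ⟨⟨φ ⁻¹' V.1, V.1.isOpen.preimage φ.continuous⟩, V.2⟩
  refine (iInf_le _ U).trans (le_of_eq ?_)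
  exact IsHomeomorph.topologicalKrullDim_eq _
    (φ.subtype (p := fun a => a ∈ φ ⁻¹' (V.1 : Set Y)) (q := fun b => b ∈ (V.1 : Set Y))
      (fun _ => Iff.rfl)).isHomeomorph

/-- The local dimension is a topological invariant. -/
lemma localDim_homeomorph {X Y : Type*} [TopologicalSpace X] [TopologicalSpace Y]
    (φ : X ≃ₜ Y) (x : X) : FlatMor.localDim X x = FlatMor.localDim Y (φ x) := by
  apply le_antisymm (localDim_le_of_homeomorph φ x)
  have := localDim_le_of_homeomorph φ.symm (φ x)
  rwa [φ.symm_apply_apply] at this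

section LFT

variable {k : Type u} [Field k] {X : Scheme.{u}} (f : X ⟶ Spec (CommRingCat.of k))
  [LocallyOfFiniteType f]
include f

lemma isClosed_singleton_of_trdegNat_eq_zero {x : X} (h : trdegNat f x = 0) :
    IsClosed ({x} : Set X) := by
  rw [← closure_subset_iff_isClosed]
  intro y hy
  have hxy : x ⤳ y := specializes_iff_mem_closure.2 hy
  by_contra hne
  have := (isDimFun_trdegNat f).lt_of_specializes hxy (fun e => hne (by rw [e]; rfl))
  omega

lemma exists_specializes_isClosed {W : Set X} (hW : IsOpen W) {x : X} (hx : x ∈ W) :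
    ∃ y ∈ W, x ⤳ y ∧ IsClosed ({y} : Set X) := by
  obtain ⟨y, hyW, hxy, hy0⟩ := (isDimFun_trdegNat f).exists_specializes_zero hW hx
  exact ⟨y, hyW, hxy, isClosed_singleton_of_trdegNat_eq_zero f hy0⟩

lemma trdegNat_le_localDim (x : X) :
    ((trdegNat f x : ℕ∞) : WithBot ℕ∞) ≤ FlatMor.localDim X x := by
  unfold FlatMor.localDim
  refine le_iInf fun U => ?_
  rw [topologicalKrullDim_open_eq_iSup_trdegNat f U.1.isOpen]
  exact le_iSup (fun y : ↥(U.1 : Set X) => ((trdegNat f y.1 : ℕ∞) : WithBot ℕ∞)) ⟨x, U.2⟩

/-- At a closed point, the local dimension is the dimension of the local ring. -/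
theorem ringKrullDim_stalk_eq_localDim {r : X} (hr : IsClosed ({r} : Set X)) :
    ringKrullDim (X.presheaf.stalk r) = FlatMor.localDim X r := by
  rw [localDim_eq f r, trdegNat_eq_zero_of_isClosed f hr]
  simp

variable (d : WithBot ℕ∞) (hd : ∀ r : X, IsClosed ({r} : Set X) → FlatMor.localDim X r = d)
include hd

/-- If the local dimension is constant on closed points it is constant. -/
theorem localDim_eq_of_forall_closed (x : X) : FlatMor.localDim X x = d := by
  apply le_antisymm
  · obtain ⟨y, -, hxy, hy⟩ := exists_specializes_isClosed f isOpen_univ (Set.mem_univ x)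
    exact (localDim_mono_of_specializes hxy).trans (hd y hy).le
  · unfold FlatMor.localDim
    refine le_iInf fun U => ?_
    obtain ⟨y, hyU, -, hy⟩ := exists_specializes_isClosed f U.1.isOpen U.2
    rw [← hd y hy]
    unfold FlatMor.localDim
    exact iInf_le (fun U : {U : TopologicalSpace.Opens X // y ∈ U} =>
      topologicalKrullDim ↥(U.1 : Set X)) ⟨U.1, hyU⟩

theorem dim_eq_of_forall_closed [Nonempty X] : topologicalKrullDim X = d := by
  apply le_antisymm
  · rw [topologicalKrullDim_eq_iSup_trdegNat f]
    refine iSup_le fun x => ?_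
    exact (trdegNat_le_localDim f x).trans (localDim_eq_of_forall_closed f d hd x).le
  · obtain ⟨x⟩ := ‹Nonempty X›
    rw [← localDim_eq_of_forall_closed f d hd x]
    exact Groth.Agent.Lib.Helper84.localDim_le_dim x

theorem dim_component_eq_of_forall_closed {Z : Set X} (hZ : Z ∈ irreducibleComponents X) :
    topologicalKrullDim ↥Z = d := by
  obtain ⟨η, hη⟩ := QuasiSober.sober hZ.1 (isClosed_of_mem_irreducibleComponents Z hZ)
  rw [← hη.def, (isDimFun_trdegNat f).topologicalKrullDim_closure_singleton η]
  have hmax : IsMax η := by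
    intro b hb
    have hbη : b ⤳ η := hb
    show η ⤳ b
    have hsub : Z ⊆ closure {b} := by
      rw [← hη.def]
      exact specializes_iff_closure_subset.1 hbη
    have h2 : closure {b} ⊆ Z := hZ.2 isIrreducible_singleton.closure hsub
    rw [specializes_iff_mem_closure, hη.def]
    exact h2 (subset_closure rfl)
  have h1 := localDim_eq f η
  rw [localDim_eq_of_forall_closed f d hd η, ringKrullDim_stalk_eq_coheight,
    Order.coheight_eq_zero.2 hmax] at h1
  rw [h1]
  simp

end LFT

end Groth.Agent.Lib.Helper72.DimLFT
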