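import Groth.Agent.S9634
import Groth.Agent.S4628
import Mathlib.AlgebraicGeometry.Geometrically.Reduced
import Mathlib.FieldTheory.PurelyInseparable.Basic
import Mathlib.FieldTheory.Perfect

/-!
# Reduced schemes over a perfect field are geometrically reduced

* `isReduced_tensor_of_perfectField`: `K ⊗[k] S` is reduced for `S` a reduced algebra over a perfect
  field `k` and `K/k` any field extension.
* `geometricallyReduced_of_perfectField`: a reduced scheme over the spectrum of a perfect field is
  geometrically reduced.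
* `isReduced_pullback_of_perfectField`: fibre products of reduced schemes over (a scheme isomorphic
  to) the spectrum of a perfect field are reduced.
-/

set_option autoImplicit false

universe u

open CategoryTheory CategoryTheory.Limits AlgebraicGeometry TensorProduct

namespace Groth.Agent.Lib.Helper72.PerfectReduced

theorem isReduced_tensor_of_perfectField {k S : Type u} [Field k] [PerfectField k] [CommRing S]
    [Algebra k S] [_root_.IsReduced S] (K : Type u) [Field K] [Algebra k K] :
    _root_.IsReduced (K ⊗[k] S) := by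
  have h1 : ∀ (k' : Type u) [Field k'] [Algebra k k'] [Module.Finite k k']
      [IsPurelyInseparable k k'], _root_.IsReduced (k' ⊗[k] S) := by
    intro k' _ _ _ _
    have hbij : Function.Bijective (algebraMap k k') :=
      ⟨(algebraMap k k').injective,
        IsPurelyInseparable.surjective_algebraMap_of_isSeparable k k'⟩
    let e : k ≃ₐ[k] k' := AlgEquiv.ofBijective (Algebra.ofId k k') hbij
    let e1 : k' ⊗[k] S ≃+* k ⊗[k] S :=
      (Algebra.TensorProduct.congr e.symm (AlgEquiv.refl : S ≃ₐ[k] S)).toRingEquiv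
    let e2 : k ⊗[k] S ≃+* S := (Algebra.TensorProduct.lid k S).toRingEquiv
    exact isReduced_of_injective (e1.trans e2).toRingHom (e1.trans e2).injective
  have h3 := (Groth.Agent.S9634.result (k := k) (S := S)).out 0 2
  exact h3.1 h1 K

theorem isReduced_pullback_affine {k : Type u} [Field k] [PerfectField k] {U : Scheme.{u}}
    [IsAffine U] [AlgebraicGeometry.IsReduced U] (a : U ⟶ Spec (CommRingCat.of k))
    (K : Type u) [Field K] (y : Spec (CommRingCat.of K) ⟶ Spec (CommRingCat.of k)) :
    AlgebraicGeometry.IsReduced (pullback a y) := by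
  obtain ⟨φ, hφ⟩ := Spec.map_surjective (U.isoSpec.inv ≫ a)
  obtain ⟨ψ, rfl⟩ := Spec.map_surjective y
  have ha : a = U.isoSpec.hom ≫ Spec.map φ := by rw [hφ]; simp
  let i : pullback a (Spec.map ψ) ⟶ pullback (Spec.map φ) (Spec.map ψ) :=
    pullback.map _ _ _ _ U.isoSpec.hom (𝟙 _) (𝟙 _) (by simp [ha]) (by simp)
  haveI : IsIso i := by dsimp only [i]; infer_instance
  suffices AlgebraicGeometry.IsReduced (pullback (Spec.map φ) (Spec.map ψ)) from
    isReduced_of_isOpenImmersion i
  haveI : _root_.IsReduced Γ(U, ⊤) := inferInstance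
  algebraize [φ.hom, ψ.hom]
  have h1 : _root_.IsReduced (K ⊗[k] Γ(U, ⊤)) := isReduced_tensor_of_perfectField K
  have h2 : _root_.IsReduced (Γ(U, ⊤) ⊗[k] K) :=
    isReduced_of_injective (Algebra.TensorProduct.comm k Γ(U, ⊤) K).toRingEquiv.toRingHom
      (Algebra.TensorProduct.comm k Γ(U, ⊤) K).injective
  have h3 : AlgebraicGeometry.IsReduced (Spec (CommRingCat.of (Γ(U, ⊤) ⊗[k] K))) :=
    inferInstance
  exact isReduced_of_isOpenImmersion (pullbackSpecIso k Γ(U, ⊤) K).hom

theorem geometricallyReduced_of_perfectField {k : Type u} [Field k] [PerfectField k]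
    {Z : Scheme.{u}} [AlgebraicGeometry.IsReduced Z] (f : Z ⟶ Spec (CommRingCat.of k)) :
    GeometricallyReduced f := by
  refine ⟨geometrically_iff_of_isClosedUnderIsomorphisms.mpr fun K _ y ↦ ?_⟩
  refine @IsReduced.of_openCover _ (Scheme.Pullback.openCoverOfLeft Z.affineCover f y) ?_
  intro (i : Z.affineCover.I₀)
  change AlgebraicGeometry.IsReduced (pullback (Z.affineCover.f i ≫ f) y)
  haveI : AlgebraicGeometry.IsReduced (Z.affineCover.X i) :=
    isReduced_of_isOpenImmersion (Z.affineCover.f i)
  exact isReduced_pullback_affine (Z.affineCover.f i ≫ f) K y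

theorem isReduced_pullback_of_perfectField {k : Type u} [Field k] [PerfectField k]
    {U Z₁ Z₂ : Scheme.{u}} (eU : U ≅ Spec (CommRingCat.of k)) (a : Z₁ ⟶ U) (b : Z₂ ⟶ U)
    [AlgebraicGeometry.IsReduced Z₁] [AlgebraicGeometry.IsReduced Z₂] :
    AlgebraicGeometry.IsReduced (pullback a b) := by
  haveI := geometricallyReduced_of_perfectField (a ≫ eU.hom)
  haveI : AlgebraicGeometry.IsReduced (pullback (a ≫ eU.hom) (b ≫ eU.hom)) :=
    Groth.Agent.S4628.result (a ≫ eU.hom) (b ≫ eU.hom)
  let i : pullback a b ⟶ pullback (a ≫ eU.hom) (b ≫ eU.hom) :=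
    pullback.map a b (a ≫ eU.hom) (b ≫ eU.hom) (𝟙 _) (𝟙 _) eU.hom (by simp) (by simp)
  haveI : IsIso i := by dsimp only [i]; infer_instance
  exact isReduced_of_isOpenImmersion i

end Groth.Agent.Lib.Helper72.PerfectReduced
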