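import Groth.Agent.Lib.Helper72.GrpdOfGrp
import Groth.Agent.Lib.Helper72.GrpdTranslate
import Groth.Agent.Lib.Helper51.GeomIrr
import Groth.Agent.Lib.Helper51.IrrComp
import Groth.Agent.S2285

/-!
# Irreducible components of group schemes over a field
-/

set_option autoImplicit false

universe u

namespace Groth.Agent.Lib.Helper72.GrpComp

open AlgebraicGeometry CategoryTheory CategoryTheory.Limits MonoidalCategory
  CartesianMonoidalCategory MonObj GrpObj

section closedSub

variable {X : Scheme.{u}}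

/-- The reduced induced closed subscheme on a closed subset. -/
theorem exists_reduced_closedSubscheme (Z : Set X) (hZ : IsClosed Z) :
    ∃ (Y : Scheme.{u}) (j : Y ⟶ X), IsClosedImmersion j ∧ AlgebraicGeometry.IsReduced Y ∧
      Set.range j = Z ∧
      ∀ {W : Scheme.{u}} [AlgebraicGeometry.IsReduced W] (h : W ⟶ X), Set.range h ⊆ Z →
        ∃ g : W ⟶ Y, g ≫ j = h := by
  refine ⟨(Scheme.IdealSheafData.vanishingIdeal ⟨Z, hZ⟩).subscheme,
    (Scheme.IdealSheafData.vanishingIdeal ⟨Z, hZ⟩).subschemeι, inferInstance,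
    Groth.Agent.S2285.isReduced_subscheme_vanishingIdeal _, ?_, ?_⟩
  · rw [Scheme.IdealSheafData.range_subschemeι,
      Scheme.IdealSheafData.coe_support_vanishingIdeal]
    rfl
  · intro W _ h hh
    have hker : ((Scheme.IdealSheafData.vanishingIdeal ⟨Z, hZ⟩).subschemeι).ker ≤ h.ker := by
      rw [Scheme.IdealSheafData.ker_subschemeι, ← Scheme.IdealSheafData.map_bot h,
        ← Scheme.nilradical_eq_bot, ← Scheme.IdealSheafData.vanishingIdeal_top,
        Scheme.IdealSheafData.map_vanishingIdeal]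
      apply Scheme.IdealSheafData.vanishingIdeal_antimono
      intro x hx
      change x ∈ closure (h '' Set.univ) at hx
      rw [Set.image_univ] at hx
      exact closure_minimal hh hZ hx
    exact ⟨IsClosedImmersion.lift _ h hker, IsClosedImmersion.lift_fac _ _ _⟩

theorem irreducibleSpace_of_range {Y : Scheme.{u}} (j : Y ⟶ X) [IsClosedImmersion j]
    (h : IsIrreducible (Set.range j)) : IrreducibleSpace Y := by
  have : IrreducibleSpace (Set.range j) := Subtype.irreducibleSpace h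
  exact (j.isEmbedding.toHomeomorph).irreducibleSpace_iff.2 inferInstance

end closedSub

section stalk

variable {X : Scheme.{u}}

/-- The point of `X` attached to a minimal prime of the local ring at `x` is the generic point of an
irreducible component through `x`. -/
theorem closure_mem_irreducibleComponents_of_minimalPrime (x : X)
    (p : PrimeSpectrum (X.presheaf.stalk x)) (hp : p.asIdeal ∈ minimalPrimes (X.presheaf.stalk x)) :
    closure {X.fromSpecStalk x p} ∈ irreducibleComponents X ∧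
      x ∈ closure {X.fromSpecStalk x p} := by
  have hyx : X.fromSpecStalk x p ⤳ x := by
    have : X.fromSpecStalk x p ∈ Set.range (X.fromSpecStalk x) := ⟨p, rfl⟩
    rw [Scheme.range_fromSpecStalk] at this
    exact this
  refine ⟨⟨isIrreducible_singleton.closure, ?_⟩, specializes_iff_mem_closure.1 hyx⟩
  intro T hT hsub
  obtain ⟨w, hw⟩ := QuasiSober.sober hT.closure isClosed_closure
  have hwy : w ⤳ X.fromSpecStalk x p := by
    rw [specializes_iff_mem_closure, hw.def]
    exact subset_closure (hsub (subset_closure rfl))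
  have hwx : w ⤳ x := hwy.trans hyx
  obtain ⟨q, rfl⟩ : w ∈ Set.range (X.fromSpecStalk x) := by
    rw [Scheme.range_fromSpecStalk]; exact hwx
  have hqp : q ⤳ p := (X.fromSpecStalk x).isEmbedding.isInducing.specializes_iff.1 hwy
  have hle : q.asIdeal ≤ p.asIdeal := (PrimeSpectrum.le_iff_specializes q p).2 hqp
  rw [minimalPrimes_eq_minimals] at hp
  have hpq : p.asIdeal ≤ q.asIdeal := hp.2 q.isPrime hle
  have : q = p := PrimeSpectrum.ext (le_antisymm hle hpq)
  rw [this] at hw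
  rw [hw.def]
  exact subset_closure

/-- If `x` lies on a unique irreducible component, the local ring at `x` has at most one minimal
prime. -/
theorem minimalPrimes_subsingleton_of_unique (x : X)
    (huniq : ∀ Z₁ ∈ irreducibleComponents X, ∀ Z₂ ∈ irreducibleComponents X,
      x ∈ Z₁ → x ∈ Z₂ → Z₁ = Z₂) : (minimalPrimes (X.presheaf.stalk x)).Subsingleton := by
  intro p₁ hp₁ p₂ hp₂
  have hp₁' : p₁.IsPrime := hp₁.1.1
  have hp₂' : p₂.IsPrime := hp₂.1.1
  obtain ⟨h₁, hx₁⟩ := closure_mem_irreducibleComponents_of_minimalPrime x ⟨p₁, hp₁'⟩ hp₁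
  obtain ⟨h₂, hx₂⟩ := closure_mem_irreducibleComponents_of_minimalPrime x ⟨p₂, hp₂'⟩ hp₂
  have h := huniq _ h₁ _ h₂ hx₁ hx₂
  have h3 : X.fromSpecStalk x ⟨p₁, hp₁'⟩ = X.fromSpecStalk x ⟨p₂, hp₂'⟩ := by
    refine ((specializes_iff_closure_subset.2 ?_).antisymm
      (specializes_iff_closure_subset.2 ?_)).eq
    · rw [h]
    · rw [h]
  have h4 := (X.fromSpecStalk x).isEmbedding.injective h3
  exact congrArg PrimeSpectrum.asIdeal h4

end stalk

section stepA

variable {K : Type u} [Field K] (G : Over (Spec (CommRingCat.of K))) [GrpObj G]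

/-- The unit section as a morphism of schemes. -/
noncomputable def unitS : Spec (CommRingCat.of K) ⟶ G.left := η[G].left

/-- The identity point of a group scheme over a field. -/
noncomputable def ePt : G.left := unitS G (IsLocalRing.closedPoint K)

lemma range_unit : Set.range (unitS G) = {ePt G} := by
  ext z
  constructor
  · rintro ⟨p, rfl⟩
    have : p = IsLocalRing.closedPoint K := Subsingleton.elim (α := PrimeSpectrum K) _ _
    rw [this]; rfl
  · rintro rfl
    exact ⟨_, rfl⟩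

@[reassoc (attr := simp)]
lemma unit_hom : unitS G ≫ G.hom = 𝟙 (Spec (CommRingCat.of K)) := Over.w η[G]

lemma unit_cond {T : Scheme.{u}} (α : T ⟶ G.left) :
    α ≫ G.hom = ((α ≫ G.hom) ≫ unitS G) ≫ G.hom := by
  rw [Category.assoc (α ≫ G.hom), unit_hom]
  exact (Category.comp_id _).symm

/-- right unit law on points. -/
lemma lift_unit_mul {T : Scheme.{u}} (α : T ⟶ G.left) :
    pullback.lift α ((α ≫ G.hom) ≫ unitS G) (unit_cond G α) ≫ μ[G].left = α := by
  let a := GrpdPts.ptOver G (α ≫ G.hom) α rfl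
  exact congrArg CommaMorphism.left (mul_one a)

/-- left unit law on points. -/
lemma lift_mul_unit {T : Scheme.{u}} (α : T ⟶ G.left) :
    pullback.lift ((α ≫ G.hom) ≫ unitS G) α (unit_cond G α).symm ≫ μ[G].left = α := by
  let a := GrpdPts.ptOver G (α ≫ G.hom) α rfl
  exact congrArg CommaMorphism.left (one_mul a)

set_option backward.isDefEq.respectTransparency false in
theorem eq_of_mem_of_isSepClosed [IsSepClosed K] {Z₁ Z₂ : Set G.left}
    (h₁ : Z₁ ∈ irreducibleComponents G.left) (h₂ : Z₂ ∈ irreducibleComponents G.left)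
    (he₁ : ePt G ∈ Z₁) (he₂ : ePt G ∈ Z₂) : Z₁ = Z₂ := by
  obtain ⟨Y₁, j₁, hj₁, hred₁, hr₁, hl₁⟩ :=
    exists_reduced_closedSubscheme Z₁ (isClosed_of_mem_irreducibleComponents Z₁ h₁)
  obtain ⟨Y₂, j₂, hj₂, hred₂, hr₂, hl₂⟩ :=
    exists_reduced_closedSubscheme Z₂ (isClosed_of_mem_irreducibleComponents Z₂ h₂)
  have : IrreducibleSpace Y₁ := irreducibleSpace_of_range j₁ (hr₁ ▸ h₁.1)
  have : IrreducibleSpace Y₂ := irreducibleSpace_of_range j₂ (hr₂ ▸ h₂.1)
  obtain ⟨e₁, he₁'⟩ := hl₁ (unitS G) (by rw [range_unit]; exact Set.singleton_subset_iff.2 he₁)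
  obtain ⟨e₂, he₂'⟩ := hl₂ (unitS G) (by rw [range_unit]; exact Set.singleton_subset_iff.2 he₂)
  have : GeometricallyIrreducible (j₁ ≫ G.hom) :=
    Groth.Agent.Lib.Helper51.geometricallyIrreducible_of_isSepClosed _
  have : IrreducibleSpace ↥(pullback (j₁ ≫ G.hom) (j₂ ≫ G.hom)) := inferInstance
  let φ : pullback (j₁ ≫ G.hom) (j₂ ≫ G.hom) ⟶ G.left :=
    pullback.map (j₁ ≫ G.hom) (j₂ ≫ G.hom) G.hom G.hom j₁ j₂ (𝟙 _) (by simp) (by simp) ≫
      μ[G].left
  have hT : IsIrreducible (closure (Set.range φ)) := by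
    rw [← Set.image_univ]
    exact ((IrreducibleSpace.isIrreducible_univ _).image φ φ.continuous.continuousOn).closure
  have hsub₁ : Z₁ ⊆ closure (Set.range φ) := by
    refine subset_trans ?_ subset_closure
    rw [← hr₁]
    rintro _ ⟨y, rfl⟩
    have hc : 𝟙 Y₁ ≫ j₁ ≫ G.hom = ((j₁ ≫ G.hom) ≫ e₂) ≫ j₂ ≫ G.hom := by
      rw [Category.id_comp, Category.assoc (j₁ ≫ G.hom), reassoc_of% he₂', unit_hom]
      exact (Category.comp_id _).symm
    have hs : pullback.lift (𝟙 Y₁) ((j₁ ≫ G.hom) ≫ e₂) hc ≫ φ = j₁ := by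
      have h3 : pullback.lift (𝟙 Y₁) ((j₁ ≫ G.hom) ≫ e₂) hc ≫
          pullback.map (j₁ ≫ G.hom) (j₂ ≫ G.hom) G.hom G.hom j₁ j₂ (𝟙 _) (by simp) (by simp) =
          pullback.lift j₁ ((j₁ ≫ G.hom) ≫ unitS G) (unit_cond G j₁) := by
        apply pullback.hom_ext
        · simp <;> exact Category.id_comp _
        · simp [he₂']
      show pullback.lift (𝟙 Y₁) ((j₁ ≫ G.hom) ≫ e₂) hc ≫ (_ ≫ _) = _
      rw [← Category.assoc, h3]
      exact lift_unit_mul G j₁
    exact ⟨pullback.lift (𝟙 Y₁) ((j₁ ≫ G.hom) ≫ e₂) hc y, by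
      rw [← Scheme.Hom.comp_apply, hs]⟩
  have hsub₂ : Z₂ ⊆ closure (Set.range φ) := by
    refine subset_trans ?_ subset_closure
    rw [← hr₂]
    rintro _ ⟨y, rfl⟩
    have hc : ((j₂ ≫ G.hom) ≫ e₁) ≫ j₁ ≫ G.hom = 𝟙 Y₂ ≫ j₂ ≫ G.hom := by
      rw [Category.id_comp, Category.assoc (j₂ ≫ G.hom), reassoc_of% he₁', unit_hom]
      exact Category.comp_id _
    have hs : pullback.lift ((j₂ ≫ G.hom) ≫ e₁) (𝟙 Y₂) hc ≫ φ = j₂ := by
      have h3 : pullback.lift ((j₂ ≫ G.hom) ≫ e₁) (𝟙 Y₂) hc ≫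
          pullback.map (j₁ ≫ G.hom) (j₂ ≫ G.hom) G.hom G.hom j₁ j₂ (𝟙 _) (by simp) (by simp) =
          pullback.lift ((j₂ ≫ G.hom) ≫ unitS G) j₂ (unit_cond G j₂).symm := by
        apply pullback.hom_ext
        · simp [he₁']
        · simp <;> exact Category.id_comp _
      show pullback.lift ((j₂ ≫ G.hom) ≫ e₁) (𝟙 Y₂) hc ≫ (_ ≫ _) = _
      rw [← Category.assoc, h3]
      exact lift_mul_unit G j₂
    exact ⟨pullback.lift ((j₂ ≫ G.hom) ≫ e₁) (𝟙 Y₂) hc y, by
      rw [← Scheme.Hom.comp_apply, hs]⟩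
  exact le_antisymm (hsub₁.trans (h₂.2 hT hsub₂)) (hsub₂.trans (h₁.2 hT hsub₁))

end stepA

section stepB

variable {K : Type u} [Field K] (G : Over (Spec (CommRingCat.of K))) [GrpObj G]
  {K' : Type u} [Field K'] (g : Spec (CommRingCat.of K') ⟶ Spec (CommRingCat.of K))

/-- Base change of a group scheme along a morphism of spectra of fields. -/
noncomputable abbrev bc : Over (Spec (CommRingCat.of K')) := Over.mk (pullback.snd G.hom g)

noncomputable instance : GrpObj (bc G g) :=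
  letI : GrpObj (Over.mk G.hom) := ‹GrpObj G›
  Over.grpObjMkPullbackSnd

set_option backward.isDefEq.respectTransparency false in
lemma unitS_bc_fst : unitS (bc G g) ≫ pullback.fst G.hom g = g ≫ unitS G := by
  let _ : GrpObj (Over.mk G.hom) := ‹GrpObj G›
  have h1 : (η[bc G g] : 𝟙_ _ ⟶ bc G g) =
      Functor.LaxMonoidal.ε (Over.pullback g) ≫ (Over.pullback g).map η[Over.mk G.hom] :=
    Over.grpObjMkPullbackSnd_one
  unfold unitS
  rw [h1]
  simp

lemma fst_ePt_bc : pullback.fst G.hom g (ePt (bc G g)) = ePt G := by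
  unfold ePt
  rw [← Scheme.Hom.comp_apply, unitS_bc_fst, Scheme.Hom.comp_apply]
  congr 1
  exact Subsingleton.elim (α := PrimeSpectrum K) _ _

/-- Descent of uniqueness of the component through a point along a generalizing map. -/
theorem eq_of_generalizingMap {X' X : Type*} [TopologicalSpace X'] [TopologicalSpace X]
    [QuasiSober X] {p : X' → X} (hc : Continuous p) (hp : GeneralizingMap p) (x' : X')
    (huniq : ∀ W₁ ∈ irreducibleComponents X', ∀ W₂ ∈ irreducibleComponents X',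
      x' ∈ W₁ → x' ∈ W₂ → W₁ = W₂)
    {Z₁ Z₂ : Set X} (h₁ : Z₁ ∈ irreducibleComponents X) (h₂ : Z₂ ∈ irreducibleComponents X)
    (hx₁ : p x' ∈ Z₁) (hx₂ : p x' ∈ Z₂) : Z₁ = Z₂ := by
  obtain ⟨ζ₁, hζ₁⟩ := QuasiSober.sober h₁.1 (isClosed_of_mem_irreducibleComponents Z₁ h₁)
  obtain ⟨ζ₂, hζ₂⟩ := QuasiSober.sober h₂.1 (isClosed_of_mem_irreducibleComponents Z₂ h₂)
  have hs₁ : ζ₁ ⤳ p x' := by
    rw [specializes_iff_mem_closure, hζ₁.def]; exact hx₁
  have hs₂ : ζ₂ ⤳ p x' := by
    rw [specializes_iff_mem_closure, hζ₂.def]; exact hx₂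
  obtain ⟨ζ₁', hζ₁', rfl⟩ := hp hs₁
  obtain ⟨ζ₂', hζ₂', rfl⟩ := hp hs₂
  have hW₁ := irreducibleComponent_mem_irreducibleComponents ζ₁'
  have hW₂ := irreducibleComponent_mem_irreducibleComponents ζ₂'
  have hx'₁ : x' ∈ irreducibleComponent ζ₁' :=
    hζ₁'.mem_closed isClosed_irreducibleComponent mem_irreducibleComponent
  have hx'₂ : x' ∈ irreducibleComponent ζ₂' :=
    hζ₂'.mem_closed isClosed_irreducibleComponent mem_irreducibleComponent
  have hW := huniq _ hW₁ _ hW₂ hx'₁ hx'₂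
  have hT : IsIrreducible (closure (p '' irreducibleComponent ζ₁')) :=
    (isIrreducible_irreducibleComponent.image p hc.continuousOn).closure
  have hsub₁ : Z₁ ⊆ closure (p '' irreducibleComponent ζ₁') := by
    rw [← hζ₁.def]
    exact closure_mono (Set.singleton_subset_iff.2 ⟨ζ₁', mem_irreducibleComponent, rfl⟩)
  have hsub₂ : Z₂ ⊆ closure (p '' irreducibleComponent ζ₁') := by
    rw [← hζ₂.def, hW]
    exact closure_mono (Set.singleton_subset_iff.2 ⟨ζ₂', mem_irreducibleComponent, rfl⟩)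
  exact le_antisymm (hsub₁.trans (h₂.2 hT hsub₂)) (hsub₂.trans (h₁.2 hT hsub₁))

/-- **Uniqueness of the irreducible component through the identity.** -/
theorem eq_of_ePt_mem {Z₁ Z₂ : Set G.left}
    (h₁ : Z₁ ∈ irreducibleComponents G.left) (h₂ : Z₂ ∈ irreducibleComponents G.left)
    (he₁ : ePt G ∈ Z₁) (he₂ : ePt G ∈ Z₂) : Z₁ = Z₂ := by
  let g : Spec (CommRingCat.of (SeparableClosure K)) ⟶ Spec (CommRingCat.of K) :=
    Spec.map (CommRingCat.ofHom (algebraMap K (SeparableClosure K)))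
  have hgen : GeneralizingMap (pullback.fst G.hom g) := Flat.generalizingMap _
  refine eq_of_generalizingMap (pullback.fst G.hom g).continuous hgen (ePt (bc G g)) ?_ h₁ h₂
    ?_ ?_
  · intro W₁ hW₁ W₂ hW₂ h1 h2
    exact eq_of_mem_of_isSepClosed (bc G g) hW₁ hW₂ h1 h2
  · rw [fst_ePt_bc]; exact he₁
  · rw [fst_ePt_bc]; exact he₂

end stepB

section translate

variable {K : Type u} [Field K] (G : Over (Spec (CommRingCat.of K))) [GrpObj G]
  {K' : Type u} [Field K'] (ρ : Spec (CommRingCat.of K') ⟶ G.left)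

/-- The translation automorphism of `G ×_K K'` attached to a `K'`-point `ρ`. -/
noncomputable def transIso : pullback G.hom (ρ ≫ G.hom) ≅ pullback G.hom (ρ ≫ G.hom) where
  hom := GrpdPts.transHom (GrpdPts.ofGrp G) ρ
  inv := GrpdPts.transInv (GrpdPts.ofGrp G) ρ
  hom_inv_id := GrpdPts.transHom_transInv (GrpdPts.ofGrp G) ρ
  inv_hom_id := GrpdPts.transInv_transHom (GrpdPts.ofGrp G) ρ

/-- The graph point of `ρ`. -/
noncomputable def graphS : Spec (CommRingCat.of K') ⟶ pullback G.hom (ρ ≫ G.hom) :=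
  pullback.lift ρ (𝟙 _) (by rw [Category.id_comp])

lemma unitS_bc_eq : unitS (bc G (ρ ≫ G.hom)) = GrpdPts.transUnit (GrpdPts.ofGrp G) ρ := by
  apply pullback.hom_ext
  · rw [unitS_bc_fst, Category.assoc]
    exact (GrpdPts.transUnit_fst (GrpdPts.ofGrp G) ρ).symm
  · exact (unit_hom (bc G (ρ ≫ G.hom))).trans
      (GrpdPts.transUnit_snd (GrpdPts.ofGrp G) ρ).symm

lemma unitS_transIso : unitS (bc G (ρ ≫ G.hom)) ≫ (transIso G ρ).hom = graphS G ρ := by
  rw [unitS_bc_eq]
  apply pullback.hom_ext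
  · rw [Category.assoc]
    show _ ≫ GrpdPts.transHom (GrpdPts.ofGrp G) ρ ≫ pullback.fst _ _ = _
    rw [GrpdPts.transHom_fst, GrpdPts.transUnit_trans]
    exact (pullback.lift_fst _ _ _).symm
  · rw [Category.assoc]
    show _ ≫ GrpdPts.transHom (GrpdPts.ofGrp G) ρ ≫ pullback.snd _ _ = _
    rw [GrpdPts.transHom_snd, GrpdPts.transUnit_snd]
    exact (pullback.lift_snd _ _ _).symm

/-- **Uniqueness of the irreducible component through any point.** -/
theorem eq_of_point_mem {Z₁ Z₂ : Set G.left}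
    (h₁ : Z₁ ∈ irreducibleComponents G.left) (h₂ : Z₂ ∈ irreducibleComponents G.left)
    (hx₁ : ρ (IsLocalRing.closedPoint K') ∈ Z₁) (hx₂ : ρ (IsLocalRing.closedPoint K') ∈ Z₂) :
    Z₁ = Z₂ := by
  have hgen : GeneralizingMap (pullback.fst G.hom (ρ ≫ G.hom)) := Flat.generalizingMap _
  have hpt : pullback.fst G.hom (ρ ≫ G.hom) (graphS G ρ (IsLocalRing.closedPoint K')) =
      ρ (IsLocalRing.closedPoint K') := by
    rw [← Scheme.Hom.comp_apply, graphS, pullback.lift_fst]
  have hτ : (transIso G ρ).hom (ePt (bc G (ρ ≫ G.hom))) =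
      graphS G ρ (IsLocalRing.closedPoint K') := by
    unfold ePt
    rw [← Scheme.Hom.comp_apply, unitS_transIso]
  refine eq_of_generalizingMap (pullback.fst G.hom (ρ ≫ G.hom)).continuous hgen
    (graphS G ρ (IsLocalRing.closedPoint K')) ?_ h₁ h₂ ?_ ?_
  · intro W₁ hW₁ W₂ hW₂ h1 h2
    have hemb : Topology.IsOpenEmbedding (transIso G ρ).hom :=
      (transIso G ρ).hom.homeomorph.isOpenEmbedding
    have hsurj : Function.Surjective (transIso G ρ).hom := (transIso G ρ).hom.homeomorph.surjective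
    have hW₁' := preimage_mem_irreducibleComponents hW₁ hemb
      ⟨_, h1, ⟨_, hτ⟩⟩
    have hW₂' := preimage_mem_irreducibleComponents hW₂ hemb
      ⟨_, h2, ⟨_, hτ⟩⟩
    have key := eq_of_ePt_mem (bc G (ρ ≫ G.hom)) hW₁' hW₂'
      (by show (transIso G ρ).hom _ ∈ W₁; rw [hτ]; exact h1)
      (by show (transIso G ρ).hom _ ∈ W₂; rw [hτ]; exact h2)
    rw [← Set.image_preimage_eq W₁ hsurj, ← Set.image_preimage_eq W₂ hsurj, key]
  · rw [hpt]; exact hx₁
  · rw [hpt]; exact hx₂

/-- Every point of a group scheme over a field lies on exactly one irreducible component. -/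
theorem eq_of_mem {Z₁ Z₂ : Set G.left}
    (h₁ : Z₁ ∈ irreducibleComponents G.left) (h₂ : Z₂ ∈ irreducibleComponents G.left)
    (x : G.left) (hx₁ : x ∈ Z₁) (hx₂ : x ∈ Z₂) : Z₁ = Z₂ := by
  let ρ : Spec (CommRingCat.of (G.left.residueField x)) ⟶ G.left := G.left.fromSpecResidueField x
  have hρ : ρ (IsLocalRing.closedPoint (G.left.residueField x)) = x :=
    Scheme.fromSpecResidueField_apply _ _
  exact eq_of_point_mem G ρ h₁ h₂ (by rw [hρ]; exact hx₁) (by rw [hρ]; exact hx₂)

end translate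

end Groth.Agent.Lib.Helper72.GrpComp
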