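import Groth.Prelude.Def_ChGrp
import Groth.Agent.Lib.Helper72.GrpComp
import Mathlib.AlgebraicGeometry.Morphisms.Immersion

/-!
# Restricting an action to a stable subobject; lifting through reduced immersions
-/

set_option autoImplicit false

universe u

open CategoryTheory MonoidalCategory CartesianMonoidalCategory MonObj GrpObj AlgebraicGeometry
  CategoryTheory.Limits

namespace Groth.Agent.Lib.Helper72.ActRestrict

section Cat

variable {S : Scheme.{u}} {G X Y : Over S} [GrpObj G] (a : AlgGrp.Action G X)
  (j : Y ⟶ X) [Mono j] (b : G ⊗ Y ⟶ Y) (hb : b ≫ j = (G ◁ j) ≫ a.act)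

/-- Restriction of an action to a subobject stable under the action. -/
noncomputable def restrictMono : AlgGrp.Action G Y where
  act := b
  one_act := by
    rw [← cancel_mono j, Category.assoc, hb, ← whisker_exchange_assoc, a.one_act,
      leftUnitor_naturality]
  mul_act := by
    rw [← cancel_mono j]
    simp only [Category.assoc]
    rw [hb, ← whisker_exchange_assoc, a.mul_act, ← whiskerLeft_comp_assoc, hb,
      whiskerLeft_comp_assoc, associator_naturality_right_assoc]

@[simp] lemma restrictMono_act : (restrictMono a j b hb).act = b := rfl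

lemma restrictMono_orbitMap (x' : 𝟙_ (Over S) ⟶ Y) :
    (restrictMono a j b hb).orbitMap x' ≫ j = a.orbitMap (x' ≫ j) := by
  rw [AlgGrp.Action.orbitMap, AlgGrp.Action.orbitMap, restrictMono_act, Category.assoc, hb,
    ← Category.assoc, ← Category.assoc]
  congr 1
  ext
  · simp
  · simp

end Cat

section Lift

variable {X O W : Scheme.{u}}

/-- A morphism from a reduced scheme whose image lies in the image of a closed immersion from a
reduced scheme factors through it. -/
theorem exists_lift_of_isClosedImmersion (c : O ⟶ X) [IsClosedImmersion c]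
    [AlgebraicGeometry.IsReduced O] [AlgebraicGeometry.IsReduced W] (h : W ⟶ X)
    (hh : Set.range h ⊆ Set.range c) : ∃ g : W ⟶ O, g ≫ c = h := by
  have hcl : IsClosed (Set.range c) := c.isClosedEmbedding.isClosed_range
  have key : ∀ {T : Scheme.{u}} [AlgebraicGeometry.IsReduced T] (t : T ⟶ X),
      t.ker = Scheme.IdealSheafData.vanishingIdeal ⟨closure (Set.range t), isClosed_closure⟩ := by
    intro T _ t
    rw [← Scheme.IdealSheafData.map_bot t, ← Scheme.nilradical_eq_bot,
      ← Scheme.IdealSheafData.vanishingIdeal_top, Scheme.IdealSheafData.map_vanishingIdeal]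
    congr 1
    apply TopologicalSpace.Closeds.ext
    change closure (t '' Set.univ) = closure (Set.range t)
    rw [Set.image_univ]
  have hker : c.ker ≤ h.ker := by
    rw [key c, key h]
    apply Scheme.IdealSheafData.vanishingIdeal_antimono
    intro y hy
    exact closure_mono hh hy
  exact ⟨IsClosedImmersion.lift c h hker, IsClosedImmersion.lift_fac _ _ _⟩

/-- A morphism from a reduced scheme whose image lies in the image of an immersion from a
reduced scheme factors through it. -/
theorem exists_lift_of_isImmersion (i : O ⟶ X) [IsImmersion i]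
    [AlgebraicGeometry.IsReduced O] [AlgebraicGeometry.IsReduced W] (h : W ⟶ X)
    (hh : Set.range h ⊆ Set.range i) : ∃ g : W ⟶ O, g ≫ i = h := by
  have hi : i.liftCoborder ≫ i.coborderRange.ι = i := i.liftCoborder_ι
  have hsub : Set.range h ⊆ Set.range i.coborderRange.ι := by
    intro y hy
    obtain ⟨o, rfl⟩ := hh hy
    refine ⟨i.liftCoborder o, ?_⟩
    rw [← Scheme.Hom.comp_apply, hi]
  let h' : W ⟶ i.coborderRange := IsOpenImmersion.lift i.coborderRange.ι h hsub
  have hh' : h' ≫ i.coborderRange.ι = h := IsOpenImmersion.lift_fac _ _ _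
  have hr : Set.range h' ⊆ Set.range i.liftCoborder := by
    rintro _ ⟨w, rfl⟩
    obtain ⟨o, ho⟩ := hh ⟨w, rfl⟩
    refine ⟨o, ?_⟩
    apply i.coborderRange.ι.isOpenEmbedding.injective
    rw [← Scheme.Hom.comp_apply, ← Scheme.Hom.comp_apply, hi, hh', ho]
  obtain ⟨g, hg⟩ := exists_lift_of_isClosedImmersion i.liftCoborder h' hr
  exact ⟨g, by rw [← hi, ← Category.assoc, hg, hh']⟩

end Lift

end Groth.Agent.Lib.Helper72.ActRestrict
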