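import Mathlib
import Groth.Agent.Lib.Helper73.DimFormula.GenericLocus
import Groth.Agent.Lib.Helper73.DimFormula.LocDimFiber
import Groth.Agent.Lib.Helper72.DimLFT
import Groth.Agent.Lib.Helper35.ConstrTop

/-!
# Dimension of set-theoretic fibres (helper72)

On top of helper73's `DimFT`/`DimFormula` libraries.

* `isDimFun_fibre`, `quasiSober_fibre`, `dim_fibre_eq_iSup`: `resTrdegNat f` is a dimension
  function on the subspace `f ⁻¹' {y}`.
* `resTrdegNat_le_dim_fibre`, `exists_le_resTrdegNat_of_le_dim_fibre`.
-/

set_option autoImplicit false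
universe u

open AlgebraicGeometry CategoryTheory TopologicalSpace Topology Order

namespace Groth.Agent.Lib.Helper72.FibDim

open Groth.Agent.Lib.Helper73

section Fibre

variable {X Y : Scheme.{u}} (f : X ⟶ Y)

/-- The inclusion of the set-theoretic fibre into the scheme-theoretic one is a closed
embedding (it is a homeomorphism). -/
lemma isClosedEmbedding_fiberHomeo_symm (y : Y) :
    IsClosedEmbedding (fun t : ↥(f.base ⁻¹' {y}) => (f.fiberHomeo y).symm t) :=
  (f.fiberHomeo y).symm.isClosedEmbedding

lemma quasiSober_fibre (y : Y) : QuasiSober ↥(f.base ⁻¹' {y}) :=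
  (isClosedEmbedding_fiberHomeo_symm f y).quasiSober

variable [LocallyOfFiniteType f]

/-- The residual transcendence degree is a dimension function on the set-theoretic fibre. -/
theorem isDimFun_fibre (y : Y) :
    IsDimFun (fun t : ↥(f.base ⁻¹' {y}) => resTrdegNat f t.1) := by
  have h := (isDimFun_trdegNat (k := Y.residueField y)
    (f.fiberToSpecResidueField y)).comp_isClosedEmbedding _
      (isClosedEmbedding_fiberHomeo_symm f y)
  have e : (fun t : ↥(f.base ⁻¹' {y}) => trdegNat (k := Y.residueField y)
      (f.fiberToSpecResidueField y) ((f.fiberHomeo y).symm t)) =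
      (fun t : ↥(f.base ⁻¹' {y}) => resTrdegNat f t.1) := by
    funext t
    rw [trdegNat_fiber_eq_resTrdegNat, f.fiberι_fiberHomeo_symm y t]
  rw [e] at h
  exact h

/-- The dimension of the set-theoretic fibre as a supremum. -/
theorem dim_fibre_eq_iSup (y : Y) :
    topologicalKrullDim ↥(f.base ⁻¹' {y}) =
      ⨆ t : ↥(f.base ⁻¹' {y}), ((resTrdegNat f t.1 : ℕ∞) : WithBot ℕ∞) := by
  have := quasiSober_fibre f y
  exact (isDimFun_fibre f y).topologicalKrullDim_eq_iSup

lemma resTrdegNat_le_dim_fibre (x : X) (y : Y) (hx : f x = y) :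
    ((resTrdegNat f x : ℕ) : WithBot ℕ∞) ≤ topologicalKrullDim ↥(f.base ⁻¹' {y}) := by
  rw [dim_fibre_eq_iSup]
  exact le_iSup (fun t : ↥(f.base ⁻¹' {y}) => ((resTrdegNat f t.1 : ℕ∞) : WithBot ℕ∞)) ⟨x, hx⟩

/-- If the fibre has dimension at least `r`, some point of it has residual transcendence degree
at least `r`. -/
lemma exists_le_resTrdegNat_of_le_dim_fibre (y : Y) (r : ℕ)
    (h : (r : WithBot ℕ∞) ≤ topologicalKrullDim ↥(f.base ⁻¹' {y})) :
    ∃ x : X, f x = y ∧ r ≤ resTrdegNat f x := by
  by_contra hcon
  push Not at hcon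
  rw [dim_fibre_eq_iSup] at h
  by_cases hr : r = 0
  · subst hr
    have hemp : IsEmpty ↥(f.base ⁻¹' {y}) := ⟨fun t => by
      have := hcon t.1 t.2
      omega⟩
    rw [iSup_of_empty] at h
    exact absurd h (by simp)
  · have hle : (⨆ t : ↥(f.base ⁻¹' {y}), ((resTrdegNat f t.1 : ℕ∞) : WithBot ℕ∞)) ≤
        (((r - 1 : ℕ) : ℕ∞) : WithBot ℕ∞) := by
      refine iSup_le fun t => ?_
      have := hcon t.1 t.2
      have h' : resTrdegNat f t.1 ≤ r - 1 := by omega
      exact_mod_cast h'
    have := h.trans hle
    have h' : r ≤ r - 1 := by exact_mod_cast this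
    omega

end Fibre

end Groth.Agent.Lib.Helper72.FibDim

namespace Groth.Agent.Lib.Helper72.FibDim

open Groth.Agent.Lib.Helper73

section Constructible

/-- In a locally Noetherian scheme, a maximal point has an open neighbourhood consisting of
specializations of it. -/
lemma exists_open_forall_specializes_of_maximal {Y : Scheme.{u}} [IsLocallyNoetherian Y] (η : Y)
    (hη : ∀ t : Y, t ⤳ η → t = η) :
    ∃ W : Set Y, IsOpen W ∧ η ∈ W ∧ ∀ w ∈ W, η ⤳ w := by
  obtain ⟨U, hU, hxU, -⟩ := exists_isAffineOpen_mem_and_subset (X := Y) (x := η) (U := ⊤) trivial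
  have : IsNoetherianRing Γ(Y, U) := IsLocallyNoetherian.component_noetherian ⟨U, hU⟩
  have h1 : NoetherianSpace ↥(Set.range hU.fromSpec) :=
    NoetherianSpace.range (α := ↥(Spec Γ(Y, U))) hU.fromSpec hU.fromSpec.continuous
  rw [hU.range_fromSpec] at h1
  obtain ⟨W, hW, hxW, hall⟩ :=
    exists_open_forall_exists_generic_of_nhd η (U : Set Y) U.isOpen hxU
  refine ⟨W, hW, hxW, fun w hw => ?_⟩
  obtain ⟨ζ, h1, h2⟩ := hall w hw
  rw [hη ζ h2] at h1
  exact h1

/-- A constructible subset of a locally Noetherian scheme whose closure contains a maximal point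
contains that point. -/
lemma mem_of_isConstructible_of_maximal {Y : Scheme.{u}} [IsLocallyNoetherian Y] {E : Set Y}
    (hE : IsConstructible E) (η : Y) (hη : ∀ t : Y, t ⤳ η → t = η) (hcl : η ∈ closure E) :
    η ∈ E := by
  have hirr : IsIrreducible (closure ({η} : Set Y)) := isIrreducible_singleton.closure
  rcases Groth.Agent.Lib.Helper35.constr_dichotomy hE hirr with
    ⟨U, hU, ⟨z, hzU, hzη⟩, hsub⟩ | ⟨U, hU, ⟨z, hzU, hzη⟩, hsub⟩
  · have hηz : η ⤳ z := specializes_iff_mem_closure.mpr hzη
    exact hsub ⟨hηz.mem_open hU hzU, subset_closure rfl⟩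
  · exfalso
    have hηz : η ⤳ z := specializes_iff_mem_closure.mpr hzη
    have hηU : η ∈ U := hηz.mem_open hU hzU
    obtain ⟨W, hW, hηW, hall⟩ := exists_open_forall_specializes_of_maximal η hη
    rw [mem_closure_iff] at hcl
    obtain ⟨w, ⟨hwU, hwW⟩, hwE⟩ := hcl (U ∩ W) (hU.inter hW) ⟨hηU, hηW⟩
    exact hsub ⟨hwU, specializes_iff_mem_closure.mp (hall w hwW)⟩ hwE

/-- A constructible set meeting an irreducible closed set in a dense subset contains its generic
point. -/
lemma mem_of_isConstructible_of_dense {Y : Type*} [TopologicalSpace Y] {E : Set Y}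
    (hE : IsConstructible E) (η : Y) (hcl : closure ({η} : Set Y) ⊆ closure (E ∩ closure {η})) :
    η ∈ E := by
  have hirr : IsIrreducible (closure ({η} : Set Y)) := isIrreducible_singleton.closure
  obtain ⟨U, hU, ⟨z, hzU, hzη⟩, hsub⟩ :=
    Groth.Agent.Lib.Helper35.constr_exists_open_of_dense hE hirr hcl
  have hηz : η ⤳ z := specializes_iff_mem_closure.mpr hzη
  exact hsub ⟨hηz.mem_open hU hzU, subset_closure rfl⟩

end Constructible

section OverField

variable {k : Type u} [Field k] {X Y : Scheme.{u}}
  (q : Y ⟶ Spec (CommRingCat.of k)) [LocallyOfFiniteType q] [QuasiCompact q]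
  (f : X ⟶ Y) [LocallyOfFiniteType f] [QuasiCompact f]

omit [QuasiCompact q] in
include q in
lemma isLocallyNoetherian_of_lft : IsLocallyNoetherian Y :=
  LocallyOfFiniteType.isLocallyNoetherian q

omit [LocallyOfFiniteType q] in
include q in
lemma compactSpace_of_qc : CompactSpace Y :=
  HasAffineProperty.iff_of_isAffine.mp ‹QuasiCompact q›

include q in
/-- Chevalley's theorem for morphisms of finite type over a scheme of finite type over a
field. -/
lemma isConstructible_image {s : Set X} (hs : IsConstructible s) :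
    IsConstructible (f '' s) := by
  have := isLocallyNoetherian_of_lft q
  have := compactSpace_of_qc q
  have : LocallyOfFinitePresentation f :=
    LocallyOfFinitePresentation.iff_locallyOfFiniteType.mpr inferInstance
  exact f.isConstructible_image hs

include q in
/-- The image of a dominant morphism of finite type contains all maximal points. -/
lemma mem_range_of_maximal (hdom : DenseRange f.base) (η : Y) (hη : ∀ t : Y, t ⤳ η → t = η) :
    η ∈ Set.range f := by
  have := isLocallyNoetherian_of_lft q
  have hE : IsConstructible (Set.range f) := by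
    rw [← Set.image_univ]
    exact isConstructible_image q f IsConstructible.univ
  exact mem_of_isConstructible_of_maximal hE η hη (hdom η)

end OverField

end Groth.Agent.Lib.Helper72.FibDim

namespace Groth.Agent.Lib.Helper72.FibDim

open Groth.Agent.Lib.Helper73

section OverField2

variable {k : Type u} [Field k] {X Y : Scheme.{u}}
  (qX : X ⟶ Spec (CommRingCat.of k)) (qY : Y ⟶ Spec (CommRingCat.of k))
  [LocallyOfFiniteType qX] [QuasiCompact qX] [LocallyOfFiniteType qY] [QuasiCompact qY]
  (f : X ⟶ Y) (hf : f ≫ qY = qX)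

include qX qY hf in
omit [QuasiCompact qX] [QuasiCompact qY] [LocallyOfFiniteType qY] in
lemma locallyOfFiniteType_of_comp_eq : LocallyOfFiniteType f := by
  subst hf
  exact locallyOfFiniteType_of_comp f qY

include qX qY in
omit [LocallyOfFiniteType qX] [QuasiCompact qY] in
lemma quasiCompact_of_ft : QuasiCompact f := by
  have := isLocallyNoetherian_of_lft qY
  have := compactSpace_of_qc qX
  infer_instance

end OverField2

end Groth.Agent.Lib.Helper72.FibDim
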