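import Mathlib
import Groth.Agent.Lib.Helper72.FibDim
import Groth.Agent.Lib.Helper72.GrpComp
import Groth.Agent.Lib.Helper73.DimFormula.Hypersurface

/-!
# Morphisms with irreducible equidimensional closed fibres (helper72)

Let `f : X ⟶ Y` be a morphism of schemes of finite type over a field such that the fibres over
closed points of `Y` are irreducible of dimension `d`. We show (Shafarevich I.6.3 / Mumford's
red book I.8 style results) that the irreducible closed subsets `closure {ω}` of `X` with
`trdeg κ(ω)/κ(f ω) = d` ("good points") are unions of fibres, exist over every point of `Y`,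
and are unique.

* `exists_generization_resTrdegNat_ge`, `exists_open_forall_resTrdegNat_le`: Chevalley's
  semicontinuity of fibre dimension in terms of points, for irreducible closed subsets.
-/

set_option autoImplicit false
universe u

open AlgebraicGeometry CategoryTheory TopologicalSpace Topology Order

namespace Groth.Agent.Lib.Helper72.FibDimIrr

open Groth.Agent.Lib.Helper73 Groth.Agent.Lib.Helper72.FibDim

section Scheme

variable {Z Y : Scheme.{u}} (g : Z ⟶ Y) [LocallyOfFiniteType g] [IrreducibleSpace Z]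

/-- Chevalley lower bound, pointwise form: every point has a generization in its fibre whose
residual transcendence degree is at least the generic one. -/
theorem exists_generization_resTrdegNat_ge_scheme (z : Z) :
    ∃ t : Z, t ⤳ z ∧ g t = g z ∧ resTrdegNat g (genericPoint Z) ≤ resTrdegNat g t := by
  by_contra hcon
  push Not at hcon
  have h0 : resTrdegNat g z < resTrdegNat g (genericPoint Z) := hcon z specializes_rfl rfl
  have h1 : FlatMor.fibreDimAt g z ≤ ((resTrdegNat g (genericPoint Z) - 1 : ℕ) : WithBot ℕ∞) := by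
    refine fibreDimAt_le_of_forall_generization g z _ fun η hη hgη => ?_
    have := hcon η hη hgη
    omega
  have h2 := (resTrdegNat_genericPoint_le_fibreDimAt g z).trans h1
  have h3 : resTrdegNat g (genericPoint Z) ≤ resTrdegNat g (genericPoint Z) - 1 := by
    exact_mod_cast h2
  omega

/-- Chevalley: on a nonempty open subset the residual transcendence degrees of generizations in
the fibre are bounded by the generic one. -/
theorem exists_open_forall_resTrdegNat_le_scheme :
    ∃ V : Set Z, IsOpen V ∧ genericPoint Z ∈ V ∧ ∀ z ∈ V, ∀ t : Z, t ⤳ z → g t = g z →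
      resTrdegNat g t ≤ resTrdegNat g (genericPoint Z) := by
  obtain ⟨hopen, -⟩ := isOpen_dense_fibreDimAt_eq_generic g
  refine ⟨_, hopen, fibreDimAt_genericPoint g, fun z hz t htz hgt => ?_⟩
  have h1 := resTrdegNat_le_fibreDimAt_of_specializes g z t htz hgt
  rw [Set.mem_ofPred_eq] at hz
  rw [hz] at h1
  exact_mod_cast h1

end Scheme

section Closed

variable {X Y : Scheme.{u}} (f : X ⟶ Y) [LocallyOfFiniteType f]

/-- The reduced induced structure on the closure of a point, with its generic point. -/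
lemma exists_closedSubscheme_closure (ω : X) :
    ∃ (Z : Scheme.{u}) (j : Z ⟶ X) (_ : IsClosedImmersion j) (_ : IrreducibleSpace Z),
      Set.range j = closure {ω} ∧ j (genericPoint Z) = ω := by
  obtain ⟨Z, j, hj, -, hr, -⟩ :=
    Groth.Agent.Lib.Helper72.GrpComp.exists_reduced_closedSubscheme (closure ({ω} : Set X))
      isClosed_closure
  have hirr : IrreducibleSpace Z :=
    Groth.Agent.Lib.Helper72.GrpComp.irreducibleSpace_of_range j
      (hr ▸ isIrreducible_singleton.closure)
  refine ⟨Z, j, hj, hirr, hr, ?_⟩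
  have h1 : IsGenericPoint (j (genericPoint Z)) (closure ({ω} : Set X)) := by
    have h2 : closure ({j (genericPoint Z)} : Set X) = j '' closure {genericPoint Z} := by
      rw [← Set.image_singleton]
      exact j.isClosedEmbedding.isClosedMap.closure_image_eq_of_continuous j.continuous _
    rw [IsGenericPoint, h2, (genericPoint_spec Z).def, Set.image_univ, hr]
  exact h1.eq isGenericPoint_closure

/-- Chevalley lower bound for the irreducible closed subset `closure {ω}`. -/
theorem exists_generization_resTrdegNat_ge (ω x : X) (h : ω ⤳ x) :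
    ∃ t : X, ω ⤳ t ∧ t ⤳ x ∧ f t = f x ∧ resTrdegNat f ω ≤ resTrdegNat f t := by
  obtain ⟨Z, j, hj, hirr, hr, hgen⟩ := exists_closedSubscheme_closure ω
  have hx : x ∈ Set.range j := by rw [hr]; exact specializes_iff_mem_closure.mp h
  obtain ⟨z, rfl⟩ := hx
  obtain ⟨t, htz, hgt, hle⟩ := exists_generization_resTrdegNat_ge_scheme (j ≫ f) z
  refine ⟨j t, ?_, htz.map j.continuous, ?_, ?_⟩
  · rw [specializes_iff_mem_closure, ← hr]; exact ⟨t, rfl⟩
  · simpa using hgt
  · rw [resTrdegNat_comp_of_isPreimmersion, resTrdegNat_comp_of_isPreimmersion, hgen] at hle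
    exact hle

/-- Chevalley's generic bound for the irreducible closed subset `closure {ω}`. -/
theorem exists_open_forall_resTrdegNat_le (ω : X) :
    ∃ V₀ : Set X, IsOpen V₀ ∧ ω ∈ V₀ ∧ ∀ x ∈ V₀, ω ⤳ x → ∀ t : X, ω ⤳ t → t ⤳ x → f t = f x →
      resTrdegNat f t ≤ resTrdegNat f ω := by
  obtain ⟨Z, j, hj, hirr, hr, hgen⟩ := exists_closedSubscheme_closure ω
  obtain ⟨V, hV, hgV, hall⟩ := exists_open_forall_resTrdegNat_le_scheme (j ≫ f)
  obtain ⟨V₀, hV₀, rfl⟩ := j.isClosedEmbedding.isInducing.isOpen_iff.mp hV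
  refine ⟨V₀, hV₀, by rw [← hgen]; exact hgV, fun x hxV hωx t hωt htx hft => ?_⟩
  have hx : x ∈ Set.range j := by rw [hr]; exact specializes_iff_mem_closure.mp hωx
  obtain ⟨z, rfl⟩ := hx
  have ht : t ∈ Set.range j := by rw [hr]; exact specializes_iff_mem_closure.mp hωt
  obtain ⟨t', rfl⟩ := ht
  have h1 := hall z hxV t' (j.isClosedEmbedding.isInducing.specializes_iff.mp htx)
    (by simpa using hft)
  rw [resTrdegNat_comp_of_isPreimmersion, resTrdegNat_comp_of_isPreimmersion, hgen] at h1
  exact h1

end Closed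

section Main

variable {k : Type u} [Field k] {X Y : Scheme.{u}}
  (qX : X ⟶ Spec (CommRingCat.of k)) (qY : Y ⟶ Spec (CommRingCat.of k))
  [LocallyOfFiniteType qX] [QuasiCompact qX] [LocallyOfFiniteType qY] [QuasiCompact qY]
  (f : X ⟶ Y) (hf : f ≫ qY = qX) (d : ℕ)
  (hirr : ∀ y : ↥Y, IsClosed ({y} : Set ↥Y) → IsIrreducible (f.base ⁻¹' {y}))
  (hdim : ∀ y : ↥Y, IsClosed ({y} : Set ↥Y) → topologicalKrullDim ↥(f.base ⁻¹' {y}) = d)

include qX qY hf hirr hdim

/-- The generic point of the fibre over a closed point. -/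
lemma exists_fibre_generic (y : Y) (hy : IsClosed ({y} : Set Y)) :
    ∃ ζ : X, f ζ = y ∧ resTrdegNat f ζ = d ∧ ∀ t : X, f t = y →
      ζ ⤳ t ∧ resTrdegNat f t ≤ d ∧ (resTrdegNat f t = d → t = ζ) := by
  have hfT : LocallyOfFiniteType f := locallyOfFiniteType_of_comp_eq qX qY f hf
  have hcl : IsClosed (f.base ⁻¹' {y}) := hy.preimage f.continuous
  obtain ⟨ζ, hζ⟩ := QuasiSober.sober (hirr y hy) hcl
  have hζy : f ζ = y := hζ.mem
  have hsp : ∀ t : X, f t = y → ζ ⤳ t := fun t ht => hζ.specializes ht
  have hδ := isDimFun_fibre f y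
  have hsp' : ∀ (t : X) (ht : f t = y), (⟨ζ, hζy⟩ : ↥(f.base ⁻¹' {y})) ⤳ ⟨t, ht⟩ :=
    fun t ht => IsInducing.subtypeVal.specializes_iff.mp (hsp t ht)
  have hle : ∀ t : X, f t = y → resTrdegNat f t ≤ resTrdegNat f ζ := by
    intro t ht
    have h := hδ.le_of_specializes (hsp' t ht)
    exact h
  have hd : resTrdegNat f ζ = d := by
    have h1 := hdim y hy
    rw [dim_fibre_eq_iSup] at h1
    have h2 : (⨆ t : ↥(f.base ⁻¹' {y}), ((resTrdegNat f t.1 : ℕ∞) : WithBot ℕ∞)) =
        ((resTrdegNat f ζ : ℕ∞) : WithBot ℕ∞) :=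
      le_antisymm (iSup_le fun t => by exact_mod_cast hle t.1 t.2)
        (le_iSup (fun t : ↥(f.base ⁻¹' {y}) => ((resTrdegNat f t.1 : ℕ∞) : WithBot ℕ∞))
          ⟨ζ, hζy⟩)
    rw [h2] at h1
    exact_mod_cast h1
  refine ⟨ζ, hζy, hd, fun t ht => ⟨hsp t ht, (hle t ht).trans hd.le, fun heq => ?_⟩⟩
  by_contra hne
  have h3 := hδ.lt_of_specializes (hsp' t ht) (fun e => hne (congrArg Subtype.val e).symm)
  have h4 : resTrdegNat f t < resTrdegNat f ζ := h3
  omega

/-- An irreducible closed subset meeting a closed fibre has relative dimension at most `d`, and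
if it is `d` it contains the fibre. -/
lemma le_of_specializes_closed (ω x : X) (h : ω ⤳ x) (hx : IsClosed ({f x} : Set Y)) :
    resTrdegNat f ω ≤ d ∧ (resTrdegNat f ω = d → ∀ t : X, f t = f x → ω ⤳ t) := by
  have hfT : LocallyOfFiniteType f := locallyOfFiniteType_of_comp_eq qX qY f hf
  obtain ⟨ζ, hζy, hζd, hζ⟩ := exists_fibre_generic qX qY f hf d hirr hdim (f x) hx
  obtain ⟨t, hωt, htx, hft, hle⟩ := exists_generization_resTrdegNat_ge f ω x h
  obtain ⟨h1, h2, h3⟩ := hζ t hft
  refine ⟨hle.trans h2, fun heq t' ht' => ?_⟩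
  have : t = ζ := h3 (by omega)
  subst this
  exact hωt.trans (hζ t' ht').1

include qX in
omit qY hf hirr hdim [LocallyOfFiniteType qY] [QuasiCompact qY] in
lemma isNoetherian_of_ft : IsNoetherian X :=
  { toIsLocallyNoetherian := isLocallyNoetherian_of_lft qX
    toCompactSpace := compactSpace_of_qc qX }

omit hirr hdim in
/-- Images of locally closed subsets are constructible. -/
lemma isConstructible_image_inter (P V : Set X) (hP : IsClosed P) (hV : IsOpen V) :
    IsConstructible (f '' (P ∩ V)) := by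
  have hfT : LocallyOfFiniteType f := locallyOfFiniteType_of_comp_eq qX qY f hf
  have hfQ : QuasiCompact f := quasiCompact_of_ft qX qY f
  have := isNoetherian_of_ft qX
  exact isConstructible_image qY f
    ((Groth.Agent.Lib.Helper35.noeth_isConstructible_of_isClosed hP).inter
      (Groth.Agent.Lib.Helper35.noeth_isConstructible_of_isOpen hV))

omit hirr hdim in
/-- A constructible set containing `η` contains a neighbourhood of `η` in `closure {η}`. -/
lemma exists_open_of_mem_constructible {E : Set Y} (hE : IsConstructible E) (η : Y) (hη : η ∈ E) :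
    ∃ U : Set Y, IsOpen U ∧ η ∈ U ∧ U ∩ closure {η} ⊆ E := by
  obtain ⟨U, hU, ⟨z, hzU, hzη⟩, hsub⟩ :=
    Groth.Agent.Lib.Helper35.constr_exists_open_of_dense hE
      (isIrreducible_singleton.closure : IsIrreducible (closure ({η} : Set Y)))
      (closure_mono (Set.singleton_subset_iff.mpr ⟨hη, subset_closure rfl⟩))
  exact ⟨U, hU, (specializes_iff_mem_closure.mpr hzη : η ⤳ z).mem_open hU hzU, hsub⟩

/-- If the closed points whose fibre lies in `closure {ω}` are dense in the closure of the image,
then `ω` has relative dimension `d`. -/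
lemma good_of_dense (ω : X)
    (hS : f ω ∈ closure {y : Y | IsClosed ({y} : Set Y) ∧ ∀ t : X, f t = y → ω ⤳ t}) :
    resTrdegNat f ω = d := by
  have hfT : LocallyOfFiniteType f := locallyOfFiniteType_of_comp_eq qX qY f hf
  apply le_antisymm
  · obtain ⟨y, hy, hyS⟩ : {y : Y | IsClosed ({y} : Set Y) ∧ ∀ t : X, f t = y → ω ⤳ t}.Nonempty := by
      rw [← closure_nonempty_iff]; exact ⟨_, hS⟩
    obtain ⟨x₀, hx₀⟩ := (hirr y hy).nonempty
    have hx₀' : f x₀ = y := hx₀
    exact (le_of_specializes_closed qX qY f hf d hirr hdim ω x₀ (hyS x₀ hx₀')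
      (by rw [hx₀']; exact hy)).1
  · obtain ⟨V₀, hV₀, hωV, hall⟩ := exists_open_forall_resTrdegNat_le f ω
    have hE := isConstructible_image_inter qX qY f hf (closure {ω}) V₀ isClosed_closure hV₀
    have hηE : f ω ∈ f '' (closure {ω} ∩ V₀) := ⟨ω, ⟨subset_closure rfl, hωV⟩, rfl⟩
    obtain ⟨U, hU, hηU, hsub⟩ := exists_open_of_mem_constructible qX qY f hf hE (f ω) hηE
    rw [mem_closure_iff] at hS
    obtain ⟨y, hyU, hy, hyS⟩ := hS U hU hηU
    obtain ⟨x₁, hx₁⟩ := (hirr y hy).nonempty
    have hx₁' : f x₁ = y := hx₁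
    have hyη : y ∈ closure ({f ω} : Set Y) := by
      rw [← hx₁']
      exact specializes_iff_mem_closure.mp ((hyS x₁ hx₁').map f.continuous)
    obtain ⟨x, ⟨hxω, hxV⟩, hfx⟩ := hsub ⟨hyU, hyη⟩
    obtain ⟨ζ, hζy, hζd, hζ⟩ := exists_fibre_generic qX qY f hf d hirr hdim y hy
    have h1 := hall x hxV (specializes_iff_mem_closure.mpr hxω) ζ (hyS ζ hζy) (hζ x hfx).1
      (hζy.trans hfx.symm)
    omega

/-- Over every point of `Y` there is a point of relative dimension `d`. -/
lemma exists_good (η : Y) : ∃ ω : X, f ω = η ∧ resTrdegNat f ω = d := by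
  have hfT : LocallyOfFiniteType f := locallyOfFiniteType_of_comp_eq qX qY f hf
  have := isNoetherian_of_ft qX
  have hJ : JacobsonSpace Y := LocallyOfFiniteType.jacobsonSpace qY
  have hX'c : IsClosed (f.base ⁻¹' closure ({η} : Set Y)) := isClosed_closure.preimage f.continuous
  obtain ⟨S, hSf, hSc, hSi, hSU⟩ := NoetherianSpace.exists_finite_set_isClosed_irreducible hX'c
  let T : Set X → Set Y := fun P =>
    {y : Y | y ∈ closure ({η} : Set Y) ∧ IsClosed ({y} : Set Y) ∧ ∀ t : X, f t = y → t ∈ P}
  have hcov : closure ({η} : Set Y) ∩ closedPoints Y ⊆ ⋃ P ∈ S, T P := by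
    rintro y ⟨hyη, hy⟩
    obtain ⟨ζ, hζy, -, hζ⟩ := exists_fibre_generic qX qY f hf d hirr hdim y hy
    have hζX' : ζ ∈ f.base ⁻¹' closure ({η} : Set Y) := by
      show f ζ ∈ closure ({η} : Set Y)
      rw [hζy]; exact hyη
    rw [hSU] at hζX'
    obtain ⟨P, hP, hζP⟩ := hζX'
    refine Set.mem_biUnion hP ⟨hyη, hy, fun t ht => ?_⟩
    exact (hζ t ht).1.mem_closed (hSc P hP) hζP
  have hη : η ∈ ⋃ P ∈ S, closure (T P) := by
    rw [← hSf.closure_biUnion]
    refine closure_mono hcov ?_
    rw [closure_inter_closedPoints isClosed_closure]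
    exact subset_closure rfl
  obtain ⟨P, hP, hηP⟩ := Set.mem_iUnion₂.mp hη
  obtain ⟨ω, hω⟩ := QuasiSober.sober (hSi P hP) (hSc P hP)
  have hωP : ω ∈ P := hω.mem
  have h1 : η ⤳ f ω := by
    have : ω ∈ f.base ⁻¹' closure ({η} : Set Y) := by rw [hSU]; exact ⟨P, hP, hωP⟩
    exact specializes_iff_mem_closure.mpr this
  have h2 : f ω ⤳ η := by
    rw [specializes_iff_mem_closure]
    refine closure_minimal ?_ isClosed_closure hηP
    rintro y ⟨-, hy, hyP⟩
    obtain ⟨x₁, hx₁⟩ := (hirr y hy).nonempty
    have hx₁' : f x₁ = y := hx₁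
    rw [← hx₁']
    exact specializes_iff_mem_closure.mp ((hω.specializes (hyP x₁ hx₁')).map f.continuous)
  have hfω : f ω = η := (h2.antisymm h1).eq
  refine ⟨ω, hfω, good_of_dense qX qY f hf d hirr hdim ω ?_⟩
  rw [hfω]
  refine closure_mono ?_ hηP
  rintro y ⟨-, hy, hyP⟩
  exact ⟨hy, fun t ht => hω.specializes (hyP t ht)⟩

/-- A point of relative dimension `d` specializes to every point with the same image. -/
lemma specializes_of_good (ω z : X) (hω : resTrdegNat f ω = d) (hz : f z = f ω) : ω ⤳ z := by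
  have hfT : LocallyOfFiniteType f := locallyOfFiniteType_of_comp_eq qX qY f hf
  have hJX : JacobsonSpace X := LocallyOfFiniteType.jacobsonSpace qX
  have hJY : JacobsonSpace Y := LocallyOfFiniteType.jacobsonSpace qY
  have hE := isConstructible_image_inter qX qY f hf (closure {ω}) Set.univ isClosed_closure
    isOpen_univ
  rw [Set.inter_univ] at hE
  obtain ⟨U, hU, hηU, hsub⟩ := exists_open_of_mem_constructible qX qY f hf hE (f ω)
    ⟨ω, subset_closure rfl, rfl⟩
  let N : Set X := closure {z} ∩ f.base ⁻¹' U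
  have hN : IsLocallyClosed N :=
    isClosed_closure.isLocallyClosed.inter (hU.preimage f.continuous).isLocallyClosed
  have hzN : z ∈ N := ⟨subset_closure rfl, by show f z ∈ U; rw [hz]; exact hηU⟩
  have hsubN : N ∩ closedPoints X ⊆ closure {ω} := by
    rintro x ⟨⟨hxz, hxU⟩, hx⟩
    have hfx : IsClosed ({f x} : Set Y) := f.closePoints_subset_preimage_closedPoints hx
    have hfxη : f x ∈ closure ({f ω} : Set Y) := by
      rw [← hz]
      exact specializes_iff_mem_closure.mp
        ((specializes_iff_mem_closure.mpr hxz : z ⤳ x).map f.continuous)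
    obtain ⟨x', hx'ω, hx'⟩ := hsub ⟨hxU, hfxη⟩
    have h1 := (le_of_specializes_closed qX qY f hf d hirr hdim ω x'
      (specializes_iff_mem_closure.mpr hx'ω) (by rw [hx']; exact hfx)).2 hω x hx'.symm
    exact specializes_iff_mem_closure.mp h1
  have h2 : closure N ⊆ closure {ω} := by
    rw [← JacobsonSpace.closure_inter_closedPoints_eq_closure hN]
    exact closure_minimal hsubN isClosed_closure
  exact specializes_iff_mem_closure.mpr (h2 (subset_closure hzN))

/-- Maximal points of `X` have relative dimension `d`. -/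
lemma good_of_maximal (z : X) (hz : ∀ t : X, t ⤳ z → t = z) : resTrdegNat f z = d := by
  obtain ⟨ω, hω, hωd⟩ := exists_good qX qY f hf d hirr hdim (f z)
  have h1 := specializes_of_good qX qY f hf d hirr hdim ω z hωd hω.symm
  rw [← hz ω h1]
  exact hωd

omit hirr hdim in
lemma closure_image_closure_singleton (z : X) :
    closure (f.base '' closure ({z} : Set X)) = closure {f z} := by
  apply le_antisymm
  · refine closure_minimal ?_ isClosed_closure
    have := image_closure_subset_closure_image (s := ({z} : Set X)) f.continuous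
    rwa [Set.image_singleton] at this
  · exact closure_mono (Set.singleton_subset_iff.mpr ⟨z, subset_closure rfl, rfl⟩)

omit hirr hdim in
/-- The dimension of the closure of a point of relative dimension `d`. -/
lemma dim_closure_eq (z : X) (hz : resTrdegNat f z = d) :
    topologicalKrullDim ↥(closure ({z} : Set X)) =
      d + topologicalKrullDim ↥(closure (f.base '' closure ({z} : Set X))) := by
  rw [closure_image_closure_singleton qX qY f hf z,
    (isDimFun_trdegNat qX).topologicalKrullDim_closure_singleton z,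
    (isDimFun_trdegNat qY).topologicalKrullDim_closure_singleton (f z),
    trdegNat_eq_add qX qY f hf z, hz]
  push_cast
  exact add_comm _ _

/-- The closure of a point of relative dimension `d` contains every closed fibre it meets. -/
lemma fibre_subset_of_good (z : X) (hz : resTrdegNat f z = d) (y : Y)
    (hy : IsClosed ({y} : Set Y)) (hne : (f.base ⁻¹' {y} ∩ closure ({z} : Set X)).Nonempty) :
    f.base ⁻¹' {y} ⊆ closure ({z} : Set X) := by
  obtain ⟨x, hxy, hxz⟩ := hne
  have hxy' : f x = y := hxy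
  intro t ht
  have ht' : f t = y := ht
  exact specializes_iff_mem_closure.mp
    ((le_of_specializes_closed qX qY f hf d hirr hdim z x (specializes_iff_mem_closure.mpr hxz)
      (by rw [hxy']; exact hy)).2 hz t (ht'.trans hxy'.symm))

/-- The unique dominant irreducible component. -/
lemma exists_dominant [IrreducibleSpace Y] :
    ∃ ω₀ : X, f ω₀ = genericPoint Y ∧ resTrdegNat f ω₀ = d ∧ (∀ t : X, t ⤳ ω₀ → t = ω₀) ∧
      ∀ z : X, f z = genericPoint Y → ω₀ ⤳ z := by
  obtain ⟨ω₀, hω₀, hd₀⟩ := exists_good qX qY f hf d hirr hdim (genericPoint Y)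
  have hall : ∀ z : X, f z = genericPoint Y → ω₀ ⤳ z := fun z hz =>
    specializes_of_good qX qY f hf d hirr hdim ω₀ z hd₀ (hz.trans hω₀.symm)
  refine ⟨ω₀, hω₀, hd₀, fun t ht => ?_, hall⟩
  have h1 : f t = genericPoint Y := by
    apply eq_genericPoint_of_specializes
    rw [← hω₀]
    exact ht.map f.continuous
  exact (ht.antisymm (hall t h1)).eq

omit hirr hdim in
/-- Conclusion once the dominant good point is known to be generic. -/
lemma irreducibleSpace_and_dim_eq [IrreducibleSpace Y] (ω₀ : X) (hω₀ : f ω₀ = genericPoint Y)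
    (hd₀ : resTrdegNat f ω₀ = d) (huniv : ∀ x : X, ω₀ ⤳ x) :
    IrreducibleSpace ↥X ∧ topologicalKrullDim ↥X = d + topologicalKrullDim ↥Y := by
  have hcl : closure ({ω₀} : Set X) = Set.univ :=
    Set.eq_univ_of_forall fun x => specializes_iff_mem_closure.mp (huniv x)
  have hirrX : IrreducibleSpace X := by
    rw [irreducibleSpace_def]
    show IsIrreducible (Set.univ : Set X)
    rw [← hcl]
    exact isIrreducible_singleton.closure
  refine ⟨hirrX, ?_⟩
  have hgen : genericPoint X = ω₀ := (genericPoint_spec X).eq hcl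
  rw [topologicalKrullDim_eq_trdegNat_genericPoint qX, topologicalKrullDim_eq_trdegNat_genericPoint qY,
    hgen, trdegNat_eq_add qX qY f hf ω₀, hω₀, hd₀]
  push_cast
  exact add_comm _ _

end Main

end Groth.Agent.Lib.Helper72.FibDimIrr
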