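import Groth.Agent.Lib.Helper72.GrpdRestrict

/-!
# The pair groupoid `(U, U ×_S U)` and the morphism `j : G ⟶ pair`
-/

set_option autoImplicit false

universe u

namespace Groth.Agent.Lib.Helper72.GrpdPts

open AlgebraicGeometry CategoryTheory CategoryTheory.Limits Grpd

variable {S : Scheme.{u}}

set_option backward.isDefEq.respectTransparency false in
/-- The pair (codiscrete) groupoid on `U` over `S`: arrows `U ×_S U`, `t = fst`, `s = snd`. -/
noncomputable def pair {U : Scheme.{u}} (pU : U ⟶ S) : Grpd.GroupoidScheme S where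
  U := U
  R := pullback pU pU
  pU := pU
  pR := pullback.fst pU pU ≫ pU
  s := pullback.snd pU pU
  t := pullback.fst pU pU
  e := pullback.lift (𝟙 U) (𝟙 U) rfl
  i := pullback.lift (pullback.snd pU pU) (pullback.fst pU pU) pullback.condition.symm
  c := pullback.lift (pullback.fst _ _ ≫ pullback.fst pU pU) (pullback.snd _ _ ≫ pullback.snd pU pU)
    (by
      rw [Category.assoc, pullback.condition, ← Category.assoc, pullback.condition, Category.assoc,
        pullback.condition, Category.assoc])
  s_over := pullback.condition.symm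
  t_over := rfl
  comp_s := fun α β h => by simp
  comp_t := fun α β h => by simp
  assoc := fun α β γ h₁ h₂ => by
    apply pullback.hom_ext <;> simp
  e_s := by simp
  e_t := by simp
  comp_e := fun α => by
    apply pullback.hom_ext <;> simp
  e_comp := fun α => by
    apply pullback.hom_ext <;> simp
  i_s := by simp
  i_t := by simp
  comp_i := fun α => by
    apply pullback.hom_ext <;> simp
  i_comp := fun α => by
    apply pullback.hom_ext <;> simp

set_option backward.isDefEq.respectTransparency false in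
/-- The morphism `(𝟙, j) : G ⟶ pair G.pU`. -/
noncomputable def toPair (G : Grpd.GroupoidScheme S) : Grpd.GroupoidScheme.Hom G (pair G.pU) where
  fU := 𝟙 G.U
  fR := G.j
  fU_over := Category.id_comp _
  comm_s := by
    show G.j ≫ pullback.snd G.pU G.pU = G.s ≫ 𝟙 G.U
    simp [GroupoidScheme.j]
  comm_t := by
    show G.j ≫ pullback.fst G.pU G.pU = G.t ≫ 𝟙 G.U
    simp [GroupoidScheme.j]
  comm_c := fun α β h => by
    show (pullback.lift α β h ≫ G.c) ≫ G.j = _
    apply pullback.hom_ext
    · show ((pullback.lift α β h ≫ G.c) ≫ G.j) ≫ pullback.fst G.pU G.pU = _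
      simp only [GroupoidScheme.j, Category.assoc, pullback.lift_fst]
      rw [← Category.assoc, G.comp_t α β h]
      simp [pair]
    · show ((pullback.lift α β h ≫ G.c) ≫ G.j) ≫ pullback.snd G.pU G.pU = _
      simp only [GroupoidScheme.j, Category.assoc, pullback.lift_snd]
      rw [← Category.assoc, G.comp_s α β h]
      simp [pair]

set_option backward.isDefEq.respectTransparency false in
lemma pair_j {U : Scheme.{u}} (pU : U ⟶ S) : (pair pU).j = 𝟙 (pullback pU pU) := by
  apply pullback.hom_ext
  · show pullback.lift (pullback.fst pU pU) (pullback.snd pU pU) _ ≫ pullback.fst pU pU =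
      𝟙 (pullback pU pU) ≫ pullback.fst pU pU
    simp
  · show pullback.lift (pullback.fst pU pU) (pullback.snd pU pU) _ ≫ pullback.snd pU pU =
      𝟙 (pullback pU pU) ≫ pullback.snd pU pU
    simp

set_option backward.isDefEq.respectTransparency false in
lemma restrict_j (G : Grpd.GroupoidScheme S) {Z : Scheme.{u}} (ι : Z ⟶ G.R) [Mono ι]
    (e' : G.U ⟶ Z) (he : e' ≫ ι = G.e) (i' : Z ⟶ Z) (hi : i' ≫ ι = ι ≫ G.i)
    (c' : pullback (ι ≫ G.s) (ι ≫ G.t) ⟶ Z)
    (hc : c' ≫ ι = pullback.map (ι ≫ G.s) (ι ≫ G.t) G.s G.t ι ι (𝟙 G.U) (by simp) (by simp) ≫ G.c) :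
    (restrict G ι e' he i' hi c' hc).j = ι ≫ G.j := by
  apply pullback.hom_ext
  · show pullback.lift (ι ≫ G.t) (ι ≫ G.s) _ ≫ pullback.fst G.pU G.pU =
      (ι ≫ G.j) ≫ pullback.fst G.pU G.pU
    simp [GroupoidScheme.j]
  · show pullback.lift (ι ≫ G.t) (ι ≫ G.s) _ ≫ pullback.snd G.pU G.pU =
      (ι ≫ G.j) ≫ pullback.snd G.pU G.pU
    simp [GroupoidScheme.j]

end Groth.Agent.Lib.Helper72.GrpdPts
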