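import Groth.Prelude.Def_Grpd
import Mathlib.AlgebraicGeometry.AffineScheme

set_option autoImplicit false

universe u

namespace Groth.Agent.Lib.Helper72.GrpdAffine

open AlgebraicGeometry CategoryTheory CategoryTheory.Limits

/-- global-sections ring hom of a morphism from an affine scheme `Spec D`. -/
noncomputable def gam {X : Scheme.{u}} {D : CommRingCat.{u}} (m : Spec D ⟶ X) : Γ(X, ⊤) →+* D :=
  (m.appTop ≫ (Scheme.ΓSpecIso D).hom).hom

lemma gam_comp {X Y : Scheme.{u}} {D : CommRingCat.{u}} (m : Spec D ⟶ X) (f : X ⟶ Y)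
    (a : Γ(Y, ⊤)) : gam (m ≫ f) a = gam m (f.appTop.hom a) := by
  simp [gam]

/-- the morphism `Spec D ⟶ X` to an affine scheme attached to a ring hom. -/
noncomputable def ofGam {X : Scheme.{u}} [IsAffine X] {D : CommRingCat.{u}} (φ : Γ(X, ⊤) →+* D) :
    Spec D ⟶ X :=
  Spec.map (CommRingCat.ofHom φ) ≫ X.isoSpec.inv

lemma isoSpec_inv_appTop (X : Scheme.{u}) [IsAffine X] :
    X.isoSpec.inv.appTop = (Scheme.ΓSpecIso Γ(X, ⊤)).inv := by
  have h : X.isoSpec.hom.appTop = (Scheme.ΓSpecIso Γ(X, ⊤)).hom := Scheme.toSpecΓ_appTop X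
  have h2 : X.isoSpec.hom.appTop ≫ X.isoSpec.inv.appTop = 𝟙 _ := by
    rw [← Scheme.Hom.comp_appTop, Iso.inv_hom_id]; rfl
  rw [h] at h2
  rw [← cancel_epi (Scheme.ΓSpecIso Γ(X, ⊤)).hom, h2, Iso.hom_inv_id]

lemma gam_ofGam {X : Scheme.{u}} [IsAffine X] {D : CommRingCat.{u}} (φ : Γ(X, ⊤) →+* D) :
    gam (ofGam φ) = φ := by
  unfold gam ofGam
  rw [Scheme.Hom.comp_appTop, isoSpec_inv_appTop, Category.assoc, Scheme.ΓSpecIso_naturality]
  have key : (Scheme.ΓSpecIso Γ(X, ⊤)).inv ≫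
      (Scheme.ΓSpecIso (CommRingCat.of ↑Γ(X, ⊤))).hom ≫ CommRingCat.ofHom φ =
      CommRingCat.ofHom φ := Iso.inv_hom_id_assoc _ _
  rw [key]
  rfl

lemma ofGam_comp {X Y : Scheme.{u}} [IsAffine X] [IsAffine Y] {D : CommRingCat.{u}}
    (φ : Γ(X, ⊤) →+* D) (f : X ⟶ Y) : ofGam φ ≫ f = ofGam (φ.comp f.appTop.hom) := by
  unfold ofGam
  rw [Category.assoc, ← Scheme.isoSpec_inv_naturality, ← Category.assoc, ← Spec.map_comp]
  rfl

theorem exists_ring_data {S : Scheme.{u}} (G : Grpd.GroupoidScheme S) [IsAffine G.U] [IsAffine G.R]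
    (BB : Type u) [CommRing BB] (ιL ιR : Γ(G.R, ⊤) →+* BB)
    (h1 : ∀ a, ιL (G.s.appTop.hom a) = ιR (G.t.appTop.hom a)) :
    ∃ c' : Γ(G.R, ⊤) →+* BB, (∀ a, c' (G.s.appTop.hom a) = ιR (G.s.appTop.hom a)) ∧
      (∀ a, c' (G.t.appTop.hom a) = ιL (G.t.appTop.hom a)) := by
  let α : Spec (CommRingCat.of BB) ⟶ G.R := ofGam ιL
  let β : Spec (CommRingCat.of BB) ⟶ G.R := ofGam ιR
  have h : α ≫ G.s = β ≫ G.t := by
    rw [ofGam_comp, ofGam_comp]
    congr 1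
    ext a
    exact h1 a
  refine ⟨gam (pullback.lift α β h ≫ G.c), fun a => ?_, fun a => ?_⟩
  · rw [← gam_comp, G.comp_s, gam_comp, gam_ofGam]
  · rw [← gam_comp, G.comp_t, gam_comp, gam_ofGam]

end Groth.Agent.Lib.Helper72.GrpdAffine
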