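import Groth.Agent.Lib.Helper72.FibDimIrr

/-!
# Dimension theory of homogeneous morphisms

Let `α : G ⟶ X` be a morphism of schemes of finite type over a field `k` which is *homogeneous*:
for any two closed points `c`, `v` of `G` there are `k`-automorphisms `L` of `G` and `τ` of `X`
with `L ≫ α = α ≫ τ` and `L c = v` (think of the orbit map of an algebraic group over an
algebraically closed field).  Then, for a closed point `x₀ = α e` of `X`,

* `dim G = dim (range α) + dim α⁻¹(x₀)`  (`dim_eq_add`),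
* `dim (closure (range α) \ range α) < dim (range α)`  (`dim_boundary_lt`).
-/

set_option autoImplicit false

universe u

open AlgebraicGeometry CategoryTheory TopologicalSpace Topology Order

namespace Groth.Agent.Lib.Helper72.OrbitDim

open Groth.Agent.Lib.Helper73 Groth.Agent.Lib.Helper72.FibDim Groth.Agent.Lib.Helper72.FibDimIrr

section Top

/-- A subset `B` of a space with a dimension function, which contains the generic point of the
closure of each of its irreducible subsets, and on which the dimension function is `< N`, has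
dimension `< N`. -/
lemma topologicalKrullDim_subtype_lt {X : Type*} [TopologicalSpace X] [QuasiSober X] {δ : X → ℕ}
    (h : IsDimFun δ) (B : Set X)
    (hB : ∀ y : X, closure ({y} : Set X) ⊆ closure (B ∩ closure {y}) → y ∈ B) (N : ℕ)
    (hN : ∀ y ∈ B, δ y < N) : topologicalKrullDim ↥B < (N : WithBot ℕ∞) := by
  have hT0 := h.t0Space
  -- the generic point of the closure of an irreducible closed subset of `B`
  have hgen : ∀ Z : IrreducibleCloseds ↥B, ∃ y : X,
      closure ({y} : Set X) = closure (Subtype.val '' (Z : Set ↥B)) := by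
    intro Z
    have hirr : IsIrreducible (closure (Subtype.val '' (Z : Set ↥B))) :=
      (Z.isIrreducible.image _ continuous_subtype_val.continuousOn).closure
    obtain ⟨y, hy⟩ := QuasiSober.sober hirr isClosed_closure
    exact ⟨y, hy.def⟩
  choose gen hgen using hgen
  have hmem : ∀ Z : IrreducibleCloseds ↥B, gen Z ∈ B := by
    intro Z
    apply hB
    rw [hgen Z]
    apply closure_mono
    rintro _ ⟨z, hz, rfl⟩
    exact ⟨z.2, subset_closure ⟨z, hz, rfl⟩⟩
  have hcar : ∀ Z : IrreducibleCloseds ↥B,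
      (Z : Set ↥B) = Subtype.val ⁻¹' closure ({gen Z} : Set X) := by
    intro Z
    rw [hgen Z, ← Topology.IsInducing.subtypeVal.closure_eq_preimage_closure_image,
      Z.isClosed.closure_eq]
  have hmono : ∀ Z Z' : IrreducibleCloseds ↥B, Z < Z' → δ (gen Z) < δ (gen Z') := by
    intro Z Z' hlt
    have hle : (Z : Set ↥B) ⊆ (Z' : Set ↥B) := hlt.le
    have hsp : gen Z' ⤳ gen Z := by
      rw [specializes_iff_closure_subset, hgen Z, hgen Z']
      exact closure_mono (Set.image_mono hle)
    refine h.lt_of_specializes hsp ?_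
    intro e
    have : (Z' : Set ↥B) = (Z : Set ↥B) := by rw [hcar Z, hcar Z', e]
    exact lt_irrefl _ (lt_of_lt_of_eq hlt (IrreducibleCloseds.ext this))
  rw [topologicalKrullDim, krullDim_lt_coe_iff]
  intro l
  have h1 := LTSeries.apply_head_add_length_le l (fun Z => δ (gen Z)) hmono
  have h2 := hN _ (hmem l.last)
  omega

end Top

section Iso

variable {k : Type u} [Field k] {G : Scheme.{u}} (qG : G ⟶ Spec (CommRingCat.of k))

/-- `k`-automorphisms preserve the transcendence degree of residue fields. -/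
lemma trdegNat_apply_of_isIso (L : G ⟶ G) [IsIso L] (hL : L ≫ qG = qG) (t : G) :
    trdegNat qG (L t) = trdegNat qG t := by
  rw [trdegNat_eq_resTrdegNat, trdegNat_eq_resTrdegNat,
    ← resTrdegNat_comp_of_isPreimmersion L qG t, hL]

omit [Field k] in
lemma specializes_apply_iff (L : G ⟶ G) [IsIso L] {a b : G} : L a ⤳ L b ↔ a ⤳ b :=
  L.isOpenEmbedding.isInducing.specializes_iff

lemma maximal_apply (L : G ⟶ G) [IsIso L] {ξ : G} (hξ : ∀ t : G, t ⤳ ξ → t = ξ) :
    ∀ t : G, t ⤳ L ξ → t = L ξ := by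
  intro t ht
  obtain ⟨s, rfl⟩ : ∃ s : G, L s = t := by
    have : Function.Surjective L := L.homeomorph.surjective
    exact this t
  rw [hξ s ((specializes_apply_iff L).mp ht)]

end Iso

section Main

variable {k : Type u} [Field k] {G X : Scheme.{u}}
  (qG : G ⟶ Spec (CommRingCat.of k)) (qX : X ⟶ Spec (CommRingCat.of k))
  [LocallyOfFiniteType qG] [QuasiCompact qG] [LocallyOfFiniteType qX] [QuasiCompact qX]
  (α : G ⟶ X) (hα : α ≫ qX = qG)

/-- Homogeneity of a morphism: any closed point can be moved to any other closed point by a pair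
of compatible `k`-automorphisms of source and target. -/
def Homog : Prop := ∀ c v : G, IsClosed ({c} : Set G) → IsClosed ({v} : Set G) →
  ∃ (L : G ⟶ G) (τ : X ⟶ X), IsIso L ∧ IsIso τ ∧ L ≫ qG = qG ∧ τ ≫ qX = qX ∧
    L ≫ α = α ≫ τ ∧ L c = v

variable (hom : Homog qG qX α)

include qG in
omit [LocallyOfFiniteType qX] [QuasiCompact qX] in
lemma noetherianSpace_of_ft : NoetherianSpace G := by
  have : IsNoetherian G :=
    { toIsLocallyNoetherian := isLocallyNoetherian_of_lft qG
      toCompactSpace := compactSpace_of_qc qG }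
  infer_instance

include hom in
omit [QuasiCompact qG] [LocallyOfFiniteType qX] [QuasiCompact qX] in
/-- Moving a maximal point to another one, and a closed point into a given neighbourhood. -/
lemma exists_move (ξ ξ' : G) (hξ : ∀ t : G, t ⤳ ξ → t = ξ) (hξ' : ∀ t : G, t ⤳ ξ' → t = ξ')
    (c : G) (hc : IsClosed ({c} : Set G)) (hξc : ξ ⤳ c) (V : Set G) (hV : IsOpen V)
    (hξ'V : ξ' ∈ V) :
    ∃ (L : G ⟶ G) (τ : X ⟶ X), IsIso L ∧ IsIso τ ∧ L ≫ qG = qG ∧ τ ≫ qX = qX ∧
      L ≫ α = α ≫ τ ∧ L ξ = ξ' ∧ L c ∈ V := by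
  have := isLocallyNoetherian_of_lft qG
  have : JacobsonSpace G := LocallyOfFiniteType.jacobsonSpace qG
  obtain ⟨U, hU, hξ'U, hall⟩ := exists_open_forall_specializes_of_maximal ξ' hξ'
  obtain ⟨v, ⟨hvV, hvU⟩, hvc⟩ := nonempty_inter_closedPoints (X := G) (Z := V ∩ U)
    ⟨ξ', hξ'V, hξ'U⟩ (hV.inter hU).isLocallyClosed
  obtain ⟨L, τ, hL, hτ, h1, h2, h3, h4⟩ := hom c v hc hvc
  refine ⟨L, τ, hL, hτ, h1, h2, h3, ?_, h4 ▸ hvV⟩
  have h5 : L ξ ⤳ v := h4 ▸ (specializes_apply_iff L).mpr hξc
  have h6 : L ξ ∈ U := h5.mem_open hU hvU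
  exact (maximal_apply L hξ ξ' (hall _ h6)).symm

include hα in
omit [QuasiCompact qG] [QuasiCompact qX] in
/-- Compatible automorphisms preserve the residual transcendence degree. -/
lemma resTrdegNat_apply (L : G ⟶ G) (τ : X ⟶ X) [IsIso L] [IsIso τ] (hL : L ≫ qG = qG)
    (hτ : τ ≫ qX = qX) (hLτ : L ≫ α = α ≫ τ) (t : G) :
    resTrdegNat α (L t) = resTrdegNat α t := by
  have h1 := trdegNat_eq_add qG qX α hα (L t)
  have h2 := trdegNat_eq_add qG qX α hα t
  have h3 : α (L t) = τ (α t) := by
    rw [← Scheme.Hom.comp_apply, hLτ, Scheme.Hom.comp_apply]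
  rw [trdegNat_apply_of_isIso qG L hL, h3, trdegNat_apply_of_isIso qX τ hτ] at h1
  omega

include hα hom in
omit [QuasiCompact qG] [QuasiCompact qX] in
/-- All maximal points of the source have the same invariants. -/
lemma invariants_eq_of_maximal (ξ ξ' : G) (hξ : ∀ t : G, t ⤳ ξ → t = ξ)
    (hξ' : ∀ t : G, t ⤳ ξ' → t = ξ') :
    trdegNat qG ξ' = trdegNat qG ξ ∧ trdegNat qX (α ξ') = trdegNat qX (α ξ) ∧
      resTrdegNat α ξ' = resTrdegNat α ξ := by
  have : JacobsonSpace G := LocallyOfFiniteType.jacobsonSpace qG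
  obtain ⟨c, hc, hξc⟩ := exists_isClosed_specializes ξ
  obtain ⟨L, τ, hL, hτ, h1, h2, h3, h4, -⟩ :=
    exists_move qG qX α hom ξ ξ' hξ hξ' c hc hξc Set.univ isOpen_univ (Set.mem_univ _)
  have h5 : α (L ξ) = τ (α ξ) := by
    rw [← Scheme.Hom.comp_apply, h3, Scheme.Hom.comp_apply]
  refine ⟨?_, ?_, ?_⟩
  · rw [← h4, trdegNat_apply_of_isIso qG L h1]
  · rw [← h4, h5, trdegNat_apply_of_isIso qX τ h2]
  · rw [← h4, resTrdegNat_apply qG qX α hα L τ h1 h2 h3]

include hα hom in
omit [QuasiCompact qG] [QuasiCompact qX] in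
/-- The dimension of the source is the value of the dimension function at any maximal point. -/
lemma dim_source_eq (ξ₀ : G) (hξ₀ : ∀ t : G, t ⤳ ξ₀ → t = ξ₀) :
    topologicalKrullDim G = ((trdegNat qG ξ₀ : ℕ) : WithBot ℕ∞) := by
  have hδ := isDimFun_trdegNat qG
  have := hδ.t0Space
  rw [hδ.topologicalKrullDim_eq_iSup]
  apply le_antisymm
  · refine iSup_le fun t => ?_
    obtain ⟨ξ, hξt, hξ⟩ := exists_maximal_specializes t
    have h1 := hδ.le_of_specializes hξt
    have h2 := (invariants_eq_of_maximal qG qX α hα hom ξ₀ ξ hξ₀ hξ).1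
    rw [h2] at h1
    exact_mod_cast h1
  · exact le_iSup (fun t : G => ((trdegNat qG t : ℕ∞) : WithBot ℕ∞)) ξ₀

include qG in
omit [LocallyOfFiniteType qX] [QuasiCompact qX] in
/-- Every point of the closure of the image is a specialization of the image of a maximal
point. -/
lemma exists_maximal_specializes_of_mem_closure_range (y : X)
    (hy : y ∈ closure (Set.range α)) :
    ∃ ξ : G, (∀ t : G, t ⤳ ξ → t = ξ) ∧ α ξ ⤳ y := by
  have := noetherianSpace_of_ft qG
  have hδ := isDimFun_trdegNat qG
  have := hδ.t0Space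
  have hfin := NoetherianSpace.finite_irreducibleComponents (α := G)
  have h1 : Set.range α = ⋃ C ∈ irreducibleComponents G, α '' C := by
    rw [← Set.image_univ, ← sUnion_irreducibleComponents, Set.image_sUnion, Set.sUnion_image]
  rw [h1, hfin.closure_biUnion] at hy
  obtain ⟨C, hC, hyC⟩ := Set.mem_iUnion₂.mp hy
  obtain ⟨ξ, rfl, hξ⟩ := exists_maximal_of_mem_irreducibleComponents C hC
  rw [Groth.Agent.Lib.Helper73.closure_image_closure_singleton] at hyC
  exact ⟨ξ, hξ, specializes_iff_mem_closure.mpr hyC⟩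

include qG hα in
/-- The image is constructible. -/
lemma isConstructible_range : IsConstructible (Set.range α) := by
  have := noetherianSpace_of_ft qG
  have hfT : LocallyOfFiniteType α := locallyOfFiniteType_of_comp_eq qG qX α hα
  have hfQ : QuasiCompact α := quasiCompact_of_ft qG qX α
  rw [← Set.image_univ]
  exact isConstructible_image qX α IsConstructible.univ

include hα hom in
/-- The dimension of the image is the value of the dimension function of the target at the image
of any maximal point. -/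
lemma dim_range_eq (ξ₀ : G) (hξ₀ : ∀ t : G, t ⤳ ξ₀ → t = ξ₀) :
    topologicalKrullDim ↥(Set.range α) = ((trdegNat qX (α ξ₀) : ℕ) : WithBot ℕ∞) := by
  have hδ := isDimFun_trdegNat qX
  apply le_antisymm
  · have h1 : topologicalKrullDim ↥(Set.range α) ≤ topologicalKrullDim ↥(closure (Set.range α)) :=
      (Topology.IsEmbedding.inclusion (subset_closure (s := Set.range α))).isInducing.topologicalKrullDim_le
    refine h1.trans ?_
    rw [hδ.topologicalKrullDim_closed_eq_iSup isClosed_closure]
    refine iSup_le fun y => ?_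
    obtain ⟨ξ, hξ, hξy⟩ := exists_maximal_specializes_of_mem_closure_range qG α y.1 y.2
    have h2 := hδ.le_of_specializes hξy
    have h3 := (invariants_eq_of_maximal qG qX α hα hom ξ₀ ξ hξ₀ hξ).2.1
    rw [h3] at h2
    exact_mod_cast h2
  · have hE := isConstructible_range qG qX α hα
    obtain ⟨U, hU, hηU, hsub⟩ :
        ∃ U : Set X, IsOpen U ∧ α ξ₀ ∈ U ∧ U ∩ closure {α ξ₀} ⊆ Set.range α := by
      obtain ⟨U, hU, ⟨z, hzU, hzη⟩, hsub⟩ :=
        Groth.Agent.Lib.Helper35.constr_exists_open_of_dense hE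
          (isIrreducible_singleton.closure : IsIrreducible (closure ({α ξ₀} : Set X)))
          (closure_mono (Set.singleton_subset_iff.mpr ⟨⟨ξ₀, rfl⟩, subset_closure rfl⟩))
      exact ⟨U, hU, (specializes_iff_mem_closure.mpr hzη : α ξ₀ ⤳ z).mem_open hU hzU, hsub⟩
    have h1 := hδ.topologicalKrullDim_inter_closure_singleton hU hηU
    have h2 : topologicalKrullDim ↥(U ∩ closure {α ξ₀}) ≤ topologicalKrullDim ↥(Set.range α) :=
      (Topology.IsEmbedding.inclusion hsub).isInducing.topologicalKrullDim_le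
    rw [h1] at h2
    exact_mod_cast h2

include hα hom in
omit [QuasiCompact qG] [QuasiCompact qX] in
/-- The dimension of the fibre over a closed point of the image is the residual transcendence
degree at any maximal point. -/
lemma dim_fibre_eq (ξ₀ : G) (hξ₀ : ∀ t : G, t ⤳ ξ₀ → t = ξ₀) (e : G) (x₀ : X)
    (hx₀ : IsClosed ({x₀} : Set X)) (he : α e = x₀) :
    topologicalKrullDim ↥(α.base ⁻¹' {x₀}) = ((resTrdegNat α ξ₀ : ℕ) : WithBot ℕ∞) := by
  have hfT : LocallyOfFiniteType α := locallyOfFiniteType_of_comp_eq qG qX α hα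
  have hδ := isDimFun_trdegNat qG
  have := hδ.t0Space
  have : JacobsonSpace G := LocallyOfFiniteType.jacobsonSpace qG
  have := isLocallyNoetherian_of_lft qG
  apply le_antisymm
  · rw [dim_fibre_eq_iSup]
    refine iSup_le fun t => ?_
    obtain ⟨t, ht⟩ := t
    have htx : α t = x₀ := ht
    obtain ⟨ξ, hξt, hξ⟩ := exists_maximal_specializes t
    obtain ⟨V₀, hV₀, hξV₀, hall⟩ := exists_open_forall_resTrdegNat_le α ξ
    obtain ⟨c, hc, htc⟩ := exists_isClosed_specializes t
    have hαc : α c = x₀ := by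
      have h1 : α t ⤳ α c := htc.map α.continuous
      rw [htx] at h1
      have h2 : α c ∈ closure ({x₀} : Set X) := specializes_iff_mem_closure.mp h1
      rw [hx₀.closure_eq] at h2
      exact h2
    obtain ⟨L, τ, hL, hτ, h1, h2, h3, h4, h5⟩ :=
      exists_move qG qX α hom ξ ξ hξ hξ c hc (hξt.trans htc) V₀ hV₀ hξV₀
    have h6 : ξ ⤳ L t := by
      have := (specializes_apply_iff L).mpr hξt
      rwa [h4] at this
    have h7 : L t ⤳ L c := (specializes_apply_iff L).mpr htc
    have h8 : α (L t) = α (L c) := by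
      have e1 : α (L t) = τ (α t) := by
        rw [← Scheme.Hom.comp_apply, h3, Scheme.Hom.comp_apply]
      have e2 : α (L c) = τ (α c) := by
        rw [← Scheme.Hom.comp_apply, h3, Scheme.Hom.comp_apply]
      rw [e1, e2, htx, hαc]
    have h9 := hall (L c) h5 (h6.trans h7) (L t) h6 h7 h8
    rw [resTrdegNat_apply qG qX α hα L τ h1 h2 h3] at h9
    have h10 := (invariants_eq_of_maximal qG qX α hα hom ξ₀ ξ hξ₀ hξ).2.2
    rw [h10] at h9
    show ((resTrdegNat α t : ℕ∞) : WithBot ℕ∞) ≤ _
    exact_mod_cast h9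
  · obtain ⟨ξ, hξe, hξ⟩ := exists_maximal_specializes e
    obtain ⟨t, -, -, hte, hle⟩ := exists_generization_resTrdegNat_ge α ξ e hξe
    have h10 := (invariants_eq_of_maximal qG qX α hα hom ξ₀ ξ hξ₀ hξ).2.2
    rw [h10] at hle
    have h1 := resTrdegNat_le_dim_fibre α t x₀ (hte.trans he)
    refine le_trans ?_ h1
    exact_mod_cast hle

include hα hom in
/-- **Dimension formula for homogeneous morphisms.** -/
theorem dim_eq_add (e : G) (x₀ : X) (hx₀ : IsClosed ({x₀} : Set X)) (he : α e = x₀) :
    topologicalKrullDim G =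
      topologicalKrullDim ↥(Set.range α) + topologicalKrullDim ↥(α.base ⁻¹' {x₀}) := by
  have hδ := isDimFun_trdegNat qG
  have := hδ.t0Space
  obtain ⟨ξ₀, -, hξ₀⟩ := exists_maximal_specializes e
  rw [dim_source_eq qG qX α hα hom ξ₀ hξ₀, dim_range_eq qG qX α hα hom ξ₀ hξ₀,
    dim_fibre_eq qG qX α hα hom ξ₀ hξ₀ e x₀ hx₀ he, trdegNat_eq_add qG qX α hα ξ₀]
  push_cast
  rfl

include hα hom in
/-- **The boundary of the image of a homogeneous morphism has smaller dimension.** -/
theorem dim_boundary_lt (e : G) :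
    topologicalKrullDim ↥(closure (Set.range α) \ Set.range α) <
      topologicalKrullDim ↥(Set.range α) := by
  have hδG := isDimFun_trdegNat qG
  have := hδG.t0Space
  have hδ := isDimFun_trdegNat qX
  obtain ⟨ξ₀, -, hξ₀⟩ := exists_maximal_specializes e
  rw [dim_range_eq qG qX α hα hom ξ₀ hξ₀]
  have hE := isConstructible_range qG qX α hα
  have := noetherianSpace_of_ft qX
  have hB : IsConstructible (closure (Set.range α) \ Set.range α) :=
    (Groth.Agent.Lib.Helper35.noeth_isConstructible_of_isClosed isClosed_closure).sdiff hE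
  refine topologicalKrullDim_subtype_lt hδ _
    (fun y hy => mem_of_isConstructible_of_dense hB y hy) _ ?_
  rintro y ⟨hy, hyn⟩
  obtain ⟨ξ, hξ, hξy⟩ := exists_maximal_specializes_of_mem_closure_range qG α y hy
  have h3 := (invariants_eq_of_maximal qG qX α hα hom ξ₀ ξ hξ₀ hξ).2.1
  rw [← h3]
  refine hδ.lt_of_specializes hξy ?_
  rintro rfl
  exact hyn ⟨ξ, rfl⟩

end Main

end Groth.Agent.Lib.Helper72.OrbitDim
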