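import Mathlib
import Groth.Prelude.Def_AGF

/-!
# Constructible sets in Jacobson spaces, and closed points as geometric points
-/

set_option autoImplicit false

universe u

open CategoryTheory AlgebraicGeometry Limits Topology

namespace Groth.Agent.Lib.Helper72.ConstrJacobson

section Top

variable {X : Type*} [TopologicalSpace X]

/-- Every point of a constructible set (and of its complement) lies in a locally closed subset
of it. -/
theorem exists_isLocallyClosed_aux {s : Set X} (hs : IsConstructible s) :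
    (∀ x ∈ s, ∃ Z : Set X, IsLocallyClosed Z ∧ x ∈ Z ∧ Z ⊆ s) ∧
      (∀ x ∈ sᶜ, ∃ Z : Set X, IsLocallyClosed Z ∧ x ∈ Z ∧ Z ⊆ sᶜ) := by
  induction hs using IsConstructible.empty_union_induction with
  | open_retrocompact U hU _ =>
    refine ⟨fun x hx => ⟨U, hU.isLocallyClosed, hx, subset_rfl⟩,
      fun x hx => ⟨Uᶜ, hU.isClosed_compl.isLocallyClosed, hx, subset_rfl⟩⟩
  | union s hs t ht ihs iht =>
    refine ⟨fun x hx => ?_, fun x hx => ?_⟩
    · rcases hx with hx | hx
      · obtain ⟨Z, hZ, hxZ, hZs⟩ := ihs.1 x hx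
        exact ⟨Z, hZ, hxZ, hZs.trans Set.subset_union_left⟩
      · obtain ⟨Z, hZ, hxZ, hZs⟩ := iht.1 x hx
        exact ⟨Z, hZ, hxZ, hZs.trans Set.subset_union_right⟩
    · rw [Set.compl_union] at hx ⊢
      obtain ⟨Z, hZ, hxZ, hZs⟩ := ihs.2 x hx.1
      obtain ⟨Z', hZ', hxZ', hZs'⟩ := iht.2 x hx.2
      exact ⟨Z ∩ Z', hZ.inter hZ', ⟨hxZ, hxZ'⟩, Set.inter_subset_inter hZs hZs'⟩
  | compl s hs ih =>
    refine ⟨ih.2, ?_⟩
    rw [compl_compl]
    exact ih.1

/-- A constructible subset of a Jacobson space containing all the closed points is everything. -/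
theorem eq_univ_of_closedPoints_subset [JacobsonSpace X] {s : Set X} (hs : IsConstructible s)
    (h : closedPoints X ⊆ s) : s = Set.univ := by
  rw [Set.eq_univ_iff_forall]
  intro x
  by_contra hx
  obtain ⟨Z, hZ, hxZ, hZs⟩ := (exists_isLocallyClosed_aux hs).2 x hx
  obtain ⟨c, hcZ, hc⟩ := nonempty_inter_closedPoints ⟨x, hxZ⟩ hZ
  exact hZs hcZ (h hc)

end Top

section Scheme

/-- Over a field `k` with an algebraically closed extension `K`, every closed point of a scheme
locally of finite type over `k` is the image of a `K`-point. -/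
theorem exists_point_of_isClosed {k K : Type u} [Field k] [Field K] [Algebra k K] [IsAlgClosed K]
    (Y : Over (Spec (CommRingCat.of k))) [LocallyOfFiniteType Y.hom] (z : Y.left)
    (hz : IsClosed ({z} : Set Y.left)) :
    ∃ ζ : Over.mk (Spec.map (CommRingCat.ofHom (algebraMap k K))) ⟶ Y,
      ζ.left (IsLocalRing.closedPoint K) = z := by
  let t : Spec (CommRingCat.of K) ⟶ Spec (CommRingCat.of k) :=
    Spec.map (CommRingCat.ofHom (algebraMap k K))
  haveI : Surjective t := by
    constructor
    intro y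
    exact ⟨IsLocalRing.closedPoint K, Subsingleton.elim (α := ↥(Spec (CommRingCat.of k))) _ _⟩
  haveI : JacobsonSpace ↥(pullback Y.hom t) :=
    LocallyOfFiniteType.jacobsonSpace (pullback.snd Y.hom t)
  obtain ⟨p, hp⟩ := (pullback.fst Y.hom t).surjective z
  have hZ : IsClosed ((pullback.fst Y.hom t) ⁻¹' {z}) := hz.preimage (pullback.fst Y.hom t).continuous
  obtain ⟨c, hcZ, hc⟩ := nonempty_inter_closedPoints ⟨p, hp⟩ hZ.isLocallyClosed
  have hs := pointOfClosedPoint_comp (pullback.snd Y.hom t) c hc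
  have hw : (pointOfClosedPoint (pullback.snd Y.hom t) c hc ≫ pullback.fst Y.hom t) ≫ Y.hom =
      (Over.mk t).hom := by
    rw [Category.assoc, pullback.condition, reassoc_of% hs]
    rfl
  refine ⟨Over.homMk _ hw, ?_⟩
  show (pointOfClosedPoint (pullback.snd Y.hom t) c hc ≫ pullback.fst Y.hom t)
    (IsLocalRing.closedPoint K) = z
  rw [Scheme.Hom.comp_apply, pointOfClosedPoint_apply]
  exact hcZ

end Scheme

end Groth.Agent.Lib.Helper72.ConstrJacobson
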