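import Mathlib.AlgebraicGeometry.IdealSheaf.Subscheme
import Mathlib.AlgebraicGeometry.Morphisms.Flat
import Mathlib.AlgebraicGeometry.Morphisms.ClosedImmersion
import Mathlib.RingTheory.Flat.Localization
import Mathlib.RingTheory.Spectrum.Prime.Topology

/-!
# The intersection of the open-closed neighbourhoods of a point as a flat closed subscheme
-/

set_option autoImplicit false

universe u

namespace Groth.Agent.Lib.Helper72.ProClopen

open AlgebraicGeometry CategoryTheory CategoryTheory.Limits TopologicalSpace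

section algebra

/-- A surjective ring homomorphism whose kernel is a pure ideal is flat (the target is the
localization at the elements mapping to `1`). -/
theorem flat_of_surjective_of_pure {R S : Type*} [CommRing R] [CommRing S] (f : R →+* S)
    (hf : Function.Surjective f)
    (hp : ∀ a ∈ RingHom.ker f, ∃ b ∈ RingHom.ker f, a * b = a) : f.Flat := by
  algebraize [f]
  let M : Submonoid R := (⊥ : Submonoid S).comap (f : R →* S)
  have hM : ∀ s, s ∈ M ↔ f s = 1 := fun s => by
    show (f : R →* S) s ∈ (⊥ : Submonoid S) ↔ _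
    rw [Submonoid.mem_bot]; rfl
  have : IsLocalization M S := by
    refine ⟨?_, ?_, ?_⟩
    · rintro ⟨s, hs⟩
      show IsUnit (f s)
      rw [(hM s).1 hs]
      exact isUnit_one
    · intro z
      obtain ⟨r, rfl⟩ := hf z
      exact ⟨(r, 1), by simp; rfl⟩
    · intro a b hab
      have hk : a - b ∈ RingHom.ker f := by
        rw [RingHom.mem_ker, map_sub]
        exact sub_eq_zero.2 hab
      obtain ⟨d, hd, hd'⟩ := hp _ hk
      refine ⟨⟨1 - d, (hM _).2 ?_⟩, ?_⟩
      · rw [map_sub, map_one, (RingHom.mem_ker).1 hd, sub_zero]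
      · show (1 - d) * a = (1 - d) * b
        have : (1 - d) * (a - b) = 0 := by
          rw [sub_mul, one_mul, mul_comm d, hd', sub_self]
        rw [mul_sub, sub_eq_zero] at this
        exact this
  exact IsLocalization.flat S M

end algebra

section scheme

variable {X : Scheme.{u}}

/-- The inclusion of an open and closed subscheme is a closed immersion. -/
lemma isClosedImmersion_ι (W : X.Opens) (hW : IsClosed (W : Set X)) : IsClosedImmersion W.ι := by
  apply IsClosedImmersion.of_isPreimmersion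
  rw [Scheme.Opens.range_ι]
  exact hW

/-- An open and closed subset cuts out an idempotent on every affine open. -/
lemma exists_idempotent {U : X.Opens} (hU : IsAffineOpen U) (W : X.Opens)
    (hW : IsClosed (W : Set X)) :
    ∃ ε : Γ(X, U), IsIdempotentElem ε ∧ (X.basicOpen ε : Set X) = (U : Set X) ∩ (W : Set X) := by
  have hcl : IsClopen (hU.fromSpec ⁻¹' (W : Set X)) :=
    ⟨hW.preimage hU.fromSpec.continuous, W.isOpen.preimage hU.fromSpec.continuous⟩
  obtain ⟨ε, hε, hs⟩ := PrimeSpectrum.isClopen_iff.1 hcl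
  refine ⟨ε, hε, ?_⟩
  rw [← hU.fromSpec_image_basicOpen]
  show hU.fromSpec '' (PrimeSpectrum.basicOpen ε : Set (PrimeSpectrum Γ(X, U))) = _
  rw [← hs, Set.image_preimage_eq_inter_range, hU.range_fromSpec, Set.inter_comm]

lemma mul_eq_zero_of_res_eq_zero {U : X.Opens} (hU : IsAffineOpen U) {ε a : Γ(X, U)}
    (hε : IsIdempotentElem ε) {O : X.Opens} (hOU : O ≤ U) (hO : X.basicOpen ε ≤ O)
    (ha : (X.presheaf.map (homOfLE hOU).op).hom a = 0) : ε * a = 0 := by
  have H : a |_ (X.basicOpen ε) = 0 := by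
    have h1 : a |_ (X.basicOpen ε) =
        (X.presheaf.map (homOfLE hO).op).hom ((X.presheaf.map (homOfLE hOU).op).hom a) := by
      show _ = (X.presheaf.map (homOfLE hOU).op ≫ X.presheaf.map (homOfLE hO).op).hom a
      rw [← Functor.map_comp]
      rfl
    rw [h1, ha, map_zero]
  obtain ⟨n, hn⟩ := exists_pow_mul_eq_zero_of_res_basicOpen_eq_zero_of_isAffineOpen X hU a ε H
  cases n with
  | zero =>
    rw [pow_zero, one_mul] at hn
    rw [hn, mul_zero]
  | succ n => rwa [hε.pow_succ_eq] at hn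

lemma res_one_sub_eq_zero {U : X.Opens} {ε : Γ(X, U)}
    (hε : IsIdempotentElem ε) {O : X.Opens} (hOU : O ≤ U) (hO : O ≤ X.basicOpen ε) :
    (X.presheaf.map (homOfLE hOU).op).hom (1 - ε) = 0 := by
  have hu : IsUnit ((X.presheaf.map (homOfLE (X.basicOpen_le ε)).op).hom ε) :=
    X.toRingedSpace.isUnit_res_basicOpen ε
  have h0 : (X.presheaf.map (homOfLE (X.basicOpen_le ε)).op).hom ε *
      (X.presheaf.map (homOfLE (X.basicOpen_le ε)).op).hom (1 - ε) = 0 := by
    rw [← map_mul, mul_sub, mul_one, hε.eq, sub_self, map_zero]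
  have h1 : (X.presheaf.map (homOfLE (X.basicOpen_le ε)).op).hom (1 - ε) = 0 :=
    (hu.mul_right_eq_zero).1 h0
  have h2 : (X.presheaf.map (homOfLE hOU).op).hom (1 - ε) =
      (X.presheaf.map (homOfLE hO).op).hom
        ((X.presheaf.map (homOfLE (X.basicOpen_le ε)).op).hom (1 - ε)) := by
    show _ = (X.presheaf.map (homOfLE (X.basicOpen_le ε)).op ≫
      X.presheaf.map (homOfLE hO).op).hom (1 - ε)
    rw [← Functor.map_comp]
    rfl
  rw [h2, h1, map_zero]

variable (X) (x₀ : X)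

/-- The ideal sheaf generated by the ideals of all open-closed neighbourhoods of `x₀`. -/
noncomputable def ideal : X.IdealSheafData :=
  ⨆ W : {W : X.Opens // IsClosed (W : Set X) ∧ x₀ ∈ W}, W.1.ι.ker

variable {X}

lemma ker_le_ideal (W : X.Opens) (hW : IsClosed (W : Set X)) (hx : x₀ ∈ W) :
    W.ι.ker ≤ ideal X x₀ :=
  le_iSup (fun W : {W : X.Opens // IsClosed (W : Set X) ∧ x₀ ∈ W} => W.1.ι.ker) ⟨W, hW, hx⟩

set_option backward.isDefEq.respectTransparency false in
lemma pure_ideal (U : X.affineOpens) :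
    ∀ a ∈ (ideal X x₀).ideal U, ∃ b ∈ (ideal X x₀).ideal U, a * b = a := by
  intro a ha
  have h1 : (ideal X x₀).ideal U =
      ⨆ W : {W : X.Opens // IsClosed (W : Set X) ∧ x₀ ∈ W}, (W.1.ι.ker).ideal U := by
    unfold ideal
    rw [Scheme.IdealSheafData.ideal_iSup, iSup_apply]
  rw [h1] at ha ⊢
  have hne : Nonempty {W : X.Opens // IsClosed (W : Set X) ∧ x₀ ∈ W} :=
    ⟨⟨⊤, isClosed_univ, trivial⟩⟩
  have hmono : ∀ (W₁ W₂ : X.Opens) (h : W₁ ≤ W₂), (W₂.ι.ker).ideal U ≤ (W₁.ι.ker).ideal U := by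
    intro W₁ W₂ h
    have h2 : W₁.ι = X.homOfLE h ≫ W₂.ι := (Scheme.homOfLE_ι X h).symm
    rw [h2]
    exact (Scheme.Hom.le_ker_comp _ _) U
  have hdir : Directed (· ≤ ·) fun W : {W : X.Opens // IsClosed (W : Set X) ∧ x₀ ∈ W} =>
      (W.1.ι.ker).ideal U := by
    intro W₁ W₂
    exact ⟨⟨W₁.1 ⊓ W₂.1, W₁.2.1.inter W₂.2.1, ⟨W₁.2.2, W₂.2.2⟩⟩,
      hmono _ _ inf_le_left, hmono _ _ inf_le_right⟩
  obtain ⟨W, haW⟩ := (Submodule.mem_iSup_of_directed _ hdir).1 ha
  have hci := isClosedImmersion_ι W.1 W.2.1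
  rw [Scheme.Hom.ker_apply] at haW
  obtain ⟨ε, hε, hεO⟩ := exists_idempotent U.2 W.1 W.2.1
  have hOset : ((W.1.ι ''ᵁ W.1.ι ⁻¹ᵁ U.1 : X.Opens) : Set X) = (U.1 : Set X) ∩ (W.1 : Set X) := by
    show W.1.ι '' (W.1.ι ⁻¹' (U.1 : Set X)) = _
    rw [Set.image_preimage_eq_inter_range, Scheme.Opens.range_ι]
  have hOU : W.1.ι ''ᵁ W.1.ι ⁻¹ᵁ U.1 ≤ U.1 := Set.image_preimage_subset _ _
  have hO1 : X.basicOpen ε ≤ W.1.ι ''ᵁ W.1.ι ⁻¹ᵁ U.1 := by
    intro x hx
    have : x ∈ (X.basicOpen ε : Set X) := hx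
    rw [hεO, ← hOset] at this
    exact this
  have hO2 : W.1.ι ''ᵁ W.1.ι ⁻¹ᵁ U.1 ≤ X.basicOpen ε := by
    intro x hx
    have : x ∈ ((W.1.ι ''ᵁ W.1.ι ⁻¹ᵁ U.1 : X.Opens) : Set X) := hx
    rw [hOset, ← hεO] at this
    exact this
  have ha0 : (X.presheaf.map (homOfLE hOU).op).hom a = 0 := haW
  have h3 : ε * a = 0 := mul_eq_zero_of_res_eq_zero U.2 hε hOU hO1 ha0
  refine ⟨1 - ε, ?_, ?_⟩
  · refine (le_iSup (fun W : {W : X.Opens // IsClosed (W : Set X) ∧ x₀ ∈ W} =>
      (W.1.ι.ker).ideal U) W) ?_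
    rw [Scheme.Hom.ker_apply]
    exact res_one_sub_eq_zero hε hOU hO2
  · rw [mul_sub, mul_one, mul_comm, h3, sub_zero]

/-- The closed subscheme cut out by `ideal X x₀` is flat over `X`. -/
theorem flat_subschemeι : Flat (ideal X x₀).subschemeι := by
  rw [HasRingHomProperty.iff_exists_appLE (P := @Flat)
    (RingHom.Flat.stableUnderComposition.stableUnderCompositionWithLocalizationAway
      RingHom.Flat.holdsForLocalizationAway).left]
  intro x
  obtain ⟨_, ⟨U, hU, rfl⟩, hxU, -⟩ := X.isBasis_affineOpens.exists_subset_of_mem_open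
    (Set.mem_univ ((ideal X x₀).subschemeι x)) isOpen_univ
  refine ⟨⟨U, hU⟩, ⟨(ideal X x₀).subschemeι ⁻¹ᵁ U, hU.preimage _⟩, hxU, le_rfl, ?_⟩
  rw [Scheme.Hom.appLE_eq_app]
  refine flat_of_surjective_of_pure _ ((ideal X x₀).subschemeι_app_surjective ⟨U, hU⟩) ?_
  rw [Scheme.IdealSheafData.ker_subschemeι_app]
  exact pure_ideal x₀ ⟨U, hU⟩

/-- A morphism landing in every open-closed neighbourhood of `x₀` factors through the closed
subscheme cut out by `ideal X x₀`. -/
theorem exists_lift {T : Scheme.{u}} (f : T ⟶ X)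
    (hf : ∀ W : X.Opens, IsClosed (W : Set X) → x₀ ∈ W → Set.range f ⊆ (W : Set X)) :
    ∃ g : T ⟶ (ideal X x₀).subscheme, g ≫ (ideal X x₀).subschemeι = f := by
  have hker : (ideal X x₀).subschemeι.ker ≤ f.ker := by
    rw [Scheme.IdealSheafData.ker_subschemeι]
    unfold ideal
    refine iSup_le fun W => ?_
    have hsub : Set.range f ⊆ Set.range W.1.ι := by
      rw [Scheme.Opens.range_ι]
      exact hf W.1 W.2.1 W.2.2
    have hfac : IsOpenImmersion.lift W.1.ι f hsub ≫ W.1.ι = f := IsOpenImmersion.lift_fac _ _ _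
    calc W.1.ι.ker ≤ (IsOpenImmersion.lift W.1.ι f hsub ≫ W.1.ι).ker :=
          Scheme.Hom.le_ker_comp _ _
      _ = f.ker := by rw [hfac]
  exact ⟨IsClosedImmersion.lift _ f hker, IsClosedImmersion.lift_fac _ _ _⟩

theorem range_subschemeι_subset (W : X.Opens) (hW : IsClosed (W : Set X)) (hx : x₀ ∈ W) :
    Set.range (ideal X x₀).subschemeι ⊆ (W : Set X) := by
  rw [Scheme.IdealSheafData.range_subschemeι]
  have h1 := Scheme.IdealSheafData.support_antitone (ker_le_ideal x₀ W hW hx)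
  have hci := isClosedImmersion_ι W hW
  have h2 : (W.ι.ker.support : Set X) = (W : Set X) := by
    rw [Scheme.Hom.support_ker, Scheme.Opens.range_ι]
    exact hW.closure_eq
  intro x hx'
  have : x ∈ (W.ι.ker.support : Set X) := h1 hx'
  rw [h2] at this
  exact this

/-- The range of the closed subscheme is the intersection of the open-closed neighbourhoods. -/
theorem range_subschemeι :
    Set.range (ideal X x₀).subschemeι =
      ⋂ W : {W : X.Opens // IsClosed (W : Set X) ∧ x₀ ∈ W}, (W.1 : Set X) := by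
  apply Set.Subset.antisymm
  · exact Set.subset_iInter fun W => range_subschemeι_subset x₀ W.1 W.2.1 W.2.2
  · intro z hz
    obtain ⟨g, hg⟩ := exists_lift x₀ (X.fromSpecResidueField z) (fun W hW hx => by
      rintro _ ⟨p, rfl⟩
      rw [Scheme.fromSpecResidueField_apply]
      exact Set.mem_iInter.1 hz ⟨W, hW, hx⟩)
    refine ⟨g (IsLocalRing.closedPoint _), ?_⟩
    rw [← Scheme.Hom.comp_apply, hg, Scheme.fromSpecResidueField_apply]

end scheme

end Groth.Agent.Lib.Helper72.ProClopen
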