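import Groth.Agent.Lib.Helper72.GrpConn
import Groth.Agent.Lib.Helper72.ProClopen
import Groth.Agent.Lib.Helper72.SubGrp

/-!
# The identity component of a group scheme over a field as a flat closed subgroup scheme
-/

set_option autoImplicit false

universe u

namespace Groth.Agent.Lib.Helper72.GrpConn

open AlgebraicGeometry CategoryTheory CategoryTheory.Limits MonoidalCategory
  CartesianMonoidalCategory MonObj GrpObj Groth.Agent.Lib.Helper72.GrpComp
  Groth.Agent.Lib.Helper72.GrpGen

variable {K : Type u} [Field K] (G : Over (Spec (CommRingCat.of K))) [GrpObj G]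

/-- The identity component is the intersection of the open-closed neighbourhoods of `e`. -/
theorem iInter_clopen_eq {Z₀ : Set G.left}
    (h₀ : Z₀ ∈ irreducibleComponents G.left) (he : ePt G ∈ Z₀) :
    (⋂ W : {W : G.left.Opens // IsClosed (W : Set G.left) ∧ ePt G ∈ W}, (W.1 : Set G.left)) =
      Z₀ := by
  apply Set.Subset.antisymm
  · intro z hz
    by_contra hzZ
    have hC := irreducibleComponent_mem_irreducibleComponents z
    have hne : irreducibleComponent z ≠ Z₀ := fun h => hzZ (h ▸ mem_irreducibleComponent)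
    obtain ⟨S, hS, heS, hSC⟩ := exists_isClopen G h₀ he hC hne
    have hzS : z ∈ S := Set.mem_iInter.1 hz ⟨⟨S, hS.isOpen⟩, hS.isClosed, heS⟩
    have : z ∈ S ∩ irreducibleComponent z := ⟨hzS, mem_irreducibleComponent⟩
    rw [hSC] at this
    exact this
  · rw [← connectedComponent_ePt G h₀ he]
    exact Set.subset_iInter fun W =>
      (IsClopen.connectedComponent_subset ⟨W.2.1, W.1.isOpen⟩ W.2.2)

/-- The identity component as a flat closed subscheme with the strong universal property. -/
theorem exists_identityComponent_scheme :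
    ∃ (X₀ : Scheme.{u}) (j : X₀ ⟶ G.left), IsClosedImmersion j ∧ Flat j ∧
      Set.range j = irreducibleComponent (ePt G) ∧
      ∀ {T : Scheme.{u}} (f : T ⟶ G.left), Set.range f ⊆ irreducibleComponent (ePt G) →
        ∃ g : T ⟶ X₀, g ≫ j = f := by
  have h₀ := irreducibleComponent_mem_irreducibleComponents (ePt G)
  have he : ePt G ∈ irreducibleComponent (ePt G) := mem_irreducibleComponent
  refine ⟨_, (ProClopen.ideal G.left (ePt G)).subschemeι, inferInstance,
    ProClopen.flat_subschemeι _, ?_, ?_⟩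
  · rw [ProClopen.range_subschemeι, iInter_clopen_eq G h₀ he]
  · intro T f hf
    refine ProClopen.exists_lift _ f (fun W hW hx => hf.trans ?_)
    rw [← iInter_clopen_eq G h₀ he]
    exact Set.iInter_subset
      (fun W : {W : G.left.Opens // IsClosed (W : Set G.left) ∧ ePt G ∈ W} => (W.1 : Set G.left))
      ⟨W, hW, hx⟩

/-- The identity component of a group scheme over a field as a flat closed subgroup scheme. -/
theorem exists_identityComponent :
    ∃ (G₀ : Over (Spec (CommRingCat.of K))) (_ : GrpObj G₀) (incl : G₀ ⟶ G) (_ : IsMonHom incl),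
      IsClosedImmersion incl.left ∧ Flat incl.left ∧
      Set.range incl.left = connectedComponent (ePt G) ∧
      GeometricallyIrreducible G₀.hom ∧ CompactSpace G₀.left := by
  have h₀ := irreducibleComponent_mem_irreducibleComponents (ePt G)
  have he : ePt G ∈ irreducibleComponent (ePt G) := mem_irreducibleComponent
  obtain ⟨X₀, j, hj1, hj2, hj3, hj4⟩ := exists_identityComponent_scheme G
  let G₀ : Over (Spec (CommRingCat.of K)) := Over.mk (j ≫ G.hom)
  let incl : G₀ ⟶ G := Over.homMk j rfl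
  have hmono : Mono incl := Over.mono_homMk _
  -- multiplication
  have hr : Set.range (incl ⊗ₘ incl).left =
      pullback.fst G.hom G.hom ⁻¹' Set.range j ∩ pullback.snd G.hom G.hom ⁻¹' Set.range j := by
    rw [Over.tensorHom_left, Scheme.Pullback.range_map]
    rfl
  have hm_range : Set.range ((incl ⊗ₘ incl) ≫ μ[G]).left ⊆ irreducibleComponent (ePt G) := by
    rintro _ ⟨p, rfl⟩
    apply mulSet_subset_component G h₀ he h₀
    have hp : (incl ⊗ₘ incl).left p ∈ Set.range (incl ⊗ₘ incl).left := ⟨p, rfl⟩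
    rw [hr, hj3] at hp
    exact ⟨(incl ⊗ₘ incl).left p, hp, rfl⟩
  obtain ⟨gm, hgm⟩ := hj4 ((incl ⊗ₘ incl) ≫ μ[G]).left hm_range
  have wm : gm ≫ G₀.hom = (G₀ ⊗ G₀).hom := by
    show gm ≫ j ≫ G.hom = _
    rw [reassoc_of% hgm]
    exact Over.w ((incl ⊗ₘ incl) ≫ μ[G])
  let m : G₀ ⊗ G₀ ⟶ G₀ := Over.homMk gm wm
  have hm : m ≫ incl = (incl ⊗ₘ incl) ≫ μ[G] := Over.OverMorphism.ext hgm
  -- unit
  have ho_range : Set.range (unitS G) ⊆ irreducibleComponent (ePt G) := by
    rw [range_unit]
    exact Set.singleton_subset_iff.2 he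
  obtain ⟨go, hgo⟩ := hj4 (unitS G) ho_range
  have wo : go ≫ G₀.hom = (𝟙_ (Over (Spec (CommRingCat.of K)))).hom := by
    show go ≫ j ≫ G.hom = _
    rw [reassoc_of% hgo, unit_hom]
    rfl
  let o : 𝟙_ (Over (Spec (CommRingCat.of K))) ⟶ G₀ := Over.homMk go wo
  have ho : o ≫ incl = η[G] := Over.OverMorphism.ext hgo
  -- inverse
  have hv_range : Set.range (j ≫ invS G) ⊆ irreducibleComponent (ePt G) := by
    rintro _ ⟨p, rfl⟩
    rw [Scheme.Hom.comp_apply]
    exact invS_mem G h₀ he (hj3 ▸ ⟨p, rfl⟩)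
  obtain ⟨gv, hgv⟩ := hj4 (j ≫ invS G) hv_range
  have wv : gv ≫ G₀.hom = G₀.hom := by
    show gv ≫ j ≫ G.hom = j ≫ G.hom
    rw [reassoc_of% hgv]
    congr 1
    exact Over.w ι[G]
  let v : G₀ ⟶ G₀ := Over.homMk gv wv
  have hv : v ≫ incl = incl ≫ ι[G] := Over.OverMorphism.ext hgv
  let inst : GrpObj G₀ := Groth.Agent.Lib.Helper72.grpObjOfMono incl m hm o ho v hv
  have hmon : IsMonHom incl := ⟨ho, hm⟩
  refine ⟨G₀, inst, incl, hmon, hj1, hj2, ?_, ?_, ?_⟩
  · show Set.range j = _
    rw [hj3, connectedComponent_ePt G h₀ he]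
  · have : IrreducibleSpace X₀ := irreducibleSpace_of_range j (hj3 ▸ h₀.1)
    exact Groth.Agent.S7517.result K G X₀ j (hj3 ▸ h₀) (hj3 ▸ he)
  · have hc : IsCompact (Set.range j) := hj3 ▸ isCompact_identityComponent G h₀ he
    rw [← Set.image_univ, ← j.isEmbedding.isCompact_iff] at hc
    exact isCompact_univ_iff.1 hc

end Groth.Agent.Lib.Helper72.GrpConn
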