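import Groth.Prelude.Def_ActBC
import Mathlib.AlgebraicGeometry.Morphisms.ClosedImmersion
import Mathlib.AlgebraicGeometry.Morphisms.FiniteType
import Mathlib.RingTheory.KrullDimension.Zero
import Mathlib.RingTheory.Artinian.Ring

/-!
# Reduction from a local artinian base to its residue field

For a local artinian ring `A` with residue field `k`, `Spec k ⟶ Spec A` is a surjective closed
immersion, so for every `A`-scheme `X` the projection `X ×_A k ⟶ X` is a homeomorphism.
-/

set_option autoImplicit false

universe u

open CategoryTheory CategoryTheory.Limits MonoidalCategory CartesianMonoidalCategory MonObj GrpObj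
  AlgebraicGeometry

namespace Groth.Agent.Lib.Helper72.ArtinRed

variable (A : Type u) [CommRing A] [IsArtinianRing A] [IsLocalRing A]

/-- The inclusion of the closed point of `Spec A`. -/
noncomputable def clPt :
    Spec (CommRingCat.of (IsLocalRing.ResidueField A)) ⟶ Spec (CommRingCat.of A) :=
  Spec.map (CommRingCat.ofHom (IsLocalRing.residue A))

instance : IsClosedImmersion (clPt A) :=
  IsClosedImmersion.spec_of_surjective _ IsLocalRing.residue_surjective

lemma subsingleton_spec : Subsingleton ↥(Spec (CommRingCat.of A)) :=
  inferInstanceAs (Subsingleton (PrimeSpectrum A)) |> fun h => h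

instance : Surjective (clPt A) :=
  ⟨fun p => ⟨IsLocalRing.closedPoint _, (subsingleton_spec A).elim _ _⟩⟩

variable {A} (X : Over (Spec (CommRingCat.of A)))

/-- The projection `X ×_A k ⟶ X`. -/
noncomputable abbrev proj : (Red.bc (clPt A) X).left ⟶ X.left := pullback.fst X.hom (clPt A)

instance : IsClosedImmersion (proj X) := inferInstanceAs (IsClosedImmersion (pullback.fst _ _))

instance : Surjective (proj X) := inferInstanceAs (Surjective (pullback.fst _ _))

lemma isHomeomorph_proj : IsHomeomorph (proj X) := by
  rw [isHomeomorph_iff_isEmbedding_surjective]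
  exact ⟨(proj X).isEmbedding, (proj X).surjective⟩

/-- The homeomorphism `X ×_A k ≃ₜ X`. -/
noncomputable def homeo : (Red.bc (clPt A) X).left ≃ₜ X.left :=
  (isHomeomorph_proj X).homeomorph

@[simp] lemma homeo_apply (p : (Red.bc (clPt A) X).left) : homeo X p = proj X p := rfl

instance [LocallyOfFiniteType X.hom] : LocallyOfFiniteType (Red.bc (clPt A) X).hom :=
  inferInstanceAs (LocallyOfFiniteType (pullback.snd X.hom (clPt A)))

end Groth.Agent.Lib.Helper72.ArtinRed
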