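import Groth.Agent.Lib.Helper72.ArtinRed
import Groth.Agent.S5338
import Mathlib.AlgebraicGeometry.Stalk
import Groth.Prelude.Def_ActBC

/-!
# Stalks of the special fibre over an artinian local ring

For `X` over `Spec A` (`A` artinian local with maximal ideal `m`) and the closed immersion
`p : X_k ⟶ X`, the kernel of the stalk map of `p` is generated by the image of `m`.
-/

set_option autoImplicit false

universe u

open CategoryTheory CategoryTheory.Limits AlgebraicGeometry

namespace Groth.Agent.Lib.Helper72.ArtinStalk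

open Groth.Agent.Lib.Helper72.ArtinRed

variable {A : Type u} [CommRing A] [IsArtinianRing A] [IsLocalRing A]

/-- The structure ring map `A ⟶ 𝒪_{X,x}`. -/
noncomputable def strMap (X : Over (Spec (CommRingCat.of A))) (x : X.left) :
    CommRingCat.of A ⟶ X.left.presheaf.stalk x :=
  Spec.preimage (X.left.fromSpecStalk x ≫ X.hom)

lemma map_strMap (X : Over (Spec (CommRingCat.of A))) (x : X.left) :
    Spec.map (strMap X x) = X.left.fromSpecStalk x ≫ X.hom := Spec.map_preimage _

lemma strMap_comp {X Y : Over (Spec (CommRingCat.of A))} (u : X ⟶ Y) (x : X.left) :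
    strMap Y (u.left x) ≫ u.left.stalkMap x = strMap X x := by
  apply Spec.map_injective
  rw [Spec.map_comp, map_strMap, map_strMap, ← Category.assoc,
    Scheme.SpecMap_stalkMap_fromSpecStalk, Category.assoc, Over.w]

/-- Algebra: Nakayama for a nilpotent ideal, for ring maps. -/
theorem surjective_of_comp_surjective {P M Q : Type u} [CommRing P] [CommRing M] [CommRing Q]
    (a : A →+* P) (α : P →+* M) (β : M →+* Q) (I : Ideal A) (hI : IsNilpotent I)
    (hker : RingHom.ker β ≤ Ideal.map (α.comp a) I)
    (hsurj : Function.Surjective (β.comp α)) : Function.Surjective α := by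
  letI : Algebra A M := (α.comp a).toAlgebra
  letI : Algebra A P := a.toAlgebra
  let αA : P →ₐ[A] M := { α with commutes' := fun r => rfl }
  let N' : Submodule A M := Subalgebra.toSubmodule αA.range
  have h : (⊤ : Submodule A M) ≤ N' ⊔ I • (⊤ : Submodule A M) := by
    intro z _
    obtain ⟨p, hp⟩ := hsurj (β z)
    have hz : z - α p ∈ RingHom.ker β := by
      rw [RingHom.mem_ker, map_sub, sub_eq_zero]
      exact hp.symm
    have hz' := hker hz
    have h2 : z - α p ∈ I • (⊤ : Submodule A M) := by
      rw [Ideal.smul_top_eq_map]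
      exact hz'
    have h3 : z = α p + (z - α p) := by ring
    rw [h3]
    exact Submodule.add_mem_sup ⟨p, rfl⟩ h2
  have h4 := Groth.Agent.S5338.le_of_le_sup_smul I hI ⊤ N' h
  intro z
  obtain ⟨p, hp⟩ := h4 (Submodule.mem_top (x := z))
  exact ⟨p, hp⟩


/-- The kernel of the stalk map of `X_k ⟶ X` is generated by the image of the maximal ideal. -/
theorem ker_stalkMap_proj_le (X : Over (Spec (CommRingCat.of A)))
    (x' : (Red.bc (clPt A) X).left) :
    RingHom.ker ((proj X).stalkMap x').hom ≤
      Ideal.map (strMap X (proj X x')).hom (IsLocalRing.maximalIdeal A) := by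
  by_cases hJt : Ideal.map (strMap X (proj X x')).hom (IsLocalRing.maximalIdeal A) = ⊤
  · rw [hJt]; exact le_top
  let M : CommRingCat := X.left.presheaf.stalk (proj X x')
  let J : Ideal M := Ideal.map (strMap X (proj X x')).hom (IsLocalRing.maximalIdeal A)
  haveI : Nontrivial (M ⧸ J) := Ideal.Quotient.nontrivial_iff.mpr hJt
  haveI : IsLocalRing (M ⧸ J) :=
    IsLocalRing.of_surjective' (Ideal.Quotient.mk J) Ideal.Quotient.mk_surjective
  let R : CommRingCat := CommRingCat.of (M ⧸ J)
  haveI : IsLocalRing R := inferInstanceAs (IsLocalRing (M ⧸ J))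
  let quot : M ⟶ R := CommRingCat.ofHom (Ideal.Quotient.mk J)
  haveI : IsLocalHom quot.hom :=
    IsLocalHom.of_surjective (Ideal.Quotient.mk J) Ideal.Quotient.mk_surjective
  -- the morphism `Spec R ⟶ X`
  let g : Spec R ⟶ X.left := Spec.map quot ≫ X.left.fromSpecStalk (proj X x')
  -- the induced map `k ⟶ R`
  have hkill : ∀ a ∈ IsLocalRing.maximalIdeal A, (strMap X (proj X x') ≫ quot).hom a = 0 := by
    intro a ha
    change Ideal.Quotient.mk J ((strMap X (proj X x')).hom a) = 0
    rw [Ideal.Quotient.eq_zero_iff_mem]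
    exact Ideal.mem_map_of_mem _ ha
  let ψ' : CommRingCat.of (IsLocalRing.ResidueField A) ⟶ R :=
    CommRingCat.ofHom (Ideal.Quotient.lift (IsLocalRing.maximalIdeal A)
      (strMap X (proj X x') ≫ quot).hom hkill)
  have hψ' : CommRingCat.ofHom (IsLocalRing.residue A) ≫ ψ' = strMap X (proj X x') ≫ quot := by
    ext a
    rfl
  have hg : g ≫ X.hom = Spec.map ψ' ≫ clPt A := by
    change (Spec.map quot ≫ X.left.fromSpecStalk (proj X x')) ≫ X.hom =
      Spec.map ψ' ≫ Spec.map (CommRingCat.ofHom (IsLocalRing.residue A))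
    rw [Category.assoc, ← map_strMap, ← Spec.map_comp, ← Spec.map_comp, hψ']
  let t : Spec R ⟶ (Red.bc (clPt A) X).left := pullback.lift g (Spec.map ψ') hg
  have ht : t ≫ proj X = g := pullback.lift_fst _ _ _
  have key : (SpecToEquivOfLocalRing X.left R) (t ≫ proj X) =
      ⟨proj X x', quot, inferInstance⟩ := by
    rw [ht]
    exact (SpecToEquivOfLocalRing X.left R).right_inv ⟨proj X x', quot, inferInstance⟩
  obtain ⟨h₁, h₂⟩ := SpecToEquivOfLocalRing_eq_iff.mp key
  simp only [SpecToEquivOfLocalRing_apply_fst, SpecToEquivOfLocalRing_apply_snd_coe] at h₁ h₂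
  have h₃ := Scheme.stalkClosedPointTo_comp t (proj X)
  have he : t (IsLocalRing.closedPoint R) = x' := (proj X).isEmbedding.injective h₁
  intro z hz
  rw [RingHom.mem_ker] at hz
  have hcp := Scheme.Hom.stalkMap_congr_point (proj X) _ _ he
  -- transport `z` to the stalk at `proj X (t c)`
  let w := (X.left.presheaf.stalkCongr (.of_eq (he ▸ rfl :
    proj X (t (IsLocalRing.closedPoint R)) = proj X x'))).inv.hom z
  have hw : (X.left.presheaf.stalkCongr (.of_eq (he ▸ rfl :
    proj X (t (IsLocalRing.closedPoint R)) = proj X x'))).hom.hom w = z := by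
    change ((X.left.presheaf.stalkCongr _).inv ≫ (X.left.presheaf.stalkCongr _).hom).hom z = z
    rw [Iso.inv_hom_id]
    rfl
  have h4 : ((proj X).stalkMap (t (IsLocalRing.closedPoint R))).hom w = 0 := by
    have h5 : ((Red.bc (clPt A) X).left.presheaf.stalkCongr (.of_eq he)).hom.hom
        (((proj X).stalkMap (t (IsLocalRing.closedPoint R))).hom w) =
        ((proj X).stalkMap x').hom ((X.left.presheaf.stalkCongr (.of_eq (he ▸ rfl :
          proj X (t (IsLocalRing.closedPoint R)) = proj X x'))).hom.hom w) :=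
      congrArg (fun f => f.hom w) hcp
    rw [hw, hz] at h5
    have hinj : Function.Injective
        ((Red.bc (clPt A) X).left.presheaf.stalkCongr (.of_eq he)).hom.hom :=
      (ConcreteCategory.bijective_of_isIso
        ((Red.bc (clPt A) X).left.presheaf.stalkCongr (.of_eq he)).hom).1
    apply hinj
    rw [h5, map_zero]
  have h6 : (Scheme.stalkClosedPointTo (t ≫ proj X)).hom w = 0 := by
    rw [h₃]
    change (Scheme.stalkClosedPointTo t).hom
      (((proj X).stalkMap (t (IsLocalRing.closedPoint R))).hom w) = 0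
    rw [h4, map_zero]
  rw [h₂] at h6
  have h7 : quot.hom ((X.left.presheaf.stalkCongr (.of_eq h₁)).hom.hom w) = 0 := h6
  have h8 : (X.left.presheaf.stalkCongr (.of_eq h₁)).hom.hom w = z := hw
  rw [h8] at h7
  have h9 : Ideal.Quotient.mk J z = 0 := h7
  exact Ideal.Quotient.eq_zero_iff_mem.mp h9


lemma isNilpotent_maximalIdeal : IsNilpotent (IsLocalRing.maximalIdeal A) := by
  rw [← IsLocalRing.jacobson_eq_maximalIdeal (⊥ : Ideal A) bot_ne_top]
  exact IsArtinianRing.isNilpotent_jacobson_bot

/-- Surjectivity on stalks ascends from the special fibre. -/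
theorem stalkMap_surjective_of_bc {X Y : Over (Spec (CommRingCat.of A))} (u : X ⟶ Y)
    (h : ∀ x', Function.Surjective (((Over.pullback (clPt A)).map u).left.stalkMap x').hom)
    (x' : (Red.bc (clPt A) X).left) :
    Function.Surjective (u.left.stalkMap (proj X x')).hom := by
  have w : ((Over.pullback (clPt A)).map u).left ≫ proj Y = proj X ≫ u.left :=
    ActBC.pullback_map_left_fst (clPt A) u
  have h1 : Function.Surjective
      ((((Over.pullback (clPt A)).map u).left ≫ proj Y).stalkMap x').hom := by
    have e := Scheme.Hom.stalkMap_comp ((Over.pullback (clPt A)).map u).left (proj Y) x'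
    intro q
    obtain ⟨p1, hp1⟩ := h x' q
    obtain ⟨p2, hp2⟩ := (proj Y).stalkMap_surjective _ p1
    refine ⟨p2, ?_⟩
    rw [e]
    change (((Over.pullback (clPt A)).map u).left.stalkMap x').hom
      (((proj Y).stalkMap _).hom p2) = q
    have hp2' : ((proj Y).stalkMap _).hom p2 = p1 := hp2
    rw [hp2']
    exact hp1
  have h2 := Scheme.Hom.stalkMap_congr_hom _ _ w x'
  have h3 : Function.Surjective
      (((proj X).stalkMap x').hom.comp (u.left.stalkMap (proj X x')).hom) := by
    intro q
    obtain ⟨p, hp⟩ := h1 q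
    rw [h2, Scheme.Hom.stalkMap_comp] at hp
    exact ⟨_, hp⟩
  refine surjective_of_comp_surjective (strMap Y (u.left (proj X x'))).hom
    (u.left.stalkMap (proj X x')).hom ((proj X).stalkMap x').hom
    (IsLocalRing.maximalIdeal A) isNilpotent_maximalIdeal ?_ h3
  have h4 := strMap_comp u (proj X x')
  have h5 : (u.left.stalkMap (proj X x')).hom.comp (strMap Y (u.left (proj X x'))).hom =
      (strMap X (proj X x')).hom := by
    rw [← CommRingCat.hom_comp, h4]
  rw [h5]
  exact ker_stalkMap_proj_le X x'

end Groth.Agent.Lib.Helper72.ArtinStalk
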