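import Groth.Agent.Lib.Helper72.GenTop

set_option autoImplicit false

namespace Groth.Agent.Lib.Helper72

open CategoryTheory Opposite

universe w v₁ u₁

section

variable {C : Type u₁} [Category.{v₁} C]

/-- If `F` is separated for all `J`-covering sieves, and a `J`-covering sieve `S'` contains a
composite family `R'' ∘ R` where `F` is a sheaf for `R` and for each `R'' f`, and these generate
covering sieves, then `F` is a sheaf for `S'`. -/
theorem isSheafFor_of_composite (J : GrothendieckTopology C) (F : Cᵒᵖ ⥤ Type w)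
    (hsep : ∀ ⦃X : C⦄ (S : Sieve X), S ∈ J X → Presieve.IsSeparatedFor F S.arrows)
    {X : C} (S' : Sieve X) (hS'J : S' ∈ J X)
    (R : Presieve X) (hRJ : Sieve.generate R ∈ J X) (hR : Presieve.IsSheafFor F R)
    (R'' : ∀ ⦃Y : C⦄ ⦃f : Y ⟶ X⦄, R f → Presieve Y)
    (hR''J : ∀ ⦃Y : C⦄ ⦃f : Y ⟶ X⦄ (hf : R f), Sieve.generate (R'' hf) ∈ J Y)
    (hR'' : ∀ ⦃Y : C⦄ ⦃f : Y ⟶ X⦄ (hf : R f), Presieve.IsSheafFor F (R'' hf))
    (hS' : ∀ ⦃Y : C⦄ ⦃f : Y ⟶ X⦄ (hf : R f) ⦃Z : C⦄ ⦃g : Z ⟶ Y⦄, R'' hf g → S' (g ≫ f)) :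
    Presieve.IsSheafFor F S'.arrows := by
  refine (hsep S' hS'J).isSheafFor ?_
  intro x hx
  have xcongr : ∀ {W : C} {a b : W ⟶ X} (e : a = b) (ha : S' a) (hb : S' b), x a ha = x b hb := by
    rintro W a _ rfl ha hb; rfl
  let xs : ∀ ⦃Y : C⦄ ⦃f : Y ⟶ X⦄ (hf : R f), Presieve.FamilyOfElements F (R'' hf) :=
    fun Y f hf Z g hg => x (g ≫ f) (hS' hf hg)
  have hxs : ∀ ⦃Y : C⦄ ⦃f : Y ⟶ X⦄ (hf : R f), (xs hf).Compatible := by
    intro Y f hf Z₁ Z₂ W a₁ a₂ g₁ g₂ hg₁ hg₂ e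
    exact hx a₁ a₂ (hS' hf hg₁) (hS' hf hg₂) (by rw [← Category.assoc, e, Category.assoc])
  let y : ∀ ⦃Y : C⦄ ⦃f : Y ⟶ X⦄ (_ : R f), F.obj (op Y) :=
    fun Y f hf => (hR'' hf).amalgamate (xs hf) (hxs hf)
  have hy : ∀ ⦃Y : C⦄ ⦃f : Y ⟶ X⦄ (hf : R f) ⦃Z : C⦄ ⦃g : Z ⟶ Y⦄ (hg : R'' hf g),
      F.map g.op (y hf) = x (g ≫ f) (hS' hf hg) :=
    fun Y f hf Z g hg => (hR'' hf).valid_glue (hxs hf) g hg
  -- Claim A
  have claimA : ∀ ⦃Y : C⦄ ⦃f : Y ⟶ X⦄ (hf : R f) ⦃W : C⦄ (h : W ⟶ Y) (hh : S' (h ≫ f)),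
      F.map h.op (y hf) = x (h ≫ f) hh := by
    intro Y f hf W h hh
    apply (hsep ((Sieve.generate (R'' hf)).pullback h) (J.pullback_stable h (hR''J hf))).ext
    rintro V k ⟨Z, a, g, hg, e⟩
    rw [← FunctorToTypes.map_comp_apply, ← op_comp, ← e, op_comp, FunctorToTypes.map_comp_apply,
      hy hf hg]
    exact hx a k _ _ (by rw [← Category.assoc, e, Category.assoc])
  -- Claim B
  let ys : Presieve.FamilyOfElements F R := fun Y f hf => y hf
  have hys : ys.Compatible := by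
    intro Y₁ Y₂ W h₁ h₂ f₁ f₂ hf₁ hf₂ e
    apply (hsep ((S'.pullback f₁).pullback h₁)
      (J.pullback_stable _ (J.pullback_stable _ hS'J))).ext
    intro V k hk
    have hk1 : S' ((k ≫ h₁) ≫ f₁) := by
      simpa [Sieve.pullback_apply] using hk
    have hk2 : S' ((k ≫ h₂) ≫ f₂) := by
      rw [Category.assoc, ← e, ← Category.assoc]; exact hk1
    show F.map k.op (F.map h₁.op (y hf₁)) = F.map k.op (F.map h₂.op (y hf₂))
    rw [← FunctorToTypes.map_comp_apply, ← op_comp, ← FunctorToTypes.map_comp_apply, ← op_comp,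
      claimA hf₁ (k ≫ h₁) hk1, claimA hf₂ (k ≫ h₂) hk2]
    exact xcongr (by rw [Category.assoc, Category.assoc, e]) _ _
  refine ⟨hR.amalgamate ys hys, ?_⟩
  intro W h hh
  apply (hsep ((Sieve.generate R).pullback h) (J.pullback_stable h hRJ)).ext
  rintro V k ⟨Y, a, f, hf, e⟩
  have haf : S' (a ≫ f) := by rw [e]; exact S'.downward_closed hh k
  rw [← FunctorToTypes.map_comp_apply, ← op_comp, ← e, op_comp, FunctorToTypes.map_comp_apply,
    hR.valid_glue hys f hf]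
  show F.map a.op (y hf) = _
  rw [claimA hf a haf]
  have := hx.to_sieveCompatible h k hh
  rw [← this]
  exact xcongr e _ _

variable (C' : C → Prop) (P P' : Precoverage C)

/-- A presheaf which is separated for the `P`- and `P'`-families is separated for good sieves. -/
lemma Good.isSeparatedFor (F : Cᵒᵖ ⥤ Type w)
    (hP : ∀ ⦃X : C⦄ ⦃R : Presieve X⦄, R ∈ P X → Presieve.IsSeparatedFor F R)
    (hP' : ∀ ⦃X : C⦄ ⦃R : Presieve X⦄, R ∈ P' X → Presieve.IsSeparatedFor F R)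
    {X : C} {S' : Sieve X} (h : Good C' P P' X S') : Presieve.IsSeparatedFor F S'.arrows := by
  intro x t₁ t₂ ht₁ ht₂
  obtain ⟨R, hR, h⟩ := h
  apply (hP hR).ext
  intro Y f hf
  obtain ⟨-, R'', hR'', h3⟩ := h hf
  apply (hP' hR'').ext
  intro Z g hg
  rw [← FunctorToTypes.map_comp_apply, ← op_comp, ← FunctorToTypes.map_comp_apply, ← op_comp,
    ht₁ _ (h3 hg), ht₂ _ (h3 hg)]

end

end Groth.Agent.Lib.Helper72
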