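import Mathlib
import Groth.Prelude.Def_AlgGrp
import Groth.Agent.Lib.Helper73.DimFormula.ProductDim
import Groth.Agent.Lib.Helper19.Grp.ProperAffineConst

/-!
# Actions on curves: almost homogeneous iff nontrivial (helper72)
-/

set_option autoImplicit false
set_option linter.style.haveILetI false
universe u

namespace Groth.Agent.Lib.Helper72.CurveAct

open CategoryTheory MonoidalCategory CartesianMonoidalCategory MonObj GrpObj AlgebraicGeometry
  CategoryTheory.Limits
open AlgGrp

variable {k : Type u} [Field k]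

/-- the diagonal of `C` as a morphism of schemes -/
theorem diag_left (C : Over (Spec (CommRingCat.of k))) :
    (lift (𝟙 C) (𝟙 C)).left = pullback.diagonal C.hom := by
  apply pullback.hom_ext
  · rw [pullback.diagonal_fst]
    change (lift (𝟙 C) (𝟙 C)).left ≫ (fst C C).left = _
    rw [← Over.comp_left, lift_fst]
    rfl
  · rw [pullback.diagonal_snd]
    change (lift (𝟙 C) (𝟙 C)).left ≫ (snd C C).left = _
    rw [← Over.comp_left, lift_snd]
    rfl

/-- the unit section composed with the graph morphism is the diagonal -/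
theorem unit_graph (G C : Over (Spec (CommRingCat.of k))) [GrpObj G] (a : Action G C) :
    lift (toUnit C ≫ η[G]) (𝟙 C) ≫ lift (snd G C) a.act = lift (𝟙 C) (𝟙 C) := by
  have h1 : lift (toUnit C ≫ η[G]) (𝟙 C) = (λ_ C).inv ≫ (η[G] ▷ C) := by
    apply CartesianMonoidalCategory.hom_ext <;> simp
  rw [comp_lift, lift_snd]
  congr 1
  rw [h1, Category.assoc, a.one_act, Iso.inv_hom_id]

theorem main (G C : Over (Spec (CommRingCat.of k))) [GrpObj G] [Smooth G.hom]
    [QuasiCompact G.hom] [ConnectedSpace ↥G.left]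
    [IsSeparated C.hom] [LocallyOfFiniteType C.hom] [QuasiCompact C.hom]
    [GeometricallyIntegral C.hom] (hdim : topologicalKrullDim ↥C.left = 1)
    (a : Action G C) :
    IsDominant (lift (snd G C) a.act).left ↔ a.act ≠ snd G C := by
  have hdim2 : topologicalKrullDim ↥(C ⊗ C).left = 2 := by
    change topologicalKrullDim ↥(pullback C.hom C.hom) = 2
    rw [Groth.Agent.Lib.Helper73.topologicalKrullDim_pullback_eq_add C.hom C.hom, hdim]
    norm_num
  haveI hdiagCI : IsClosedImmersion (lift (𝟙 C) (𝟙 C)).left := by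
    rw [diag_left]; infer_instance
  have hdiag_fst : (lift (𝟙 C) (𝟙 C)).left ≫ pullback.fst C.hom C.hom = 𝟙 _ := by
    rw [diag_left, pullback.diagonal_fst]
  have hdiag_snd : (lift (𝟙 C) (𝟙 C)).left ≫ pullback.snd C.hom C.hom = 𝟙 _ := by
    rw [diag_left, pullback.diagonal_snd]
  have hΦ_fst : (lift (snd G C) a.act).left ≫ pullback.fst C.hom C.hom = (snd G C).left := by
    change (lift (snd G C) a.act).left ≫ (fst C C).left = _
    rw [← Over.comp_left, lift_fst]
  have hΦ_snd : (lift (snd G C) a.act).left ≫ pullback.snd C.hom C.hom = a.act.left := by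
    change (lift (snd G C) a.act).left ≫ (snd C C).left = _
    rw [← Over.comp_left, lift_snd]
  constructor
  · intro hdom hact
    have hΦ : (lift (snd G C) a.act) = snd G C ≫ lift (𝟙 C) (𝟙 C) := by
      rw [hact, comp_lift, Category.comp_id]
    have hsub : Set.range (lift (snd G C) a.act).left ⊆ Set.range (lift (𝟙 C) (𝟙 C)).left := by
      rw [hΦ, Over.comp_left]
      rintro _ ⟨z, rfl⟩
      exact ⟨(snd G C).left z, rfl⟩
    have hclosed : IsClosed (Set.range (lift (𝟙 C) (𝟙 C)).left) :=
      (lift (𝟙 C) (𝟙 C)).left.isClosedEmbedding.isClosed_range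
    have hsurj : Function.Surjective (lift (𝟙 C) (𝟙 C)).left := by
      rw [← Set.range_eq_univ, ← hclosed.closure_eq]
      exact (hdom.1.mono hsub).closure_eq
    have hhomeo : IsHomeomorph (lift (𝟙 C) (𝟙 C)).left :=
      isHomeomorph_iff_isEmbedding_surjective.mpr
        ⟨(lift (𝟙 C) (𝟙 C)).left.isClosedEmbedding.isEmbedding, hsurj⟩
    have := hhomeo.topologicalKrullDim_eq
    rw [hdim, hdim2] at this
    exact absurd this (by norm_num)
  · intro hact
    by_contra hnd
    apply hact
    haveI : Subsingleton ↥(Spec (CommRingCat.of k)) :=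
      inferInstanceAs (Subsingleton (PrimeSpectrum k))
    haveI : IsIntegral G.left := Groth.Agent.Lib.Helper19.QuotDesc.isIntegral_of_smooth_connected k G
    haveI : IsLocallyNoetherian G.left := LocallyOfFiniteType.isLocallyNoetherian G.hom
    haveI : IsLocallyNoetherian C.left := LocallyOfFiniteType.isLocallyNoetherian C.hom
    haveI : IsIntegral (G ⊗ C).left := by
      change IsIntegral (pullback G.hom C.hom)
      infer_instance
    haveI : IsIntegral C.left := GeometricallyIntegral.isIntegral_of_subsingleton C.hom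
    haveI : IsIntegral (C ⊗ C).left := by
      change IsIntegral (pullback C.hom C.hom)
      infer_instance
    obtain ⟨Φ, hΦdef⟩ : ∃ Φ : (G ⊗ C).left ⟶ (C ⊗ C).left, Φ = (lift (snd G C) a.act).left :=
      ⟨_, rfl⟩
    obtain ⟨D, hDdef⟩ : ∃ D : C.left ⟶ (C ⊗ C).left, D = (lift (𝟙 C) (𝟙 C)).left := ⟨_, rfl⟩
    rw [← hΦdef] at hΦ_fst hΦ_snd hnd
    rw [← hDdef] at hdiag_fst hdiag_snd
    haveI : IsClosedImmersion D := hDdef ▸ hdiagCI
    let Z' : Set ↥(C ⊗ C).left := closure (Set.range Φ)
    have hZirr : IsIrreducible Z' := by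
      have : IsIrreducible (Set.range Φ) := by
        rw [← Set.image_univ]
        exact (IrreducibleSpace.isIrreducible_univ _).image Φ Φ.continuous.continuousOn
      exact this.closure
    have hZne : Z' ≠ Set.univ := by
      intro h
      apply hnd
      exact ⟨dense_iff_closure_eq.mpr h⟩
    have hDZ : Set.range D ⊆ Z' := by
      rintro _ ⟨c, rfl⟩
      apply subset_closure
      refine ⟨(lift (toUnit C ≫ η[G]) (𝟙 C)).left c, ?_⟩
      rw [hΦdef, hDdef, ← Scheme.Hom.comp_apply, ← Over.comp_left, unit_graph]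
    have hZD : Z' ⊆ Set.range D := by
      by_contra hcon
      have h1 : (1 : WithBot ℕ∞) ≤ topologicalKrullDim C.left := hdim.ge
      unfold topologicalKrullDim at h1
      rw [Order.one_le_krullDim_iff] at h1
      obtain ⟨A, B, hAB⟩ := h1
      have hDce := D.isClosedEmbedding
      let A' : TopologicalSpace.IrreducibleCloseds ↥(C ⊗ C).left :=
        ⟨D '' A, A.isIrreducible'.image D D.continuous.continuousOn,
          hDce.isClosedMap _ A.isClosed'⟩
      let B' : TopologicalSpace.IrreducibleCloseds ↥(C ⊗ C).left :=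
        ⟨D '' B, B.isIrreducible'.image D D.continuous.continuousOn,
          hDce.isClosedMap _ B.isClosed'⟩
      let Z'' : TopologicalSpace.IrreducibleCloseds ↥(C ⊗ C).left := ⟨Z', hZirr, isClosed_closure⟩
      let T : TopologicalSpace.IrreducibleCloseds ↥(C ⊗ C).left :=
        ⟨Set.univ, IrreducibleSpace.isIrreducible_univ _, isClosed_univ⟩
      have hA'B' : A' < B' := by
        rw [SetLike.lt_iff_le_and_exists] at hAB ⊢
        obtain ⟨hle, x, hxB, hxA⟩ := hAB
        refine ⟨Set.image_mono hle, D x, ⟨x, hxB, rfl⟩, ?_⟩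
        rintro ⟨y, hyA, hy⟩
        exact hxA (hDce.injective hy ▸ hyA)
      have hB'Z : B' < Z'' := by
        rw [SetLike.lt_iff_le_and_exists]
        refine ⟨fun w hw => hDZ (Set.image_subset_range D B hw), ?_⟩
        obtain ⟨w, hwZ, hwD⟩ := Set.not_subset.mp hcon
        exact ⟨w, hwZ, fun hw => hwD (Set.image_subset_range D B hw)⟩
      have hZT : Z'' < T := by
        rw [SetLike.lt_iff_le_and_exists]
        obtain ⟨w, hw⟩ := (Set.ne_univ_iff_exists_notMem Z').mp hZne
        exact ⟨fun _ _ => Set.mem_univ _, w, Set.mem_univ w, hw⟩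
      have e1 := Order.height_add_one_le hA'B'
      have e2 := Order.height_add_one_le hB'Z
      have e3 := Order.height_add_one_le hZT
      have e4 := Order.height_le_krullDim T
      have e5 : (3 : ℕ∞) ≤ Order.height T := by
        calc (3 : ℕ∞) = 0 + 1 + 1 + 1 := by norm_num
          _ ≤ Order.height A' + 1 + 1 + 1 := by gcongr; exact zero_le
          _ ≤ Order.height B' + 1 + 1 := by gcongr
          _ ≤ Order.height Z'' + 1 := by gcongr
          _ ≤ Order.height T := e3
      have e6 : ((3 : ℕ∞) : WithBot ℕ∞) ≤ ((2 : ℕ∞) : WithBot ℕ∞) := by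
        calc ((3 : ℕ∞) : WithBot ℕ∞) ≤ (Order.height T : WithBot ℕ∞) := WithBot.coe_le_coe.mpr e5
          _ ≤ Order.krullDim _ := e4
          _ = ((2 : ℕ∞) : WithBot ℕ∞) := hdim2
      have e7 : (3 : ℕ∞) ≤ 2 := WithBot.coe_le_coe.mp e6
      exact absurd e7 (by norm_num)
    have hΦD : Set.range Φ ⊆ Set.range D := subset_closure.trans hZD
    haveI : Surjective (pullback.fst Φ D) := ⟨fun z => by
      have : z ∈ Set.range (pullback.fst Φ D) := by
        rw [Scheme.Pullback.range_fst]
        exact hΦD ⟨z, rfl⟩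
      exact this⟩
    haveI : IsReduced (G ⊗ C).left := inferInstance
    haveI : IsIso (pullback.fst Φ D) := isIso_of_isClosedImmersion_of_surjective _
    obtain ⟨ψ, hψ⟩ : ∃ ψ : (G ⊗ C).left ⟶ C.left, ψ = inv (pullback.fst Φ D) ≫ pullback.snd Φ D :=
      ⟨_, rfl⟩
    have hΦψ : Φ = ψ ≫ D := by
      rw [hψ, Category.assoc, ← pullback.condition, IsIso.inv_hom_id_assoc]
    apply Over.OverMorphism.ext
    rw [← hΦ_snd, ← hΦ_fst, hΦψ, Category.assoc, Category.assoc, hdiag_fst, hdiag_snd]

end Groth.Agent.Lib.Helper72.CurveAct
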