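import Mathlib
import Groth.Prelude.Def_Coh
import Groth.Agent.Lib.Helper51.H0Const
import Groth.Agent.Lib.Helper72.CMPoint
import Groth.Agent.Lib.Helper36.DimLemmas

/-!
# Proper curves whose global functions are the constants (helper72)

Gluing of two sections, "every global function is zero or a unit" when `h⁰(O_X) = 1`, and the
consequences: connectedness, extension by zero of sections supported at a closed point.
-/

set_option autoImplicit false
set_option linter.style.haveILetI false
universe u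

namespace Groth.Agent.Lib.Helper72.CurveH0

open AlgebraicGeometry CategoryTheory TopologicalSpace Opposite

/-- gluing two sections on a two-set open cover, compatibility checked on germs -/
theorem glue2 (X : Scheme.{u}) (U V : X.Opens) (hUV : U ⊔ V = ⊤) (s : Γ(X, U)) (t : Γ(X, V))
    (h : ∀ (y : X) (hU : y ∈ U) (hV : y ∈ V),
      X.presheaf.germ U y hU s = X.presheaf.germ V y hV t) :
    ∃ r : Γ(X, ⊤), (∀ (y : X) (hU : y ∈ U), X.presheaf.germ ⊤ y trivial r = X.presheaf.germ U y hU s) ∧
      (∀ (y : X) (hV : y ∈ V), X.presheaf.germ ⊤ y trivial r = X.presheaf.germ V y hV t) := by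
  let W : Bool → X.Opens := fun b => cond b U V
  let sf : ∀ b : Bool, Γ(X, W b) := fun b => Bool.rec (motive := fun b => Γ(X, W b)) t s b
  have hcompat : TopCat.Presheaf.IsCompatible X.presheaf W sf := by
    intro i j
    refine TopCat.Presheaf.section_ext X.sheaf _ _ _ fun y hy => ?_
    erw [TopCat.Presheaf.germ_res_apply, TopCat.Presheaf.germ_res_apply]
    cases i <;> cases j
    · rfl
    · exact (h y hy.2 hy.1).symm
    · exact h y hy.1 hy.2
    · rfl
  have hcover : (⊤ : X.Opens) ≤ iSup W := by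
    rw [← hUV]
    exact sup_le (le_iSup W true) (le_iSup W false)
  obtain ⟨r, hr, -⟩ := X.sheaf.existsUnique_gluing' W ⊤ (fun b => homOfLE le_top) hcover sf hcompat
  refine ⟨r, fun y hU => ?_, fun y hV => ?_⟩
  · have := hr true
    rw [← TopCat.Presheaf.germ_res_apply X.presheaf (homOfLE (le_top : U ≤ ⊤)) y hU r]
    exact congrArg _ this
  · have := hr false
    rw [← TopCat.Presheaf.germ_res_apply X.presheaf (homOfLE (le_top : V ≤ ⊤)) y hV r]
    exact congrArg _ this

/-- when `h⁰(O_X) = 1` over a field, every global function is zero or a unit -/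
theorem eq_zero_or_isUnit (k : Type u) [Field k] (X : Scheme.{u}) [X.Over (Spec (CommRingCat.of k))]
    (h0 : Module.finrank k (Coh.HH X (Coh.structureModule X) 0) = 1) (s : Γ(X, ⊤)) :
    s = 0 ∨ IsUnit s := by
  obtain ⟨v, -, hv⟩ := finrank_eq_one_iff'.mp h0
  let e := Groth.Agent.Lib.Helper51.h0Equiv X
  have key : ∀ (c : k) (w : Coh.HH X (Coh.structureModule X) 0),
      e (c • w) = Coh.toGlobal (X ↘ (Spec (CommRingCat.of k))) c * e w := fun c w =>
    Groth.Agent.Lib.Helper51.h0Equiv_smul X _ w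
  obtain ⟨c, hc⟩ := hv (e.symm s)
  obtain ⟨c₁, hc₁⟩ := hv (e.symm 1)
  have hs : (s : Coh.Γtop X) = Coh.toGlobal (X ↘ (Spec (CommRingCat.of k))) c * e v := by
    rw [← key, hc, e.apply_symm_apply]
  have h1 : (1 : Coh.Γtop X) = Coh.toGlobal (X ↘ (Spec (CommRingCat.of k))) c₁ * e v := by
    rw [← key, hc₁, e.apply_symm_apply]
  obtain ⟨T, hT⟩ : ∃ T : k →+* Γ(X, ⊤), T = Coh.toGlobal (X ↘ (Spec (CommRingCat.of k))) :=
    ⟨_, rfl⟩
  obtain ⟨w, hw⟩ : ∃ w : Γ(X, ⊤), w = e v := ⟨_, rfl⟩
  have hs' : s = T c * w := by rw [hT, hw]; exact hs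
  have h1' : (1 : Γ(X, ⊤)) = T c₁ * w := by rw [hT, hw]; exact h1
  by_cases hc0 : c = 0
  · left
    rw [hs', hc0, map_zero, zero_mul]
  · right
    rw [hs']
    refine IsUnit.mul ((IsUnit.mk0 c hc0).map T) ?_
    exact IsUnit.of_mul_eq_one (T c₁) (by rw [mul_comm]; exact h1'.symm)

/-- a global function with a vanishing germ is not a unit -/
theorem not_isUnit_of_germ_eq_zero (X : Scheme.{u}) (s : Γ(X, ⊤)) (y : X)
    (h : X.presheaf.germ ⊤ y trivial s = 0) : ¬ IsUnit s := by
  intro hs
  have := hs.map (X.presheaf.germ ⊤ y trivial).hom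
  rw [show (X.presheaf.germ ⊤ y trivial).hom s = 0 from h] at this
  exact not_isUnit_zero this

/-- when `h⁰(O_X) = 1` over a field, a global function with a vanishing germ is zero -/
theorem eq_zero_of_germ_eq_zero (k : Type u) [Field k] (X : Scheme.{u})
    [X.Over (Spec (CommRingCat.of k))]
    (h0 : Module.finrank k (Coh.HH X (Coh.structureModule X) 0) = 1) (s : Γ(X, ⊤)) (y : X)
    (h : X.presheaf.germ ⊤ y trivial s = 0) : s = 0 :=
  (eq_zero_or_isUnit k X h0 s).resolve_right (not_isUnit_of_germ_eq_zero X s y h)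

/-- when `h⁰(O_X) = 1` over a field, `X` is preconnected -/
theorem preconnectedSpace (k : Type u) [Field k] (X : Scheme.{u})
    [X.Over (Spec (CommRingCat.of k))]
    (h0 : Module.finrank k (Coh.HH X (Coh.structureModule X) 0) = 1) : PreconnectedSpace X := by
  rw [preconnectedSpace_iff_clopen]
  intro S hS
  by_contra hcon
  push_neg at hcon
  obtain ⟨y, hy⟩ := hcon.1
  obtain ⟨z, hz⟩ := Set.nonempty_compl.mpr hcon.2
  let U : X.Opens := ⟨S, hS.isOpen⟩
  let V : X.Opens := ⟨Sᶜ, hS.isClosed.isOpen_compl⟩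
  have hUV : U ⊔ V = ⊤ := by
    ext w
    simpa [U, V] using em (w ∈ S)
  obtain ⟨r, hrU, hrV⟩ := glue2 X U V hUV 1 0 (fun w hU hV => absurd hU hV)
  have hr0 : r = 0 := eq_zero_of_germ_eq_zero k X h0 r z (by rw [hrV z hz, map_zero])
  have := hrU y hy
  rw [hr0, map_zero, map_one] at this
  exact zero_ne_one this

/-- an element of a localization at a prime `p` of a noetherian ring killed by `p` is, up to a
unit, the image of an element killed by `p` -/
theorem exists_section_ann (B R : Type*) [CommRing B] [IsNoetherianRing B] [CommRing R]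
    [Algebra B R] (p : Ideal B) [p.IsPrime] [IsLocalization.AtPrime R p] (a : R)
    (ha : ∀ g ∈ p, algebraMap B R g * a = 0) :
    ∃ b' : B, (algebraMap B R b' = 0 → a = 0) ∧ ∀ g ∈ p, g * b' = 0 := by
  classical
  obtain ⟨⟨b, s⟩, hbs⟩ := IsLocalization.mk'_surjective p.primeCompl a
  have hb : algebraMap B R b = a * algebraMap B R s := by
    rw [← hbs, IsLocalization.mk'_spec]
  obtain ⟨S, hS⟩ := (isNoetherianRing_iff_ideal_fg B).mp inferInstance p
  have h1 : ∀ g ∈ p, ∃ t : p.primeCompl, (t : B) * (g * b) = 0 := by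
    intro g hg
    apply (IsLocalization.map_eq_zero_iff p.primeCompl R (g * b)).mp
    rw [map_mul, hb, ← mul_assoc, ha g hg, zero_mul]
  choose! t ht using h1
  let T : B := ∏ g ∈ S, (t g : B)
  have hT : T ∈ p.primeCompl := Submonoid.prod_mem _ (fun g _ => (t g).2)
  have hS' : ∀ g ∈ S, g ∈ p := fun g hg => hS ▸ Submodule.subset_span hg
  have h2 : ∀ g ∈ p, g * (T * b) = 0 := by
    intro g hg
    rw [← hS] at hg
    refine Submodule.span_induction ?_ ?_ ?_ ?_ hg
    · intro g hgS
      obtain ⟨c, hc⟩ := Finset.dvd_prod_of_mem (fun g => (t g : B)) hgS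
      calc g * (T * b) = c * ((t g : B) * (g * b)) := by rw [show T = _ from hc]; ring
        _ = 0 := by rw [ht g (hS' g hgS), mul_zero]
    · simp
    · intro x y _ _ hx hy; rw [add_mul, hx, hy, add_zero]
    · intro c x _ hx; rw [smul_eq_mul, mul_assoc, hx, mul_zero]
  refine ⟨T * b, ?_, h2⟩
  intro h0
  rw [map_mul, hb, ← mul_assoc] at h0
  have hu1 : IsUnit (algebraMap B R T) := IsLocalization.map_units R (⟨T, hT⟩ : p.primeCompl)
  have hu2 : IsUnit (algebraMap B R s) := IsLocalization.map_units R s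
  have h3 := hu2.mul_left_eq_zero.mp h0
  exact hu1.mul_right_eq_zero.mp h3

/-- extension by zero of a section supported at a closed point and killed by its maximal ideal -/
theorem exists_extension_by_zero (X : Scheme.{u}) [IsLocallyNoetherian X] (x : X)
    (hx : IsClosed ({x} : Set X)) (a : X.presheaf.stalk x)
    (ha : ∀ g ∈ IsLocalRing.maximalIdeal (X.presheaf.stalk x), g * a = 0) :
    ∃ r : Γ(X, ⊤), (X.presheaf.germ ⊤ x trivial r = 0 → a = 0) ∧
      ∀ y, y ≠ x → X.presheaf.germ ⊤ y trivial r = 0 := by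
  obtain ⟨W, hW, hxW, -⟩ := exists_isAffineOpen_mem_and_subset (X := X) (x := x) (U := ⊤) trivial
  haveI : IsNoetherianRing Γ(X, W) := IsLocallyNoetherian.component_noetherian ⟨W, hW⟩
  letI := X.presheaf.algebra_section_stalk ⟨x, hxW⟩
  haveI := hW.isLocalization_stalk ⟨x, hxW⟩
  obtain ⟨p, hp⟩ : ∃ p : Ideal Γ(X, W), p = (hW.primeIdealOf ⟨x, hxW⟩).asIdeal := ⟨_, rfl⟩
  haveI : p.IsPrime := hp ▸ (hW.primeIdealOf ⟨x, hxW⟩).isPrime
  haveI : IsLocalization.AtPrime (X.presheaf.stalk x) p := by subst hp; infer_instance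
  have hgm : ∀ g ∈ p, algebraMap Γ(X, W) (X.presheaf.stalk x) g ∈
      IsLocalRing.maximalIdeal (X.presheaf.stalk x) := fun g hg =>
    (IsLocalization.AtPrime.to_map_mem_maximal_iff _ p g).mpr hg
  obtain ⟨b', hb'0, hb'⟩ := exists_section_ann Γ(X, W) (X.presheaf.stalk x) p a
    (fun g hg => ha _ (hgm g hg))
  have hgerm : ∀ y (hy : y ∈ W), y ≠ x → X.presheaf.germ W y hy b' = 0 := by
    intro y hy hne
    let V : X.Opens := W ⊓ ⟨{x}ᶜ, hx.isOpen_compl⟩
    obtain ⟨f, hfV, hyf⟩ := hW.exists_basicOpen_le (V := V) ⟨y, ⟨hy, hne⟩⟩ hy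
    have hfp : f ∈ p := by
      by_contra hfp
      have hu : IsUnit (algebraMap Γ(X, W) (X.presheaf.stalk x) f) :=
        IsLocalization.map_units _ (⟨f, hfp⟩ : p.primeCompl)
      have : x ∈ X.basicOpen f := (X.mem_basicOpen f x hxW).mpr hu
      exact (hfV this).2 rfl
    have hu : IsUnit (X.presheaf.germ W y hy f) := (X.mem_basicOpen f y hy).mp hyf
    have h3 : X.presheaf.germ W y hy f * X.presheaf.germ W y hy b' = 0 := by
      rw [← map_mul, hb' f hfp, map_zero]
    exact hu.mul_right_eq_zero.mp h3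
  let V : X.Opens := ⟨{x}ᶜ, hx.isOpen_compl⟩
  have hWV : W ⊔ V = ⊤ := by
    ext w
    by_cases hw : w = x
    · subst hw
      simp [hxW]
    · simp [V, hw]
  obtain ⟨r, hrW, hrV⟩ := glue2 X W V hWV b' 0 (fun y hU hV => by rw [hgerm y hU hV, map_zero])
  refine ⟨r, fun h => hb'0 ?_, fun y hy => ?_⟩
  · exact (hrW x hxW).symm.trans h
  · rw [hrV y hy, map_zero]

/-- on a one-dimensional locally noetherian scheme over a field with `h⁰(O_X) = 1`, all local
rings are Cohen–Macaulay -/
theorem isCM_stalk (k : Type u) [Field k] (X : Scheme.{u}) [X.Over (Spec (CommRingCat.of k))]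
    [IsLocallyNoetherian X] (hdim : topologicalKrullDim X = 1)
    (h0 : Module.finrank k (Coh.HH X (Coh.structureModule X) 0) = 1) (x : X) :
    LocCoh.IsCohenMacaulayLocalRing (X.presheaf.stalk x) := by
  obtain ⟨R, hR⟩ : ∃ R : CommRingCat, R = X.presheaf.stalk x := ⟨_, rfl⟩
  have hle : ringKrullDim (X.presheaf.stalk x) ≤ 1 :=
    hdim ▸ Groth.Agent.Lib.Helper36.DimLemmas.ringKrullDim_stalk_le_topologicalKrullDim X x
  by_cases hz : ringKrullDim (X.presheaf.stalk x) ≤ 0
  · exact Groth.Agent.Lib.Helper72.CMPoint.isCM_of_dim_zero _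
      (le_antisymm hz ringKrullDim_nonneg_of_nontrivial)
  have hone : ringKrullDim (X.presheaf.stalk x) = 1 := by
    obtain ⟨d, hd⟩ := Groth.Agent.Lib.Helper77.FlatDepth.exists_nat_dim (X.presheaf.stalk x)
    rw [hd] at hle hz ⊢
    have h1 : d ≤ 1 := by exact_mod_cast hle
    have h2 : ¬ d ≤ 0 := fun h => hz (by exact_mod_cast h)
    have : d = 1 := by omega
    rw [this]; rfl
  have hcoh : Order.coheight x = 1 := by
    have := ringKrullDim_stalk_eq_coheight x
    rw [hone] at this
    exact_mod_cast this.symm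
  have hclosed : IsClosed ({x} : Set X) := by
    rw [← closure_eq_iff_isClosed]
    apply Set.Subset.antisymm _ subset_closure
    intro z hz
    have hsp : x ⤳ z := specializes_iff_mem_closure.mpr hz
    by_contra hne
    have hle' : z ≤ x := hsp
    have hlt : z < x := lt_of_le_not_ge hle' fun hge =>
      hne (Specializes.antisymm hsp hge).eq.symm
    have h1 := Order.coheight_add_one_le hlt
    rw [hcoh] at h1
    have h2 : ringKrullDim (X.presheaf.stalk z) ≤ 1 :=
      hdim ▸ Groth.Agent.Lib.Helper36.DimLemmas.ringKrullDim_stalk_le_topologicalKrullDim X z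
    rw [ringKrullDim_stalk_eq_coheight z] at h2
    have h3 : Order.coheight z ≤ 1 := by exact_mod_cast h2
    have h4 : (1 : ℕ∞) + 1 ≤ 1 := h1.trans h3
    exact absurd h4 (by norm_num)
  have hother : ∃ y, y ≠ x := by
    by_contra hall
    push_neg at hall
    have hmax : IsMax x := fun y _ => (hall y).le
    have := Order.coheight_eq_zero.mpr hmax
    rw [hcoh] at this
    exact one_ne_zero this
  obtain ⟨y, hy⟩ := hother
  have hreg : ∃ f ∈ IsLocalRing.maximalIdeal (X.presheaf.stalk x),
      IsSMulRegular (X.presheaf.stalk x) f := by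
    by_contra hno
    push_neg at hno
    classical
    have hfin := associatedPrimes.finite (X.presheaf.stalk x) (X.presheaf.stalk x)
    have hsub : ((IsLocalRing.maximalIdeal (X.presheaf.stalk x) : Ideal (X.presheaf.stalk x)) :
        Set (X.presheaf.stalk x)) ⊆ ⋃ p ∈ associatedPrimes (X.presheaf.stalk x)
          (X.presheaf.stalk x), (p : Set (X.presheaf.stalk x)) := by
      rw [biUnion_associatedPrimes_eq_zero_divisors]
      intro f hf
      have := hno f hf
      rw [isSMulRegular_iff_right_eq_zero_of_smul] at this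
      push_neg at this
      obtain ⟨m, hm1, hm2⟩ := this
      exact ⟨m, hm2, hm1⟩
    have hsub' : ((IsLocalRing.maximalIdeal (X.presheaf.stalk x) : Ideal (X.presheaf.stalk x)) :
        Set (X.presheaf.stalk x)) ⊆ ⋃ i ∈ (↑hfin.toFinset : Set (Ideal (X.presheaf.stalk x))),
          ((id i : Ideal (X.presheaf.stalk x)) : Set (X.presheaf.stalk x)) := by
      simpa using hsub
    obtain ⟨P, hP, hmP⟩ := (Ideal.subset_union_prime (s := hfin.toFinset) (f := id) ⊥ ⊥
      (fun i hi _ _ => by
        have : i ∈ associatedPrimes (X.presheaf.stalk x) (X.presheaf.stalk x) := by simpa using hi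
        exact this.isPrime)).mp hsub'
    have hP' : P ∈ associatedPrimes (X.presheaf.stalk x) (X.presheaf.stalk x) := by simpa using hP
    have hPm : IsLocalRing.maximalIdeal (X.presheaf.stalk x) = P :=
      (IsLocalRing.maximalIdeal.isMaximal _).eq_of_le hP'.isPrime.ne_top hmP
    obtain ⟨-, a, haP⟩ := isAssociatedPrime_iff.mp hP'
    have ha0 : a ≠ 0 := by
      rintro rfl
      apply hP'.isPrime.ne_top
      rw [haP]
      ext r
      simp [Submodule.mem_colon_singleton]
    have hann : ∀ g ∈ IsLocalRing.maximalIdeal (X.presheaf.stalk x), g * a = 0 := by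
      intro g hg
      rw [hPm, haP, Submodule.mem_colon_singleton] at hg
      simpa using hg
    obtain ⟨r, hr1, hr2⟩ := exists_extension_by_zero X x hclosed a hann
    have hr0 : r = 0 := eq_zero_of_germ_eq_zero k X h0 r y (hr2 y hy)
    exact ha0 (hr1 (by rw [hr0, map_zero]))
  obtain ⟨f, hfm, hf⟩ := hreg
  have hq := ringKrullDim_quotient_span_singleton_succ_eq_ringKrullDim hf hfm
  haveI : Nontrivial (X.presheaf.stalk x ⧸ Ideal.span {f}) :=
    Ideal.Quotient.nontrivial_iff.mpr (by
      intro h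
      rw [Ideal.span_singleton_eq_top] at h
      exact hfm h)
  haveI : IsLocalRing (X.presheaf.stalk x ⧸ Ideal.span {f}) :=
    IsLocalRing.of_surjective' (Ideal.Quotient.mk _) Ideal.Quotient.mk_surjective
  apply Groth.Agent.Lib.Helper72.CMPoint.isCM_of_quotient _ f hfm hf
  apply Groth.Agent.Lib.Helper72.CMPoint.isCM_of_dim_zero
  obtain ⟨d, hd⟩ := Groth.Agent.Lib.Helper77.FlatDepth.exists_nat_dim
    (X.presheaf.stalk x ⧸ Ideal.span {f})
  rw [hd, hone] at hq
  rw [hd]
  have : d + 1 = 1 := by exact_mod_cast hq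
  have : d = 0 := by omega
  rw [this]; rfl

/-- in a connected noetherian quasi-sober `T₀` space of dimension one, every irreducible component
has dimension one -/
theorem dim_component (X : Type u) [TopologicalSpace X] [T0Space X] [QuasiSober X]
    [PreconnectedSpace X] [NoetherianSpace X]
    (hdim : topologicalKrullDim X = 1) (Z : Set X) (hZ : Z ∈ irreducibleComponents X) :
    topologicalKrullDim Z = 1 := by
  apply le_antisymm (hdim ▸ topologicalKrullDim_subspace_le X Z)
  have hZirr : IsIrreducible Z := hZ.1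
  have hZcl : IsClosed Z := isClosed_of_mem_irreducibleComponents Z hZ
  obtain ⟨η, hη⟩ := QuasiSober.sober hZirr hZcl
  have hηZ : η ∈ Z := hη.mem
  by_cases hex : ∃ z ∈ Z, z ≠ η
  · obtain ⟨z, hzZ, hzη⟩ := hex
    unfold topologicalKrullDim
    rw [Order.one_le_krullDim_iff]
    haveI : IrreducibleSpace Z := Subtype.irreducibleSpace hZirr
    refine ⟨⟨closure {⟨z, hzZ⟩}, isIrreducible_singleton.closure, isClosed_closure⟩,
      ⟨Set.univ, IrreducibleSpace.isIrreducible_univ _, isClosed_univ⟩, ?_⟩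
    rw [SetLike.lt_iff_le_and_exists]
    refine ⟨fun w _ => Set.mem_univ w, ⟨η, hηZ⟩, Set.mem_univ _, ?_⟩
    intro hmem
    change (⟨η, hηZ⟩ : Z) ∈ closure {⟨z, hzZ⟩} at hmem
    rw [closure_subtype, Set.image_singleton] at hmem
    have h1 : z ⤳ η := specializes_iff_mem_closure.mpr hmem
    have h2 : η ⤳ z := specializes_iff_mem_closure.mpr (by rw [hη.def]; exact hzZ)
    exact hzη (h1.antisymm h2).eq
  · push_neg at hex
    exfalso
    have hfin : (irreducibleComponents X \ {Z}).Finite :=
      NoetherianSpace.finite_irreducibleComponents.subset Set.diff_subset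
    have hScl : IsClosed (⋃ Z' ∈ irreducibleComponents X \ {Z}, Z') :=
      hfin.isClosed_biUnion fun Z' hZ' => isClosed_of_mem_irreducibleComponents Z' hZ'.1
    have hZS : Z = (⋃ Z' ∈ irreducibleComponents X \ {Z}, Z')ᶜ := by
      ext w
      simp only [Set.mem_compl_iff, Set.mem_iUnion, not_exists]
      constructor
      · intro hw Z' hZ' hwZ'
        have hsub : Z ≤ Z' := fun v hv => by rw [hex v hv, ← hex w hw]; exact hwZ'
        exact hZ'.2 (le_antisymm (hZ.2 hZ'.1.1 hsub) hsub)
      · intro hw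
        by_contra hwZ
        refine hw (irreducibleComponent w)
          ⟨irreducibleComponent_mem_irreducibleComponents w, ?_⟩ mem_irreducibleComponent
        intro h
        rw [Set.mem_singleton_iff] at h
        exact hwZ (h ▸ mem_irreducibleComponent)
    have hZop : IsOpen Z := by rw [hZS]; exact hScl.isOpen_compl
    have hZuniv : Z = Set.univ := IsClopen.eq_univ ⟨hZcl, hZop⟩ ⟨η, hηZ⟩
    have hall : ∀ w : X, w = η := fun w => hex w (hZuniv ▸ Set.mem_univ w)
    have h1 : (1 : WithBot ℕ∞) ≤ topologicalKrullDim X := hdim.ge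
    unfold topologicalKrullDim at h1
    rw [Order.one_le_krullDim_iff] at h1
    obtain ⟨a, b, hab⟩ := h1
    rw [SetLike.lt_iff_le_and_exists] at hab
    obtain ⟨-, w, -, hwa⟩ := hab
    obtain ⟨v, hv⟩ := a.isIrreducible'.nonempty
    apply hwa
    rw [hall w, ← hall v]
    exact hv

end Groth.Agent.Lib.Helper72.CurveH0
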