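import Mathlib
import Groth.Prelude.Def_Coh
import Groth.Agent.Lib.Helper72.CurveH0
import Groth.Agent.Lib.Helper93.PropBirat3
import Groth.Agent.Lib.Helper94.SmoothRed
import Groth.Agent.Lib.Helper51.DomainLocus

/-!
# `h⁰(O_X) = 1` and geometric connectedness (helper72)
-/

set_option autoImplicit false
set_option linter.style.haveILetI false
universe u

namespace Groth.Agent.Lib.Helper72.CurveH0Geom

open AlgebraicGeometry CategoryTheory TopologicalSpace Opposite Limits
open Groth.Agent.Lib.Helper72.CurveH0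

/-- a scheme all of whose global functions are zero or units is preconnected -/
theorem preconnectedSpace_of_forall (X : Scheme.{u})
    (h : ∀ s : Γ(X, ⊤), s = 0 ∨ IsUnit s) : PreconnectedSpace X := by
  rw [preconnectedSpace_iff_clopen]
  intro S hS
  by_contra hcon
  push_neg at hcon
  obtain ⟨y, hy⟩ := hcon.1
  obtain ⟨z, hz⟩ := Set.nonempty_compl.mpr hcon.2
  let U : X.Opens := ⟨S, hS.isOpen⟩
  let V : X.Opens := ⟨Sᶜ, hS.isClosed.isOpen_compl⟩
  have hUV : U ⊔ V = ⊤ := by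
    ext w
    simpa [U, V] using em (w ∈ S)
  obtain ⟨r, hrU, hrV⟩ := glue2 X U V hUV 1 0 (fun w hU hV => absurd hU hV)
  have hr0 : r = 0 := (h r).resolve_right
    (not_isUnit_of_germ_eq_zero X r z (by rw [hrV z hz, map_zero]))
  have := hrU y hy
  rw [hr0, map_zero, map_one] at this
  exact zero_ne_one this

/-- when `h⁰(O_X) = 1` over a field and `X` is nonempty, every global function is a constant -/
theorem exists_eq_toGlobal (k : Type u) [Field k] (X : Scheme.{u})
    [X.Over (Spec (CommRingCat.of k))]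
    (h0 : Module.finrank k (Coh.HH X (Coh.structureModule X) 0) = 1) (s : Γ(X, ⊤)) :
    ∃ c : k, s = (X ↘ (Spec (CommRingCat.of k))).appTop
      ((Scheme.ΓSpecIso (CommRingCat.of k)).inv c) := by
  obtain ⟨v, -, hv⟩ := finrank_eq_one_iff'.mp h0
  let e := Groth.Agent.Lib.Helper51.h0Equiv X
  have key : ∀ (c : k) (w : Coh.HH X (Coh.structureModule X) 0),
      e (c • w) = Coh.toGlobal (X ↘ (Spec (CommRingCat.of k))) c * e w := fun c w =>
    Groth.Agent.Lib.Helper51.h0Equiv_smul X _ w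
  obtain ⟨c, hc⟩ := hv (e.symm s)
  obtain ⟨c₁, hc₁⟩ := hv (e.symm 1)
  have hs : (s : Coh.Γtop X) = Coh.toGlobal (X ↘ (Spec (CommRingCat.of k))) c * e v := by
    rw [← key, hc, e.apply_symm_apply]
  have h1 : (1 : Coh.Γtop X) = Coh.toGlobal (X ↘ (Spec (CommRingCat.of k))) c₁ * e v := by
    rw [← key, hc₁, e.apply_symm_apply]
  obtain ⟨T, hT⟩ : ∃ T : k →+* Γ(X, ⊤), T = Coh.toGlobal (X ↘ (Spec (CommRingCat.of k))) :=
    ⟨_, rfl⟩
  obtain ⟨w, hw⟩ : ∃ w : Γ(X, ⊤), w = e v := ⟨_, rfl⟩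
  have hs' : s = T c * w := by rw [hT, hw]; exact hs
  have h1' : (1 : Γ(X, ⊤)) = T c₁ * w := by rw [hT, hw]; exact h1
  have hTc : ∀ c : k, T c = (X ↘ (Spec (CommRingCat.of k))).appTop
      ((Scheme.ΓSpecIso (CommRingCat.of k)).inv c) := fun c => by rw [hT]; rfl
  by_cases hc1 : c₁ = 0
  · refine ⟨0, ?_⟩
    rw [hc1, map_zero, zero_mul] at h1'
    rw [← hTc, map_zero, ← mul_one s, h1', mul_zero]
  · refine ⟨c * c₁⁻¹, ?_⟩
    rw [← hTc, map_mul, hs']
    have hw' : w = T c₁⁻¹ := by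
      calc w = (T c₁⁻¹ * T c₁) * w := by
            rw [← map_mul, inv_mul_cancel₀ hc1, map_one, one_mul]
        _ = T c₁⁻¹ * (T c₁ * w) := by ring
        _ = T c₁⁻¹ := by rw [← h1', mul_one]
    rw [hw']

/-- `h⁰(O_X) = 1` over a field, `X` nonempty and qcqs ⇒ `X` is geometrically connected -/
theorem geometricallyConnected_of_h0 (k : Type u) [Field k] (X : Scheme.{u})
    [X.Over (Spec (CommRingCat.of k))] [CompactSpace X] [QuasiSeparatedSpace X] [Nonempty X]
    (h0 : Module.finrank k (Coh.HH X (Coh.structureModule X) 0) = 1) :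
    GeometricallyConnected (X ↘ (Spec (CommRingCat.of k))) := by
  obtain ⟨f, hf⟩ : ∃ f : X ⟶ Spec (CommRingCat.of k), f = X ↘ (Spec (CommRingCat.of k)) :=
    ⟨_, rfl⟩
  rw [← hf]
  haveI : Nonempty (⊤ : X.Opens) := ⟨⟨Classical.arbitrary _, trivial⟩⟩
  haveI : Nontrivial Γ(X, ⊤) := Scheme.component_nontrivial X ⊤
  let T : k →+* Γ(X, ⊤) := f.appTop.hom.comp (Scheme.ΓSpecIso (CommRingCat.of k)).inv.hom
  have hT : Function.Bijective T := ⟨T.injective, fun s => by
    obtain ⟨c, hc⟩ := exists_eq_toGlobal k X h0 s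
    exact ⟨c, by rw [hc, ← hf]; rfl⟩⟩
  have happ : f.appTop = (Scheme.ΓSpecIso (CommRingCat.of k)).hom ≫ CommRingCat.ofHom T := by
    rw [← Iso.inv_comp_eq]
    rfl
  haveI : IsIso (CommRingCat.ofHom T) :=
    (RingEquiv.ofBijective T hT).toCommRingCatIso.isIso_hom
  haveI : IsIso f.appTop := by rw [happ]; infer_instance
  refine ⟨fun K _ y Z fst snd h => ?_⟩
  have hiso := isIso_pushoutSection_of_isQuasiSeparated_of_flat_right h (US := ⊤) (UT := ⊤)
    (UX := ⊤) (UY := ⊤) le_top le_top (by simp) (isAffineOpen_top _) (isAffineOpen_top _)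
    isCompact_univ (isQuasiSeparated_univ_iff.mpr inferInstance)
  have hpo := (isIso_pushoutSection_iff h le_top le_top (by simp)).mp hiso
  have h1 : f.appLE ⊤ ⊤ le_top = f.appTop := by
    simp only [Scheme.Hom.appLE, Scheme.Hom.appTop]
    erw [CategoryTheory.Functor.map_id]
    exact Category.comp_id (f.app ⊤)
  haveI : IsIso (f.appLE ⊤ ⊤ le_top) := by rw [h1]; infer_instance
  have hsnd := hpo.isIso_inr_of_isIso
  have hall : ∀ s : Γ(Z, ⊤), s = 0 ∨ IsUnit s := by
    intro s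
    obtain ⟨t, ht⟩ := (ConcreteCategory.bijective_of_isIso
      (snd.appLE ⊤ ⊤ _)).2 s
    obtain ⟨c, hc'⟩ : ∃ c : K, (Scheme.ΓSpecIso (CommRingCat.of K)).inv c = t :=
      ⟨(Scheme.ΓSpecIso (CommRingCat.of K)).hom t, by simp⟩
    rw [← ht, ← hc']
    by_cases hc : c = 0
    · left
      rw [hc, map_zero, map_zero]
    · right
      exact ((IsUnit.mk0 c hc).map _).map _
  haveI : PreconnectedSpace Z := preconnectedSpace_of_forall Z hall
  haveI : Nonempty Z := by
    obtain ⟨x⟩ : Nonempty X := inferInstance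
    obtain ⟨t⟩ : Nonempty (Spec (CommRingCat.of K)) := inferInstance
    haveI : Subsingleton (Spec (CommRingCat.of k)) :=
      inferInstanceAs (Subsingleton (PrimeSpectrum k))
    obtain ⟨z, -, -⟩ := Scheme.Pullback.exists_preimage_pullback x t (Subsingleton.elim (f x) (y t))
    exact ⟨h.isoPullback.inv z⟩
  exact ConnectedSpace.mk ‹_›

end Groth.Agent.Lib.Helper72.CurveH0Geom
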