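import Groth.Agent.Lib.Helper73.DimFT.Scheme
import Mathlib.AlgebraicGeometry.Morphisms.Integral
import Mathlib.AlgebraicGeometry.Morphisms.UniversallyOpen

/-!
# Invariance of the local dimension under integral extension of the base field
-/

set_option autoImplicit false

universe u

namespace Groth.Agent.Lib.Helper72.DimBC

open AlgebraicGeometry CategoryTheory CategoryTheory.Limits
open Groth.Agent.Lib.Helper73

section D1

variable {k L : Type u} [Field k] [Field L] {X X' : Scheme.{u}}
  (f : X ⟶ Spec (CommRingCat.of k)) [LocallyOfFiniteType f]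
  (f' : X' ⟶ Spec (CommRingCat.of L)) [LocallyOfFiniteType f']
  (π : X' ⟶ X) [IsIntegralHom π]

/-- The transcendence degree of residue fields is preserved by an integral morphism between schemes
locally of finite type over (possibly different) fields. -/
theorem trdegNat_eq (x' : X') : trdegNat f' x' = trdegNat f (π x') := by
  obtain ⟨V, hV, hxV, -⟩ :=
    exists_isAffineOpen_mem_and_subset (X := X) (x := π x') (U := ⊤) trivial
  have hV' : IsAffineOpen (π ⁻¹ᵁ V) := hV.preimage π
  have hx' : x' ∈ Set.range hV'.fromSpec := by rw [hV'.range_fromSpec]; exact hxV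
  obtain ⟨q', rfl⟩ := hx'
  have hnat : Spec.map (π.app V) ≫ hV.fromSpec = hV'.fromSpec ≫ π := by
    have := IsAffineOpen.SpecMap_appLE_fromSpec π hV hV' le_rfl
    rwa [← Scheme.Hom.app_eq_appLE] at this
  have hpt : π (hV'.fromSpec q') = hV.fromSpec (Spec.map (π.app V) q') := by
    rw [← Scheme.Hom.comp_apply, ← hnat, Scheme.Hom.comp_apply]
  rw [hpt, chart_trdegNat f' hV' q', chart_trdegNat f hV]
  let _ := chartAlgebra f hV
  have := chart_finiteType f hV
  let _ := chartAlgebra f' hV'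
  have := chart_finiteType f' hV'
  have hint : (π.app V).hom.IsIntegral := π.isIntegral_app V hV
  have h1 := coe_quotDim L q'
  have h2 := coe_quotDim k (Spec.map (π.app V) q')
  have hq : (Spec.map (π.app V) q').asIdeal = Ideal.comap (π.app V).hom q'.asIdeal := rfl
  let _ : Algebra (Γ(X, V) ⧸ Ideal.comap (π.app V).hom q'.asIdeal) (Γ(X', π ⁻¹ᵁ V) ⧸ q'.asIdeal) :=
    (Ideal.quotientMap q'.asIdeal (π.app V).hom le_rfl).toAlgebra
  have hint' : Algebra.IsIntegral (Γ(X, V) ⧸ Ideal.comap (π.app V).hom q'.asIdeal)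
      (Γ(X', π ⁻¹ᵁ V) ⧸ q'.asIdeal) := ⟨hint.quotient⟩
  have h3 : ringKrullDim (Γ(X', π ⁻¹ᵁ V) ⧸ q'.asIdeal) =
      ringKrullDim (Γ(X, V) ⧸ Ideal.comap (π.app V).hom q'.asIdeal) :=
    ringKrullDim_eq_of_isIntegral_of_injective Ideal.quotientMap_injective
  rw [hq] at h2
  rw [← h1, ← h2] at h3
  exact_mod_cast h3

end D1

section BCI

variable {k L : Type u} [Field k] [Field L] {X X' : Scheme.{u}}
  (f : X ⟶ Spec (CommRingCat.of k)) [LocallyOfFiniteType f]
  (f' : X' ⟶ Spec (CommRingCat.of L)) [LocallyOfFiniteType f']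
  (π : X' ⟶ X) [IsIntegralHom π]

include f f' in
/-- Invariance of the local dimension under an open integral morphism between schemes locally of
finite type over fields. -/
theorem localDim_eq_of_isOpenMap (hopen : IsOpenMap π) (x' : X') :
    FlatMor.localDim X' x' = FlatMor.localDim X (π x') := by
  unfold FlatMor.localDim
  apply le_antisymm
  · refine le_iInf fun U => ?_
    let U' : {U' : TopologicalSpace.Opens X' // x' ∈ U'} := ⟨π ⁻¹ᵁ U.1, U.2⟩
    refine (iInf_le _ U').trans ?_
    rw [topologicalKrullDim_open_eq_iSup_trdegNat f' (π ⁻¹ᵁ U.1).isOpen,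
      topologicalKrullDim_open_eq_iSup_trdegNat f U.1.isOpen]
    refine iSup_le fun y' => ?_
    rw [trdegNat_eq f f' π]
    exact le_iSup (fun y : ↥(U.1 : Set X) => ((trdegNat f y.1 : ℕ∞) : WithBot ℕ∞))
      ⟨π y'.1, y'.2⟩
  · refine le_iInf fun U' => ?_
    let U : {U : TopologicalSpace.Opens X // π x' ∈ U} :=
      ⟨⟨π '' U'.1, hopen _ U'.1.isOpen⟩, ⟨x', U'.2, rfl⟩⟩
    refine (iInf_le _ U).trans ?_
    rw [topologicalKrullDim_open_eq_iSup_trdegNat f U.1.isOpen,
      topologicalKrullDim_open_eq_iSup_trdegNat f' U'.1.isOpen]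
    refine iSup_le fun y => ?_
    obtain ⟨y', hy', hy⟩ := y.2
    rw [← hy, ← trdegNat_eq f f' π]
    exact le_iSup (fun y' : ↥(U'.1 : Set X') => ((trdegNat f' y'.1 : ℕ∞) : WithBot ℕ∞))
      ⟨y', hy'⟩

end BCI

end Groth.Agent.Lib.Helper72.DimBC
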