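import Mathlib.RingTheory.LocalRing.ResidueField.Ideal
import Mathlib.RingTheory.Localization.BaseChange
import Mathlib.RingTheory.Localization.Away.Basic
import Mathlib.RingTheory.TensorProduct.Quotient
import Mathlib.RingTheory.Flat.TorsionFree
import Mathlib.RingTheory.Nakayama
import Mathlib.RingTheory.DiscreteValuationRing.Basic

set_option autoImplicit false

namespace Groth.Agent.Lib.Helper72.DvrAlg

open TensorProduct

/-- If `C ⊗ κ(m)` is reduced for a maximal ideal `m`, so is `C / mC`. -/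
theorem isReduced_quotient_of_tensor {R : Type*} [CommRing R] (m : Ideal R) [m.IsMaximal]
    (C : Type*) [CommRing C] [Algebra R C] [IsReduced (C ⊗[R] m.ResidueField)] :
    IsReduced (C ⧸ m.map (algebraMap R C)) := by
  let e1 : (R ⧸ m) ≃ₐ[R] m.ResidueField :=
    AlgEquiv.ofBijective (IsScalarTower.toAlgHom R (R ⧸ m) m.ResidueField)
      m.bijective_algebraMap_quotient_residueField
  let e2 : C ⊗[R] (R ⧸ m) ≃ₐ[R] C ⊗[R] m.ResidueField :=
    Algebra.TensorProduct.congr AlgEquiv.refl e1
  let e3 := Algebra.TensorProduct.quotIdealMapEquivTensorQuot C m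
  exact isReduced_of_injective (e2.toRingEquiv.toRingHom.comp e3.toRingEquiv.toRingHom)
    (e2.injective.comp e3.injective)

/-- Idempotent descent, induction step. -/
theorem exists_idem_of_sq_eq {C : Type*} [CommRing C] (p : C) (hp : p ∈ nonZeroDivisors C)
    (hred : ∀ c : C, p ∣ c ^ 2 → p ∣ c) :
    ∀ (n : ℕ) (c : C), c * c = p ^ n * c → ∃ e : C, IsIdempotentElem e ∧ c = p ^ n * e := by
  intro n
  induction n with
  | zero => intro c hc; exact ⟨c, by simpa [IsIdempotentElem] using hc, by simp⟩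
  | succ n ih =>
    intro c hc
    obtain ⟨d, rfl⟩ : p ∣ c := hred c ⟨p ^ n * c, by rw [sq, hc]; ring⟩
    have h1 : p * p * (d * d) = p * p * (p ^ n * d) := by
      calc p * p * (d * d) = p * d * (p * d) := by ring
        _ = p ^ (n + 1) * (p * d) := hc
        _ = p * p * (p ^ n * d) := by ring
    have h2 : d * d = p ^ n * d :=
      mul_cancel_left_mem_nonZeroDivisors (mul_mem hp hp) |>.1 h1
    obtain ⟨e, he, hd⟩ := ih d h2
    exact ⟨e, he, by rw [hd]; ring⟩

/-- Idempotents of `C[1/p]` come from `C` if `p` is a nonzerodivisor and `C/p` is reduced. -/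
theorem exists_idem_lift {C S : Type*} [CommRing C] [CommRing S] [Algebra C S] (p : C)
    [IsLocalization.Away p S] (hp : p ∈ nonZeroDivisors C)
    (hred : ∀ c : C, p ∣ c ^ 2 → p ∣ c) (e : S) (he : IsIdempotentElem e) :
    ∃ e' : C, IsIdempotentElem e' ∧ algebraMap C S e' = e := by
  obtain ⟨c, ⟨_, n, rfl⟩, rfl⟩ := IsLocalization.exists_mk'_eq (Submonoid.powers p) e
  have hinj : Function.Injective (algebraMap C S) :=
    IsLocalization.injective S (Submonoid.powers_le.mpr hp)
  have h1 : c * c = p ^ n * c := by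
    apply hinj
    have h2 := he
    unfold IsIdempotentElem at h2
    rw [← IsLocalization.mk'_mul, IsLocalization.mk'_eq_iff_eq] at h2
    have h3 := hinj h2
    simp only [Submonoid.coe_mul] at h3
    have h6 : c * c = p ^ n * c :=
      (mul_cancel_left_mem_nonZeroDivisors (pow_mem hp n)).1 (by rw [h3]; ring)
    rw [h6]
  obtain ⟨e', he', hc⟩ := exists_idem_of_sq_eq p hp hred n c h1
  refine ⟨e', he', ?_⟩
  rw [IsLocalization.eq_mk'_iff_mul_eq, ← map_mul, hc]
  congr 1
  ring

/-- `C/p` reduced gives the divisibility criterion. -/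
theorem dvd_of_dvd_sq {C : Type*} [CommRing C] (p : C) [IsReduced (C ⧸ Ideal.span {p})]
    (c : C) (k : ℕ) (h : p ∣ c ^ k) : p ∣ c := by
  rw [← Ideal.mem_span_singleton, ← Ideal.Quotient.eq_zero_iff_mem] at h ⊢
  rw [map_pow] at h
  exact IsReduced.eq_zero _ ⟨k, h⟩

/-- Nakayama for the nilradical: if `C` is noetherian, `p` a nonzerodivisor with `C/p` reduced,
there is `r ≡ 1 mod p` killing the nilradical. -/
theorem exists_kill_nilradical {C : Type*} [CommRing C] [IsNoetherianRing C] (p : C)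
    (hp : p ∈ nonZeroDivisors C) [IsReduced (C ⧸ Ideal.span {p})] :
    ∃ r : C, r - 1 ∈ Ideal.span {p} ∧ ∀ n : C, IsNilpotent n → r * n = 0 := by
  have hle : nilradical C ≤ Ideal.span {p} • nilradical C := by
    intro n hn
    obtain ⟨k, hk⟩ := hn
    obtain ⟨d, rfl⟩ := dvd_of_dvd_sq p n k (by rw [hk]; exact dvd_zero p)
    have hd : IsNilpotent d := by
      refine ⟨k, ?_⟩
      rw [mul_pow] at hk
      exact (mul_cancel_left_mem_nonZeroDivisors (pow_mem hp k)).1 (by rw [hk, mul_zero])
    have : p * d = p • d := rfl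
    rw [this]
    exact Submodule.smul_mem_smul (Ideal.mem_span_singleton_self p) hd
  obtain ⟨r, hr1, hr2⟩ := Submodule.exists_sub_one_mem_and_smul_eq_zero_of_fg_of_le_smul
    (Ideal.span {p}) (nilradical C) (IsNoetherian.noetherian _) hle
  exact ⟨r, hr1, fun n hn => hr2 n hn⟩

/-- If `r` kills the nilradical of `C`, then `C[1/r]` is reduced. -/
theorem isReduced_away {C S : Type*} [CommRing C] [CommRing S] [Algebra C S] (r : C)
    [IsLocalization.Away r S] (hr : ∀ n : C, IsNilpotent n → r * n = 0) : IsReduced S := by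
  constructor
  rintro x ⟨k, hk⟩
  obtain ⟨c, ⟨_, n, rfl⟩, rfl⟩ := IsLocalization.exists_mk'_eq (Submonoid.powers r) x
  rw [← IsLocalization.mk'_pow, IsLocalization.mk'_eq_zero_iff] at hk
  obtain ⟨⟨_, m, rfl⟩, hm⟩ := hk
  have h1 : IsNilpotent (r * c) := by
    refine ⟨m + k, ?_⟩
    calc (r * c) ^ (m + k) = r ^ k * c ^ m * (r ^ m * c ^ k) := by ring
      _ = 0 := by rw [hm, mul_zero]
  rw [IsLocalization.mk'_eq_zero_iff]
  exact ⟨⟨r * r, 2, by ring⟩, by rw [mul_assoc]; exact hr _ h1⟩

end Groth.Agent.Lib.Helper72.DvrAlg
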