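import Mathlib.AlgebraicGeometry.Fiber
import Mathlib.AlgebraicGeometry.Morphisms.Flat
import Mathlib.AlgebraicGeometry.Properties
import Mathlib.RingTheory.LocalRing.ResidueField.Ideal
import Mathlib.RingTheory.Localization.BaseChange
import Mathlib.RingTheory.DiscreteValuationRing.Basic
import Groth.Agent.Lib.Helper72.DvrAlg

set_option autoImplicit false
universe u

namespace Groth.Agent.Lib.Helper72.DvrFibre

open AlgebraicGeometry CategoryTheory Limits TensorProduct

variable {R : Type u} [CommRing R] {X : Scheme.{u}} (f : X ⟶ Spec (CommRingCat.of R))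

/-- The structure map `R → Γ(X, W)`. -/
noncomputable def secMap (W : X.Opens) : CommRingCat.of R ⟶ Γ(X, W) :=
  (Scheme.ΓSpecIso (.of R)).inv ≫ f.appLE ⊤ W le_top

lemma fromSpec_comp {W : X.Opens} (hW : IsAffineOpen W) :
    hW.fromSpec ≫ f = Spec.map (secMap f W) := by
  rw [← IsAffineOpen.SpecMap_appLE_fromSpec f (isAffineOpen_top _) hW le_top,
    IsAffineOpen.fromSpec_top, Scheme.isoSpec_Spec_inv, ← Spec.map_comp, secMap]

/-- The open immersion `Spec (Γ(X,W) ⊗ κ(y)) ⟶ f.fiber y`. -/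
theorem exists_openImmersion_fiber {W : X.Opens} (hW : IsAffineOpen W) (y : PrimeSpectrum R) :
    letI := (secMap f W).hom.toAlgebra
    ∃ j : Spec (.of (Γ(X, W) ⊗[R] y.asIdeal.ResidueField)) ⟶ f.fiber y, IsOpenImmersion j := by
  let _ := (secMap f W).hom.toAlgebra
  have h0 : Spec.map (CommRingCat.ofHom (algebraMap R Γ(X, W))) = Spec.map (secMap f W) := rfl
  have h1 : Spec.map (CommRingCat.ofHom (algebraMap R Γ(X, W))) ≫ 𝟙 _ = hW.fromSpec ≫ f := by
    rw [Category.comp_id, fromSpec_comp, h0]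
  have h2 : Spec.map (CommRingCat.ofHom (algebraMap R y.asIdeal.ResidueField)) ≫ 𝟙 _ =
      Spec.map (Scheme.Spec.residueFieldIso (.of R) y).hom ≫
        (Spec (.of R)).fromSpecResidueField y := by
    rw [Category.comp_id, ← Scheme.Spec.map_residueFieldIso_inv_eq_fromSpecResidueField,
      ← Spec.map_comp_assoc, Iso.inv_hom_id, Spec.map_id, Category.id_comp]
  have h3 : IsOpenImmersion (pullback.map (Spec.map (CommRingCat.ofHom (algebraMap R Γ(X, W))))
      (Spec.map (CommRingCat.ofHom (algebraMap R y.asIdeal.ResidueField)))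
      f ((Spec (.of R)).fromSpecResidueField y) hW.fromSpec
      (Spec.map (Scheme.Spec.residueFieldIso (.of R) y).hom) (𝟙 _) h1 h2) :=
    Scheme.pullback_map_isOpenImmersion _ _ _ _ _ _ _ _ _
  exact ⟨(pullbackSpecIso R Γ(X, W) y.asIdeal.ResidueField).inv ≫
    pullback.map (Spec.map (CommRingCat.ofHom (algebraMap R Γ(X, W))))
      (Spec.map (CommRingCat.ofHom (algebraMap R y.asIdeal.ResidueField)))
      f ((Spec (.of R)).fromSpecResidueField y) hW.fromSpec
      (Spec.map (Scheme.Spec.residueFieldIso (.of R) y).hom) (𝟙 _) h1 h2, @IsOpenImmersion.comp _ _ _ _ _ inferInstance h3⟩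


theorem isReduced_tensor_of_fiber {W : X.Opens} (hW : IsAffineOpen W) (y : PrimeSpectrum R)
    [IsReduced (f.fiber y)] :
    letI := (secMap f W).hom.toAlgebra
    IsReduced (Γ(X, W) ⊗[R] y.asIdeal.ResidueField) := by
  let _ := (secMap f W).hom.toAlgebra
  obtain ⟨j, hj⟩ := exists_openImmersion_fiber f hW y
  have h1 : IsReduced (Spec (.of (Γ(X, W) ⊗[R] y.asIdeal.ResidueField))) :=
    isReduced_of_isOpenImmersion j
  exact (affine_isReduced_iff _).1 h1

lemma basicOpen_secMap (W : X.Opens) (ϖ : R) :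
    X.basicOpen ((secMap f W).hom ϖ) = W ⊓ f ⁻¹ᵁ (PrimeSpectrum.basicOpen ϖ) := by
  have h1 : (secMap f W).hom ϖ = X.presheaf.map (homOfLE (le_top : W ≤ f ⁻¹ᵁ ⊤)).op
      (f.app ⊤ ((Scheme.ΓSpecIso (.of R)).inv ϖ)) := rfl
  rw [h1, Scheme.basicOpen_res]
  congr 1
  exact (Scheme.preimage_basicOpen f ((Scheme.ΓSpecIso (.of R)).inv ϖ)).symm.trans
    (by rw [basicOpen_eq_of_affine])

section DVR

variable [IsDomain R] [IsDiscreteValuationRing R] {ϖ : R} (hϖ : Irreducible ϖ)

include hϖ in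
lemma eq_bot_of_notMem (y : PrimeSpectrum R) (h : ϖ ∉ y.asIdeal) :
    y = ⟨⊥, Ideal.isPrime_bot⟩ := by
  ext1
  refine le_antisymm ?_ bot_le
  intro a ha
  by_contra ha0
  obtain ⟨n, u, rfl⟩ := IsDiscreteValuationRing.eq_unit_mul_pow_irreducible ha0 hϖ
  rw [Ideal.unit_mul_mem_iff_mem _ u.isUnit] at ha
  exact h (y.isPrime.mem_of_pow_mem n ha)

include hϖ in
lemma eq_closedPoint_of_mem (y : PrimeSpectrum R) (h : ϖ ∈ y.asIdeal) :
    y = IsLocalRing.closedPoint R := by
  ext1
  refine le_antisymm (IsLocalRing.le_maximalIdeal y.isPrime.ne_top) ?_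
  show IsLocalRing.maximalIdeal R ≤ _
  rw [hϖ.maximalIdeal_eq, Ideal.span_singleton_le_iff_mem]
  exact h

include hϖ in
lemma mem_preimage_basicOpen_iff (x : X) :
    x ∈ f ⁻¹ᵁ (PrimeSpectrum.basicOpen ϖ) ↔ f x = ⟨⊥, Ideal.isPrime_bot⟩ := by
  constructor
  · intro h
    exact eq_bot_of_notMem hϖ _ h
  · intro h
    show ϖ ∉ (f x).asIdeal
    rw [h]
    exact hϖ.ne_zero

include hϖ in
lemma notMem_preimage_basicOpen_iff (x : X) :
    x ∉ f ⁻¹ᵁ (PrimeSpectrum.basicOpen ϖ) ↔ f x = IsLocalRing.closedPoint R := by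
  constructor
  · intro h
    refine eq_closedPoint_of_mem hϖ _ ?_
    by_contra h'
    exact h h'
  · intro h h'
    have h2 : ϖ ∉ (f x).asIdeal := h'
    rw [h] at h2
    apply h2
    show ϖ ∈ IsLocalRing.maximalIdeal R
    rw [hϖ.maximalIdeal_eq]
    exact Ideal.mem_span_singleton_self ϖ

omit [IsDomain R] [IsDiscreteValuationRing R] in
lemma flat_secMap [Flat f] {W : X.Opens} (hW : IsAffineOpen W) : (secMap f W).hom.Flat := by
  have h1 := f.flat_appLE (isAffineOpen_top _) hW (le_top : W ≤ f ⁻¹ᵁ ⊤)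
  have h2 : (secMap f W).hom = (f.appLE ⊤ W le_top).hom.comp
    (Scheme.ΓSpecIso (.of R)).inv.hom := rfl
  rw [h2]
  exact RingHom.Flat.comp (RingHom.Flat.of_bijective
    (ConcreteCategory.bijective_of_isIso (Scheme.ΓSpecIso (.of R)).inv)) h1

include hϖ in
lemma secMap_mem_nonZeroDivisors [Flat f] {W : X.Opens} (hW : IsAffineOpen W) :
    (secMap f W).hom ϖ ∈ nonZeroDivisors Γ(X, W) := by
  let _ := (secMap f W).hom.toAlgebra
  have : Module.Flat R Γ(X, W) := flat_secMap f hW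
  have h1 : IsSMulRegular Γ(X, W) ϖ :=
    Module.Flat.isSMulRegular_of_nonZeroDivisors (mem_nonZeroDivisors_of_ne_zero hϖ.ne_zero)
  rw [mem_nonZeroDivisors_iff_right]
  intro c hc
  apply h1
  show ϖ • c = ϖ • (0 : Γ(X, W))
  rw [smul_zero, Algebra.smul_def, mul_comm]
  exact hc

include hϖ in
lemma isReduced_quotient [IsReduced (f.fiber (IsLocalRing.closedPoint R))] {W : X.Opens}
    (hW : IsAffineOpen W) : IsReduced (Γ(X, W) ⧸ Ideal.span {(secMap f W).hom ϖ}) := by
  let _ := (secMap f W).hom.toAlgebra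
  have h1 := isReduced_tensor_of_fiber f hW (IsLocalRing.closedPoint R)
  have hmax : (IsLocalRing.closedPoint R).asIdeal.IsMaximal :=
    IsLocalRing.maximalIdeal.isMaximal R
  have h2 := DvrAlg.isReduced_quotient_of_tensor (IsLocalRing.closedPoint R).asIdeal Γ(X, W)
  have h3 : (IsLocalRing.closedPoint R).asIdeal.map (algebraMap R Γ(X, W)) =
      Ideal.span {(secMap f W).hom ϖ} := by
    show (IsLocalRing.maximalIdeal R).map _ = _
    rw [hϖ.maximalIdeal_eq, Ideal.map_span, Set.image_singleton]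
    rfl
  rw [h3] at h2
  exact h2

end DVR

end Groth.Agent.Lib.Helper72.DvrFibre
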