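import Groth.Agent.Lib.Helper22.FlatDim

/-!
# Equidimensional schemes of finite type over a field

`Equidim T N`: all irreducible components of `T` have dimension `N`.  For schemes locally of finite
type over a field this is a statement about transcendence degrees at maximal points, hence passes
to open subschemes; flat base change preserves it (from `Helper22.FlatDim`).
-/

set_option autoImplicit false

universe u

open AlgebraicGeometry CategoryTheory CategoryTheory.Limits TopologicalSpace Topology

namespace Groth.Agent.Lib.Helper72.Equidim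

open Groth.Agent.Lib.Helper73 Groth.Agent.Lib.Helper22.FlatDim

/-- All irreducible components have dimension `N`. -/
def Equidim (T : Type*) [TopologicalSpace T] (N : WithBot ℕ∞) : Prop :=
  ∀ Z ∈ irreducibleComponents T, topologicalKrullDim ↥Z = N

lemma equidim_of_homeomorph {A B : Type*} [TopologicalSpace A] [TopologicalSpace B] (φ : A ≃ₜ B)
    (N : WithBot ℕ∞) (h : Equidim A N) : Equidim B N := by
  intro Z hZ
  obtain ⟨h1, h2⟩ := image_mem_irreducibleComponents_of_homeomorph φ.symm Z hZ
  rw [← h2]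
  exact h _ h1

variable {k : Type u} [Field k]

/-- The closure of a maximal point is an irreducible component. -/
lemma closure_mem_irreducibleComponents {T : Type*} [TopologicalSpace T] [QuasiSober T]
    (ξ : T) (hξ : ∀ t : T, t ⤳ ξ → t = ξ) :
    closure ({ξ} : Set T) ∈ irreducibleComponents T := by
  refine ⟨isIrreducible_singleton.closure, fun Z' hZ' hle => ?_⟩
  have hZ'' : IsIrreducible (closure Z') := hZ'.closure
  obtain ⟨t, ht⟩ := QuasiSober.sober hZ'' isClosed_closure
  have h1 : ξ ∈ closure Z' := subset_closure (hle (subset_closure rfl))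
  have h2 : t ⤳ ξ := ht.specializes h1
  have h3 : t = ξ := hξ t h2
  rw [← h3, ht.def]
  exact subset_closure

lemma equidim_iff_maximal {X : Scheme.{u}} (p : X ⟶ Spec (.of k)) [LocallyOfFiniteType p]
    (N : WithBot ℕ∞) :
    Equidim X N ↔
      ∀ ξ : X, (∀ t : X, t ⤳ ξ → t = ξ) → ((trdegNat p ξ : ℕ∞) : WithBot ℕ∞) = N := by
  constructor
  · intro h ξ hξ
    rw [← h _ (closure_mem_irreducibleComponents ξ hξ)]
    exact ((isDimFun_trdegNat p).topologicalKrullDim_closure_singleton ξ).symm
  · intro h Z hZ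
    obtain ⟨ξ, hξ, hd⟩ := exists_maximal_of_mem_irreducibleComponents p Z hZ
    rw [hd]
    exact h ξ hξ

lemma equidim_opens {X : Scheme.{u}} (p : X ⟶ Spec (.of k)) [LocallyOfFiniteType p]
    (N : WithBot ℕ∞) (h : Equidim X N) (U : X.Opens) : Equidim ↥(U : Scheme.{u}) N := by
  rw [equidim_iff_maximal p] at h
  rw [equidim_iff_maximal (U.ι ≫ p)]
  intro ξ hξ
  have h1 : trdegNat (U.ι ≫ p) ξ = trdegNat p (U.ι ξ) := by
    rw [trdegNat_eq_resTrdegNat, trdegNat_eq_resTrdegNat, resTrdegNat_comp_of_isPreimmersion]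
  rw [h1]
  apply h
  intro t ht
  have htU : t ∈ U := by
    have : U.ι ξ ∈ U := by simp
    exact ht.mem_open U.2 this
  let t' : ↥(U : Scheme.{u}) := ⟨t, htU⟩
  have h2 : t' ⤳ ξ := by
    rw [← U.ι.isOpenEmbedding.isInducing.specializes_iff]
    exact ht
  have h3 := hξ _ h2
  rw [← h3]
  rfl

lemma dim_eq_of_equidim {X : Scheme.{u}} (p : X ⟶ Spec (.of k)) [LocallyOfFiniteType p]
    (N : WithBot ℕ∞) (h : Equidim X N) [Nonempty X] : topologicalKrullDim X = N := by
  rw [equidim_iff_maximal p] at h
  rw [topologicalKrullDim_eq_iSup_trdegNat p]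
  apply le_antisymm
  · refine iSup_le fun x => ?_
    obtain ⟨ξ, hξx, hξ⟩ := exists_maximal_specializes x
    rw [← h ξ hξ]
    exact_mod_cast (isDimFun_trdegNat p).le_of_specializes hξx
  · obtain ⟨x⟩ := ‹Nonempty X›
    obtain ⟨ξ, hξx, hξ⟩ := exists_maximal_specializes x
    rw [← h ξ hξ]
    exact le_iSup (fun x : X => ((trdegNat p x : ℕ∞) : WithBot ℕ∞)) ξ

/-- An irreducible scheme is equidimensional. -/
lemma equidim_of_irreducible (T : Type*) [TopologicalSpace T] [IrreducibleSpace T] :
    Equidim T (topologicalKrullDim T) := by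
  intro Z hZ
  rw [irreducibleComponents_eq_singleton, Set.mem_singleton_iff] at hZ
  subst hZ
  exact (IsHomeomorph.topologicalKrullDim_eq _ (Homeomorph.Set.univ T).isHomeomorph)

/-- Flat base change of an equidimensional scheme along a morphism of irreducible schemes. -/
theorem equidim_pullback_of_flat {X Y Y' : Scheme.{u}}
    (qX : X ⟶ Spec (.of k)) (qY : Y ⟶ Spec (.of k)) (qY' : Y' ⟶ Spec (.of k))
    [LocallyOfFiniteType qX] [LocallyOfFiniteType qY] [LocallyOfFiniteType qY']
    [IrreducibleSpace ↥Y] [IrreducibleSpace ↥Y'] (f : X ⟶ Y) (hf : f ≫ qY = qX) [Flat f] (n : ℕ)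
    (hX : Equidim X (topologicalKrullDim ↥Y + (n : WithBot ℕ∞))) (g : Y' ⟶ Y) :
    Equidim ↥(pullback f g) (topologicalKrullDim ↥Y' + (n : WithBot ℕ∞)) := by
  intro Z hZ
  let e : ↥((pullback.snd f g) ⁻¹' (Set.univ : Set Y')) ≃ₜ ↥(pullback f g) :=
    (Homeomorph.setCongr Set.preimage_univ).trans (Homeomorph.Set.univ _)
  obtain ⟨h1, h2⟩ := image_mem_irreducibleComponents_of_homeomorph e.symm Z hZ
  have key := dim_irreducibleComponent_preimage_of_flat qX qY qY' f hf n hX g Set.univ
    isClosed_univ (IrreducibleSpace.isIrreducible_univ _) _ h1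
  rw [← h2, key]
  congr 1
  exact (IsHomeomorph.topologicalKrullDim_eq _ (Homeomorph.Set.univ Y').isHomeomorph)

end Groth.Agent.Lib.Helper72.Equidim
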