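import Mathlib
import Groth.Agent.Lib.Helper72.FibDimIrr
import Groth.Agent.Lib.Helper73.DimFormula.PairLe
import Groth.Agent.Lib.Helper73.DimFormula.FiberDim

/-!
# Generically finite morphisms do not lower dimension (helper72)

* `codim_le_dim_closure`: `codim σ s ≤ dim closure {σ}`.
* `dim_le_dim_closure_image_scheme`, `dim_closure_le_dim_closure_image`: if
  `trdeg κ(ξ)/κ(π ξ) = 0` then `dim closure {ξ} ≤ dim closure {π ξ}` (dimension inequality,
  locally Noetherian target).
* `resTrdegNat_eq_zero_of_isolated`, `resTrdegNat_eq_zero_of_specializes_isolated`.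
* `topologicalKrullDim_le_of_components`.
-/

set_option autoImplicit false
universe u

open AlgebraicGeometry CategoryTheory TopologicalSpace Topology Order

namespace Groth.Agent.Lib.Helper72.FibDimQF

open Groth.Agent.Lib.Helper73 Groth.Agent.Lib.Helper72.FibDim Groth.Agent.Lib.Helper72.FibDimIrr

/-- The codimension of a point in `closure {σ}` is at most the dimension of `closure {σ}`. -/
lemma codim_le_dim_closure {S : Scheme.{u}} (σ s : S) :
    codim σ s ≤ topologicalKrullDim ↥(closure ({σ} : Set S)) := by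
  rw [← topologicalKrullDim_generizations_eq_codim]
  have hsub : {t : S | t ∈ closure ({σ} : Set S) ∧ t ⤳ s} ⊆ closure ({σ} : Set S) :=
    fun t ht => ht.1
  exact (IsInducing.of_comp (continuous_inclusion hsub) continuous_subtype_val
    (IsInducing.subtypeVal : IsInducing (Subtype.val ∘ Set.inclusion hsub))).topologicalKrullDim_le

/-- A generically finite morphism from an irreducible scheme does not lower dimension. -/
theorem dim_le_dim_closure_image_scheme {Z Y : Scheme.{u}} [IsLocallyNoetherian Y] (g : Z ⟶ Y)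
    [LocallyOfFiniteType g] [IrreducibleSpace Z] (h0 : resTrdegNat g (genericPoint Z) = 0) :
    topologicalKrullDim Z ≤ topologicalKrullDim ↥(closure ({g (genericPoint Z)} : Set Y)) := by
  rw [topologicalKrullDim_eq_iSup_stalk Z]
  refine iSup_le fun z => ?_
  rw [ringKrullDim_stalk_eq_codim_genericPoint]
  obtain ⟨a, b, ha, hb, hab⟩ := codim_add_resTrdeg_le g (genericPoint Z) z
    (genericPoint_specializes z)
  rw [resTrdeg_eq_resTrdegNat, resTrdeg_eq_resTrdegNat, h0] at hab
  have hab' : a + resTrdegNat g z ≤ b + 0 := by exact_mod_cast hab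
  have h1 : a ≤ b := by omega
  rw [ha]
  refine le_trans ?_ (codim_le_dim_closure (g (genericPoint Z)) (g z))
  rw [hb]
  exact_mod_cast h1

/-- If `κ(ξ)` is algebraic over `κ(π ξ)` then `dim closure {ξ} ≤ dim closure {π ξ}`. -/
theorem dim_closure_le_dim_closure_image {X Y : Scheme.{u}} [IsLocallyNoetherian Y] (π : X ⟶ Y)
    [LocallyOfFiniteType π] (ξ : X) (h0 : resTrdegNat π ξ = 0) :
    topologicalKrullDim ↥(closure ({ξ} : Set X)) ≤
      topologicalKrullDim ↥(closure ({π ξ} : Set Y)) := by
  obtain ⟨Z, j, hj, hirr, hr, hgen⟩ := exists_closedSubscheme_closure ξ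
  have h1 : resTrdegNat (j ≫ π) (genericPoint Z) = 0 := by
    rw [resTrdegNat_comp_of_isPreimmersion, hgen, h0]
  have h2 := dim_le_dim_closure_image_scheme (j ≫ π) h1
  rw [Scheme.Hom.comp_apply, hgen] at h2
  let e : ↥Z ≃ₜ ↥(closure ({ξ} : Set X)) :=
    (j.isClosedEmbedding.isEmbedding.toHomeomorph).trans (Homeomorph.setCongr hr)
  rw [← e.isHomeomorph.topologicalKrullDim_eq]
  exact h2

section Isolated

variable {X Y : Scheme.{u}} (π : X ⟶ Y) [LocallyOfFiniteType π]

/-- A point isolated in its fibre has residue field algebraic over that of its image. -/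
lemma resTrdegNat_eq_zero_of_isolated (x : X) (U : Set X) (hU : IsOpen U) (hxU : x ∈ U)
    (hx : ∀ x' ∈ U, π x' = π x → x' = x) : resTrdegNat π x = 0 := by
  by_contra h0
  have hδ := isDimFun_fibre π (π x)
  obtain ⟨y, hyW, -, hne⟩ := hδ.exists_specializes_of_ne_zero (⟨x, rfl⟩ : ↥(π.base ⁻¹' {π x}))
    (Subtype.val ⁻¹' U) (hU.preimage continuous_subtype_val) hxU h0
  exact hne (Subtype.ext (hx y.1 hyW y.2))

/-- Every generization of a point isolated in its fibre has residue field algebraic over that of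
its image (Chevalley). -/
lemma resTrdegNat_eq_zero_of_specializes_isolated (x ξ : X) (hξ : ξ ⤳ x) (U : Set X)
    (hU : IsOpen U) (hxU : x ∈ U) (hx : ∀ x' ∈ U, π x' = π x → x' = x) :
    resTrdegNat π ξ = 0 := by
  have h0 := resTrdegNat_eq_zero_of_isolated π x U hU hxU hx
  have h1 : FlatMor.fibreDimAt π x ≤ ((0 : ℕ) : WithBot ℕ∞) := by
    refine fibreDimAt_le_of_forall_generization π x 0 fun η hη hπη => ?_
    rw [hx η (hη.mem_open hU hxU) hπη, h0]
  have h2 : FlatMor.fibreDimAt π ξ ≤ ((0 : ℕ) : WithBot ℕ∞) :=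
    hξ.mem_open (isOpen_fibreDimAt_le 0 X Y π) h1
  have h3 := (resTrdegNat_le_fibreDimAt π ξ).trans h2
  have h4 : resTrdegNat π ξ ≤ 0 := by exact_mod_cast h3
  omega

end Isolated

/-- The dimension of a locally Noetherian scheme is bounded by the dimensions of its irreducible
components. -/
lemma topologicalKrullDim_le_of_components (Y : Scheme.{u}) [IsLocallyNoetherian Y]
    (d : WithBot ℕ∞) (hY : ∀ Z ∈ irreducibleComponents ↥Y, topologicalKrullDim ↥Z ≤ d) :
    topologicalKrullDim Y ≤ d := by
  rw [topologicalKrullDim_eq_iSup_stalk Y]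
  refine iSup_le fun y => ?_
  obtain ⟨η, -, hηmax, hη⟩ := exists_maximal_codim_eq_stalk y
  rw [← hη]
  exact (codim_le_dim_closure η y).trans
    (hY _ (closure_singleton_mem_irreducibleComponents_of_maximal η hηmax))

end Groth.Agent.Lib.Helper72.FibDimQF
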