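import Mathlib.FieldTheory.IsAlgClosed.Classification
import Mathlib.FieldTheory.IsAlgClosed.AlgebraicClosure
import Mathlib.RingTheory.Localization.FractionRing
import Mathlib.SetTheory.Cardinal.Basic

/-!
# Extending isomorphisms of small subfields of a huge algebraically closed field

* `exists_ringEquiv_of_card`: two algebraically closed `R`-fields of the same cardinality, bigger
  than `max #R ℵ₀`, are isomorphic as `R`-algebras.
* `exists_algClosed_aut`: for two ring homs `σ τ : k →+* K` of fields there are an algebraically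
  closed field `Ω`, a map `ρ : K →+* Ω` and an automorphism `β` of `Ω` with `β ∘ ρ ∘ τ = ρ ∘ σ`.
-/

universe u

open Cardinal

namespace Groth.Agent.Lib.Helper72.FieldAut

theorem card_transcendenceBasis {R K : Type u} [Field R] [Field K] [Algebra R K] [IsAlgClosed K]
    (hK : max #R ℵ₀ < #K) {ι : Type u} (v : ι → K) (hv : IsTranscendenceBasis R v) :
    #ι = #K := by
  refine le_antisymm (mk_le_of_injective hv.1.injective) ?_
  have h := IsAlgClosed.cardinal_le_max_transcendence_basis' v hv
  by_contra hlt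
  rw [not_le] at hlt
  have : max (max #R #ι) ℵ₀ < #K := by
    rw [max_lt_iff, max_lt_iff]
    exact ⟨⟨(le_max_left _ _).trans_lt hK, hlt⟩, (le_max_right _ _).trans_lt hK⟩
  exact absurd h (not_le.2 this)

theorem exists_ringEquiv_of_card {R K L : Type u} [Field R] [Field K] [Field L] [Algebra R K]
    [Algebra R L] [IsAlgClosed K] [IsAlgClosed L] (hKL : #K = #L) (hK : max #R ℵ₀ < #K) :
    ∃ e : K ≃+* L, ∀ r, e (algebraMap R K r) = algebraMap R L r := by
  obtain ⟨ι, v, hv⟩ := exists_isTranscendenceBasis' (R := R) (A := K)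
  obtain ⟨κ, w, hw⟩ := exists_isTranscendenceBasis' (R := R) (A := L)
  have h1 : #ι = #K := card_transcendenceBasis hK v hv
  have h2 : #κ = #L := card_transcendenceBasis (hKL ▸ hK) w hw
  obtain ⟨e⟩ : Nonempty (ι ≃ κ) := Cardinal.eq.1 (by rw [h1, h2, hKL])
  have := IsAlgClosed.isAlgClosure_of_transcendence_basis v hv
  have := IsAlgClosed.isAlgClosure_of_transcendence_basis w hw
  let e' : Algebra.adjoin R (Set.range v) ≃ₐ[R] Algebra.adjoin R (Set.range w) :=
    hv.1.aevalEquiv.symm.trans ((MvPolynomial.renameEquiv R e).trans hw.1.aevalEquiv)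
  refine ⟨IsAlgClosure.equivOfEquiv K L e'.toRingEquiv, fun r => ?_⟩
  rw [IsScalarTower.algebraMap_apply R (Algebra.adjoin R (Set.range v)) K,
    IsAlgClosure.equivOfEquiv_algebraMap,
    IsScalarTower.algebraMap_apply R (Algebra.adjoin R (Set.range w)) L]
  congr 1
  exact e'.commutes r

theorem exists_algClosed_aut {k K : Type u} [Field k] [Field K] (σ τ : k →+* K) :
    ∃ (Ω : Type u) (_ : Field Ω) (_ : IsAlgClosed Ω) (ρ : K →+* Ω) (β : Ω ≃+* Ω),
      ∀ x, β (ρ (τ x)) = ρ (σ x) := by
  let I := Set (K ⊕ ℕ)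
  let F := FractionRing (MvPolynomial I K)
  let Ω := AlgebraicClosure F
  let ρ : K →+* Ω := (algebraMap F Ω).comp ((algebraMap (MvPolynomial I K) F).comp MvPolynomial.C)
  have hI : max #K ℵ₀ < #I := by
    have h1 : #(K ⊕ ℕ) < #I := by
      rw [show #I = 2 ^ #(K ⊕ ℕ) from Cardinal.mk_set]
      exact Cardinal.cantor _
    refine lt_of_le_of_lt ?_ h1
    rw [mk_sum, mk_nat, lift_aleph0, lift_uzero]
    exact max_le (self_le_add_right _ _) (self_le_add_left _ _)
  have hΩ : #I ≤ #Ω := by
    refine mk_le_of_injective (f := fun i => algebraMap F Ω (algebraMap (MvPolynomial I K) F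
      (MvPolynomial.X i))) ?_
    intro i j hij
    exact MvPolynomial.X_injective (IsFractionRing.injective (MvPolynomial I K) F
      ((algebraMap F Ω).injective hij))
  have hk : #k ≤ #K := mk_le_of_injective τ.injective
  have hkΩ : max #k ℵ₀ < #Ω :=
    lt_of_le_of_lt (max_le_max hk le_rfl) (lt_of_lt_of_le hI hΩ)
  obtain ⟨e, he⟩ := @exists_ringEquiv_of_card k Ω Ω _ _ _ (ρ.comp τ).toAlgebra
    (ρ.comp σ).toAlgebra _ _ rfl hkΩ
  exact ⟨Ω, inferInstance, inferInstance, ρ, e, he⟩

end Groth.Agent.Lib.Helper72.FieldAut
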