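import Groth.Agent.Lib.Helper72.FinConnTorsor
import Groth.Agent.Lib.Helper72.LangEtale
import Groth.Agent.Lib.Helper72.GrpExt
import Mathlib.Algebra.CharP.Frobenius
import Mathlib.Algebra.CharP.Lemmas
import Mathlib.RingTheory.Artinian.Ring
import Mathlib.Algebra.Category.Ring.Constructions

/-!
# Torsors under finite connected group schemes over a field of characteristic `p`

A high Frobenius power kills a finite connected group scheme; hence every fppf torsor under it
acquires a point over `K^{1/p^n}` for a uniform `n`.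
-/

set_option autoImplicit false
universe u
open CategoryTheory CategoryTheory.Limits AlgebraicGeometry MonoidalCategory
open MonObj CartesianMonoidalCategory

namespace Groth.Agent.Lib.Helper72.FinConnFrob

/-- On a finite connected algebra `A` over a field `K` of characteristic `p` with a rational point
`ε`, a high power of Frobenius factors through `ε`. -/
theorem exists_pow_eq {K A : Type u} [Field K] [CommRing A] (p : ℕ) (hp : 2 ≤ p) [ExpChar K p]
    (κ : K →+* A) (hfin : κ.Finite) [ConnectedSpace (PrimeSpectrum A)] (ε : A →+* K)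
    (hε : ε.comp κ = RingHom.id K) : ∃ n : ℕ, ∀ a : A, a ^ (p ^ n) = (κ (ε a)) ^ (p ^ n) := by
  algebraize [κ]
  haveI : IsArtinianRing A := IsArtinianRing.of_finite K A
  haveI : Subsingleton (PrimeSpectrum A) := subsingleton_of_preconnected_totallyDisconnected
  haveI : Nontrivial A := by
    obtain ⟨x⟩ : Nonempty (PrimeSpectrum A) := inferInstance
    exact x.nontrivial
  haveI : ExpChar A p := expChar_of_injective_ringHom κ.injective p
  have hnil : ∀ x : A, ε x = 0 → x ∈ nilradical A := by
    intro x hx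
    rw [mem_nilradical, nilpotent_iff_mem_prime]
    intro J hJ
    have : (⟨J, hJ⟩ : PrimeSpectrum A) = ⟨RingHom.ker ε, RingHom.ker_isPrime ε⟩ :=
      Subsingleton.elim _ _
    have hJ' : J = RingHom.ker ε := congrArg PrimeSpectrum.asIdeal this
    rw [hJ', RingHom.mem_ker]
    exact hx
  obtain ⟨N, hN⟩ := IsArtinianRing.isNilpotent_nilradical (R := A)
  have hκ : ∀ c : K, ε (κ c) = c := fun c => congrArg (fun θ : K →+* K => θ c) hε
  refine ⟨N, fun a => ?_⟩
  have h0 : ε (a - κ (ε a)) = 0 := by rw [map_sub, hκ, sub_self]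
  have h1 : (a - κ (ε a)) ^ N = 0 := by
    have := Ideal.pow_mem_pow (hnil _ h0) N
    rw [hN] at this
    exact this
  have h2 : (a - κ (ε a)) ^ (p ^ N) = 0 :=
    pow_eq_zero_of_le (Nat.lt_pow_self hp).le h1
  rw [sub_pow_expChar_pow, sub_eq_zero] at h2
  exact h2

/-- `Spec` of an iterated Frobenius acts on global functions as the `p^n`-th power. -/
theorem specMap_iterateFrobenius_appTop (C : Type u) [CommRing C] (p n : ℕ) [ExpChar C p]
    (x : Γ(Spec (CommRingCat.of C), ⊤)) :
    (Spec.map (CommRingCat.ofHom (iterateFrobenius C p n))).appTop x = x ^ (p ^ n) := by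
  rw [Groth.Agent.Lib.Helper72.LangEtale.specMap_appTop, iterateFrobenius_def, map_pow]
  congr 1
  simp

/-- A high power of Frobenius kills a finite connected group scheme over a field of
characteristic `p`: it sends every point to the unit. -/
theorem exists_frob_comp_eq {K : Type u} [Field K] (p : ℕ) (hp : 2 ≤ p) [ExpChar K p]
    (G : Over (Spec (CommRingCat.of K))) [GrpObj G] [IsFinite G.hom] [ConnectedSpace G.left] :
    ∃ n : ℕ, ∀ (C : Type u) [CommRing C] [ExpChar C p] (g : Spec (CommRingCat.of C) ⟶ G.left),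
      Spec.map (CommRingCat.ofHom (iterateFrobenius C p n)) ≫ g =
        Spec.map (CommRingCat.ofHom (iterateFrobenius C p n)) ≫ (g ≫ G.hom) ≫ η[G].left := by
  haveI : IsAffine G.left := isAffine_of_isAffineHom G.hom
  let κ : K →+* Γ(G.left, ⊤) :=
    (G.hom.appTop.hom).comp (Scheme.ΓSpecIso (CommRingCat.of K)).inv.hom
  have hfin : κ.Finite := by
    refine (G.hom.finite_appTop).comp (RingHom.Finite.of_surjective _ ?_)
    exact ((Scheme.ΓSpecIso (CommRingCat.of K)).symm.commRingCatIsoToRingEquiv).surjective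
  haveI : ConnectedSpace (PrimeSpectrum Γ(G.left, ⊤)) :=
    (G.left.isoSpec.hom.homeomorph).surjective.connectedSpace
      (G.left.isoSpec.hom.homeomorph).continuous
  let ε : Γ(G.left, ⊤) →+* K :=
    (Scheme.ΓSpecIso (CommRingCat.of K)).hom.hom.comp (η[G].left.appTop.hom)
  have hηG : G.hom.appTop ≫ η[G].left.appTop = 𝟙 _ := by
    rw [← Scheme.Hom.comp_appTop]
    have : η[G].left ≫ G.hom = 𝟙 _ := Over.w η[G]
    rw [this]
    rfl
  have hε : ε.comp κ = RingHom.id K := by
    have : (Scheme.ΓSpecIso (CommRingCat.of K)).inv ≫ G.hom.appTop ≫ η[G].left.appTop ≫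
        (Scheme.ΓSpecIso (CommRingCat.of K)).hom = 𝟙 _ := by
      rw [reassoc_of% hηG, Iso.inv_hom_id]
    exact congrArg CommRingCat.Hom.hom this
  obtain ⟨n, hn⟩ := exists_pow_eq p hp κ hfin ε hε
  have hκε : ∀ a : Γ(G.left, ⊤), κ (ε a) = G.hom.appTop (η[G].left.appTop a) := by
    intro a
    show G.hom.appTop ((Scheme.ΓSpecIso (CommRingCat.of K)).inv
      ((Scheme.ΓSpecIso (CommRingCat.of K)).hom (η[G].left.appTop a))) = _
    congr 1
    simp
  refine ⟨n, fun C _ _ g => ?_⟩
  apply ext_of_isAffine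
  ext a
  simp only [Scheme.Hom.comp_appTop, CommRingCat.hom_comp, RingHom.coe_comp, Function.comp_apply]
  rw [specMap_iterateFrobenius_appTop, specMap_iterateFrobenius_appTop, ← map_pow, hn a, hκε,
    map_pow]

open TensorProduct in
/-- Over a field `K` of characteristic `p`, for a finite connected `K`-group `G` there is a uniform
`n` such that every pseudo-torsor under `G` which has a point with values in a nonzero `K`-algebra
has a point over `Frobⁿ : Spec K ⟶ Spec K`. -/
theorem exists_section_frob {K : Type u} [Field K] (p : ℕ) (hp : 2 ≤ p) [ExpChar K p]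
    (G : Over (Spec (CommRingCat.of K))) [GrpObj G] [IsFinite G.hom] [ConnectedSpace G.left] :
    ∃ n : ℕ, ∀ (X : Over (Spec (CommRingCat.of K))) (a : AlgGrp.Action G X)
      (_ : IsIso (lift a.act (snd G X))) (B : Type u) [CommRing B] [Algebra K B] [Nontrivial B]
      (s : Spec (CommRingCat.of B) ⟶ X.left)
      (_ : s ≫ X.hom = Spec.map (CommRingCat.ofHom (algebraMap K B))),
      ∃ t : Spec (CommRingCat.of K) ⟶ X.left,
        t ≫ X.hom = Spec.map (CommRingCat.ofHom (iterateFrobenius K p n)) := by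
  obtain ⟨n, hn⟩ := exists_frob_comp_eq p hp G
  refine ⟨n, fun X a hiso B _ _ _ s hs => ?_⟩
  haveI := hiso
  let f : Spec (CommRingCat.of B) ⟶ Spec (CommRingCat.of K) :=
    Spec.map (CommRingCat.ofHom (algebraMap K B))
  haveI : Surjective f := Groth.Agent.Lib.Helper72.GrpExt.surjective_of_field f
  haveI : Flat f := inferInstance
  haveI : QuasiCompact f := inferInstance
  haveI : EffectiveEpi f := inferInstance
  haveI : Nontrivial (B ⊗[K] B) :=
    RingHom.domain_nontrivial (Algebra.TensorProduct.lmul' K (S := B)).toRingHom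
  haveI : ExpChar B p := expChar_of_injective_algebraMap (algebraMap K B).injective p
  haveI : ExpChar (B ⊗[K] B) p :=
    expChar_of_injective_algebraMap (algebraMap K (B ⊗[K] B)).injective p
  let p1 : Spec (CommRingCat.of (B ⊗[K] B)) ⟶ Spec (CommRingCat.of B) :=
    Spec.map (CommRingCat.ofHom (Algebra.TensorProduct.includeLeftRingHom))
  let p2 : Spec (CommRingCat.of (B ⊗[K] B)) ⟶ Spec (CommRingCat.of B) :=
    Spec.map (CommRingCat.ofHom (Algebra.TensorProduct.includeRight (R := K) (A := B) (B := B)).toRingHom)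
  have hpb : IsPullback p1 p2 f f :=
    isPullback_SpecMap_of_isPushout _ _ _ _ (CommRingCat.isPushout_tensorProduct K B B)
  let FB : Spec (CommRingCat.of B) ⟶ Spec (CommRingCat.of B) :=
    Spec.map (CommRingCat.ofHom (iterateFrobenius B p n))
  let FC : Spec (CommRingCat.of (B ⊗[K] B)) ⟶ Spec (CommRingCat.of (B ⊗[K] B)) :=
    Spec.map (CommRingCat.ofHom (iterateFrobenius (B ⊗[K] B) p n))
  let FK : Spec (CommRingCat.of K) ⟶ Spec (CommRingCat.of K) :=
    Spec.map (CommRingCat.ofHom (iterateFrobenius K p n))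
  have hF1 : FC ≫ p1 = p1 ≫ FB := by
    simp only [FC, p1, FB, ← Spec.map_comp]
    congr 1
    ext b
    simp [iterateFrobenius_def, Algebra.TensorProduct.tmul_pow]
  have hF2 : FC ≫ p2 = p2 ≫ FB := by
    simp only [FC, p2, FB, ← Spec.map_comp]
    congr 1
    ext b
    simp [iterateFrobenius_def, Algebra.TensorProduct.tmul_pow]
  have hFf : FB ≫ f = f ≫ FK := by
    simp only [FB, f, FK, ← Spec.map_comp]
    congr 1
    ext c
    simp [iterateFrobenius_def]
  -- the two pullbacks of the point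
  let WW : Over (Spec (CommRingCat.of K)) := Over.mk (p1 ≫ f)
  let x1 : WW ⟶ X := Over.homMk (p1 ≫ s) (by
    show (p1 ≫ s) ≫ X.hom = p1 ≫ f
    rw [Category.assoc, hs])
  let x2 : WW ⟶ X := Over.homMk (p2 ≫ s) (by
    show (p2 ≫ s) ≫ X.hom = p1 ≫ f
    rw [Category.assoc, hs, hpb.w])
  let c : WW ⟶ G ⊗ X := lift x1 x2 ≫ inv (lift a.act (snd G X))
  have hc : c ≫ lift a.act (snd G X) = lift x1 x2 := by
    simp only [c, Category.assoc, IsIso.inv_hom_id, Category.comp_id]
  have hc1 : c ≫ a.act = x1 := by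
    have := congrArg (fun φ => φ ≫ fst X X) hc
    simpa only [Category.assoc, lift_fst] using this
  have hc2 : c ≫ snd G X = x2 := by
    have := congrArg (fun φ => φ ≫ snd X X) hc
    simpa only [Category.assoc, lift_snd] using this
  have hcl : c = lift (c ≫ fst G X) x2 := by
    apply CartesianMonoidalCategory.hom_ext
    · rw [lift_fst]
    · rw [hc2, lift_snd]
  -- twist by Frobenius
  let WW' : Over (Spec (CommRingCat.of K)) := Over.mk (FC ≫ p1 ≫ f)
  let φ : WW' ⟶ WW := Over.homMk FC rfl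
  have hg1 : φ ≫ (c ≫ fst G X) = (1 : WW' ⟶ G) := by
    apply Over.OverMorphism.ext
    have hw : (c ≫ fst G X).left ≫ G.hom = p1 ≫ f := Over.w (c ≫ fst G X)
    have h1 := hn (B ⊗[K] B) (c ≫ fst G X).left
    rw [hw] at h1
    exact h1
  have h12 : φ ≫ x1 = φ ≫ x2 := by
    rw [← hc1, hcl, ← Category.assoc, comp_lift, hg1, AlgGrp.Action.lift_one_act]
  have h12' : FC ≫ p1 ≫ s = FC ≫ p2 ≫ s := congrArg Over.Hom.left h12
  have h12'' : p1 ≫ (FB ≫ s) = p2 ≫ (FB ≫ s) := by
    rw [← Category.assoc, ← hF1, Category.assoc, h12', ← Category.assoc, hF2, Category.assoc]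
  have hdesc : ∀ {Z : Scheme.{u}} (g₁ g₂ : Z ⟶ Spec (CommRingCat.of B)), g₁ ≫ f = g₂ ≫ f →
      g₁ ≫ (FB ≫ s) = g₂ ≫ (FB ≫ s) := by
    intro Z g₁ g₂ h
    have e1 : g₁ = hpb.lift g₁ g₂ h ≫ p1 := (hpb.lift_fst _ _ _).symm
    have e2 : g₂ = hpb.lift g₁ g₂ h ≫ p2 := (hpb.lift_snd _ _ _).symm
    rw [e1, Category.assoc, h12'', ← Category.assoc, ← e2]
  refine ⟨EffectiveEpi.desc f (FB ≫ s) hdesc, ?_⟩
  haveI : Epi f := inferInstance
  rw [← cancel_epi f, ← Category.assoc, EffectiveEpi.fac, Category.assoc, hs, hFf]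

end Groth.Agent.Lib.Helper72.FinConnFrob
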