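import Groth.Prelude.Def_ChGrp
import Mathlib.AlgebraicGeometry.Sites.Fpqc
import Mathlib.AlgebraicGeometry.Morphisms.Finite
import Mathlib.RingTheory.Artinian.Module
import Mathlib.RingTheory.Spectrum.Prime.Topology
import Mathlib.RingTheory.Unramified.Field
import Mathlib.AlgebraicGeometry.Morphisms.Etale
import Mathlib.AlgebraicGeometry.Sites.Etale

/-!
# Torsors under finite connected group schemes over a field

* `ringHom_eq_of_connected`: a finite connected algebra `A` over a field `K` with a `K`-point has
  at most one `K`-algebra map into a reduced ring.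
* `hom_eq_of_isReduced`: a finite connected `K`-group scheme has at most one point with values in a
  reduced `K`-scheme.
* `exists_section_of_reduced_kernelPair`: a pseudo-torsor under a finite connected `K`-group
  which has a point over an effective epimorphism `T ⟶ Spec K` with `T ×_K T` reduced has a
  `K`-point.
-/

set_option autoImplicit false
universe u
open CategoryTheory CategoryTheory.Limits AlgebraicGeometry MonoidalCategory
open MonObj CartesianMonoidalCategory

namespace Groth.Agent.Lib.Helper72.FinConnTorsor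

/-- A finite connected algebra over a field with a rational point has at most one algebra map
into a reduced ring. -/
theorem ringHom_eq_of_connected {K A R : Type u} [Field K] [CommRing A] [CommRing R] [IsReduced R]
    (κ : K →+* A) (hfin : κ.Finite) [ConnectedSpace (PrimeSpectrum A)] (ε : A →+* K)
    (hε : ε.comp κ = RingHom.id K) (ψ₁ ψ₂ : A →+* R) (h : ψ₁.comp κ = ψ₂.comp κ) : ψ₁ = ψ₂ := by
  algebraize [κ]
  haveI : IsArtinianRing A := IsArtinianRing.of_finite K A
  haveI : Subsingleton (PrimeSpectrum A) := subsingleton_of_preconnected_totallyDisconnected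
  have hnil : ∀ x : A, ε x = 0 → IsNilpotent x := by
    intro x hx
    rw [nilpotent_iff_mem_prime]
    intro J hJ
    have : (⟨J, hJ⟩ : PrimeSpectrum A) = ⟨RingHom.ker ε, RingHom.ker_isPrime ε⟩ :=
      Subsingleton.elim _ _
    have hJ' : J = RingHom.ker ε := congrArg PrimeSpectrum.asIdeal this
    rw [hJ', RingHom.mem_ker]
    exact hx
  have hκ : ∀ c : K, ε (κ c) = c := fun c => congrArg (fun θ : K →+* K => θ c) hε
  have key : ∀ (ψ : A →+* R) (a : A), ψ a = ψ (κ (ε a)) := by
    intro ψ a
    have h0 : ε (a - κ (ε a)) = 0 := by rw [map_sub, hκ, sub_self]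
    have h1 : IsNilpotent (ψ (a - κ (ε a))) := (hnil _ h0).map ψ
    have h2 : ψ (a - κ (ε a)) = 0 := h1.eq_zero
    rw [map_sub, sub_eq_zero] at h2
    exact h2
  ext a
  rw [key ψ₁ a, key ψ₂ a]
  exact congrArg (fun θ : K →+* R => θ (ε a)) h

/-- A finite connected group scheme over a field has at most one point with values in a reduced
scheme. -/
theorem hom_eq_of_isReduced {K : Type u} [Field K] (G : Over (Spec (CommRingCat.of K))) [GrpObj G]
    [IsFinite G.hom] [ConnectedSpace G.left] (W : Over (Spec (CommRingCat.of K)))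
    [IsReduced W.left] (g h : W ⟶ G) : g = h := by
  haveI : IsAffine G.left := isAffine_of_isAffineHom G.hom
  apply Over.OverMorphism.ext
  apply ext_of_isAffine
  let κ : K →+* Γ(G.left, ⊤) :=
    (G.hom.appTop.hom).comp (Scheme.ΓSpecIso (CommRingCat.of K)).inv.hom
  have hfin : κ.Finite := by
    refine (G.hom.finite_appTop).comp (RingHom.Finite.of_surjective _ ?_)
    exact ((Scheme.ΓSpecIso (CommRingCat.of K)).symm.commRingCatIsoToRingEquiv).surjective
  haveI : ConnectedSpace (PrimeSpectrum Γ(G.left, ⊤)) :=
    (G.left.isoSpec.hom.homeomorph).surjective.connectedSpace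
      (G.left.isoSpec.hom.homeomorph).continuous
  let ε : Γ(G.left, ⊤) →+* K :=
    (Scheme.ΓSpecIso (CommRingCat.of K)).hom.hom.comp (η[G].left.appTop.hom)
  have hηG : G.hom.appTop ≫ η[G].left.appTop = 𝟙 _ := by
    rw [← Scheme.Hom.comp_appTop]
    have : η[G].left ≫ G.hom = 𝟙 _ := Over.w η[G]
    rw [this]
    rfl
  have hε : ε.comp κ = RingHom.id K := by
    have : (Scheme.ΓSpecIso (CommRingCat.of K)).inv ≫ G.hom.appTop ≫ η[G].left.appTop ≫
        (Scheme.ΓSpecIso (CommRingCat.of K)).hom = 𝟙 _ := by
      rw [reassoc_of% hηG, Iso.inv_hom_id]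
    exact congrArg CommRingCat.Hom.hom this
  have hgh : (g.left.appTop.hom).comp κ = (h.left.appTop.hom).comp κ := by
    have hg : G.hom.appTop ≫ g.left.appTop = W.hom.appTop := by
      rw [← Scheme.Hom.comp_appTop, Over.w g]
    have hh : G.hom.appTop ≫ h.left.appTop = W.hom.appTop := by
      rw [← Scheme.Hom.comp_appTop, Over.w h]
    have : (Scheme.ΓSpecIso (CommRingCat.of K)).inv ≫ G.hom.appTop ≫ g.left.appTop =
        (Scheme.ΓSpecIso (CommRingCat.of K)).inv ≫ G.hom.appTop ≫ h.left.appTop := by
      rw [hg, hh]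
    exact congrArg CommRingCat.Hom.hom this
  haveI : _root_.IsReduced Γ(W.left, ⊤) := inferInstance
  exact CommRingCat.hom_ext
    (ringHom_eq_of_connected κ hfin ε hε g.left.appTop.hom h.left.appTop.hom hgh)

/-- A pseudo-torsor under a finite connected group scheme over a field `K` which acquires a point
over an effective epimorphism `T ⟶ Spec K` with `T ×_K T` reduced has a `K`-point. -/
theorem exists_section_of_reduced_kernelPair {K : Type u} [Field K]
    (G X : Over (Spec (CommRingCat.of K))) [GrpObj G] [IsFinite G.hom] [ConnectedSpace G.left]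
    (a : AlgGrp.Action G X) (hiso : IsIso (lift a.act (snd G X)))
    {T : Scheme.{u}} (f : T ⟶ Spec (CommRingCat.of K)) [EffectiveEpi f]
    (hred : IsReduced (pullback f f)) (s : T ⟶ X.left) (hs : s ≫ X.hom = f) :
    ∃ t : Spec (CommRingCat.of K) ⟶ X.left, t ≫ X.hom = 𝟙 _ := by
  haveI := hiso
  -- the two pullbacks of the point to `T ×_K T`
  let TT : Over (Spec (CommRingCat.of K)) := Over.mk (pullback.fst f f ≫ f)
  haveI : IsReduced TT.left := hred
  let x1 : TT ⟶ X := Over.homMk (pullback.fst f f ≫ s) (by
    show (pullback.fst f f ≫ s) ≫ X.hom = pullback.fst f f ≫ f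
    rw [Category.assoc, hs])
  let x2 : TT ⟶ X := Over.homMk (pullback.snd f f ≫ s) (by
    show (pullback.snd f f ≫ s) ≫ X.hom = pullback.fst f f ≫ f
    rw [Category.assoc, hs, pullback.condition])
  let c : TT ⟶ G ⊗ X := lift x1 x2 ≫ inv (lift a.act (snd G X))
  have hc : c ≫ lift a.act (snd G X) = lift x1 x2 := by
    simp only [c, Category.assoc, IsIso.inv_hom_id, Category.comp_id]
  have hc1 : c ≫ a.act = x1 := by
    have := congrArg (fun φ => φ ≫ fst X X) hc
    simpa only [Category.assoc, lift_fst] using this
  have hc2 : c ≫ snd G X = x2 := by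
    have := congrArg (fun φ => φ ≫ snd X X) hc
    simpa only [Category.assoc, lift_snd] using this
  have hg : c ≫ fst G X = (1 : TT ⟶ G) := hom_eq_of_isReduced G TT _ _
  have hcl : c = lift (1 : TT ⟶ G) x2 := by
    apply CartesianMonoidalCategory.hom_ext
    · rw [hg, lift_fst]
    · rw [hc2, lift_snd]
  have h12 : x1 = x2 := by
    rw [← hc1, hcl, AlgGrp.Action.lift_one_act]
  have h12' : pullback.fst f f ≫ s = pullback.snd f f ≫ s := congrArg Over.Hom.left h12
  -- descend along the effective epimorphism
  have hdesc : ∀ {Z : Scheme.{u}} (g₁ g₂ : Z ⟶ T), g₁ ≫ f = g₂ ≫ f → g₁ ≫ s = g₂ ≫ s := by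
    intro Z g₁ g₂ h
    have e1 : g₁ = pullback.lift g₁ g₂ h ≫ pullback.fst f f := (pullback.lift_fst _ _ _).symm
    have e2 : g₂ = pullback.lift g₁ g₂ h ≫ pullback.snd f f := (pullback.lift_snd _ _ _).symm
    rw [e1, Category.assoc, h12', ← Category.assoc, ← e2]
  refine ⟨EffectiveEpi.desc f s hdesc, ?_⟩
  haveI : Epi f := inferInstance
  rw [← cancel_epi f, ← Category.assoc, EffectiveEpi.fac, hs, Category.comp_id]

/-- A scheme étale over a field is reduced. -/
theorem isReduced_of_etale_field {K : Type u} [Field K] {X : Scheme.{u}}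
    (f : X ⟶ Spec (CommRingCat.of K)) [Etale f] : IsReduced X := by
  haveI : ∀ i, IsReduced (X.affineCover.X i) := by
    intro i
    haveI : IsOpenImmersion (X.affineCover.f i) := X.affineCover.map_prop i
    have hE : Etale (X.affineCover.f i ≫ f) := by
      haveI : Etale (X.affineCover.f i) :=
        HasRingHomProperty.of_isOpenImmersion RingHom.Etale.containsIdentities
      exact MorphismProperty.comp_mem _ _ _ this ‹Etale f›
    haveI : IsAffine (X.affineCover.X i) := inferInstance
    have hφ := (HasRingHomProperty.iff_of_isAffine (P := @Etale)).mp hE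
    have hψ : (((X.affineCover.f i ≫ f).appTop.hom).comp
        (Scheme.ΓSpecIso (CommRingCat.of K)).inv.hom).Etale :=
      RingHom.Etale.stableUnderComposition _ _
        (RingHom.Etale.of_bijective
          ((Scheme.ΓSpecIso (CommRingCat.of K)).symm.commRingCatIsoToRingEquiv).bijective) hφ
    algebraize [((X.affineCover.f i ≫ f).appTop.hom).comp
        (Scheme.ΓSpecIso (CommRingCat.of K)).inv.hom]
    haveI : _root_.IsReduced Γ(X.affineCover.X i, ⊤) :=
      Algebra.FormallyUnramified.isReduced_of_field K _
    exact isReduced_of_isAffine_isReduced _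
  exact IsReduced.of_openCover X X.affineCover

/-- In a covering family of the spectrum of a field for a precoverage of jointly surjective
`P`-families, some member is nonempty. -/
theorem exists_nonempty_mem {K : Type u} [Field K] (P : MorphismProperty Scheme.{u})
    {R : Presieve (Spec (CommRingCat.of K))} (hR : R ∈ Scheme.precoverage P _) :
    ∃ (T : Scheme.{u}) (f : T ⟶ Spec (CommRingCat.of K)), R f ∧ P f ∧ Nonempty T := by
  obtain ⟨hjs, hP⟩ := hR
  rw [Presieve.mem_comap_jointlySurjectivePrecoverage_iff] at hjs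
  obtain ⟨T, f, hRf, t, -⟩ := hjs (⊥ : PrimeSpectrum K)
  exact ⟨T, f, hRf, hP hRf, ⟨t⟩⟩

end Groth.Agent.Lib.Helper72.FinConnTorsor
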