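import Groth.Agent.Lib.Helper72.PrecovBind
import Mathlib.CategoryTheory.Sites.IsSheafFor
import Mathlib.CategoryTheory.Sites.Sheaf

set_option autoImplicit false

namespace Groth.Agent.Lib.Helper72

open CategoryTheory

universe w v₁ u₁

section

variable {C : Type u₁} [Category.{v₁} C]
  (C' : C → Prop) (P P' : Precoverage C)

/-- a sieve containing a composite family `P` then `P'` with middle objects in `C'`. -/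
def Good (X : C) (S' : Sieve X) : Prop :=
  ∃ R ∈ P X, ∀ ⦃Y : C⦄ ⦃f : Y ⟶ X⦄, R f → C' Y ∧
    ∃ R'' ∈ P' Y, ∀ ⦃Z : C⦄ ⦃g : Z ⟶ Y⦄, R'' g → S' (g ≫ f)

lemma good_iff (X : C) (S' : Sieve X) :
    Good C' P P' X S' ↔
      ∃ (R : Presieve X) (_ : R ∈ P X) (_ : ∀ ⦃Y : C⦄ ⦃f : Y ⟶ X⦄, R f → C' Y)
        (R' : ∀ ⦃Y : C⦄ ⦃f : Y ⟶ X⦄, R f → Presieve Y),
        (∀ ⦃Y : C⦄ ⦃f : Y ⟶ X⦄ (hf : R f), R' hf ∈ P' Y) ∧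
        ∀ ⦃Y : C⦄ ⦃f : Y ⟶ X⦄ (hf : R f) ⦃Z : C⦄ ⦃g : Z ⟶ Y⦄, R' hf g → S' (g ≫ f) := by
  constructor
  · rintro ⟨R, hR, h⟩
    have h1 : ∀ ⦃Y : C⦄ ⦃f : Y ⟶ X⦄, R f → C' Y := fun Y f hf => (h hf).1
    have h2 : ∀ ⦃Y : C⦄ ⦃f : Y ⟶ X⦄ (hf : R f),
        ∃ R'' ∈ P' Y, ∀ ⦃Z : C⦄ ⦃g : Z ⟶ Y⦄, R'' g → S' (g ≫ f) := fun Y f hf => (h hf).2
    choose R' hR' hR'' using h2
    exact ⟨R, hR, h1, R', hR', hR''⟩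
  · rintro ⟨R, hR, h1, R', hR', hR''⟩
    exact ⟨R, hR, fun Y f hf => ⟨h1 hf, R' hf, hR' hf, hR'' hf⟩⟩

lemma Good.mem_toGrothendieck {X : C} {S' : Sieve X} (h : Good C' P P' X S') :
    S' ∈ (P ⊔ P').toGrothendieck X := by
  obtain ⟨R, hR, h⟩ := h
  refine GrothendieckTopology.transitive _
    (Precoverage.generate_mem_toGrothendieck (J := P ⊔ P') (R := R) (Or.inl hR)) S' ?_
  rintro Y f ⟨Z, k, f', hf', rfl⟩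
  obtain ⟨-, R'', hR'', h3⟩ := h hf'
  rw [Sieve.pullback_comp]
  apply GrothendieckTopology.pullback_stable
  refine GrothendieckTopology.superset_covering _ ?_
    (Precoverage.generate_mem_toGrothendieck (J := P ⊔ P') (R := R'') (Or.inr hR''))
  rintro W g ⟨V, a, b, hb, rfl⟩
  rw [Sieve.pullback_apply, Category.assoc]
  exact S'.downward_closed (h3 hb) a

lemma Good.mono {X : C} {S₁ S₂ : Sieve X} (h : Good C' P P' X S₁) (hle : S₁ ≤ S₂) :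
    Good C' P P' X S₂ := by
  obtain ⟨R, hR, h⟩ := h
  refine ⟨R, hR, fun Y f hf => ?_⟩
  obtain ⟨h1, R'', hR'', h3⟩ := h hf
  exact ⟨h1, R'', hR'', fun Z g hg => hle _ (h3 hg)⟩

variable [P.HasPullbacks] [P.IsStableUnderBaseChange] [P.IsStableUnderComposition]
  (hP'C : ∀ ⦃X : C⦄ ⦃R : Presieve X⦄, R ∈ P' X → C' X ∧ ∀ ⦃Y : C⦄ ⦃f : Y ⟶ X⦄, R f → C' Y)
  (hP'id : ∀ ⦃X : C⦄, C' X → Presieve.singleton (𝟙 X) ∈ P' X)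
  (ha : ∀ ⦃X : C⦄ ⦃R : Presieve X⦄, R ∈ P' X → ∀ ⦃T : C⦄ (g : T ⟶ X), C' T →
    ∃ _ : R.HasPullbacks g, Presieve.pullbackArrows g R ∈ P' T)
  (hb : ∀ X : C, ∃ R ∈ P X, ∀ ⦃Y : C⦄ ⦃f : Y ⟶ X⦄, R f → C' Y)
  (hc : ∀ ⦃S : C⦄ ⦃R₁ : Presieve S⦄, R₁ ∈ P' S →
    ∀ (R₂ : ∀ ⦃Y : C⦄ ⦃f : Y ⟶ S⦄, R₁ f → Presieve Y),
      (∀ ⦃Y : C⦄ ⦃f : Y ⟶ S⦄ (hf : R₁ f), R₂ hf ∈ P Y ∧ ∀ ⦃Z : C⦄ ⦃g : Z ⟶ Y⦄, R₂ hf g → C' Z) →
    ∀ (R₃ : ∀ ⦃Y : C⦄ ⦃f : Y ⟶ S⦄ (hf : R₁ f) ⦃Z : C⦄ ⦃g : Z ⟶ Y⦄, R₂ hf g → Presieve Z),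
      (∀ ⦃Y : C⦄ ⦃f : Y ⟶ S⦄ (hf : R₁ f) ⦃Z : C⦄ ⦃g : Z ⟶ Y⦄ (hg : R₂ hf g), R₃ hf hg ∈ P' Z) →
    ∃ T ∈ P' S, ∀ ⦃W : C⦄ ⦃q : W ⟶ S⦄, T q →
      ∃ (Y Z V : C) (f : Y ⟶ S) (hf : R₁ f) (g : Z ⟶ Y) (hg : R₂ hf g) (h : V ⟶ Z) (_ : R₃ hf hg h)
        (r : W ⟶ V), r ≫ h ≫ g ≫ f = q)

include hP'id hb in
/-- a `P`-family can be refined by a `P`-family with sources in `C'`. -/
lemma refine_P {X : C} (R : Presieve X) (hR : R ∈ P X) :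
    ∃ R₁ ∈ P X, (∀ ⦃Y : C⦄ ⦃f : Y ⟶ X⦄, R₁ f → C' Y) ∧
      ∀ ⦃Y : C⦄ ⦃f : Y ⟶ X⦄, R₁ f → ∃ (W : C) (k : Y ⟶ W) (f' : W ⟶ X), R f' ∧ k ≫ f' = f := by
  have hex : ∀ ⦃Y : C⦄ ⦃f : Y ⟶ X⦄, R f → ∃ R₂ ∈ P Y, ∀ ⦃Z : C⦄ ⦃g : Z ⟶ Y⦄, R₂ g → C' Z :=
    fun Y f _ => hb Y
  choose R₂ hR₂ hR₂' using hex
  refine ⟨R.bind R₂, bind_mem_coverings P R hR R₂ hR₂, ?_, ?_⟩
  · rintro Y f ⟨W, g, f', hf', hg, rfl⟩
    exact hR₂' hf' hg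
  · rintro Y f ⟨W, g, f', hf', hg, rfl⟩
    exact ⟨W, g, f', hf', rfl⟩

include hP'id hb in
lemma good_top (X : C) : Good C' P P' X ⊤ := by
  obtain ⟨R, hR, h⟩ := hb X
  exact ⟨R, hR, fun Y f hf => ⟨h hf, _, hP'id (h hf), fun Z g _ => trivial⟩⟩

include hP'id hb in
lemma good_of_P {X : C} (R : Presieve X) (hR : R ∈ P X) : Good C' P P' X (Sieve.generate R) := by
  obtain ⟨R₁, hR₁, h1, h2⟩ := refine_P C' P P' hP'id hb R hR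
  refine ⟨R₁, hR₁, fun Y f hf => ⟨h1 hf, _, hP'id (h1 hf), ?_⟩⟩
  rintro Z g ⟨⟩
  obtain ⟨W, k, f', hf', rfl⟩ := h2 hf
  rw [Category.id_comp]
  exact ⟨W, k, f', hf', rfl⟩

include hP'C ha hb in
lemma good_of_P' {X : C} (R : Presieve X) (hR : R ∈ P' X) :
    Good C' P P' X (Sieve.generate R) := by
  obtain ⟨R₀, hR₀, h⟩ := hb X
  refine ⟨R₀, hR₀, fun Y f hf => ⟨h hf, ?_⟩⟩
  obtain ⟨hpb, hmem⟩ := ha hR f (h hf)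
  refine ⟨_, hmem, ?_⟩
  rintro Z g ⟨W, k, hk⟩
  have := R.hasPullback f hk
  rw [← Limits.pullback.condition]
  exact ⟨W, Limits.pullback.fst k f, k, hk, rfl⟩

include hP'id ha hb in
lemma good_pullback {X : C} {S : Sieve X} (hS : Good C' P P' X S) {Y : C} (f : Y ⟶ X) :
    Good C' P P' Y (S.pullback f) := by
  obtain ⟨R, hR, h⟩ := hS
  have := Precoverage.hasPullbacks_of_mem (J := P) f hR
  have hpb : R.pullbackArrows f ∈ P Y := Precoverage.pullbackArrows_mem f hR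
  obtain ⟨R₁, hR₁, h1, h2⟩ := refine_P C' P P' hP'id hb _ hpb
  refine ⟨R₁, hR₁, fun V v hv => ⟨h1 hv, ?_⟩⟩
  obtain ⟨W, k, w, hw, rfl⟩ := h2 hv
  obtain ⟨Z, z, hz⟩ := hw
  have := R.hasPullback f hz
  obtain ⟨hZ, R'', hR'', h3⟩ := h hz
  obtain ⟨hpb', hmem⟩ := ha hR'' (k ≫ Limits.pullback.fst z f) (h1 hv)
  refine ⟨_, hmem, ?_⟩
  rintro A a ⟨B, b, hb'⟩
  have := R''.hasPullback (k ≫ Limits.pullback.fst z f) hb'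
  rw [Sieve.pullback_apply]
  have e : (Limits.pullback.snd b (k ≫ Limits.pullback.fst z f) ≫ k ≫ Limits.pullback.snd z f) ≫ f =
      Limits.pullback.fst b (k ≫ Limits.pullback.fst z f) ≫ b ≫ z := by
    simp only [Category.assoc]
    rw [← Limits.pullback.condition, ← Category.assoc k, ← Category.assoc,
      ← Limits.pullback.condition, Category.assoc]
  rw [e]
  exact S.downward_closed (h3 hb') _

include hc in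
lemma good_transitive {X : C} {S R' : Sieve X} (hS : Good C' P P' X S)
    (hR' : ∀ ⦃Y : C⦄ ⦃f : Y ⟶ X⦄, S f → Good C' P P' Y (R'.pullback f)) :
    Good C' P P' X R' := by
  obtain ⟨R, hR, h⟩ := hS
  refine ⟨R, hR, fun Y f hf => ⟨(h hf).1, ?_⟩⟩
  obtain ⟨hY, R₁, hR₁, h3⟩ := h hf
  -- for each g ∈ R₁, the sieve R'.pullback (g ≫ f) is good
  have hex : ∀ ⦃Z : C⦄ ⦃g : Z ⟶ Y⦄ (hg : R₁ g), ∃ R₂ ∈ P Z, ∀ ⦃V : C⦄ ⦃k : V ⟶ Z⦄, R₂ k → C' V ∧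
      ∃ R₃ ∈ P' V, ∀ ⦃W : C⦄ ⦃l : W ⟶ V⦄, R₃ l → (R'.pullback (g ≫ f)) (l ≫ k) :=
    fun Z g hg => hR' (h3 hg)
  choose R₂ hR₂ hR₂' using hex
  have hex3 : ∀ ⦃Z : C⦄ ⦃g : Z ⟶ Y⦄ (hg : R₁ g) ⦃V : C⦄ ⦃k : V ⟶ Z⦄ (hk : R₂ hg k),
      ∃ R₃ ∈ P' V, ∀ ⦃W : C⦄ ⦃l : W ⟶ V⦄, R₃ l → (R'.pullback (g ≫ f)) (l ≫ k) :=
    fun Z g hg V k hk => (hR₂' hg hk).2
  choose R₃ hR₃ hR₃' using hex3
  obtain ⟨T, hT, hT'⟩ := hc hR₁ R₂ (fun Z g hg => ⟨hR₂ hg, fun V k hk => (hR₂' hg hk).1⟩) R₃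
    (fun Z g hg V k hk => hR₃ hg hk)
  refine ⟨T, hT, fun W q hq => ?_⟩
  obtain ⟨Z, V, U, g, hg, k, hk, l, hl, r, rfl⟩ := hT' hq
  have := hR₃' hg hk hl
  rw [Sieve.pullback_apply] at this
  have e : (r ≫ l ≫ k ≫ g) ≫ f = r ≫ (l ≫ k) ≫ g ≫ f := by simp only [Category.assoc]
  rw [e]
  exact R'.downward_closed this r

include hP'C hP'id ha hb hc in
theorem mem_toGrothendieck_iff_good (X : C) (S' : Sieve X) :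
    S' ∈ (P ⊔ P').toGrothendieck X ↔ Good C' P P' X S' := by
  constructor
  · intro h
    rw [Precoverage.mem_toGrothendieck_iff] at h
    induction h with
    | of X S hS =>
      rcases hS with hS | hS
      · exact good_of_P C' P P' hP'id hb S hS
      · exact good_of_P' C' P P' hP'C ha hb S hS
    | top X => exact good_top C' P P' hP'id hb X
    | pullback X S _ Y f ih => exact good_pullback C' P P' hP'id ha hb ih f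
    | transitive X S R _ _ ih1 ih2 => exact good_transitive C' P P' hc ih1 ih2
  · exact fun h => h.mem_toGrothendieck

end

end Groth.Agent.Lib.Helper72
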