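import Mathlib.CategoryTheory.Monoidal.Cartesian.Grp

/-!
# Translations by global points of a group object
-/

set_option autoImplicit false

namespace Groth.Agent.Lib.Helper72.GrpTrans

open CategoryTheory MonoidalCategory CartesianMonoidalCategory MonObj GrpObj

variable {C : Type*} [Category C] [CartesianMonoidalCategory C] {G : C} [GrpObj G]

/-- Left translation by a global point. -/
def ltr (g : 𝟙_ C ⟶ G) : G ⟶ G := (toUnit G ≫ g) * 𝟙 G

/-- Right translation by a global point. -/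
def rtr (g : 𝟙_ C ⟶ G) : G ⟶ G := 𝟙 G * (toUnit G ≫ g)

lemma comp_ltr {T : C} (x : T ⟶ G) (g : 𝟙_ C ⟶ G) : x ≫ ltr g = (toUnit T ≫ g) * x := by
  unfold ltr
  rw [comp_mul, Category.comp_id, ← Category.assoc]
  congr 2
  exact toUnit_unique _ _

lemma comp_rtr {T : C} (x : T ⟶ G) (g : 𝟙_ C ⟶ G) : x ≫ rtr g = x * (toUnit T ≫ g) := by
  unfold rtr
  rw [comp_mul, Category.comp_id, ← Category.assoc]
  congr 2
  exact toUnit_unique _ _

lemma ltr_comp (g h : 𝟙_ C ⟶ G) : ltr g ≫ ltr h = ltr (h * g) := by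
  rw [comp_ltr]
  unfold ltr
  rw [← _root_.mul_assoc, comp_mul]

lemma rtr_comp (g h : 𝟙_ C ⟶ G) : rtr g ≫ rtr h = rtr (g * h) := by
  rw [comp_rtr]
  unfold rtr
  rw [_root_.mul_assoc, comp_mul]

lemma ltr_one : ltr (1 : 𝟙_ C ⟶ G) = 𝟙 G := by
  unfold ltr
  rw [comp_one, _root_.one_mul]

lemma rtr_one : rtr (1 : 𝟙_ C ⟶ G) = 𝟙 G := by
  unfold rtr
  rw [comp_one, _root_.mul_one]

/-- Left translation as an isomorphism. -/
def ltrIso (g : 𝟙_ C ⟶ G) : G ≅ G where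
  hom := ltr g
  inv := ltr g⁻¹
  hom_inv_id := by rw [ltr_comp, inv_mul_cancel, ltr_one]
  inv_hom_id := by rw [ltr_comp, mul_inv_cancel, ltr_one]

/-- Right translation as an isomorphism. -/
def rtrIso (g : 𝟙_ C ⟶ G) : G ≅ G where
  hom := rtr g
  inv := rtr g⁻¹
  hom_inv_id := by rw [rtr_comp, mul_inv_cancel, rtr_one]
  inv_hom_id := by rw [rtr_comp, inv_mul_cancel, rtr_one]

lemma point_rtr (g h : 𝟙_ C ⟶ G) : g ≫ rtr h = g * h := by
  rw [comp_rtr]
  congr 1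
  have : toUnit (𝟙_ C) = 𝟙 _ := toUnit_unique _ _
  rw [this, Category.id_comp]

lemma point_ltr (g h : 𝟙_ C ⟶ G) : h ≫ ltr g = g * h := by
  rw [comp_ltr]
  congr 1
  have : toUnit (𝟙_ C) = 𝟙 _ := toUnit_unique _ _
  rw [this, Category.id_comp]

lemma one_rtr (h : 𝟙_ C ⟶ G) : η[G] ≫ rtr h = h := by
  rw [point_rtr, one_eq_one, _root_.one_mul]

end Groth.Agent.Lib.Helper72.GrpTrans
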