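import Groth.Agent.Lib.Helper72.GrpIdentity
import Groth.Agent.Lib.Helper72.GrpTrans
import Mathlib.AlgebraicGeometry.Limits

/-!
# Compact families of rational points of a group scheme over a field lie in an affine open
-/

set_option autoImplicit false

universe u

namespace Groth.Agent.Lib.Helper72.GrpConn

open AlgebraicGeometry CategoryTheory CategoryTheory.Limits MonoidalCategory
  CartesianMonoidalCategory MonObj GrpObj Groth.Agent.Lib.Helper72.GrpComp
  Groth.Agent.Lib.Helper72.GrpGen Groth.Agent.Lib.Helper72.GrpTrans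

variable {K : Type u} [Field K] (G : Over (Spec (CommRingCat.of K))) [GrpObj G]

/-- The saturation `Z₀ · W` of a quasi-compact open `W` is open and closed, and consists of the
points whose irreducible component meets `W`. -/
theorem isClopen_mulSet {Z₀ : Set G.left}
    (h₀ : Z₀ ∈ irreducibleComponents G.left) (he : ePt G ∈ Z₀) (W : G.left.Opens)
    (hW : IsCompact (W : Set G.left)) :
    IsClopen (mulSet G Z₀ W) ∧ ∀ x, x ∈ mulSet G Z₀ W ↔
      ∃ C' ∈ irreducibleComponents G.left, x ∈ C' ∧ (C' ∩ (W : Set G.left)).Nonempty := by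
  obtain ⟨Y₁, j₁, -, -, hr₁, -⟩ :=
    exists_reduced_closedSubscheme Z₀ (isClosed_of_mem_irreducibleComponents Z₀ h₀)
  have hopen : IsOpen (mulSet G Z₀ W) := hr₁ ▸ isOpen_mulSet_range G j₁ W.isOpen
  have hchar : ∀ x, x ∈ mulSet G Z₀ W ↔
      ∃ C' ∈ irreducibleComponents G.left, x ∈ C' ∧ (C' ∩ (W : Set G.left)).Nonempty := by
    intro x
    constructor
    · rintro ⟨q, ⟨hq1, hq2⟩, rfl⟩
      refine ⟨irreducibleComponent (pullback.snd G.hom G.hom q),
        irreducibleComponent_mem_irreducibleComponents _, ?_, ⟨_, mem_irreducibleComponent, hq2⟩⟩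
      exact mulSet_subset_component G h₀ he (irreducibleComponent_mem_irreducibleComponents _)
        ⟨q, ⟨hq1, mem_irreducibleComponent⟩, rfl⟩
    · rintro ⟨C', hC', hxC', hne'⟩
      exact mulSet_mono G Set.inter_subset_right subset_rfl
        (mem_mulSet_of_inter_nonempty G h₀ he hC' W.isOpen hne' isOpen_univ (Set.mem_univ _) hxC')
  refine ⟨⟨?_, hopen⟩, hchar⟩
  rw [← closure_subset_iff_isClosed]
  have hsub : mulSet G Z₀ W ⊆ closure (W : Set G.left) := by
    intro x hx
    obtain ⟨C', hC', hxC', w, hwC', hwW⟩ := (hchar x).1 hx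
    obtain ⟨ζ, hζ⟩ := QuasiSober.sober hC'.1 (isClosed_of_mem_irreducibleComponents _ hC')
    have hζW : ζ ∈ (W : Set G.left) := by
      rw [← hζ.def] at hwC'
      exact (specializes_iff_mem_closure.2 hwC').mem_open W.isOpen hwW
    rw [← hζ.def] at hxC'
    exact closure_mono (Set.singleton_subset_iff.2 hζW) hxC'
  intro y hy
  have hy' : y ∈ closure (W : Set G.left) := closure_minimal hsub isClosed_closure hy
  obtain ⟨w, hwW, hwy⟩ := exists_specializes_of_mem_closure W hW hy'
  rw [hchar]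
  refine ⟨irreducibleComponent y, irreducibleComponent_mem_irreducibleComponents _,
    mem_irreducibleComponent, w, ?_, hwW⟩
  exact subset_of_isIrreducible_of_mem G (irreducibleComponent_mem_irreducibleComponents y)
    mem_irreducibleComponent isIrreducible_singleton.closure
    (specializes_iff_mem_closure.1 hwy) (subset_closure rfl)

section affine

variable {X : Scheme.{u}}

/-- The intersection of an affine open with an open and closed subset is affine. -/
lemma isAffineOpen_inf_of_isClopen {V : X.Opens} (hV : IsAffineOpen V) (S : X.Opens)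
    (hS : IsClosed (S : Set X)) : IsAffineOpen (V ⊓ S) := by
  obtain ⟨ε, -, hε⟩ := ProClopen.exists_idempotent hV S hS
  have : V ⊓ S = X.basicOpen ε := by
    apply TopologicalSpace.Opens.ext
    exact hε.symm
  rw [this]
  exact hV.basicOpen ε

/-- Gluing affine opens along open-closed pieces. -/
theorem exists_affine_of_finite_clopen {J : Type*} (F : Set X) (t : Finset J) (S : J → Set X)
    (V : J → X.Opens) (hS : ∀ i ∈ t, IsClopen (S i)) (hV : ∀ i ∈ t, IsAffineOpen (V i))
    (hFV : ∀ i ∈ t, F ∩ S i ⊆ (V i : Set X)) :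
    ∃ U : X.Opens, IsAffineOpen U ∧ F ∩ ⋃ i ∈ t, S i ⊆ (U : Set X) := by
  classical
  induction t using Finset.induction_on with
  | empty =>
    exact ⟨⊥, isAffineOpen_bot X, by simp⟩
  | insert a t hat ih =>
    obtain ⟨U₁, hU₁, hU₁F⟩ := ih (fun i hi => hS i (Finset.mem_insert_of_mem hi))
      (fun i hi => hV i (Finset.mem_insert_of_mem hi))
      (fun i hi => hFV i (Finset.mem_insert_of_mem hi))
    have hSa := hS a (Finset.mem_insert_self a t)
    let Sa : X.Opens := ⟨S a, hSa.isOpen⟩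
    let Sa' : X.Opens := ⟨(S a)ᶜ, hSa.compl.isOpen⟩
    have h1 : IsAffineOpen (V a ⊓ Sa) :=
      isAffineOpen_inf_of_isClopen (hV a (Finset.mem_insert_self a t)) Sa hSa.isClosed
    have h2 : IsAffineOpen (U₁ ⊓ Sa') := isAffineOpen_inf_of_isClopen hU₁ Sa' hSa.compl.isClosed
    have hdisj : Disjoint (V a ⊓ Sa) (U₁ ⊓ Sa') := by
      rw [disjoint_iff]
      apply TopologicalSpace.Opens.ext
      ext x
      simp only [TopologicalSpace.Opens.coe_inf, TopologicalSpace.Opens.coe_bot,
        Set.mem_inter_iff, Set.mem_empty_iff_false, iff_false]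
      rintro ⟨⟨-, hx1⟩, -, hx2⟩
      exact hx2 hx1
    refine ⟨(V a ⊓ Sa) ⊔ (U₁ ⊓ Sa'), h1.sup_of_disjoint h2 hdisj, ?_⟩
    rintro x ⟨hxF, hx⟩
    rw [Finset.set_biUnion_insert] at hx
    by_cases hxa : x ∈ S a
    · exact Or.inl ⟨hFV a (Finset.mem_insert_self a t) ⟨hxF, hxa⟩, hxa⟩
    · rcases hx with hx | hx
      · exact absurd hx hxa
      · exact Or.inr ⟨hU₁F ⟨hxF, hx⟩, hxa⟩

end affine

section points

/-- The point of `G.left` underlying a rational point. -/
noncomputable def ptVal (g : 𝟙_ (Over (Spec (CommRingCat.of K))) ⟶ G) : G.left :=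
  g.left (IsLocalRing.closedPoint K)

/-- The rational point attached to a section. -/
noncomputable def ptMk (σ : Spec (CommRingCat.of K) ⟶ G.left) (hσ : σ ≫ G.hom = 𝟙 _) :
    𝟙_ (Over (Spec (CommRingCat.of K))) ⟶ G := Over.homMk σ hσ

omit [GrpObj G] in
lemma ptVal_ptMk (σ : Spec (CommRingCat.of K) ⟶ G.left) (hσ : σ ≫ G.hom = 𝟙 _) :
    ptVal G (ptMk G σ hσ) = σ (IsLocalRing.closedPoint K) := rfl

/-- Right translation (as a homeomorphism of the underlying space). -/
noncomputable def rHomeo (g : 𝟙_ (Over (Spec (CommRingCat.of K))) ⟶ G) : G.left ≃ₜ G.left :=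
  Scheme.homeoOfIso ((Over.forget _).mapIso (rtrIso g))

lemma rHomeo_apply (g : 𝟙_ (Over (Spec (CommRingCat.of K))) ⟶ G) (x : G.left) :
    rHomeo G g x = (rtr g).left x := rfl

instance (g : 𝟙_ (Over (Spec (CommRingCat.of K))) ⟶ G) : IsIso (rtr g).left :=
  ((Over.forget _).mapIso (rtrIso g)).isIso_hom

instance (g : 𝟙_ (Over (Spec (CommRingCat.of K))) ⟶ G) : IsIso (ltr g).left :=
  ((Over.forget _).mapIso (ltrIso g)).isIso_hom

lemma rtr_ePt (h : 𝟙_ (Over (Spec (CommRingCat.of K))) ⟶ G) :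
    (rtr h).left (ePt G) = ptVal G h := by
  have h1 : η[G] ≫ rtr h = h := one_rtr h
  have h2 : unitS G ≫ (rtr h).left = h.left := congrArg CommaMorphism.left h1
  exact app_eq h2 _

lemma ltr_ptVal (g h : 𝟙_ (Over (Spec (CommRingCat.of K))) ⟶ G) :
    (ltr g).left (ptVal G h) = (rtr h).left (ptVal G g) := by
  have h1 : h ≫ ltr g = g ≫ rtr h := (point_ltr g h).trans (point_rtr g h).symm
  have h2 : h.left ≫ (ltr g).left = g.left ≫ (rtr h).left := congrArg CommaMorphism.left h1
  exact (app_eq h2 _).trans (app_eq (c := g.left ≫ (rtr h).left) rfl _).symm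

/-- A homeomorphism maps irreducible components to irreducible components. -/
lemma image_mem_irreducibleComponents {Y : Type*} [TopologicalSpace Y] (φ : Y ≃ₜ Y) {C : Set Y}
    (hC : C ∈ irreducibleComponents Y) : φ '' C ∈ irreducibleComponents Y := by
  have h := preimage_mem_irreducibleComponents (f := φ.symm) hC φ.symm.isOpenEmbedding
    (by rw [Set.range_eq_univ.2 φ.symm.surjective, Set.inter_univ]; exact hC.1.nonempty)
  rwa [← φ.image_eq_preimage_symm] at h

end points

/-- **Main criterion.** A compact set `F` of rational points of a group scheme over a field lies in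
an affine open, provided the following uniformity holds: whenever the irreducible components
through the points of `F ∩ S'` (for `S'` open and closed) all meet an affine open `W'`, some left
translation by a rational point moves `F ∩ S'` into `W'`. -/
theorem exists_affine_nbhd (F : Set G.left) (hFc : IsCompact F)
    (hFrat : ∀ x ∈ F, ∃ g : 𝟙_ (Over (Spec (CommRingCat.of K))) ⟶ G, ptVal G g = x)
    (hunif : ∀ (S' : Set G.left) (W' : G.left.Opens), IsClopen S' → IsAffineOpen W' →
      (∀ x ∈ F ∩ S', ∃ C' ∈ irreducibleComponents G.left,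
        x ∈ C' ∧ (C' ∩ (W' : Set G.left)).Nonempty) →
      ∃ z : 𝟙_ (Over (Spec (CommRingCat.of K))) ⟶ G, ∀ x ∈ F ∩ S',
        (ltr z).left x ∈ W') :
    ∃ U : G.left.Opens, IsAffineOpen U ∧ F ⊆ (U : Set G.left) := by
  classical
  have h₀ := irreducibleComponent_mem_irreducibleComponents (ePt G)
  have he : ePt G ∈ irreducibleComponent (ePt G) := mem_irreducibleComponent
  obtain ⟨W₀, hW₀, heW₀⟩ : ∃ W₀ : G.left.Opens, IsAffineOpen W₀ ∧ ePt G ∈ W₀ := by
    obtain ⟨_, ⟨W₀, hW₀, rfl⟩, heW₀, -⟩ :=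
      G.left.isBasis_affineOpens.exists_subset_of_mem_open (Set.mem_univ (ePt G)) isOpen_univ
    exact ⟨W₀, hW₀, heW₀⟩
  obtain ⟨hS₀, hS₀char⟩ := isClopen_mulSet G h₀ he W₀ hW₀.isCompact
  have heS₀ : ePt G ∈ mulSet G (irreducibleComponent (ePt G)) W₀ :=
    (hS₀char _).2 ⟨_, h₀, he, ePt G, he, heW₀⟩
  choose! gx hgx using hFrat
  -- the translated clopen sets
  let Sg : G.left → Set G.left := fun x =>
    rHomeo G (gx x) '' mulSet G (irreducibleComponent (ePt G)) W₀
  have hSg : ∀ x, IsClopen (Sg x) := fun x =>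
    ⟨(rHomeo G (gx x)).isClosedMap _ hS₀.isClosed, (rHomeo G (gx x)).isOpenMap _ hS₀.isOpen⟩
  have hxSg : ∀ x ∈ F, x ∈ Sg x := fun x hx =>
    ⟨ePt G, heS₀, by rw [rHomeo_apply, rtr_ePt, hgx x hx]⟩
  obtain ⟨t, ht⟩ := hFc.elim_finite_subcover (fun x : G.left => Sg x) (fun x => (hSg x).isOpen)
    (fun x hx => Set.mem_iUnion.2 ⟨x, hxSg x hx⟩)
  -- affine opens for each piece
  have hex : ∀ x : G.left, ∃ V : G.left.Opens, IsAffineOpen V ∧ F ∩ Sg x ⊆ (V : Set G.left) := by
    intro x
    let W' : G.left.Opens := (rtr (gx x)).left ''ᵁ W₀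
    have hW' : IsAffineOpen W' := hW₀.image_of_isOpenImmersion _
    obtain ⟨z, hz⟩ := hunif (Sg x) W' (hSg x) hW' (by
      rintro y ⟨-, y₀, hy₀, rfl⟩
      obtain ⟨C₀, hC₀, hyC₀, w, hwC₀, hwW₀⟩ := (hS₀char y₀).1 hy₀
      exact ⟨rHomeo G (gx x) '' C₀, image_mem_irreducibleComponents _ hC₀, ⟨y₀, hyC₀, rfl⟩,
        rHomeo G (gx x) w, ⟨w, hwC₀, rfl⟩, ⟨w, hwW₀, rfl⟩⟩)
    refine ⟨(ltr z).left ⁻¹ᵁ W', hW'.preimage_of_isIso _, fun y hy => hz y hy⟩
  choose V hV hFV using hex
  obtain ⟨U, hU, hFU⟩ := exists_affine_of_finite_clopen F t Sg V (fun i _ => hSg i)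
    (fun i _ => hV i) (fun i _ => hFV i)
  exact ⟨U, hU, fun x hx => hFU ⟨hx, ht hx⟩⟩

omit [GrpObj G] in
/-- In a Jacobson group scheme whose closed points are rational, every nonempty relatively open
subset of a closed set contains a rational point. -/
lemma exists_rational_mem [JacobsonSpace G.left]
    (hrat : ∀ g : G.left, IsClosed ({g} : Set G.left) →
      ∃ z : 𝟙_ (Over (Spec (CommRingCat.of K))) ⟶ G, ptVal G z = g)
    {Z : Set G.left} (hZ : IsClosed Z) {O : Set G.left} (hO : IsOpen O)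
    (hne : (Z ∩ O).Nonempty) :
    ∃ z : 𝟙_ (Over (Spec (CommRingCat.of K))) ⟶ G, ptVal G z ∈ Z ∩ O := by
  obtain ⟨y, hyZ, hyO⟩ := hne
  have hy : y ∈ closure (Z ∩ closedPoints G.left) := by
    rw [JacobsonSpace.closure_inter_closedPoints hZ]; exact hyZ
  obtain ⟨c, hcO, hcZ, hcc⟩ := mem_closure_iff.1 hy O hO hyO
  obtain ⟨z, hz⟩ := hrat c hcc
  exact ⟨z, hz ▸ ⟨hcZ, hcO⟩⟩

/-- If the irreducible component through the rational point `x` meets `W'`, then the open set
of `z` with `z · x ∈ W'` meets the identity component. -/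
lemma inter_preimage_rtr_nonempty {Z₀ : Set G.left}
    (h₀ : Z₀ ∈ irreducibleComponents G.left) (he : ePt G ∈ Z₀)
    (g : 𝟙_ (Over (Spec (CommRingCat.of K))) ⟶ G) {W' : Set G.left}
    (hcomp : ∃ C' ∈ irreducibleComponents G.left, ptVal G g ∈ C' ∧ (C' ∩ W').Nonempty) :
    (Z₀ ∩ (rtr g).left ⁻¹' W').Nonempty := by
  obtain ⟨C', hC', hxC', w, hwC', hwW'⟩ := hcomp
  have h1 : rHomeo G g '' Z₀ ∈ irreducibleComponents G.left :=
    image_mem_irreducibleComponents _ h₀
  have h2 : ptVal G g ∈ rHomeo G g '' Z₀ := ⟨ePt G, he, by rw [rHomeo_apply, rtr_ePt]⟩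
  have h3 : rHomeo G g '' Z₀ = C' := eq_of_mem G h1 hC' _ h2 hxC'
  rw [← h3] at hwC'
  obtain ⟨z, hzZ, rfl⟩ := hwC'
  exact ⟨z, hzZ, hwW'⟩

/-- Finitely many closed points of a Jacobson group scheme over a field whose closed points are
rational lie in a common affine open. -/
theorem exists_affine_of_finite [JacobsonSpace G.left]
    (hrat : ∀ g : G.left, IsClosed ({g} : Set G.left) →
      ∃ z : 𝟙_ (Over (Spec (CommRingCat.of K))) ⟶ G, ptVal G z = g)
    (F : Set G.left) (hF : F.Finite) (hFcl : ∀ x ∈ F, IsClosed ({x} : Set G.left)) :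
    ∃ U : G.left.Opens, IsAffineOpen U ∧ F ⊆ (U : Set G.left) := by
  classical
  have h₀ := irreducibleComponent_mem_irreducibleComponents (ePt G)
  have he : ePt G ∈ irreducibleComponent (ePt G) := mem_irreducibleComponent
  have hFrat : ∀ x ∈ F, ∃ g : 𝟙_ (Over (Spec (CommRingCat.of K))) ⟶ G, ptVal G g = x :=
    fun x hx => hrat x (hFcl x hx)
  refine exists_affine_nbhd G F hF.isCompact hFrat ?_
  intro S' W' hS' hW' hcomp
  choose! gx hgx using hFrat
  have hfin : (F ∩ S').Finite := hF.subset Set.inter_subset_left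
  let Us : Finset (Set G.left) :=
    hfin.toFinset.image (fun x => (rtr (gx x)).left ⁻¹' (W' : Set G.left))
  have hUs_open : ∀ u ∈ Us, IsOpen u := by
    intro u hu
    obtain ⟨x, -, rfl⟩ := Finset.mem_image.1 hu
    exact W'.isOpen.preimage (rtr (gx x)).left.continuous
  have hUs_ne : ∀ u ∈ Us, (irreducibleComponent (ePt G) ∩ u).Nonempty := by
    intro u hu
    obtain ⟨x, hx, rfl⟩ := Finset.mem_image.1 hu
    have hx' : x ∈ F ∩ S' := hfin.mem_toFinset.1 hx
    exact inter_preimage_rtr_nonempty G h₀ he (gx x) (by rw [hgx x hx'.1]; exact hcomp x hx')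
  have key := isIrreducible_iff_sInter.1 h₀.1 Us hUs_open hUs_ne
  obtain ⟨z, -, hz⟩ := exists_rational_mem G hrat
    (isClosed_of_mem_irreducibleComponents _ h₀)
    (Set.Finite.isOpen_sInter Us.finite_toSet hUs_open) key
  refine ⟨z, fun x hx => ?_⟩
  have h := ltr_ptVal G z (gx x)
  rw [hgx x hx.1] at h
  rw [h]
  have hmem : (rtr (gx x)).left ⁻¹' (W' : Set G.left) ∈ (Us : Set (Set G.left)) :=
    Finset.mem_coe.2 (Finset.mem_image.2 ⟨x, hfin.mem_toFinset.2 hx, rfl⟩)
  exact Set.mem_sInter.1 hz _ hmem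

end Groth.Agent.Lib.Helper72.GrpConn
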