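import Groth.Agent.Lib.Helper72.GrpIdentity

/-!
# The identity component of a group scheme over a field is stable under the group operations

Fibre argument: for a point `w` of `G × G` whose second coordinate lies in the identity component
`Z₀`, the set `{x} × Z₀` (with `x` the first coordinate of `w`) is irreducible (geometric
irreducibility of the identity component), contains `w` and `(x, e)`.
-/

set_option autoImplicit false

universe u

namespace Groth.Agent.Lib.Helper72.GrpConnStable

open AlgebraicGeometry CategoryTheory CategoryTheory.Limits MonoidalCategory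
  CartesianMonoidalCategory MonObj GrpObj Groth.Agent.Lib.Helper72.GrpComp
  Groth.Agent.Lib.Helper72.GrpConn

variable {K : Type u} [Field K] (G : Over (Spec (CommRingCat.of K))) [GrpObj G]

lemma unit_left_apply {T : Over (Spec (CommRingCat.of K))} (t : T.left) :
    (toUnit T ≫ η[G]).left t = ePt G := by
  have h : (toUnit T ≫ η[G]).left t ∈ Set.range (unitS G) := by
    rw [Over.comp_left, Scheme.Hom.comp_apply]
    exact ⟨_, rfl⟩
  rw [range_unit] at h
  exact h

/-- The fibre `{x} × Z₀` is preconnected. -/
theorem isPreconnected_fibre (x : G.left) :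
    IsPreconnected ((fst G G).left ⁻¹' {x} ∩ (snd G G).left ⁻¹' connectedComponent (ePt G)) := by
  obtain ⟨G₀, _, incl, _, _, _, hr, hgi, _⟩ := exists_identityComponent G
  let X' : Over (Spec (CommRingCat.of K)) := Over.mk (G.left.fromSpecResidueField x ≫ G.hom)
  let ι' : X' ⟶ G := Over.homMk (G.left.fromSpecResidueField x) rfl
  have hrange : Set.range (ι' ⊗ₘ incl).left =
      (fst G G).left ⁻¹' {x} ∩ (snd G G).left ⁻¹' connectedComponent (ePt G) := by
    rw [Over.tensorHom_left, Scheme.Pullback.range_map, ← hr]
    congr 2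
    exact G.left.range_fromSpecResidueField x
  haveI : GeometricallyIrreducible G₀.hom := hgi
  haveI : IrreducibleSpace X'.left :=
    inferInstanceAs (IrreducibleSpace (Spec (G.left.residueField x)))
  haveI : IrreducibleSpace (X' ⊗ G₀).left :=
    inferInstanceAs (IrreducibleSpace ↥(pullback X'.hom G₀.hom))
  rw [← hrange]
  exact (isPreconnected_range (ι' ⊗ₘ incl).left.continuous)

/-- Key lemma: for a morphism `c : G × G ⟶ G` and a point `w` of `G × G` with second coordinate in
the identity component, `c w` lies in the connected component of `c (x, e)`. -/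
theorem key (c : G ⊗ G ⟶ G) (w : (G ⊗ G).left)
    (hw : (snd G G).left w ∈ connectedComponent (ePt G))
    {T : Over (Spec (CommRingCat.of K))} (a : T ⟶ G) (t : T.left)
    (hat : a.left t = (fst G G).left w) :
    c.left w ∈ connectedComponent ((lift a (toUnit T ≫ η[G]) ≫ c).left t) := by
  have hF := isPreconnected_fibre G ((fst G G).left w)
  have hcF := hF.image c.left c.left.continuous.continuousOn
  have hp : (lift a (toUnit T ≫ η[G])).left t ∈
      (fst G G).left ⁻¹' {(fst G G).left w} ∩
        (snd G G).left ⁻¹' connectedComponent (ePt G) := by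
    constructor
    · change (fst G G).left ((lift a (toUnit T ≫ η[G])).left t) = _
      rw [← Scheme.Hom.comp_apply, ← Over.comp_left, lift_fst, hat]
    · change (snd G G).left ((lift a (toUnit T ≫ η[G])).left t) ∈ connectedComponent (ePt G)
      rw [← Scheme.Hom.comp_apply, ← Over.comp_left, lift_snd, unit_left_apply]
      exact mem_connectedComponent
  have hw' : w ∈ (fst G G).left ⁻¹' {(fst G G).left w} ∩
        (snd G G).left ⁻¹' connectedComponent (ePt G) := ⟨rfl, hw⟩
  have h1 : (lift a (toUnit T ≫ η[G]) ≫ c).left t ∈ c.left ''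
      ((fst G G).left ⁻¹' {(fst G G).left w} ∩
        (snd G G).left ⁻¹' connectedComponent (ePt G)) := by
    rw [Over.comp_left, Scheme.Hom.comp_apply]
    exact ⟨_, hp, rfl⟩
  exact hcF.subset_connectedComponent h1 ⟨w, hw', rfl⟩

/-- The identity component is stable under `g h⁻¹`. -/
theorem range_mul_inv_subset {T : Over (Spec (CommRingCat.of K))} (g h : T ⟶ G)
    (hg : Set.range g.left ⊆ connectedComponent (ePt G))
    (hh : Set.range h.left ⊆ connectedComponent (ePt G)) :
    Set.range (g * h⁻¹).left ⊆ connectedComponent (ePt G) := by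
  rintro _ ⟨t, rfl⟩
  have hc : g * h⁻¹ = lift g h ≫ (fst G G * (snd G G)⁻¹) := by
    rw [MonObj.comp_mul, GrpObj.comp_inv, lift_fst, lift_snd]
  have hw : (snd G G).left ((lift g h).left t) ∈ connectedComponent (ePt G) := by
    rw [← Scheme.Hom.comp_apply, ← Over.comp_left, lift_snd]
    exact hh ⟨t, rfl⟩
  have hat : g.left t = (fst G G).left ((lift g h).left t) := by
    rw [← Scheme.Hom.comp_apply, ← Over.comp_left, lift_fst]
  have hk := key G (fst G G * (snd G G)⁻¹) ((lift g h).left t) hw g t hat
  have h1 : lift g (toUnit T ≫ η[G]) ≫ (fst G G * (snd G G)⁻¹) = g := by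
    rw [MonObj.comp_mul, GrpObj.comp_inv, lift_fst, lift_snd, ← Hom.one_def, inv_one,
      _root_.mul_one]
  rw [h1] at hk
  have h2 : connectedComponent (g.left t) = connectedComponent (ePt G) :=
    (connectedComponent_eq (hg ⟨t, rfl⟩)).symm
  rw [h2] at hk
  rw [hc, Over.comp_left, Scheme.Hom.comp_apply]
  exact hk

/-- The identity component is stable under conjugation. -/
theorem range_conj_subset {T : Over (Spec (CommRingCat.of K))} (g n : T ⟶ G)
    (hn : Set.range n.left ⊆ connectedComponent (ePt G)) :
    Set.range (g * n * g⁻¹).left ⊆ connectedComponent (ePt G) := by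
  rintro _ ⟨t, rfl⟩
  have hc : g * n * g⁻¹ = lift g n ≫ (fst G G * snd G G * (fst G G)⁻¹) := by
    rw [MonObj.comp_mul, MonObj.comp_mul, GrpObj.comp_inv, lift_fst, lift_snd]
  have hw : (snd G G).left ((lift g n).left t) ∈ connectedComponent (ePt G) := by
    rw [← Scheme.Hom.comp_apply, ← Over.comp_left, lift_snd]
    exact hn ⟨t, rfl⟩
  have hat : g.left t = (fst G G).left ((lift g n).left t) := by
    rw [← Scheme.Hom.comp_apply, ← Over.comp_left, lift_fst]
  have hk := key G (fst G G * snd G G * (fst G G)⁻¹) ((lift g n).left t) hw g t hat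
  have h1 : lift g (toUnit T ≫ η[G]) ≫ (fst G G * snd G G * (fst G G)⁻¹) = toUnit T ≫ η[G] := by
    rw [MonObj.comp_mul, MonObj.comp_mul, GrpObj.comp_inv, lift_fst, lift_snd, ← Hom.one_def,
      _root_.mul_one, mul_inv_cancel]
  rw [h1, unit_left_apply] at hk
  rw [hc, Over.comp_left, Scheme.Hom.comp_apply]
  exact hk

end Groth.Agent.Lib.Helper72.GrpConnStable
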