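import Groth.Agent.Lib.Helper72.GrpConn

/-!
# Every point of a group scheme over a field is a product of generic points
-/

set_option autoImplicit false

universe u

namespace Groth.Agent.Lib.Helper72.GrpConn

open AlgebraicGeometry CategoryTheory CategoryTheory.Limits MonoidalCategory
  CartesianMonoidalCategory MonObj GrpObj Groth.Agent.Lib.Helper72.GrpComp
  Groth.Agent.Lib.Helper72.GrpGen

variable {K : Type u} [Field K] (G : Over (Spec (CommRingCat.of K))) [GrpObj G]

/-- Every point `x` of the irreducible component `C` is of the form `ζ⁻¹ · ξ` (as the image of a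
point of `G × G`) where `ζ` is a generic point of the identity component and `ξ` is a generic point
of `C`. -/
theorem exists_mul_generic {Z₀ C : Set G.left}
    (h₀ : Z₀ ∈ irreducibleComponents G.left) (he : ePt G ∈ Z₀)
    (hC : C ∈ irreducibleComponents G.left) {x : G.left} (hx : x ∈ C) :
    ∃ (q : ↥(pullback G.hom G.hom)) (ζ : G.left), closure {ζ} = Z₀ ∧
      pullback.fst G.hom G.hom q = invS G ζ ∧ closure {pullback.snd G.hom G.hom q} = C ∧
      mulS G q = x := by
  obtain ⟨ρ, hρ⟩ : ∃ ρ : Spec (CommRingCat.of (G.left.residueField x)) ⟶ G.left,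
      ∀ z, ρ z = x := ⟨G.left.fromSpecResidueField x, fun z =>
    Scheme.fromSpecResidueField_apply _ _⟩
  obtain ⟨t, v, d, -, hgen, hv1, hv2, hd1, hd2, hd3⟩ := exists_trans_data' G ρ
  obtain ⟨pt, hpt⟩ : ∃ pt : Spec (CommRingCat.of (G.left.residueField x)), pt = pt :=
    ⟨IsLocalRing.closedPoint _, rfl⟩
  have hY := irreducibleComponent_mem_irreducibleComponents (v pt)
  obtain ⟨y₀, hy₀⟩ := QuasiSober.sober hY.1 isClosed_irreducibleComponent
  have hπe : pullback.fst G.hom (ρ ≫ G.hom) (v pt) = ePt G := by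
    rw [app_eq hv1, Scheme.Hom.comp_apply]
    have h2 : (ρ ≫ G.hom) pt = IsLocalRing.closedPoint K :=
      Subsingleton.elim (α := PrimeSpectrum K) _ _
    rw [h2]
    rfl
  have hcl : closure {y₀} ∈ irreducibleComponents ↥(pullback G.hom (ρ ≫ G.hom)) := by
    rw [hy₀.def]; exact hY
  have h1 : closure {t y₀} ∈ irreducibleComponents G.left :=
    Groth.Agent.Lib.Helper51.closure_image_mem_irreducibleComponents hgen hcl
  have htx : t (v pt) = x := by rw [app_eq hv2, hρ]
  have hs : y₀ ⤳ v pt := by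
    rw [specializes_iff_mem_closure, hy₀.def]; exact mem_irreducibleComponent
  have h2 : x ∈ closure {t y₀} := by
    have hs' := hs.map t.continuous
    rw [htx] at hs'
    exact specializes_iff_mem_closure.1 hs'
  have h3 : closure {t y₀} = C := eq_of_mem G h1 hC x h2 hx
  have hπgen : GeneralizingMap (pullback.fst G.hom (ρ ≫ G.hom)) := Flat.generalizingMap _
  have h4 : closure {pullback.fst G.hom (ρ ≫ G.hom) y₀} ∈ irreducibleComponents G.left :=
    Groth.Agent.Lib.Helper51.closure_image_mem_irreducibleComponents hπgen hcl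
  have h5 : ePt G ∈ closure {pullback.fst G.hom (ρ ≫ G.hom) y₀} := by
    have hs' := hs.map (pullback.fst G.hom (ρ ≫ G.hom)).continuous
    rw [hπe] at hs'
    exact specializes_iff_mem_closure.1 hs'
  have h6 : closure {pullback.fst G.hom (ρ ≫ G.hom) y₀} = Z₀ := eq_of_ePt_mem G h4 h₀ h5 he
  refine ⟨d y₀, pullback.fst G.hom (ρ ≫ G.hom) y₀, h6, ?_, ?_, ?_⟩
  · rw [app_eq hd1, Scheme.Hom.comp_apply]
  · rw [app_eq hd2]
    exact h3
  · rw [app_eq hd3, Scheme.Hom.comp_apply, hρ]

/-- A point whose closure is an irreducible set `Z` lies in every open set meeting `Z`. -/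
lemma mem_of_closure_eq {X : Type*} [TopologicalSpace X] {ζ : X} {Z U : Set X}
    (hζ : closure {ζ} = Z) (hU : IsOpen U) (hne : (Z ∩ U).Nonempty) : ζ ∈ U := by
  obtain ⟨w, hwZ, hwU⟩ := hne
  rw [← hζ] at hwZ
  exact (specializes_iff_mem_closure.2 hwZ).mem_open hU hwU

/-- For a nonempty open `U` inside the identity component `Z₀`, every point of `Z₀` is of the form
`g · h⁻¹` with `g, h ∈ U`. -/
theorem exists_mul_inv_of_open {Z₀ : Set G.left}
    (h₀ : Z₀ ∈ irreducibleComponents G.left) (he : ePt G ∈ Z₀) (U : G.left.Opens)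
    (hne : (U : Set G.left).Nonempty) (hU : (U : Set G.left) ⊆ Z₀) {x : G.left} (hx : x ∈ Z₀) :
    ∃ q : ↥(pullback G.hom G.hom), pullback.fst G.hom G.hom q ∈ U ∧
      invS G (pullback.snd G.hom G.hom q) ∈ U ∧ mulS G q = x := by
  have hinv : ∀ y, invS G (invS G y) = y := fun y => app_eq (invS_invS G) y
  obtain ⟨q, ζ, hζ, hq1, hq2, hq3⟩ := exists_mul_generic G h₀ he h₀ hx
  obtain ⟨u, hu⟩ := hne
  have hopen : IsOpen (invS G ⁻¹' (U : Set G.left)) := U.isOpen.preimage (invS G).continuous
  have hne' : (Z₀ ∩ invS G ⁻¹' (U : Set G.left)).Nonempty :=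
    ⟨invS G u, invS_mem G h₀ he (hU hu), by
      show invS G (invS G u) ∈ U
      rw [hinv]; exact hu⟩
  refine ⟨q, ?_, ?_, hq3⟩
  · rw [hq1]
    exact Set.mem_preimage.1 (mem_of_closure_eq hζ hopen hne')
  · exact Set.mem_preimage.1 (mem_of_closure_eq hq2 hopen hne')

end Groth.Agent.Lib.Helper72.GrpConn
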