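import Mathlib

/-!
# Morphism properties holding near a point of the source (helper72)

`Loc P f x` : there is an open neighbourhood `U` of `x` with `P (U.ι ≫ f)`.
-/

set_option autoImplicit false
universe u

open CategoryTheory CategoryTheory.Limits AlgebraicGeometry

namespace Groth.Agent.Lib.Helper72.LocProp

/-- `P` holds for `f` in a neighbourhood of `x`. -/
def Loc (P : MorphismProperty Scheme.{u}) {X Y : Scheme.{u}} (f : X ⟶ Y) (x : X) : Prop :=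
  ∃ U : X.Opens, x ∈ U ∧ P (U.ι ≫ f)

variable {P : MorphismProperty Scheme.{u}}

/-- If `P` is local at the source and holds near every point of an open `V`, it holds on `V`. -/
theorem of_forall_loc [IsZariskiLocalAtSource P] {X Y : Scheme.{u}} (f : X ⟶ Y) (V : X.Opens)
    (h : ∀ x ∈ V, Loc P f x) : P (V.ι ≫ f) := by
  choose U hxU hU using h
  refine IsZariskiLocalAtSource.of_iSup_eq_top (P := P)
    (fun x : ↥V => V.ι ⁻¹ᵁ (U x.1 x.2)) ?_ ?_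
  · rw [eq_top_iff]
    rintro x -
    rw [TopologicalSpace.Opens.mem_iSup]
    exact ⟨x, hxU x.1 x.2⟩
  · intro x
    have hle : (V.ι ⁻¹ᵁ (U x.1 x.2)).ι ''ᵁ ⊤ ≤ V.ι ⁻¹ᵁ (U x.1 x.2) := by
      rintro _ ⟨y, -, rfl⟩
      exact y.2
    have hrange : Set.range ((V.ι ⁻¹ᵁ (U x.1 x.2)).ι ≫ V.ι) ⊆ Set.range (U x.1 x.2).ι := by
      rintro _ ⟨y, rfl⟩
      rw [Scheme.Opens.range_ι]
      exact y.2
    have hfac := IsOpenImmersion.lift_fac (U x.1 x.2).ι ((V.ι ⁻¹ᵁ (U x.1 x.2)).ι ≫ V.ι) hrange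
    rw [← Category.assoc, ← hfac, Category.assoc]
    exact IsZariskiLocalAtSource.comp (hU x.1 x.2) _

theorem of_forall_loc_top [IsZariskiLocalAtSource P] {X Y : Scheme.{u}} (f : X ⟶ Y)
    (h : ∀ x, Loc P f x) : P f := by
  have := of_forall_loc f ⊤ (fun x _ => h x)
  rwa [← P.cancel_left_of_respectsIso (Scheme.topIso X).inv, ← Category.assoc,
    show (Scheme.topIso X).inv ≫ (⊤ : X.Opens).ι = 𝟙 X from by simp, Category.id_comp] at this

/-- Restricting to a smaller neighbourhood. -/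
theorem Loc.mono [IsZariskiLocalAtSource P] {X Y : Scheme.{u}} {f : X ⟶ Y} {x : X}
    (h : Loc P f x) (V : X.Opens) (hxV : x ∈ V) : ∃ U : X.Opens, x ∈ U ∧ U ≤ V ∧ P (U.ι ≫ f) := by
  obtain ⟨U, hxU, hU⟩ := h
  refine ⟨U ⊓ V, ⟨hxU, hxV⟩, inf_le_right, ?_⟩
  have := IsZariskiLocalAtSource.comp hU (X.homOfLE (inf_le_left : U ⊓ V ≤ U))
  rwa [← Category.assoc, Scheme.homOfLE_ι] at this

/-- Base change. -/
theorem Loc.baseChange [P.IsStableUnderBaseChange] {X' X Y' Y : Scheme.{u}} {k : X' ⟶ X}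
    {f' : X' ⟶ Y'} {f : X ⟶ Y} {g : Y' ⟶ Y} (sq : IsPullback k f' f g) (x' : X')
    (h : Loc P f (k x')) : Loc P f' x' := by
  obtain ⟨U, hxU, hU⟩ := h
  refine ⟨k ⁻¹ᵁ U, hxU, ?_⟩
  have sq' := (isPullback_morphismRestrict k U).paste_vert sq
  exact P.of_isPullback sq' hU

/-- Invariance under compatible automorphisms. -/
theorem Loc.of_iso [P.RespectsIso] {X Y : Scheme.{u}} {f : X ⟶ Y} (L : X ≅ X) (L' : Y ≅ Y)
    (hL : L.hom ≫ f = f ≫ L'.hom) (x : X) (h : Loc P f x) : Loc P f (L.hom x) := by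
  obtain ⟨U, hxU, hU⟩ := h
  refine ⟨L.inv ⁻¹ᵁ U, ?_, ?_⟩
  · show L.inv (L.hom x) ∈ U
    rw [← Scheme.Hom.comp_apply, L.hom_inv_id]
    exact hxU
  · have h1 : (L.inv ⁻¹ᵁ U).ι ≫ f = (L.inv ∣_ U) ≫ (U.ι ≫ f) ≫ L'.hom := by
      rw [Category.assoc, ← hL, morphismRestrict_ι_assoc, L.inv_hom_id_assoc]
    rw [h1, P.cancel_left_of_respectsIso, P.cancel_right_of_respectsIso]
    exact hU

/-- Descent along a closed surjective-on-fibres base change: if `P` descends in cartesian squares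
along `g`, `k` is a closed map and `P` holds for `f'` near every point over `x`, then `P` holds
for `f` near `x`. -/
theorem Loc.descend [IsZariskiLocalAtSource P] {X' X Y' Y : Scheme.{u}} {k : X' ⟶ X}
    {f' : X' ⟶ Y'} {f : X ⟶ Y} {g : Y' ⟶ Y} (sq : IsPullback k f' f g)
    (hk : IsClosedMap k)
    (hdesc : ∀ V : X.Opens, P ((k ⁻¹ᵁ V).ι ≫ f') → P (V.ι ≫ f))
    (x : X) (h : ∀ x' : X', k x' = x → Loc P f' x') : Loc P f x := by
  let Ω' : X'.Opens := ⨆ (U : {U : X'.Opens // P (U.ι ≫ f')}), U.1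
  have hΩ' : ∀ x' : X', Loc P f' x' → x' ∈ Ω' := by
    rintro x' ⟨U, hxU, hU⟩
    exact TopologicalSpace.Opens.mem_iSup.mpr ⟨⟨U, hU⟩, hxU⟩
  have hΩ'loc : ∀ x' ∈ Ω', Loc P f' x' := by
    intro x' hx'
    obtain ⟨⟨U, hU⟩, hxU⟩ := TopologicalSpace.Opens.mem_iSup.mp hx'
    exact ⟨U, hxU, hU⟩
  let V : X.Opens := ⟨(k '' (Ω' : Set X')ᶜ)ᶜ, (hk _ Ω'.isOpen.isClosed_compl).isOpen_compl⟩
  have hxV : x ∈ V := by
    rintro ⟨x', hx'Ω, hx'⟩
    exact hx'Ω (hΩ' x' (h x' hx'))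
  have hle : k ⁻¹ᵁ V ≤ Ω' := by
    intro x' hx'
    by_contra hn
    exact hx' ⟨x', hn, rfl⟩
  refine ⟨V, hxV, hdesc V ?_⟩
  exact of_forall_loc f' (k ⁻¹ᵁ V) (fun x' hx' => hΩ'loc x' (hle hx'))

end Groth.Agent.Lib.Helper72.LocProp
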