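import Groth.Agent.Lib.Helper72.StrictRatAlg

/-!
# Two-algebra version of `StrictRatAlg.exists_local` (helper72)
-/

set_option autoImplicit false
universe u

namespace Groth.Agent.Lib.Helper72.StrictRatAlg

open TensorProduct

variable (A : Type u) [CommRing A] (A₁ : Type u) [CommRing A₁] [Algebra A A₁]
  [Module.Finite A A₁] [Module.Free A A₁] (Ω : Type u) [Field Ω] [Algebra A Ω]

theorem exists_tensor' (T₀ : Type u) [CommRing T₀] [Algebra A T₀] [Module.Finite A T₀]
    [Module.Free A T₀] (Φ₀ : T₀ →ₐ[A] Ω) (l : List (A₁ →ₐ[A] Ω)) :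
    ∃ (T : Type u) (_ : CommRing T) (_ : Algebra A T) (_ : Module.Finite A T)
      (_ : Module.Free A T) (Φ : T →ₐ[A] Ω) (ι : T₀ →ₐ[A] T), Φ.comp ι = Φ₀ ∧
      ∀ h ∈ l, ∃ j : A₁ →ₐ[A] T, Φ.comp j = h := by
  induction l with
  | nil =>
    exact ⟨T₀, inferInstance, inferInstance, inferInstance, inferInstance, Φ₀, AlgHom.id A T₀,
      AlgHom.comp_id _, fun h hh => by simp at hh⟩
  | cons h l ih =>
    obtain ⟨T, _, _, _, _, Φ, ι, hι, hΦ⟩ := ih
    refine ⟨T ⊗[A] A₁, inferInstance, inferInstance, inferInstance, inferInstance,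
      Algebra.TensorProduct.productMap Φ h, Algebra.TensorProduct.includeLeft.comp ι, ?_, ?_⟩
    · rw [← AlgHom.comp_assoc, Algebra.TensorProduct.productMap_left, hι]
    · intro h' hh'
      rcases List.mem_cons.mp hh' with rfl | hh'
      · exact ⟨Algebra.TensorProduct.includeRight, Algebra.TensorProduct.productMap_right _ _⟩
      · obtain ⟨j, hj⟩ := hΦ h' hh'
        refine ⟨Algebra.TensorProduct.includeLeft.comp j, ?_⟩
        rw [← AlgHom.comp_assoc, Algebra.TensorProduct.productMap_left, hj]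

/-- Localising a finite free algebra at the kernel of a map to a field. -/
theorem exists_local_of [IsArtinianRing A] [IsLocalRing A] (T : Type u) [CommRing T] [Algebra A T]
    [Module.Finite A T] [Module.Free A T] (Φ : T →ₐ[A] Ω) :
    ∃ (A' : Type u) (_ : CommRing A') (_ : IsLocalRing A') (_ : Algebra A A')
      (_ : Module.Finite A A') (_ : Module.Free A A') (Φ' : A' →ₐ[A] Ω) (ι : T →ₐ[A] A'),
      Φ'.comp ι = Φ := by
  let 𝔐 : Ideal T := RingHom.ker Φ.toRingHom
  haveI : 𝔐.IsPrime := RingHom.ker_isPrime _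
  haveI : IsArtinianRing T := IsArtinianRing.of_finite A T
  have hsurj : Function.Surjective (algebraMap T (Localization.AtPrime 𝔐)) :=
    IsArtinianRing.localization_surjective 𝔐.primeCompl _
  haveI : Module.Finite A (Localization.AtPrime 𝔐) :=
    Module.Finite.of_surjective (IsScalarTower.toAlgHom A T (Localization.AtPrime 𝔐)).toLinearMap
      hsurj
  haveI : Module.Flat A (Localization.AtPrime 𝔐) := Module.Flat.trans A T _
  haveI : Module.Free A (Localization.AtPrime 𝔐) := Module.free_of_flat_of_isLocalRing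
  have hunit : ∀ y : 𝔐.primeCompl, IsUnit (Φ.toRingHom y) := fun y =>
    IsUnit.mk0 _ (fun h0 => y.2 h0)
  let Φr : Localization.AtPrime 𝔐 →+* Ω := IsLocalization.lift hunit
  have hΦr : Φr.comp (algebraMap T (Localization.AtPrime 𝔐)) = Φ.toRingHom :=
    IsLocalization.lift_comp hunit
  let Φ' : Localization.AtPrime 𝔐 →ₐ[A] Ω :=
    { Φr with
      commutes' := fun a => by
        rw [IsScalarTower.algebraMap_apply A T (Localization.AtPrime 𝔐)]
        show Φr.comp (algebraMap T (Localization.AtPrime 𝔐)) (algebraMap A T a) = _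
        rw [hΦr]
        exact Φ.commutes a }
  refine ⟨Localization.AtPrime 𝔐, inferInstance, inferInstance, inferInstance, inferInstance,
    inferInstance, Φ', IsScalarTower.toAlgHom A T (Localization.AtPrime 𝔐), ?_⟩
  ext a
  show Φr.comp (algebraMap T (Localization.AtPrime 𝔐)) a = Φ a
  rw [hΦr]
  rfl

/-- Two-algebra version of `exists_local`. -/
theorem exists_local2 [IsArtinianRing A] [IsLocalRing A] (A₂ : Type u) [CommRing A₂] [Algebra A A₂]
    [Module.Finite A A₂] [Module.Free A A₂] :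
    ∃ (A' : Type u) (_ : CommRing A') (_ : IsLocalRing A') (_ : Algebra A A')
      (_ : Module.Finite A A') (_ : Module.Free A A') (Φ : A' →ₐ[A] Ω),
      (∀ h : A₁ →ₐ[A] Ω, ∃ j : A₁ →ₐ[A] A', Φ.comp j = h) ∧
      (∀ h : A₂ →ₐ[A] Ω, ∃ j : A₂ →ₐ[A] A', Φ.comp j = h) := by
  classical
  haveI : Fintype (A₁ →ₐ[A] Ω) := Fintype.ofFinite _
  haveI : Fintype (A₂ →ₐ[A] Ω) := Fintype.ofFinite _
  obtain ⟨T₁, _, _, _, _, Φ₁, -, -, h₁⟩ :=
    exists_tensor' A A₁ Ω A (Algebra.ofId A Ω) (Finset.univ : Finset (A₁ →ₐ[A] Ω)).toList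
  obtain ⟨T₂, _, _, _, _, Φ₂, ι₂, hι₂, h₂⟩ :=
    exists_tensor' A A₂ Ω T₁ Φ₁ (Finset.univ : Finset (A₂ →ₐ[A] Ω)).toList
  obtain ⟨A', _, _, _, _, _, Φ', ι', hι'⟩ := exists_local_of A Ω T₂ Φ₂
  refine ⟨A', inferInstance, inferInstance, inferInstance, inferInstance, inferInstance, Φ',
    ?_, ?_⟩
  · intro h
    obtain ⟨j, hj⟩ := h₁ h (by simp)
    refine ⟨ι'.comp (ι₂.comp j), ?_⟩
    rw [← AlgHom.comp_assoc, hι', ← AlgHom.comp_assoc, hι₂, hj]
  · intro h
    obtain ⟨j, hj⟩ := h₂ h (by simp)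
    refine ⟨ι'.comp j, ?_⟩
    rw [← AlgHom.comp_assoc, hι', hj]

end Groth.Agent.Lib.Helper72.StrictRatAlg
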