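import Mathlib

/-!
# Translation of `T ⊗ G` by a `T`-valued point of a group object `G` (helper72)
-/

set_option autoImplicit false
universe v u

open CategoryTheory MonoidalCategory CartesianMonoidalCategory MonObj GrpObj

namespace Groth.Agent.Lib.Helper72.Transl

variable {C : Type u} [Category.{v} C] [CartesianMonoidalCategory C]
variable {T G H : C} [GrpObj G] [GrpObj H]

/-- Left translation `(t, g) ↦ (t, a(t) g)`. -/
def transl (a : T ⟶ G) : T ⊗ G ⟶ T ⊗ G := lift (fst T G) ((fst T G ≫ a) * snd T G)

@[simp] lemma transl_fst (a : T ⟶ G) : transl a ≫ fst T G = fst T G := by simp [transl]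

@[simp] lemma transl_snd (a : T ⟶ G) : transl a ≫ snd T G = (fst T G ≫ a) * snd T G := by
  simp [transl]

lemma transl_comp (a b : T ⟶ G) : transl a ≫ transl b = transl (b * a) := by
  apply CartesianMonoidalCategory.hom_ext
  · simp
  · rw [Category.assoc, transl_snd, MonObj.comp_mul, ← Category.assoc, transl_fst, transl_snd,
      transl_snd, MonObj.comp_mul, _root_.mul_assoc]

lemma transl_one : transl (1 : T ⟶ G) = 𝟙 (T ⊗ G) := by
  apply CartesianMonoidalCategory.hom_ext
  · simp
  · rw [transl_snd, MonObj.comp_one, _root_.one_mul, Category.id_comp]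

/-- Translations are isomorphisms. -/
def translIso (a : T ⟶ G) : T ⊗ G ≅ T ⊗ G where
  hom := transl a
  inv := transl a⁻¹
  hom_inv_id := by rw [transl_comp, inv_mul_cancel, transl_one]
  inv_hom_id := by rw [transl_comp, mul_inv_cancel, transl_one]

lemma transl_whiskerLeft (u : G ⟶ H) [IsMonHom u] (a : T ⟶ G) :
    transl a ≫ (T ◁ u) = (T ◁ u) ≫ transl (a ≫ u) := by
  apply CartesianMonoidalCategory.hom_ext
  · simp
  · have h1 : (transl a ≫ T ◁ u) ≫ snd T H = (fst T G ≫ a ≫ u) * (snd T G ≫ u) := by
      rw [Category.assoc, whiskerLeft_snd, ← Category.assoc, transl_snd, MonObj.mul_comp,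
        Category.assoc]
    have h2 : (T ◁ u ≫ transl (a ≫ u)) ≫ snd T H = (fst T G ≫ a ≫ u) * (snd T G ≫ u) := by
      rw [Category.assoc, transl_snd, MonObj.comp_mul, whiskerLeft_snd, ← Category.assoc,
        whiskerLeft_fst]
    rw [h1, h2]

lemma graph_transl (a b : T ⟶ G) : lift (𝟙 T) b ≫ transl a = lift (𝟙 T) (a * b) := by
  apply CartesianMonoidalCategory.hom_ext
  · simp
  · rw [Category.assoc, transl_snd, MonObj.comp_mul, lift_snd, ← Category.assoc, lift_fst,
      Category.id_comp, lift_snd]

end Groth.Agent.Lib.Helper72.Transl
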