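import Groth.Agent.Lib.Helper72.StrictRat
import Groth.Agent.Lib.Helper72.StrictRatAlg2
import Groth.Agent.Lib.Helper72.LocProp
import Groth.Agent.Lib.Helper72.Transl

/-!
# Local properties of homomorphisms of flat group schemes over a local artinian ring (helper72)

If a homomorphism `u : G → H` from a flat group scheme locally of finite type over a local
artinian ring has a property `P` (local at the source, stable under base change, descending
along finite flat surjective base change) on a nonempty open of `G`, then `u` has `P`.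
-/

set_option autoImplicit false
universe u

open CategoryTheory CategoryTheory.Limits MonoidalCategory CartesianMonoidalCategory MonObj GrpObj
  AlgebraicGeometry

namespace Groth.Agent.Lib.Helper72.GrpLocProp

open Groth.Agent.Lib.Helper72.StrictRat Groth.Agent.Lib.Helper72.LocProp
  Groth.Agent.Lib.Helper72.Transl

/-- `T`-points through the points over `x`. -/
theorem exists_point (A : Type u) [CommRing A] [IsArtinianRing A] [IsLocalRing A]
    (G : Over (Spec (CommRingCat.of A))) [GrpObj G] [Flat G.hom] [LocallyOfFiniteType G.hom]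
    (x : G.left) (hx : IsClosed ({x} : Set G.left))
    (A₁ : Type u) [CommRing A₁] [Algebra A A₁] (φ₁ : Spec (CommRingCat.of A₁) ⟶ G.left)
    (hφ₁ : φ₁ ≫ G.hom = Spec.map (CommRingCat.ofHom (algebraMap A A₁)))
    (hlift : ∀ (Ω : Type u) [Field Ω] (a : Spec (CommRingCat.of Ω) ⟶ G.left), (∀ p, a p = x) →
        ∃ ρ : A₁ →+* Ω, Spec.map (CommRingCat.ofHom ρ) ≫ φ₁ = a)
    (Ω : Type u) [Field Ω] [IsAlgClosed Ω] [Algebra A Ω]
    (A' : Type u) [CommRing A'] [IsLocalRing A'] [Algebra A A'] [Module.Finite A A']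
    (Φ : A' →ₐ[A] Ω) (hΦ : ∀ h : A₁ →ₐ[A] Ω, ∃ j : A₁ →ₐ[A] A', Φ.comp j = h)
    (g : Spec (CommRingCat.of A') ⟶ Spec (CommRingCat.of A))
    (hg : g = Spec.map (CommRingCat.ofHom (algebraMap A A')))
    (x' : ↥((Over.mk g) ⊗ G).left) (hx' : (snd (Over.mk g) G).left x' = x) :
    ∃ a : Over.mk g ⟶ G, x' ∈ Set.range (lift (𝟙 (Over.mk g)) a).left := by
  let x'' : ↥(pullback G.hom g) := (pullbackSymmetry g G.hom).hom x'
  have hx'' : (pullback.fst G.hom g) x'' = x := by
    show (pullback.fst G.hom g) ((pullbackSymmetry g G.hom).hom x') = x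
    rw [← Scheme.Hom.comp_apply, pullbackSymmetry_hom_comp_fst]
    exact hx'
  obtain ⟨s, hs, t, ht⟩ := main_aux A G x hx A₁ φ₁ hφ₁ hlift Ω A' Φ hΦ g hg x'' hx''
  have hw : (s ≫ pullback.fst G.hom g) ≫ G.hom = g := by
    rw [Category.assoc, pullback.condition, reassoc_of% hs]
  refine ⟨Over.homMk (s ≫ pullback.fst G.hom g) hw, t, ?_⟩
  have hw' : 𝟙 (Spec (CommRingCat.of A')) ≫ g = (s ≫ pullback.fst G.hom g) ≫ G.hom := by
    rw [Category.id_comp, hw]
  have h1 : (lift (𝟙 (Over.mk g)) (Over.homMk (s ≫ pullback.fst G.hom g) hw)).left =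
      s ≫ (pullbackSymmetry g G.hom).inv := by
    apply pullback.hom_ext
    · show pullback.lift (𝟙 _) (s ≫ pullback.fst G.hom g) hw' ≫ pullback.fst g G.hom =
        (s ≫ (pullbackSymmetry g G.hom).inv) ≫ pullback.fst g G.hom
      rw [pullback.lift_fst, Category.assoc, pullbackSymmetry_inv_comp_fst, hs]
    · show pullback.lift (𝟙 _) (s ≫ pullback.fst G.hom g) hw' ≫ pullback.snd g G.hom =
        (s ≫ (pullbackSymmetry g G.hom).inv) ≫ pullback.snd g G.hom
      rw [pullback.lift_snd, Category.assoc, pullbackSymmetry_inv_comp_snd]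
  rw [h1, Scheme.Hom.comp_apply, ht]
  show (pullbackSymmetry g G.hom).inv ((pullbackSymmetry g G.hom).hom x') = x'
  rw [← Scheme.Hom.comp_apply, Iso.hom_inv_id]
  rfl

/-- **Main theorem**: a property of the above kind holding for `u` on a nonempty open of `G`
holds for `u`. -/
theorem hom_of_open (P : MorphismProperty Scheme.{u}) [IsZariskiLocalAtSource P]
    [P.IsStableUnderBaseChange]
    (hdesc : ∀ {X' X Y' Y : Scheme.{u}} {k : X' ⟶ X} {f' : X' ⟶ Y'} {f : X ⟶ Y} {g : Y' ⟶ Y},
      IsPullback k f' f g → IsFinite g → Flat g → Surjective g → LocallyOfFiniteType f →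
        P f' → P f)
    (A : Type u) [CommRing A] [IsArtinianRing A] [IsLocalRing A]
    (G H : Over (Spec (CommRingCat.of A))) [GrpObj G] [GrpObj H] [Flat G.hom]
    [LocallyOfFiniteType G.hom] (u : G ⟶ H) [IsMonHom u] (W : G.left.Opens)
    (hW : (W : Set G.left).Nonempty) (hP : P (W.ι ≫ u.left)) : P u.left := by
  haveI : JacobsonSpace G.left := LocallyOfFiniteType.jacobsonSpace G.hom
  haveI hlft : LocallyOfFiniteType u.left := by
    have : LocallyOfFiniteType (u.left ≫ H.hom) := by rw [Over.w u]; infer_instance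
    exact locallyOfFiniteType_of_comp u.left H.hom
  haveI : Subsingleton ↥(Spec (CommRingCat.of A)) :=
    Groth.Agent.Lib.Helper19.subsingleton_Spec_of_isArtinianRing_of_isLocalRing A
  -- reduce to closed points
  suffices hcl : ∀ x : G.left, IsClosed ({x} : Set G.left) → Loc P u.left x by
    apply of_forall_loc_top
    intro y
    have hC : IsClosed (closure ({y} : Set G.left)) := isClosed_closure
    have h1 := JacobsonSpace.closure_inter_closedPoints hC
    have hne : (closure ({y} : Set G.left) ∩ closedPoints G.left).Nonempty := by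
      by_contra h
      rw [Set.not_nonempty_iff_eq_empty] at h
      rw [h, closure_empty] at h1
      have hne0 : (closure ({y} : Set G.left)).Nonempty := ⟨y, subset_closure (Set.mem_singleton y)⟩
      exact hne0.ne_empty h1.symm
    obtain ⟨x, hxy, hxc⟩ := hne
    obtain ⟨U, hxU, hU⟩ := hcl x (mem_closedPoints_iff.mp hxc)
    exact ⟨U, (specializes_iff_mem_closure.mpr hxy).mem_open U.isOpen hxU, hU⟩
  intro x hx
  -- a closed point of `W`
  obtain ⟨w, hwW, hwc⟩ : ∃ w ∈ W, IsClosed ({w} : Set G.left) := by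
    have hd : Dense (closedPoints G.left) := by
      rw [dense_iff_closure_eq]
      have := JacobsonSpace.closure_inter_closedPoints (X := G.left) isClosed_univ
      rwa [Set.univ_inter] at this
    obtain ⟨w, hw1, hw2⟩ := hd.inter_open_nonempty W W.isOpen hW
    exact ⟨w, hw1, mem_closedPoints_iff.mp hw2⟩
  obtain ⟨Ax, _, _, _, _, φx, hφx, hliftx⟩ := exists_quasiSection A G x hx
  obtain ⟨Aw, _, _, _, _, φw, hφw, hliftw⟩ := exists_quasiSection A G w hwc
  letI : Algebra A (AlgebraicClosure (IsLocalRing.ResidueField A)) :=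
    ((algebraMap (IsLocalRing.ResidueField A) (AlgebraicClosure (IsLocalRing.ResidueField A))).comp
      (IsLocalRing.residue A)).toAlgebra
  obtain ⟨A', _, _, _, _, _, Φ, hΦx, hΦw⟩ := Groth.Agent.Lib.Helper72.StrictRatAlg.exists_local2 A Ax
    (AlgebraicClosure (IsLocalRing.ResidueField A)) Aw
  obtain ⟨g, hg⟩ : ∃ g : Spec (CommRingCat.of A') ⟶ Spec (CommRingCat.of A),
      g = Spec.map (CommRingCat.ofHom (algebraMap A A')) := ⟨_, rfl⟩
  haveI : IsArtinianRing A' := IsArtinianRing.of_finite A A'
  haveI : Subsingleton ↥(Spec (CommRingCat.of A')) :=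
    Groth.Agent.Lib.Helper19.subsingleton_Spec_of_isArtinianRing_of_isLocalRing A'
  haveI : IsFinite g := by
    rw [hg]
    exact (IsFinite.SpecMap_iff _).mpr (RingHom.finite_algebraMap.mpr inferInstance)
  haveI : Flat g := by
    rw [hg]
    exact (HasRingHomProperty.Spec_iff (P := @Flat)).mpr
      (RingHom.flat_algebraMap_iff.mpr inferInstance)
  haveI : Surjective g := ⟨fun p => ⟨IsLocalRing.closedPoint A', Subsingleton.elim _ _⟩⟩
  -- the cartesian square
  have sq0 := (Groth.Agent.Lib.Helper19.isPullback_whiskerLeft_snd (Over.mk g) u).map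
    (Over.forget _)
  have sq : IsPullback (snd (Over.mk g) G).left ((Over.mk g) ◁ u).left u.left
      (snd (Over.mk g) H).left := sq0.flip
  haveI : IsFinite (snd (Over.mk g) H).left := by
    show IsFinite (pullback.snd g H.hom); infer_instance
  haveI : Flat (snd (Over.mk g) H).left := by
    show Flat (pullback.snd g H.hom); infer_instance
  haveI : Surjective (snd (Over.mk g) H).left := by
    show Surjective (pullback.snd g H.hom); infer_instance
  haveI : IsFinite (snd (Over.mk g) G).left := by
    show IsFinite (pullback.snd g G.hom); infer_instance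
  haveI : Surjective (snd (Over.mk g) G).left := by
    show Surjective (pullback.snd g G.hom); infer_instance
  have hk : IsClosedMap (snd (Over.mk g) G).left := (snd (Over.mk g) G).left.isClosedMap
  have hdesc' : ∀ V : G.left.Opens,
      P (((snd (Over.mk g) G).left ⁻¹ᵁ V).ι ≫ ((Over.mk g) ◁ u).left) → P (V.ι ≫ u.left) := by
    intro V hV
    have sqV := (isPullback_morphismRestrict (snd (Over.mk g) G).left V).paste_vert sq
    exact hdesc sqV inferInstance inferInstance inferInstance inferInstance hV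
  apply Loc.descend sq hk hdesc' x
  intro x' hx'
  obtain ⟨a, t, hat⟩ := exists_point A G x hx Ax φx hφx hliftx
    (AlgebraicClosure (IsLocalRing.ResidueField A)) A' Φ hΦx g hg x' hx'
  obtain ⟨w', hw'⟩ := (snd (Over.mk g) G).left.surjective w
  obtain ⟨b, t', hbt⟩ := exists_point A G w hwc Aw φw hφw hliftw
    (AlgebraicClosure (IsLocalRing.ResidueField A)) A' Φ hΦw g hg w' hw'
  have htt : t' = t :=
    Subsingleton.elim (α := ↥(Spec (CommRingCat.of A'))) t' t
  have hLw : Loc P ((Over.mk g) ◁ u).left w' :=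
    Loc.baseChange sq w' ⟨W, by rw [hw']; exact hwW, hP⟩
  let L := (Over.forget _).mapIso (translIso (T := Over.mk g) (a * b⁻¹))
  let L' := (Over.forget _).mapIso (translIso (T := Over.mk g) ((a * b⁻¹) ≫ u))
  have hLL : L.hom ≫ ((Over.mk g) ◁ u).left = ((Over.mk g) ◁ u).left ≫ L'.hom :=
    congrArg Over.Hom.left (transl_whiskerLeft u (a * b⁻¹))
  have h2 := Loc.of_iso L L' hLL w' hLw
  have hLw' : L.hom w' = x' := by
    rw [← hbt, htt, ← hat]
    show (transl (a * b⁻¹)).left ((lift (𝟙 (Over.mk g)) b).left t) =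
      (lift (𝟙 (Over.mk g)) a).left t
    rw [← Scheme.Hom.comp_apply, ← Over.comp_left, graph_transl, inv_mul_cancel_right]
  rwa [hLw'] at h2

end Groth.Agent.Lib.Helper72.GrpLocProp
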