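import Mathlib.AlgebraicGeometry.Morphisms.Integral
import Mathlib.RingTheory.IntegralClosure.Algebra.Basic
import Mathlib.RingTheory.Ideal.Quotient.Operations

/-!
# Algebras which are directed unions of finite products of copies of the base field
-/

set_option autoImplicit false

universe u

namespace Groth.Agent.Lib.Helper72.ProfiniteAlg

open AlgebraicGeometry CategoryTheory

variable {k : Type u} [Field k] {A : Type u} [CommRing A] [Algebra k A]
  (hA : ∀ s : Finset A, ∃ (B : Subalgebra k A) (n : ℕ), (↑s : Set A) ⊆ (B : Set A) ∧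
    Nonempty (B ≃ₐ[k] (Fin n → k)))

include hA in
/-- Every element is split: it is congruent to a scalar modulo every prime ideal. -/
lemma exists_sub_mem (p : Ideal A) [p.IsPrime] (a : A) : ∃ c : k, a - algebraMap k A c ∈ p := by
  obtain ⟨B, n, hsB, ⟨e⟩⟩ := hA {a}
  have haB : a ∈ B := hsB (by simp)
  let v : Fin n → k := e ⟨a, haB⟩
  have h0 : ∏ i : Fin n, (v - algebraMap k (Fin n → k) (v i)) = 0 := by
    funext j
    rw [Finset.prod_apply]
    exact Finset.prod_eq_zero (Finset.mem_univ j) (by simp)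
  have h1 : ∏ i : Fin n, ((⟨a, haB⟩ : B) - algebraMap k B (v i)) = 0 := by
    apply e.injective
    rw [map_prod, map_zero]
    simpa [v] using h0
  have h2 : ∏ i : Fin n, (a - algebraMap k A (v i)) = 0 := by
    have := congrArg (B.val) h1
    simpa using this
  have h3 : ∏ i : Fin n, (a - algebraMap k A (v i)) ∈ p := by rw [h2]; exact p.zero_mem
  obtain ⟨i, -, hi⟩ := (Ideal.IsPrime.prod_mem_iff).1 h3
  exact ⟨v i, hi⟩

include hA in
lemma isIntegral : Algebra.IsIntegral k A := by
  refine ⟨fun a => ?_⟩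
  obtain ⟨B, n, hsB, ⟨e⟩⟩ := hA {a}
  have haB : a ∈ B := hsB (by simp)
  have h1 : IsIntegral k (e ⟨a, haB⟩) := Algebra.IsIntegral.isIntegral _
  have h2 : IsIntegral k (⟨a, haB⟩ : B) := by
    have := h1.map e.symm.toAlgHom
    simpa using this
  exact h2.map B.val

include hA in
/-- Every point of `Spec A` is the image of a section of `Spec A ⟶ Spec k`. -/
theorem exists_section (p : PrimeSpectrum A) :
    ∃ τ : Spec (CommRingCat.of k) ⟶ Spec (CommRingCat.of A),
      τ ≫ Spec.map (CommRingCat.ofHom (algebraMap k A)) = 𝟙 _ ∧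
      τ (IsLocalRing.closedPoint k) = p := by
  have hsurj : Function.Surjective (algebraMap k (A ⧸ p.asIdeal)) := by
    intro x
    obtain ⟨a, rfl⟩ := Ideal.Quotient.mk_surjective x
    obtain ⟨c, hc⟩ := exists_sub_mem hA p.asIdeal a
    refine ⟨c, ?_⟩
    rw [IsScalarTower.algebraMap_apply k A (A ⧸ p.asIdeal), Ideal.Quotient.algebraMap_eq]
    exact (Ideal.Quotient.eq.2 hc).symm
  have hinj : Function.Injective (algebraMap k (A ⧸ p.asIdeal)) :=
    (algebraMap k (A ⧸ p.asIdeal)).injective
  let E : k ≃+* A ⧸ p.asIdeal := RingEquiv.ofBijective _ ⟨hinj, hsurj⟩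
  let χ : A →+* k := E.symm.toRingHom.comp (Ideal.Quotient.mk p.asIdeal)
  have hχ : ∀ c : k, χ (algebraMap k A c) = c := by
    intro c
    show E.symm (Ideal.Quotient.mk p.asIdeal (algebraMap k A c)) = c
    apply E.injective
    rw [RingEquiv.apply_symm_apply]
    show _ = algebraMap k (A ⧸ p.asIdeal) c
    rw [IsScalarTower.algebraMap_apply k A (A ⧸ p.asIdeal), Ideal.Quotient.algebraMap_eq]
  have hker : ∀ a : A, χ a = 0 ↔ a ∈ p.asIdeal := by
    intro a
    show E.symm (Ideal.Quotient.mk p.asIdeal a) = 0 ↔ _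
    rw [map_eq_zero_iff _ E.symm.injective, Ideal.Quotient.eq_zero_iff_mem]
  refine ⟨Spec.map (CommRingCat.ofHom χ), ?_, ?_⟩
  · rw [← Spec.map_comp, ← CommRingCat.ofHom_comp]
    have : χ.comp (algebraMap k A) = RingHom.id k := RingHom.ext hχ
    rw [this]
    exact Spec.map_id _
  · apply PrimeSpectrum.ext
    ext a
    show χ a ∈ IsLocalRing.maximalIdeal k ↔ _
    rw [IsLocalRing.mem_maximalIdeal, mem_nonunits_iff, isUnit_iff_ne_zero, not_not, hker]

end Groth.Agent.Lib.Helper72.ProfiniteAlg
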