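import Groth.Agent.Lib.Helper72.GrpAffineNbhd
import Groth.Agent.Lib.Helper72.ProfiniteAlg

/-!
# Profinite families of rational points of a group scheme lie in an affine open
-/

set_option autoImplicit false

universe u

namespace Groth.Agent.Lib.Helper72.GrpConn

open AlgebraicGeometry CategoryTheory CategoryTheory.Limits MonoidalCategory
  CartesianMonoidalCategory MonObj GrpObj Groth.Agent.Lib.Helper72.GrpComp
  Groth.Agent.Lib.Helper72.GrpGen Groth.Agent.Lib.Helper72.GrpTrans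

section uniform

variable {K : Type u} [Field K] {X₀ T : Scheme.{u}} (b : X₀ ⟶ Spec (CommRingCat.of K))
  (a : T ⟶ Spec (CommRingCat.of K))

/-- The inclusion of the fibre of `X₀ ×_K T ⟶ T` over a rational point. -/
noncomputable def fibreMap (τ : Spec (CommRingCat.of K) ⟶ T) (hτ : τ ≫ a = 𝟙 _) :
    pullback b (𝟙 (Spec (CommRingCat.of K))) ⟶ pullback b a :=
  pullback.map b (𝟙 _) b a (𝟙 X₀) τ (𝟙 _) (by simp) (by rw [hτ, Category.comp_id])

lemma fibreMap_fst (τ : Spec (CommRingCat.of K) ⟶ T) (hτ : τ ≫ a = 𝟙 _) :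
    fibreMap b a τ hτ ≫ pullback.fst b a = pullback.fst b (𝟙 _) := by
  unfold fibreMap
  rw [pullback.lift_fst, Category.comp_id]

lemma fibreMap_snd (τ : Spec (CommRingCat.of K) ⟶ T) (hτ : τ ≫ a = 𝟙 _) :
    fibreMap b a τ hτ ≫ pullback.snd b a = pullback.snd b (𝟙 _) ≫ τ := by
  unfold fibreMap
  rw [pullback.lift_snd]

lemma range_fibreMap (τ : Spec (CommRingCat.of K) ⟶ T) (hτ : τ ≫ a = 𝟙 _) :
    Set.range (fibreMap b a τ hτ) =
      pullback.snd b a ⁻¹' {τ (IsLocalRing.closedPoint K)} := by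
  unfold fibreMap
  rw [Scheme.Pullback.range_map]
  have h1 : Set.range (𝟙 X₀ : X₀ ⟶ X₀) = Set.univ := Set.range_eq_univ.2 fun x => ⟨x, rfl⟩
  have h2 : Set.range τ = {τ (IsLocalRing.closedPoint K)} := by
    ext z
    constructor
    · rintro ⟨p, rfl⟩
      have : p = IsLocalRing.closedPoint K := Subsingleton.elim (α := PrimeSpectrum K) _ _
      rw [this]; rfl
    · rintro rfl
      exact ⟨_, rfl⟩
  rw [h1, h2, Set.preimage_univ, Set.univ_inter]

/-- **Uniformity lemma.** -/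
theorem exists_open_preimage_subset [IrreducibleSpace X₀]
    (hcl : IsClosedMap (pullback.fst b a))
    (hsec : ∀ t : T, ∃ τ : Spec (CommRingCat.of K) ⟶ T, τ ≫ a = 𝟙 _ ∧
      τ (IsLocalRing.closedPoint K) = t)
    (Ω : Set ↥(pullback b a)) (hΩ : IsOpen Ω)
    (hne : ∀ t : T, (Ω ∩ pullback.snd b a ⁻¹' {t}).Nonempty) :
    ∃ N : Set X₀, IsOpen N ∧ N.Nonempty ∧ pullback.fst b a ⁻¹' N ⊆ Ω := by
  have hB : IsClosed (pullback.fst b a '' Ωᶜ) := hcl _ hΩ.isClosed_compl
  have hζ : genericPoint X₀ ∉ pullback.fst b a '' Ωᶜ := by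
    rintro ⟨p, hpΩ, hpζ⟩
    obtain ⟨τ, hτ, hτt⟩ := hsec (pullback.snd b a p)
    have hp : p ∈ Set.range (fibreMap b a τ hτ) := by
      rw [range_fibreMap, hτt]; rfl
    obtain ⟨y, rfl⟩ := hp
    obtain ⟨p', hp'Ω, hp't⟩ := hne (pullback.snd b a (fibreMap b a τ hτ y))
    have hp' : p' ∈ Set.range (fibreMap b a τ hτ) := by
      rw [range_fibreMap, hτt]; exact hp't
    obtain ⟨y', rfl⟩ := hp'
    -- `y` is a generic point
    have hfst : pullback.fst b (𝟙 (Spec (CommRingCat.of K))) y = genericPoint X₀ := by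
      rw [← hpζ, ← Scheme.Hom.comp_apply, fibreMap_fst]
    have hspec : y ⤳ y' := by
      rw [← (pullback.fst b (𝟙 (Spec (CommRingCat.of K)))).homeomorph.isInducing.specializes_iff]
      show pullback.fst b (𝟙 _) y ⤳ pullback.fst b (𝟙 _) y'
      rw [hfst]
      exact (genericPoint_spec X₀).specializes (Set.mem_univ _)
    have hO : IsOpen (fibreMap b a τ hτ ⁻¹' Ω) := hΩ.preimage (fibreMap b a τ hτ).continuous
    exact hpΩ (hspec.mem_open hO hp'Ω)
  refine ⟨(pullback.fst b a '' Ωᶜ)ᶜ, hB.isOpen_compl, ⟨_, hζ⟩, ?_⟩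
  intro p hp
  by_contra hpΩ
  exact hp ⟨p, hpΩ, rfl⟩

end uniform

section assembly

variable {K : Type u} [Field K] (G : Over (Spec (CommRingCat.of K))) [GrpObj G]

lemma rtr_left (g : 𝟙_ (Over (Spec (CommRingCat.of K))) ⟶ G) :
    (rtr g).left = pullback.lift (𝟙 G.left) (G.hom ≫ g.left) (by
      rw [Category.id_comp, Category.assoc]
      have : g.left ≫ G.hom = 𝟙 _ := Over.w g
      rw [this]
      exact (Category.comp_id _).symm) ≫ mulS G := rfl

variable {X₀ T : Scheme.{u}} (j : X₀ ⟶ G.left) (a : T ⟶ Spec (CommRingCat.of K))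
  (f : T ⟶ G.left) (hf : f ≫ G.hom = a)

/-- `(z, t) ↦ j(z) · f(t)`. -/
noncomputable def mulMap : pullback (j ≫ G.hom) a ⟶ G.left :=
  pullback.map (j ≫ G.hom) a G.hom G.hom j f (𝟙 _) (by rw [Category.comp_id])
    (by rw [Category.comp_id, hf]) ≫ mulS G

set_option backward.isDefEq.respectTransparency false in
lemma fibreMap_mulMap (τ : Spec (CommRingCat.of K) ⟶ T) (hτ : τ ≫ a = 𝟙 _)
    (h : (τ ≫ f) ≫ G.hom = 𝟙 _) :
    fibreMap (j ≫ G.hom) a τ hτ ≫ mulMap G j a f hf =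
      pullback.fst (j ≫ G.hom) (𝟙 _) ≫ j ≫ (rtr (ptMk G (τ ≫ f) h)).left := by
  rw [rtr_left]
  unfold mulMap fibreMap
  simp only [← Category.assoc]
  congr 1
  apply pullback.hom_ext
  · simp
  · simp only [Category.assoc, pullback.lift_snd, ptMk, Over.homMk_left]
    have hc : pullback.fst (j ≫ G.hom) (𝟙 (Spec (CommRingCat.of K))) ≫ j ≫ G.hom =
        pullback.snd (j ≫ G.hom) (𝟙 _) := by
      have := pullback.condition (f := j ≫ G.hom) (g := 𝟙 (Spec (CommRingCat.of K)))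
      rw [Category.comp_id] at this
      exact this
    rw [reassoc_of% hc]
    have h2 : pullback.map (j ≫ G.hom) (𝟙 (Spec (CommRingCat.of K))) (j ≫ G.hom) a (𝟙 X₀) τ
        (𝟙 (Spec (CommRingCat.of K))) (by simp) (by rw [hτ, Category.comp_id]) ≫
        pullback.snd (j ≫ G.hom) a = pullback.snd (j ≫ G.hom) (𝟙 _) ≫ τ := pullback.lift_snd _ _ _
    rw [reassoc_of% h2]

include hf in
/-- A quasi-compact family of rational points (parametrised by a universally closed `K`-scheme all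
of whose points are rational) of a Jacobson group scheme with rational closed points lies in an
affine open. -/
theorem exists_affine_of_sections [JacobsonSpace G.left]
    (hrat : ∀ g : G.left, IsClosed ({g} : Set G.left) →
      ∃ z : 𝟙_ (Over (Spec (CommRingCat.of K))) ⟶ G, ptVal G z = g)
    [CompactSpace T] [UniversallyClosed a]
    (hsec : ∀ t : T, ∃ τ : Spec (CommRingCat.of K) ⟶ T, τ ≫ a = 𝟙 _ ∧
      τ (IsLocalRing.closedPoint K) = t) :
    ∃ U : G.left.Opens, IsAffineOpen U ∧ Set.range f ⊆ (U : Set G.left) := by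
  classical
  have h₀ := irreducibleComponent_mem_irreducibleComponents (ePt G)
  have he : ePt G ∈ irreducibleComponent (ePt G) := mem_irreducibleComponent
  obtain ⟨X₀, j, hj1, hj2, hj3, -⟩ := exists_identityComponent_scheme G
  have : IrreducibleSpace X₀ := irreducibleSpace_of_range j (hj3 ▸ h₀.1)
  have hcl : IsClosedMap (pullback.fst (j ≫ G.hom) a) :=
    (pullback.fst (j ≫ G.hom) a).isClosedMap
  have hsurj : Function.Surjective (pullback.fst (j ≫ G.hom) (𝟙 (Spec (CommRingCat.of K)))) :=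
    (pullback.fst (j ≫ G.hom) (𝟙 (Spec (CommRingCat.of K)))).homeomorph.surjective
  have hh : ∀ τ : Spec (CommRingCat.of K) ⟶ T, τ ≫ a = 𝟙 _ → (τ ≫ f) ≫ G.hom = 𝟙 _ :=
    fun τ hτ => by rw [Category.assoc, hf, hτ]
  have hsnd : ∀ (τ : Spec (CommRingCat.of K) ⟶ T) (hτ : τ ≫ a = 𝟙 _)
      (y : ↥(pullback (j ≫ G.hom) (𝟙 (Spec (CommRingCat.of K))))),
      pullback.snd (j ≫ G.hom) a (fibreMap (j ≫ G.hom) a τ hτ y) =
        τ (IsLocalRing.closedPoint K) := by
    intro τ hτ y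
    rw [app_eq (fibreMap_snd (j ≫ G.hom) a τ hτ) y, Scheme.Hom.comp_apply]
    congr 1
    exact Subsingleton.elim (α := PrimeSpectrum K) _ _
  refine exists_affine_nbhd G (Set.range f) (isCompact_range f.continuous) ?_ ?_
  · rintro _ ⟨t, rfl⟩
    obtain ⟨τ, hτ, hτt⟩ := hsec t
    refine ⟨ptMk G (τ ≫ f) (hh τ hτ), ?_⟩
    rw [ptVal_ptMk, Scheme.Hom.comp_apply, hτt]
  · intro S' W' hS' hW' hcomp
    obtain ⟨Ω, hΩdef⟩ : ∃ Ω : Set ↥(pullback (j ≫ G.hom) a), Ω =
        mulMap G j a f hf ⁻¹' (W' : Set G.left) ∪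
          pullback.snd (j ≫ G.hom) a ⁻¹' (f ⁻¹' S')ᶜ := ⟨_, rfl⟩
    have hΩ : IsOpen Ω := by
      rw [hΩdef]
      exact (W'.isOpen.preimage (mulMap G j a f hf).continuous).union
        ((hS'.isClosed.preimage f.continuous).isOpen_compl.preimage
          (pullback.snd (j ≫ G.hom) a).continuous)
    have hne : ∀ t : T, (Ω ∩ pullback.snd (j ≫ G.hom) a ⁻¹' {t}).Nonempty := by
      intro t
      obtain ⟨τ, hτ, hτt⟩ := hsec t
      by_cases hts : f t ∈ S'
      · have hg : ptVal G (ptMk G (τ ≫ f) (hh τ hτ)) = f t := by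
          rw [ptVal_ptMk, Scheme.Hom.comp_apply, hτt]
        obtain ⟨z₀, hz₀Z, hz₀W⟩ := inter_preimage_rtr_nonempty G h₀ he
          (ptMk G (τ ≫ f) (hh τ hτ)) (W' := (W' : Set G.left))
          (by rw [hg]; exact hcomp _ ⟨⟨t, rfl⟩, hts⟩)
        rw [← hj3] at hz₀Z
        obtain ⟨y₀, rfl⟩ := hz₀Z
        obtain ⟨y, hy⟩ := hsurj y₀
        refine ⟨fibreMap (j ≫ G.hom) a τ hτ y, ?_, ?_⟩
        · rw [hΩdef]
          left
          show mulMap G j a f hf (fibreMap (j ≫ G.hom) a τ hτ y) ∈ W'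
          rw [app_eq (fibreMap_mulMap G j a f hf τ hτ (hh τ hτ)) y, Scheme.Hom.comp_apply,
            Scheme.Hom.comp_apply, hy]
          exact hz₀W
        · show pullback.snd (j ≫ G.hom) a (fibreMap (j ≫ G.hom) a τ hτ y) = t
          rw [hsnd, hτt]
      · obtain ⟨y₀⟩ : Nonempty X₀ := inferInstance
        obtain ⟨y, -⟩ := hsurj y₀
        refine ⟨fibreMap (j ≫ G.hom) a τ hτ y, ?_, ?_⟩
        · rw [hΩdef]
          right
          show f (pullback.snd (j ≫ G.hom) a (fibreMap (j ≫ G.hom) a τ hτ y)) ∉ S'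
          rw [hsnd, hτt]
          exact hts
        · show pullback.snd (j ≫ G.hom) a (fibreMap (j ≫ G.hom) a τ hτ y) = t
          rw [hsnd, hτt]
    obtain ⟨N, hNo, ⟨n, hn⟩, hNΩ⟩ :=
      exists_open_preimage_subset (j ≫ G.hom) a hcl hsec Ω hΩ hne
    obtain ⟨O, hO, hON⟩ := j.isEmbedding.isInducing.isOpen_iff.1 hNo
    obtain ⟨z, hzZ, hzO⟩ := exists_rational_mem G hrat
      (isClosed_of_mem_irreducibleComponents _ h₀) hO
      ⟨j n, hj3 ▸ ⟨n, rfl⟩, by rw [← hON] at hn; exact hn⟩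
    rw [← hj3] at hzZ
    obtain ⟨n', hn'⟩ := hzZ
    have hn'N : n' ∈ N := by
      rw [← hON]
      show j n' ∈ O
      rw [hn']
      exact hzO
    refine ⟨z, ?_⟩
    rintro _ ⟨⟨t, rfl⟩, hts⟩
    obtain ⟨τ, hτ, hτt⟩ := hsec t
    obtain ⟨y, hy⟩ := hsurj n'
    have hp : fibreMap (j ≫ G.hom) a τ hτ y ∈ Ω := by
      apply hNΩ
      show pullback.fst (j ≫ G.hom) a (fibreMap (j ≫ G.hom) a τ hτ y) ∈ N
      rw [app_eq (fibreMap_fst (j ≫ G.hom) a τ hτ) y, hy]
      exact hn'N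
    rw [hΩdef] at hp
    rcases hp with hp | hp
    · have h1 : mulMap G j a f hf (fibreMap (j ≫ G.hom) a τ hτ y) ∈ W' := hp
      rw [app_eq (fibreMap_mulMap G j a f hf τ hτ (hh τ hτ)) y, Scheme.Hom.comp_apply,
        Scheme.Hom.comp_apply, hy, hn', ← ltr_ptVal, ptVal_ptMk, Scheme.Hom.comp_apply, hτt] at h1
      exact h1
    · exfalso
      have h1 : f (pullback.snd (j ≫ G.hom) a (fibreMap (j ≫ G.hom) a τ hτ y)) ∉ S' := hp
      rw [hsnd, hτt] at h1
      exact h1 hts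

end assembly

end Groth.Agent.Lib.Helper72.GrpConn
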