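import Groth.Agent.Lib.Helper72.OrbitLC

/-!
# Translations by points with values in an extension, and orbits over arbitrary fields

For an action `a` of a group object `G` on `X` in `Over S` and a `K`-valued point `g : K ⟶ G`,
we construct the translations `Lk g : G ⊗ K ⟶ G ⊗ K` and `Tk a g : X ⊗ K ⟶ X ⊗ K` over `K`.
They are automorphisms, intertwined by `a.orbitMap x ▷ K`.  Taking `K = Spec Ω` for an algebraic
closure `Ω` of the base field `k` shows that the base change of an orbit map to `Ω` is
homogeneous; since `X_Ω → X` is surjective and open this gives that orbits are locally closed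
over an arbitrary field.
-/

set_option autoImplicit false

universe u

open CategoryTheory MonoidalCategory CartesianMonoidalCategory MonObj GrpObj AlgebraicGeometry
  CategoryTheory.Limits Topology

namespace Groth.Agent.Lib.Helper72.OrbitK

section General

variable {S : Scheme.{u}} {G X K : Over S} [GrpObj G] (a : AlgGrp.Action G X)

/-- Left translation of `G ⊗ K` by a `K`-valued point of `G`. -/
noncomputable def Lk (g : K ⟶ G) : G ⊗ K ⟶ G ⊗ K := lift ((snd G K ≫ g) * fst G K) (snd G K)

/-- Translation of `X ⊗ K` by a `K`-valued point of `G`. -/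
noncomputable def Tk (g : K ⟶ G) : X ⊗ K ⟶ X ⊗ K :=
  lift (lift (snd X K ≫ g) (fst X K) ≫ a.act) (snd X K)

@[reassoc (attr := simp)]
lemma Lk_fst (g : K ⟶ G) : Lk g ≫ fst G K = (snd G K ≫ g) * fst G K := lift_fst _ _

@[reassoc (attr := simp)]
lemma Lk_snd (g : K ⟶ G) : Lk g ≫ snd G K = snd G K := lift_snd _ _

@[reassoc (attr := simp)]
lemma Tk_fst (g : K ⟶ G) : Tk a g ≫ fst X K = lift (snd X K ≫ g) (fst X K) ≫ a.act := lift_fst _ _

@[reassoc (attr := simp)]
lemma Tk_snd (g : K ⟶ G) : Tk a g ≫ snd X K = snd X K := lift_snd _ _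

lemma Lk_comp (g h : K ⟶ G) : Lk g ≫ Lk h = Lk (h * g) := by
  apply CartesianMonoidalCategory.hom_ext
  · rw [Category.assoc, Lk_fst, comp_mul, Lk_snd_assoc, Lk_fst, Lk_fst, comp_mul, _root_.mul_assoc]
  · rw [Category.assoc, Lk_snd, Lk_snd, Lk_snd]

lemma Lk_one : Lk (1 : K ⟶ G) = 𝟙 (G ⊗ K) := by
  apply CartesianMonoidalCategory.hom_ext
  · rw [Lk_fst, comp_one, _root_.one_mul, Category.id_comp]
  · rw [Lk_snd, Category.id_comp]

lemma Tk_comp (g h : K ⟶ G) : Tk a g ≫ Tk a h = Tk a (h * g) := by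
  apply CartesianMonoidalCategory.hom_ext
  · rw [Category.assoc, Tk_fst, comp_lift_assoc, Tk_snd_assoc, Tk_fst, Tk_fst, comp_mul,
      a.lift_mul_act]
  · rw [Category.assoc, Tk_snd, Tk_snd, Tk_snd]

lemma Tk_one : Tk a (1 : K ⟶ G) = 𝟙 (X ⊗ K) := by
  apply CartesianMonoidalCategory.hom_ext
  · rw [Tk_fst, comp_one, a.lift_one_act, Category.id_comp]
  · rw [Tk_snd, Category.id_comp]

/-- `Lk g` as an automorphism. -/
noncomputable def LkIso (g : K ⟶ G) : G ⊗ K ≅ G ⊗ K where
  hom := Lk g
  inv := Lk g⁻¹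
  hom_inv_id := by rw [Lk_comp, inv_mul_cancel, Lk_one]
  inv_hom_id := by rw [Lk_comp, mul_inv_cancel, Lk_one]

/-- `Tk a g` as an automorphism. -/
noncomputable def TkIso (g : K ⟶ G) : X ⊗ K ≅ X ⊗ K where
  hom := Tk a g
  inv := Tk a g⁻¹
  hom_inv_id := by rw [Tk_comp, inv_mul_cancel, Tk_one]
  inv_hom_id := by rw [Tk_comp, mul_inv_cancel, Tk_one]

instance (g : K ⟶ G) : IsIso (Lk g).left :=
  ((Over.forget _).mapIso (LkIso g)).isIso_hom

instance (g : K ⟶ G) : IsIso (Tk a g).left :=
  ((Over.forget _).mapIso (TkIso a g)).isIso_hom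

/-- Orbit maps intertwine the two translations. -/
lemma orbitMap_Tk (g : K ⟶ G) (x : 𝟙_ (Over S) ⟶ X) :
    (a.orbitMap x ▷ K) ≫ Tk a g = Lk g ≫ (a.orbitMap x ▷ K) := by
  apply CartesianMonoidalCategory.hom_ext
  · rw [Category.assoc, Tk_fst, comp_lift_assoc, whiskerRight_snd_assoc, whiskerRight_fst,
      Category.assoc, whiskerRight_fst, Lk_fst_assoc, a.comp_orbitMap, a.comp_orbitMap,
      a.lift_mul_act]
  · rw [Category.assoc, Tk_snd, whiskerRight_snd, Category.assoc, whiskerRight_snd, Lk_snd]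

/-- The effect of `Lk g` on sections over `K`. -/
lemma section_Lk (c g : K ⟶ G) : lift c (𝟙 K) ≫ Lk g = lift (g * c) (𝟙 K) := by
  apply CartesianMonoidalCategory.hom_ext
  · rw [Category.assoc, Lk_fst, comp_mul, lift_snd_assoc, lift_fst, lift_fst, Category.id_comp]
  · rw [Category.assoc, Lk_snd, lift_snd, lift_snd]

end General

section Field

variable {k : Type u} [Field k] (G X : Over (Spec (CommRingCat.of k))) [GrpObj G]
  [LocallyOfFiniteType G.hom] [QuasiCompact G.hom] [LocallyOfFiniteType X.hom]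
  [QuasiCompact X.hom] (a : AlgGrp.Action G X) (x : 𝟙_ (Over (Spec (CommRingCat.of k))) ⟶ X)
  (Ω : Type u) [Field Ω] [Algebra k Ω] [IsAlgClosed Ω]

/-- `Spec Ω` as an object over `Spec k`. -/
noncomputable abbrev KK : Over (Spec (CommRingCat.of k)) :=
  Over.mk (Spec.map (CommRingCat.ofHom (algebraMap k Ω)))

instance : LocallyOfFiniteType (snd G (KK (k := k) Ω)).left := by
  rw [Over.snd_left]; infer_instance

instance : QuasiCompact (snd G (KK (k := k) Ω)).left := by
  rw [Over.snd_left]; infer_instance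

omit [GrpObj G] [QuasiCompact G.hom] in
/-- Closed points of the base change to `Ω` are sections. -/
lemma exists_section (c : (G ⊗ KK (k := k) Ω).left)
    (hc : IsClosed ({c} : Set (G ⊗ KK (k := k) Ω).left)) :
    ∃ g : KK (k := k) Ω ⟶ G,
      (lift g (𝟙 (KK (k := k) Ω))).left (IsLocalRing.closedPoint Ω) = c := by
  have hσ := pointOfClosedPoint_comp (K := Ω) (snd G (KK (k := k) Ω)).left c hc
  have hw : pointOfClosedPoint (K := Ω) (snd G (KK (k := k) Ω)).left c hc ≫
      (G ⊗ KK (k := k) Ω).hom = (KK (k := k) Ω).hom := by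
    rw [← Over.w (snd G (KK (k := k) Ω)), reassoc_of% hσ]
  let s : KK (k := k) Ω ⟶ G ⊗ KK (k := k) Ω := Over.homMk _ hw
  have hs2 : s ≫ snd G (KK (k := k) Ω) = 𝟙 _ := by
    ext1
    exact hσ
  have hs : lift (s ≫ fst G (KK (k := k) Ω)) (𝟙 (KK (k := k) Ω)) = s := by
    apply CartesianMonoidalCategory.hom_ext
    · rw [lift_fst]
    · rw [lift_snd, hs2]
  refine ⟨s ≫ fst G (KK (k := k) Ω), ?_⟩
  rw [hs]
  exact pointOfClosedPoint_apply (K := Ω) (snd G (KK (k := k) Ω)).left c hc _

/-- The base change of an orbit map to an algebraically closed extension is homogeneous. -/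
theorem homog_whisker :
    OrbitDim.Homog (k := Ω) (snd G (KK (k := k) Ω)).left (snd X (KK (k := k) Ω)).left
      (a.orbitMap x ▷ KK (k := k) Ω).left := by
  intro c v hc hv
  obtain ⟨gc, rfl⟩ := exists_section G Ω c hc
  obtain ⟨gv, rfl⟩ := exists_section G Ω v hv
  refine ⟨(Lk (gv * gc⁻¹)).left, (Tk a (gv * gc⁻¹)).left, inferInstance, inferInstance,
    ?_, ?_, ?_, ?_⟩
  · rw [← Over.comp_left, Lk_snd]
  · rw [← Over.comp_left, Tk_snd]
  · rw [← Over.comp_left, ← Over.comp_left, orbitMap_Tk]
  · have h1 := section_Lk gc (gv * gc⁻¹)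
    rw [inv_mul_cancel_right] at h1
    have h2 := congrArg CommaMorphism.left h1
    exact GrpGen.app_eq (h2 : (lift gc (𝟙 _)).left ≫ (Lk (gv * gc⁻¹)).left =
      (lift gv (𝟙 _)).left) _

omit [GrpObj G] [LocallyOfFiniteType G.hom] [QuasiCompact G.hom] [LocallyOfFiniteType X.hom]
  [QuasiCompact X.hom] [IsAlgClosed Ω] in
/-- The image of the base change of a morphism is the preimage of the image. -/
lemma range_whisker (α : G ⟶ X) :
    Set.range (α ▷ KK (k := k) Ω).left =
      (fst X (KK (k := k) Ω)).left ⁻¹' Set.range α.left := by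
  have t : IsPullback (snd X (KK (k := k) Ω)).left (fst X (KK (k := k) Ω)).left
      (KK (k := k) Ω).hom X.hom := (IsPullback.of_hasPullback X.hom (KK (k := k) Ω).hom).flip
  have s0 : IsPullback (snd G (KK (k := k) Ω)).left (fst G (KK (k := k) Ω)).left
      (KK (k := k) Ω).hom G.hom := (IsPullback.of_hasPullback G.hom (KK (k := k) Ω).hom).flip
  have e1 : (α ▷ KK (k := k) Ω).left ≫ (snd X (KK (k := k) Ω)).left =
      (snd G (KK (k := k) Ω)).left := by
    rw [← Over.comp_left, whiskerRight_snd]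
  have e2 : α.left ≫ X.hom = G.hom := Over.w α
  have p : (α ▷ KK (k := k) Ω).left ≫ (fst X (KK (k := k) Ω)).left =
      (fst G (KK (k := k) Ω)).left ≫ α.left := by
    rw [← Over.comp_left, ← Over.comp_left, whiskerRight_fst]
  rw [← e1, ← e2] at s0
  have h := (IsPullback.of_right s0 p t).flip
  have := Scheme.image_preimage_eq_of_isPullback h Set.univ
  rw [Set.preimage_univ, Set.image_univ, Set.image_univ] at this
  exact this

/-- **Orbits are locally closed** (over an arbitrary field). -/
theorem isLocallyClosed_range_orbitMap :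
    IsLocallyClosed (Set.range (a.orbitMap x).left.base) := by
  let Ω := AlgebraicClosure k
  have hα : (a.orbitMap x ▷ KK (k := k) Ω).left ≫ (snd X (KK (k := k) Ω)).left =
      (snd G (KK (k := k) Ω)).left := by
    rw [← Over.comp_left, whiskerRight_snd]
  have h1 := OrbitLC.isLocallyClosed_range (k := Ω) (snd G (KK (k := k) Ω)).left
    (snd X (KK (k := k) Ω)).left (a.orbitMap x ▷ KK (k := k) Ω).left hα
    (homog_whisker G X a x Ω)
  rw [range_whisker] at h1
  have hsurj : Function.Surjective (fst X (KK (k := k) Ω)).left := by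
    have hK : Surjective (KK (k := k) Ω).hom := by
      constructor
      intro y
      exact ⟨IsLocalRing.closedPoint Ω,
        Subsingleton.elim (α := ↥(Spec (CommRingCat.of k))) _ _⟩
    have : Surjective (fst X (KK (k := k) Ω)).left := by
      rw [Over.fst_left]; infer_instance
    exact (fst X (KK (k := k) Ω)).left.surjective
  have hopen : IsOpenMap (fst X (KK (k := k) Ω)).left := by
    have : UniversallyOpen (fst X (KK (k := k) Ω)).left := by
      rw [Over.fst_left]; infer_instance
    exact (fst X (KK (k := k) Ω)).left.isOpenMap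
  have hcont : Continuous (fst X (KK (k := k) Ω)).left := (fst X (KK (k := k) Ω)).left.continuous
  have hq := hopen.isQuotientMap hcont hsurj
  rw [isLocallyClosed_iff_isOpen_coborder, coborder_preimage hopen hcont,
    hq.isOpen_preimage] at h1
  exact isLocallyClosed_iff_isOpen_coborder.mpr h1

end Field

end Groth.Agent.Lib.Helper72.OrbitK
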