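import Mathlib.LinearAlgebra.TensorProduct.Basis
import Mathlib.RingTheory.TensorProduct.Basic
import Mathlib.Algebra.Ring.Subring.Basic
import Mathlib.LinearAlgebra.Basis.Basic

set_option autoImplicit false

universe u

namespace Groth.Agent.Lib.Helper72.GrpdBasis

open TensorProduct

section

variable {A B : Type u} [CommRing A] [CommRing B] (s t : A →+* B) (e : B →+* A)
  (hes : ∀ a, e (s a) = a) (het : ∀ a, e (t a) = a)
  {BB : Type u} [CommRing BB] (ιL ιR c' : B →+* BB)
  (h1 : ∀ a, ιL (s a) = ιR (t a)) (h2 : ∀ a, c' (s a) = ιR (s a)) (h3 : ∀ a, c' (t a) = ιL (t a))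
  {I : Type u} (x : I → A)
  (h4 : ∀ f : I →₀ B, (f.sum fun i y => ιL (t (x i)) * ιR y) = 0 → f = 0)

include h1 h2 h3 h4 in
/-- The coefficients of `t a` in the basis `t (x i)` are invariant. -/
theorem coeff_mem (b : letI := s.toAlgebra; Module.Basis I A B)
    (hb : ∀ i, (letI := s.toAlgebra; b i) = t (x i)) (a : A) (i : I) :
    s ((letI := s.toAlgebra; b.repr (t a)) i) = t ((letI := s.toAlgebra; b.repr (t a)) i) := by
  letI := s.toAlgebra
  set f := b.repr (t a) with hf
  have hta : t a = f.sum fun i r => s r * t (x i) := by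
    have := b.linearCombination_repr (t a)
    rw [Finsupp.linearCombination_apply] at this
    rw [← this]
    refine Finsupp.sum_congr fun i _ => ?_
    rw [hb i]; rfl
  have e1 : c' (t a) = f.sum fun i r => ιR (s r) * ιL (t (x i)) := by
    conv_lhs => rw [hta]
    rw [map_finsuppSum]
    refine Finsupp.sum_congr fun i _ => ?_
    rw [map_mul, h2, h3]
  have e2 : c' (t a) = f.sum fun i r => ιR (t r) * ιL (t (x i)) := by
    rw [h3]
    conv_lhs => rw [hta]
    rw [map_finsuppSum]
    refine Finsupp.sum_congr fun i _ => ?_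
    rw [map_mul, h1]
  let g : I →₀ B := f.mapRange (fun r => s r - t r) (by simp)
  have hg : g = 0 := by
    apply h4
    rw [Finsupp.sum_mapRange_index (by intro i; simp)]
    have : (f.sum fun i r => ιL (t (x i)) * ιR (s r - t r)) =
        (f.sum fun i r => ιR (s r) * ιL (t (x i))) - f.sum fun i r => ιR (t r) * ιL (t (x i)) := by
      rw [← Finsupp.sum_sub]
      refine Finsupp.sum_congr fun i _ => ?_
      rw [map_sub]; ring
    rw [this, ← e1, ← e2, sub_self]
  have := DFunLike.congr_fun hg i
  simpa [g, sub_eq_zero] using this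

include hes het h1 h2 h3 h4 in
theorem main (b : letI := s.toAlgebra; Module.Basis I A B)
    (hb : ∀ i, (letI := s.toAlgebra; b i) = t (x i)) :
    (∃ b' : Module.Basis I (RingHom.eqLocus s t) A, ∀ i, b' i = x i) ∧
    (letI := (s.comp (RingHom.eqLocus s t).subtype).toAlgebra
     ∀ φ : A ⊗[RingHom.eqLocus s t] A →ₗ[RingHom.eqLocus s t] B,
      (∀ a a' : A, φ (a ⊗ₜ[RingHom.eqLocus s t] a') = t a * s a') → Function.Bijective φ) := by
  letI := s.toAlgebra
  have hC : ∀ c : RingHom.eqLocus s t, s c = t c := fun c => c.2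
  have hsm : ∀ (a : A) (y : B), a • y = s a * y := fun a y => rfl
  have hli : LinearIndependent (RingHom.eqLocus s t) x := by
    rw [linearIndependent_iff']
    intro S g hg i hi
    have h5 : ∑ i ∈ S, (g i : A) • b i = 0 := by
      have := congrArg t hg
      rw [map_sum, map_zero] at this
      rw [← this]
      refine Finset.sum_congr rfl fun j _ => ?_
      rw [Subring.smul_def, smul_eq_mul, map_mul, ← hC, hb, hsm]
    have := linearIndependent_iff'.1 b.linearIndependent S (fun i => (g i : A)) h5 i hi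
    exact Subtype.ext this
  have hsp : ⊤ ≤ Submodule.span (RingHom.eqLocus s t) (Set.range x) := by
    intro a _
    have hmem : ∀ i, (b.repr (t a)) i ∈ RingHom.eqLocus s t := fun i =>
      coeff_mem s t ιL ιR c' h1 h2 h3 x h4 b hb a i
    have ha : a = (b.repr (t a)).sum fun i r => r * x i := by
      have := b.linearCombination_repr (t a)
      rw [Finsupp.linearCombination_apply] at this
      have h6 := congrArg e this
      rw [het, map_finsuppSum e] at h6
      refine h6.symm.trans (Finsupp.sum_congr fun i _ => ?_)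
      rw [hsm, map_mul, hes, hb, het]
    rw [ha]
    refine Submodule.sum_mem _ fun i _ => ?_
    have : (b.repr (t a)) i * x i = (⟨(b.repr (t a)) i, hmem i⟩ : RingHom.eqLocus s t) • x i := rfl
    show (b.repr (t a)) i * x i ∈ _
    rw [this]
    exact Submodule.smul_mem _ _ (Submodule.subset_span ⟨i, rfl⟩)
  refine ⟨⟨Module.Basis.mk hli hsp, fun i => Module.Basis.mk_apply hli hsp i⟩, ?_⟩
  letI := (s.comp (RingHom.eqLocus s t).subtype).toAlgebra
  intro φ hφ
  constructor
  · rw [injective_iff_map_eq_zero]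
    intro z hz
    obtain ⟨f, rfl⟩ := TensorProduct.eq_repr_basis_left (Module.Basis.mk hli hsp) z
    rw [map_finsuppSum] at hz
    have hf : f = 0 := by
      apply linearIndependent_iff.1 b.linearIndependent
      rw [Finsupp.linearCombination_apply, ← hz]
      refine Finsupp.sum_congr fun i _ => ?_
      rw [Module.Basis.mk_apply, hφ, hb, mul_comm, hsm]
    rw [hf]
    simp
  · intro y
    refine ⟨(b.repr y).sum fun i a => x i ⊗ₜ a, ?_⟩
    rw [map_finsuppSum]
    conv_rhs => rw [← b.linearCombination_repr y, Finsupp.linearCombination_apply]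
    refine Finsupp.sum_congr fun i _ => ?_
    rw [hφ, hb, mul_comm, hsm]

end

end Groth.Agent.Lib.Helper72.GrpdBasis

namespace Groth.Agent.Lib.Helper72.GrpdBasis

open TensorProduct

/-- a copy of a ring, used to carry a second algebra structure. -/
def RC (B : Type u) : Type u := B

instance (B : Type u) [CommRing B] : CommRing (RC B) := inferInstanceAs (CommRing B)

theorem tensor_data {A B B' : Type u} [CommRing A] [CommRing B] [CommRing B'] [Algebra A B]
    [Algebra A B'] {I : Type u} (b : Module.Basis I A B) :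
    (∀ a : A, (Algebra.TensorProduct.includeLeftRingHom : B →+* B ⊗[A] B') (algebraMap A B a) =
      (Algebra.TensorProduct.includeRight : B' →ₐ[A] B ⊗[A] B') (algebraMap A B' a)) ∧
    ∀ f : I →₀ B', (f.sum fun i y =>
      ((Algebra.TensorProduct.includeLeftRingHom : B →+* B ⊗[A] B') (b i)) *
        (Algebra.TensorProduct.includeRight : B' →ₐ[A] B ⊗[A] B') y) = 0 → f = 0 := by
  constructor
  · intro a
    simp only [Algebra.TensorProduct.includeLeftRingHom_apply,
      Algebra.TensorProduct.includeRight_apply]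
    rw [Algebra.algebraMap_eq_smul_one, Algebra.algebraMap_eq_smul_one, TensorProduct.smul_tmul]
  · intro f hf
    apply TensorProduct.sum_tmul_basis_left_eq_zero b f
    rw [← hf]
    refine Finsupp.sum_congr fun i _ => ?_
    simp

theorem main' {A B : Type u} [CommRing A] [CommRing B] (s t : A →+* B) (e : B →+* A)
    (hes : ∀ a, e (s a) = a) (het : ∀ a, e (t a) = a) {I : Type u} (x : I → A)
    (hc : ∀ (BB : Type u) [CommRing BB] (ιL ιR : B →+* BB), (∀ a, ιL (s a) = ιR (t a)) →
      ∃ c' : B →+* BB, (∀ a, c' (s a) = ιR (s a)) ∧ (∀ a, c' (t a) = ιL (t a)))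
    (b : letI := s.toAlgebra; Module.Basis I A B)
    (hb : ∀ i, (letI := s.toAlgebra; b i) = t (x i)) :
    (∃ b' : Module.Basis I (RingHom.eqLocus s t) A, ∀ i, b' i = x i) ∧
    (letI := (s.comp (RingHom.eqLocus s t).subtype).toAlgebra
     ∀ φ : A ⊗[RingHom.eqLocus s t] A →ₗ[RingHom.eqLocus s t] B,
      (∀ a a' : A, φ (a ⊗ₜ[RingHom.eqLocus s t] a') = t a * s a') → Function.Bijective φ) := by
  letI algS : Algebra A B := s.toAlgebra
  letI algT : Algebra A (RC B) := RingHom.toAlgebra (show A →+* RC B from t)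
  obtain ⟨h1, h4⟩ := tensor_data (A := A) (B := B) (B' := RC B) b
  let ιL : B →+* B ⊗[A] RC B := Algebra.TensorProduct.includeLeftRingHom
  let ιR : B →+* B ⊗[A] RC B :=
    (Algebra.TensorProduct.includeRight : RC B →ₐ[A] B ⊗[A] RC B).toRingHom
  obtain ⟨c', h2, h3⟩ := hc (B ⊗[A] RC B) ιL ιR h1
  refine main s t e hes het ιL ιR c' h1 h2 h3 x ?_ b hb
  intro f hf
  apply h4 f
  rw [← hf]
  refine Finsupp.sum_congr fun i _ => ?_
  rw [hb i]
  rfl

end Groth.Agent.Lib.Helper72.GrpdBasis
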