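import Groth.Agent.Lib.Helper72.GrpComp

/-!
# Irreducible components of a groupoid scheme over a field

Port of `GrpComp` to groupoid schemes `(U, R, s, t, c)` with `U` the spectrum of a field: every point
of `R` lies on exactly one irreducible component.  The argument uses the two-sided restriction of
the groupoid along `Spec K ⟶ U` (only its unital structure is needed) and translations.
-/

set_option autoImplicit false

universe u

namespace Groth.Agent.Lib.Helper72.GrpdComp

open AlgebraicGeometry CategoryTheory CategoryTheory.Limits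

/-- A "unital magmoid" on the spectrum of a field: source, target, identity and a composition
satisfying only the two unit laws (on `T`-points). -/
structure UMag (K : Type u) [Field K] where
  /-- arrows -/
  R : Scheme.{u}
  /-- source -/
  s : R ⟶ Spec (CommRingCat.of K)
  /-- target -/
  t : R ⟶ Spec (CommRingCat.of K)
  /-- identity -/
  e : Spec (CommRingCat.of K) ⟶ R
  /-- composition -/
  c : pullback s t ⟶ R
  e_s : e ≫ s = 𝟙 _
  e_t : e ≫ t = 𝟙 _
  comp_e : ∀ {T : Scheme.{u}} (α : T ⟶ R),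
    pullback.lift α (α ≫ s ≫ e)
      (by rw [Category.assoc, Category.assoc, e_t, Category.comp_id]) ≫ c = α
  e_comp : ∀ {T : Scheme.{u}} (α : T ⟶ R),
    pullback.lift (α ≫ t ≫ e) α
      (by rw [Category.assoc, Category.assoc, e_s, Category.comp_id]) ≫ c = α

namespace UMag

variable {K : Type u} [Field K] (M : UMag K)

/-- The identity point. -/
noncomputable def ePt : M.R := M.e (IsLocalRing.closedPoint K)

lemma range_e : Set.range M.e = {M.ePt} := by
  ext z
  constructor
  · rintro ⟨p, rfl⟩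
    have : p = IsLocalRing.closedPoint K := Subsingleton.elim (α := PrimeSpectrum K) _ _
    rw [this]; rfl
  · rintro rfl
    exact ⟨_, rfl⟩

set_option backward.isDefEq.respectTransparency false in
theorem eq_of_mem_of_isSepClosed [IsSepClosed K] {Z₁ Z₂ : Set M.R}
    (h₁ : Z₁ ∈ irreducibleComponents M.R) (h₂ : Z₂ ∈ irreducibleComponents M.R)
    (he₁ : M.ePt ∈ Z₁) (he₂ : M.ePt ∈ Z₂) : Z₁ = Z₂ := by
  obtain ⟨Y₁, j₁, hj₁, hred₁, hr₁, hl₁⟩ :=
    GrpComp.exists_reduced_closedSubscheme Z₁ (isClosed_of_mem_irreducibleComponents Z₁ h₁)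
  obtain ⟨Y₂, j₂, hj₂, hred₂, hr₂, hl₂⟩ :=
    GrpComp.exists_reduced_closedSubscheme Z₂ (isClosed_of_mem_irreducibleComponents Z₂ h₂)
  have : IrreducibleSpace Y₁ := GrpComp.irreducibleSpace_of_range j₁ (hr₁ ▸ h₁.1)
  have : IrreducibleSpace Y₂ := GrpComp.irreducibleSpace_of_range j₂ (hr₂ ▸ h₂.1)
  obtain ⟨e₁, he₁'⟩ := hl₁ M.e (by rw [range_e]; exact Set.singleton_subset_iff.2 he₁)
  obtain ⟨e₂, he₂'⟩ := hl₂ M.e (by rw [range_e]; exact Set.singleton_subset_iff.2 he₂)
  have : GeometricallyIrreducible (j₁ ≫ M.s) :=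
    Groth.Agent.Lib.Helper51.geometricallyIrreducible_of_isSepClosed _
  have : IrreducibleSpace ↥(pullback (j₁ ≫ M.s) (j₂ ≫ M.t)) := inferInstance
  let φ : pullback (j₁ ≫ M.s) (j₂ ≫ M.t) ⟶ M.R :=
    pullback.map (j₁ ≫ M.s) (j₂ ≫ M.t) M.s M.t j₁ j₂ (𝟙 _) (by simp) (by simp) ≫ M.c
  have hT : IsIrreducible (closure (Set.range φ)) := by
    rw [← Set.image_univ]
    exact ((IrreducibleSpace.isIrreducible_univ _).image φ φ.continuous.continuousOn).closure
  have hsub₁ : Z₁ ⊆ closure (Set.range φ) := by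
    refine subset_trans ?_ subset_closure
    rw [← hr₁]
    rintro _ ⟨y, rfl⟩
    have hc : 𝟙 Y₁ ≫ j₁ ≫ M.s = ((j₁ ≫ M.s) ≫ e₂) ≫ j₂ ≫ M.t := by
      rw [Category.id_comp, Category.assoc (j₁ ≫ M.s), reassoc_of% he₂', M.e_t]
      exact (Category.comp_id _).symm
    have hs : pullback.lift (𝟙 Y₁) ((j₁ ≫ M.s) ≫ e₂) hc ≫ φ = j₁ := by
      have h3 : pullback.lift (𝟙 Y₁) ((j₁ ≫ M.s) ≫ e₂) hc ≫
          pullback.map (j₁ ≫ M.s) (j₂ ≫ M.t) M.s M.t j₁ j₂ (𝟙 _) (by simp) (by simp) =
          pullback.lift j₁ (j₁ ≫ M.s ≫ M.e)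
            (by rw [Category.assoc, Category.assoc, M.e_t, Category.comp_id]) := by
        apply pullback.hom_ext
        · simp <;> exact Category.id_comp _
        · simp [he₂']
      show pullback.lift (𝟙 Y₁) ((j₁ ≫ M.s) ≫ e₂) hc ≫ (_ ≫ _) = _
      rw [← Category.assoc, h3]
      exact M.comp_e j₁
    exact ⟨pullback.lift (𝟙 Y₁) ((j₁ ≫ M.s) ≫ e₂) hc y, by
      rw [← Scheme.Hom.comp_apply, hs]⟩
  have hsub₂ : Z₂ ⊆ closure (Set.range φ) := by
    refine subset_trans ?_ subset_closure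
    rw [← hr₂]
    rintro _ ⟨y, rfl⟩
    have hc : ((j₂ ≫ M.t) ≫ e₁) ≫ j₁ ≫ M.s = 𝟙 Y₂ ≫ j₂ ≫ M.t := by
      rw [Category.id_comp, Category.assoc (j₂ ≫ M.t), reassoc_of% he₁', M.e_s]
      exact Category.comp_id _
    have hs : pullback.lift ((j₂ ≫ M.t) ≫ e₁) (𝟙 Y₂) hc ≫ φ = j₂ := by
      have h3 : pullback.lift ((j₂ ≫ M.t) ≫ e₁) (𝟙 Y₂) hc ≫
          pullback.map (j₁ ≫ M.s) (j₂ ≫ M.t) M.s M.t j₁ j₂ (𝟙 _) (by simp) (by simp) =
          pullback.lift (j₂ ≫ M.t ≫ M.e) j₂
            (by rw [Category.assoc, Category.assoc, M.e_s, Category.comp_id]) := by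
        apply pullback.hom_ext
        · simp [he₁']
        · simp <;> exact Category.id_comp _
      show pullback.lift ((j₂ ≫ M.t) ≫ e₁) (𝟙 Y₂) hc ≫ (_ ≫ _) = _
      rw [← Category.assoc, h3]
      exact M.e_comp j₂
    exact ⟨pullback.lift ((j₂ ≫ M.t) ≫ e₁) (𝟙 Y₂) hc y, by
      rw [← Scheme.Hom.comp_apply, hs]⟩
  exact le_antisymm (hsub₁.trans (h₂.2 hT hsub₂)) (hsub₂.trans (h₁.2 hT hsub₁))

end UMag

section restr

variable {S : Scheme.{u}} (G : Grpd.GroupoidScheme S) {K : Type u} [Field K]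
  (u : Spec (CommRingCat.of K) ⟶ G.U)

/-- The two-sided restriction `Spec K ×_{U,t} R ×_{s,U} Spec K`. -/
noncomputable abbrev R₂ : Scheme.{u} := pullback (pullback.fst G.s u ≫ G.t) u

/-- projection to `R`. -/
noncomputable def rπ : R₂ G u ⟶ G.R := pullback.fst _ _ ≫ pullback.fst _ _

/-- source of the restriction. -/
noncomputable def rs : R₂ G u ⟶ Spec (CommRingCat.of K) := pullback.fst _ _ ≫ pullback.snd _ _

/-- target of the restriction. -/
noncomputable def rt : R₂ G u ⟶ Spec (CommRingCat.of K) := pullback.snd _ _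

@[reassoc]
lemma rπ_s : rπ G u ≫ G.s = rs G u ≫ u := by
  simp only [rπ, rs, Category.assoc, pullback.condition]

@[reassoc]
lemma rπ_t : rπ G u ≫ G.t = rt G u ≫ u := by
  simp only [rπ, rt, Category.assoc]
  exact pullback.condition

variable {T : Scheme.{u}}

/-- `T`-points of the restriction. -/
noncomputable def rmk (r : T ⟶ G.R) (b a : T ⟶ Spec (CommRingCat.of K))
    (hs : r ≫ G.s = b ≫ u) (ht : r ≫ G.t = a ≫ u) : T ⟶ R₂ G u :=
  pullback.lift (pullback.lift r b hs) a (by rw [← Category.assoc, pullback.lift_fst, ht])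

@[reassoc (attr := simp)]
lemma rmk_π (r : T ⟶ G.R) (b a : T ⟶ Spec (CommRingCat.of K))
    (hs : r ≫ G.s = b ≫ u) (ht : r ≫ G.t = a ≫ u) : rmk G u r b a hs ht ≫ rπ G u = r := by
  unfold rmk rπ
  rw [pullback.lift_fst_assoc, pullback.lift_fst]

@[reassoc (attr := simp)]
lemma rmk_s (r : T ⟶ G.R) (b a : T ⟶ Spec (CommRingCat.of K))
    (hs : r ≫ G.s = b ≫ u) (ht : r ≫ G.t = a ≫ u) : rmk G u r b a hs ht ≫ rs G u = b := by
  unfold rmk rs
  rw [pullback.lift_fst_assoc, pullback.lift_snd]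

@[reassoc (attr := simp)]
lemma rmk_t (r : T ⟶ G.R) (b a : T ⟶ Spec (CommRingCat.of K))
    (hs : r ≫ G.s = b ≫ u) (ht : r ≫ G.t = a ≫ u) : rmk G u r b a hs ht ≫ rt G u = a := by
  unfold rmk rt
  rw [pullback.lift_snd]

lemma r_ext {α β : T ⟶ R₂ G u} (hπ : α ≫ rπ G u = β ≫ rπ G u) (hs : α ≫ rs G u = β ≫ rs G u)
    (ht : α ≫ rt G u = β ≫ rt G u) : α = β := by
  apply pullback.hom_ext
  · apply pullback.hom_ext
    · simpa only [rπ, Category.assoc] using hπ
    · simpa only [rs, Category.assoc] using hs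
  · exact ht

/-- identity of the restriction. -/
noncomputable def re : Spec (CommRingCat.of K) ⟶ R₂ G u :=
  rmk G u (u ≫ G.e) (𝟙 _) (𝟙 _) (by rw [Category.assoc, G.e_s, Category.comp_id, Category.id_comp])
    (by rw [Category.assoc, G.e_t, Category.comp_id, Category.id_comp])

lemma rc_cond : (pullback.fst (rs G u) (rt G u) ≫ rπ G u) ≫ G.s =
    (pullback.snd (rs G u) (rt G u) ≫ rπ G u) ≫ G.t := by
  rw [Category.assoc, rπ_s, Category.assoc, rπ_t, ← Category.assoc, ← Category.assoc,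
    pullback.condition]

/-- composition of the restriction. -/
noncomputable def rc : pullback (rs G u) (rt G u) ⟶ R₂ G u :=
  rmk G u (GrpdPts.mul G (pullback.fst _ _ ≫ rπ G u) (pullback.snd _ _ ≫ rπ G u) (rc_cond G u))
    (pullback.snd _ _ ≫ rs G u) (pullback.fst _ _ ≫ rt G u)
    (by rw [GrpdPts.mul_s, Category.assoc, rπ_s, Category.assoc])
    (by rw [GrpdPts.mul_t, Category.assoc, rπ_t, Category.assoc])

lemma lift_rc_π (α β : T ⟶ R₂ G u) (h : α ≫ rs G u = β ≫ rt G u)
    (h' : (α ≫ rπ G u) ≫ G.s = (β ≫ rπ G u) ≫ G.t) :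
    pullback.lift α β h ≫ rc G u ≫ rπ G u = GrpdPts.mul G (α ≫ rπ G u) (β ≫ rπ G u) h' := by
  rw [rc, rmk_π, GrpdPts.comp_mul]
  · apply GrpdPts.mul_congr
    · rw [← Category.assoc, pullback.lift_fst]
    · rw [← Category.assoc, pullback.lift_snd]
  · rw [← Category.assoc, pullback.lift_fst, ← Category.assoc, pullback.lift_snd]
    exact h'

/-- The two-sided restriction as a unital magmoid. -/
noncomputable def restr : UMag K where
  R := R₂ G u
  s := rs G u
  t := rt G u
  e := re G u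
  c := rc G u
  e_s := rmk_s ..
  e_t := rmk_t ..
  comp_e := by
    intro T α
    apply r_ext G u
    · rw [Category.assoc, lift_rc_π]
      · apply GrpdPts.mul_e
        rw [Category.assoc, Category.assoc, re, rmk_π, Category.assoc, rπ_s_assoc]
      · simp only [Category.assoc, re, rmk_π_assoc, rπ_s, G.e_t, Category.comp_id]
    · rw [Category.assoc, rc, rmk_s, pullback.lift_snd_assoc, Category.assoc, Category.assoc, re,
        rmk_s, Category.comp_id]
    · rw [Category.assoc, rc, rmk_t, pullback.lift_fst_assoc]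
  e_comp := by
    intro T α
    apply r_ext G u
    · rw [Category.assoc, lift_rc_π]
      · apply GrpdPts.e_mul
        rw [Category.assoc, Category.assoc, re, rmk_π, Category.assoc, rπ_t_assoc]
      · simp only [Category.assoc, re, rmk_π_assoc, rπ_t, G.e_s, Category.comp_id]
    · rw [Category.assoc, rc, rmk_s, pullback.lift_snd_assoc]
    · rw [Category.assoc, rc, rmk_t, pullback.lift_fst_assoc, Category.assoc, Category.assoc, re,
        rmk_t, Category.comp_id]

end restr

section key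

variable {S : Scheme.{u}} (G : Grpd.GroupoidScheme S) {K : Type u} [Field K]
  (u : Spec (CommRingCat.of K) ⟶ G.U)

/-- The identity point of the one-sided base change `R ×_{s,U} Spec K`. -/
noncomputable def eu : Spec (CommRingCat.of K) ⟶ pullback G.s u :=
  pullback.lift (u ≫ G.e) (𝟙 _)
    (by rw [Category.assoc, G.e_s, Category.comp_id, Category.id_comp])

variable {K' : Type u} [Field K'] (g : Spec (CommRingCat.of K') ⟶ Spec (CommRingCat.of K))

/-- The comparison map of one-sided base changes. -/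
noncomputable def bcMap : pullback G.s (g ≫ u) ⟶ pullback G.s u :=
  (IsPullback.of_hasPullback G.s u).lift (pullback.fst G.s (g ≫ u)) (pullback.snd G.s (g ≫ u) ≫ g)
    (by rw [pullback.condition, Category.assoc])

@[reassoc (attr := simp)]
lemma bcMap_fst : bcMap G u g ≫ pullback.fst G.s u = pullback.fst G.s (g ≫ u) :=
  (IsPullback.of_hasPullback G.s u).lift_fst _ _ _

@[reassoc (attr := simp)]
lemma bcMap_snd : bcMap G u g ≫ pullback.snd G.s u = pullback.snd G.s (g ≫ u) ≫ g :=
  (IsPullback.of_hasPullback G.s u).lift_snd _ _ _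

lemma isPullback_bcMap :
    IsPullback (bcMap G u g) (pullback.snd G.s (g ≫ u)) (pullback.snd G.s u) g :=
  IsPullback.of_right' (IsPullback.of_hasPullback G.s (g ≫ u)) (IsPullback.of_hasPullback G.s u)

instance : Flat (bcMap G u g) :=
  MorphismProperty.of_isPullback (isPullback_bcMap G u g).flip inferInstance

variable [Subsingleton G.U] [IsIntegral G.U]

/-- **Key lemma**: the one-sided base change `R ×_{s,U} Spec K` has a unique irreducible component
through its identity point. -/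
theorem eq_of_eu_mem {Z₁ Z₂ : Set ↥(pullback G.s u)}
    (h₁ : Z₁ ∈ irreducibleComponents ↥(pullback G.s u))
    (h₂ : Z₂ ∈ irreducibleComponents ↥(pullback G.s u))
    (he₁ : eu G u (IsLocalRing.closedPoint K) ∈ Z₁)
    (he₂ : eu G u (IsLocalRing.closedPoint K) ∈ Z₂) : Z₁ = Z₂ := by
  let g : Spec (CommRingCat.of (SeparableClosure K)) ⟶ Spec (CommRingCat.of K) :=
    Spec.map (CommRingCat.ofHom (algebraMap K (SeparableClosure K)))
  let p : R₂ G (g ≫ u) ⟶ pullback G.s u :=
    pullback.fst (pullback.fst G.s (g ≫ u) ≫ G.t) (g ≫ u) ≫ bcMap G u g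
  have hgen : GeneralizingMap p := Flat.generalizingMap _
  have hp : re G (g ≫ u) ≫ p = g ≫ eu G u := by
    apply pullback.hom_ext
    · have h1 : p ≫ pullback.fst G.s u = rπ G (g ≫ u) := by
        show (_ ≫ _) ≫ _ = _
        rw [Category.assoc, bcMap_fst]
        rfl
      rw [Category.assoc, h1, re, rmk_π, eu, Category.assoc, Category.assoc, pullback.lift_fst]
    · have h2 : p ≫ pullback.snd G.s u = rs G (g ≫ u) ≫ g := by
        show (_ ≫ _) ≫ _ = _
        rw [Category.assoc, bcMap_snd]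
        rfl
      rw [Category.assoc, h2, re, rmk_s_assoc, eu, Category.assoc, pullback.lift_snd,
        Category.id_comp, Category.comp_id]
  have hpt : p (re G (g ≫ u) (IsLocalRing.closedPoint (SeparableClosure K))) =
      eu G u (IsLocalRing.closedPoint K) := by
    rw [← Scheme.Hom.comp_apply, hp, Scheme.Hom.comp_apply]
    congr 1
    exact Subsingleton.elim (α := PrimeSpectrum K) _ _
  refine GrpComp.eq_of_generalizingMap p.continuous hgen
    (re G (g ≫ u) (IsLocalRing.closedPoint (SeparableClosure K)))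
    (fun W₁ hW₁ W₂ hW₂ h1 h2 =>
      (restr G (g ≫ u)).eq_of_mem_of_isSepClosed hW₁ hW₂ h1 h2) h₁ h₂ ?_ ?_
  · rw [hpt]; exact he₁
  · rw [hpt]; exact he₂

end key

section translate

variable {S : Scheme.{u}} (G : Grpd.GroupoidScheme S)
  {K : Type u} [Field K] (ρ : Spec (CommRingCat.of K) ⟶ G.R)

/-- The translation isomorphism attached to a `K`-point `ρ` of `R`. -/
noncomputable def transIso : pullback G.s (ρ ≫ G.t) ≅ pullback G.s (ρ ≫ G.s) where
  hom := GrpdPts.transHom G ρ
  inv := GrpdPts.transInv G ρ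
  hom_inv_id := GrpdPts.transHom_transInv G ρ
  inv_hom_id := GrpdPts.transInv_transHom G ρ

/-- The graph point of `ρ`. -/
noncomputable def graphS : Spec (CommRingCat.of K) ⟶ pullback G.s (ρ ≫ G.s) :=
  pullback.lift ρ (𝟙 _) (by rw [Category.id_comp])

lemma eu_eq : eu G (ρ ≫ G.t) = GrpdPts.transUnit G ρ := by
  apply pullback.hom_ext
  · rw [eu, pullback.lift_fst, GrpdPts.transUnit_fst, Category.assoc]
  · rw [eu, pullback.lift_snd, GrpdPts.transUnit_snd]

lemma eu_transIso : eu G (ρ ≫ G.t) ≫ (transIso G ρ).hom = graphS G ρ := by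
  rw [eu_eq]
  apply pullback.hom_ext
  · rw [Category.assoc]
    show _ ≫ GrpdPts.transHom G ρ ≫ pullback.fst _ _ = _
    rw [GrpdPts.transHom_fst, GrpdPts.transUnit_trans]
    exact (pullback.lift_fst _ _ _).symm
  · rw [Category.assoc]
    show _ ≫ GrpdPts.transHom G ρ ≫ pullback.snd _ _ = _
    rw [GrpdPts.transHom_snd, GrpdPts.transUnit_snd]
    exact (pullback.lift_snd _ _ _).symm

variable [Subsingleton G.U] [IsIntegral G.U]

/-- **Uniqueness of the irreducible component through any field-valued point.** -/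
theorem eq_of_point_mem {Z₁ Z₂ : Set G.R}
    (h₁ : Z₁ ∈ irreducibleComponents G.R) (h₂ : Z₂ ∈ irreducibleComponents G.R)
    (hx₁ : ρ (IsLocalRing.closedPoint K) ∈ Z₁) (hx₂ : ρ (IsLocalRing.closedPoint K) ∈ Z₂) :
    Z₁ = Z₂ := by
  have hgen : GeneralizingMap (pullback.fst G.s (ρ ≫ G.s)) := Flat.generalizingMap _
  have hpt : pullback.fst G.s (ρ ≫ G.s) (graphS G ρ (IsLocalRing.closedPoint K)) =
      ρ (IsLocalRing.closedPoint K) := by
    rw [← Scheme.Hom.comp_apply, graphS, pullback.lift_fst]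
  have hτ : (transIso G ρ).hom (eu G (ρ ≫ G.t) (IsLocalRing.closedPoint K)) =
      graphS G ρ (IsLocalRing.closedPoint K) := by
    rw [← Scheme.Hom.comp_apply, eu_transIso]
  refine GrpComp.eq_of_generalizingMap (pullback.fst G.s (ρ ≫ G.s)).continuous hgen
    (graphS G ρ (IsLocalRing.closedPoint K)) ?_ h₁ h₂ ?_ ?_
  · intro W₁ hW₁ W₂ hW₂ h1 h2
    have hemb : Topology.IsOpenEmbedding (transIso G ρ).hom :=
      (transIso G ρ).hom.homeomorph.isOpenEmbedding
    have hsurj : Function.Surjective (transIso G ρ).hom := (transIso G ρ).hom.homeomorph.surjective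
    have hW₁' := preimage_mem_irreducibleComponents hW₁ hemb
      ⟨_, h1, ⟨_, hτ⟩⟩
    have hW₂' := preimage_mem_irreducibleComponents hW₂ hemb
      ⟨_, h2, ⟨_, hτ⟩⟩
    have key := eq_of_eu_mem G (ρ ≫ G.t) hW₁' hW₂'
      (by show (transIso G ρ).hom _ ∈ W₁; rw [hτ]; exact h1)
      (by show (transIso G ρ).hom _ ∈ W₂; rw [hτ]; exact h2)
    rw [← Set.image_preimage_eq W₁ hsurj, ← Set.image_preimage_eq W₂ hsurj, key]
  · rw [hpt]; exact hx₁
  · rw [hpt]; exact hx₂

/-- Every point of `R` lies on exactly one irreducible component. -/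
theorem eq_of_mem {Z₁ Z₂ : Set G.R}
    (h₁ : Z₁ ∈ irreducibleComponents G.R) (h₂ : Z₂ ∈ irreducibleComponents G.R)
    (x : G.R) (hx₁ : x ∈ Z₁) (hx₂ : x ∈ Z₂) : Z₁ = Z₂ := by
  let ρ : Spec (CommRingCat.of (G.R.residueField x)) ⟶ G.R := G.R.fromSpecResidueField x
  have hρ : ρ (IsLocalRing.closedPoint (G.R.residueField x)) = x :=
    Scheme.fromSpecResidueField_apply _ _
  exact eq_of_point_mem G ρ h₁ h₂ (by rw [hρ]; exact hx₁) (by rw [hρ]; exact hx₂)

/-- Every local ring of `R` has at most one minimal prime. -/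
theorem minimalPrimes_subsingleton (x : G.R) :
    (minimalPrimes (G.R.presheaf.stalk x)).Subsingleton :=
  GrpComp.minimalPrimes_subsingleton_of_unique x
    fun _ h₁ _ h₂ hx₁ hx₂ => eq_of_mem G h₁ h₂ x hx₁ hx₂

end translate

end Groth.Agent.Lib.Helper72.GrpdComp
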