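import Groth.Agent.Lib.Helper72.GrpdComp
import Groth.Agent.Lib.Helper72.DimBC
import Groth.Agent.Lib.Helper72.DimLFT
import Mathlib.AlgebraicGeometry.Morphisms.Finite

/-!
# Dimension theory of a groupoid scheme locally of finite type over a field
-/

set_option autoImplicit false

universe u

namespace Groth.Agent.Lib.Helper72.GrpdDim

open AlgebraicGeometry CategoryTheory CategoryTheory.Limits IsLocalRing
open Groth.Agent.Lib.Helper72.GrpdComp

lemma app_eq {X Y Z : Scheme.{u}} {a : X ⟶ Y} {b : Y ⟶ Z} {c : X ⟶ Z} (h : a ≫ b = c) (z : X) :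
    b (a z) = c z := by
  rw [← h]; rfl

variable {S : Scheme.{u}} (G : Grpd.GroupoidScheme S) (k : Type u) [Field k]
  (eU : G.U ≅ Spec (CommRingCat.of k)) [LocallyOfFiniteType G.s]

include eU in
/-- Invariance of the local dimension under the one-sided base change along an integral
`Spec L ⟶ U`. -/
theorem localDim_pullback {L : Type u} [Field L] (w : Spec (CommRingCat.of L) ⟶ G.U)
    [IsIntegralHom w] (x' : ↥(pullback G.s w)) :
    FlatMor.localDim ↥(pullback G.s w) x' =
      FlatMor.localDim ↥G.R (pullback.fst G.s w x') := by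
  have hsub : Subsingleton G.U :=
    eU.hom.homeomorph.injective.subsingleton (β := PrimeSpectrum k)
  have hne : Nonempty G.U := ⟨eU.inv (closedPoint k)⟩
  have hint : IsIntegral G.U := isIntegral_of_isOpenImmersion eU.hom
  exact DimBC.localDim_eq_of_isOpenMap (G.s ≫ eU.hom) (pullback.snd G.s w) (pullback.fst G.s w)
    (pullback.fst G.s w).isOpenMap x'

include eU in
/-- The local dimension of `R` at a field-valued point, finite over `U` via both `s` and `t`, equals
the local dimension at the identity. -/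
theorem localDim_point_eq {L : Type u} [Field L] (ρ : Spec (CommRingCat.of L) ⟶ G.R)
    [IsIntegralHom (ρ ≫ G.s)] [IsIntegralHom (ρ ≫ G.t)] :
    FlatMor.localDim ↥G.R (ρ (closedPoint L)) =
      FlatMor.localDim ↥G.R (G.e (eU.inv (closedPoint k))) := by
  have hsub : Subsingleton G.U :=
    eU.hom.homeomorph.injective.subsingleton (β := PrimeSpectrum k)
  have h1 := localDim_pullback G k eU (ρ ≫ G.t) (eu G (ρ ≫ G.t) (closedPoint L))
  have h2 := localDim_pullback G k eU (ρ ≫ G.s) (graphS G ρ (closedPoint L))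
  have h3 := DimLFT.localDim_homeomorph (transIso G ρ).hom.homeomorph
    (eu G (ρ ≫ G.t) (closedPoint L))
  have hτ : (transIso G ρ).hom.homeomorph (eu G (ρ ≫ G.t) (closedPoint L)) =
      graphS G ρ (closedPoint L) := app_eq (eu_transIso G ρ) _
  have hp1 : pullback.fst G.s (ρ ≫ G.t) (eu G (ρ ≫ G.t) (closedPoint L)) =
      G.e (eU.inv (closedPoint k)) := by
    have e1 : eu G (ρ ≫ G.t) ≫ pullback.fst G.s (ρ ≫ G.t) = (ρ ≫ G.t) ≫ G.e :=
      pullback.lift_fst _ _ _
    rw [app_eq e1, Scheme.Hom.comp_apply]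
    congr 1
    exact Subsingleton.elim _ _
  have hp2 : pullback.fst G.s (ρ ≫ G.s) (graphS G ρ (closedPoint L)) = ρ (closedPoint L) := by
    have e2 : graphS G ρ ≫ pullback.fst G.s (ρ ≫ G.s) = ρ := pullback.lift_fst _ _ _
    exact app_eq e2 _
  exact ((congrArg (FlatMor.localDim ↥G.R) hp2).symm.trans h2.symm).trans
    (((congrArg (FlatMor.localDim _) hτ).symm.trans h3.symm).trans
      (h1.trans (congrArg (FlatMor.localDim ↥G.R) hp1)))

variable [LocallyOfFiniteType G.t]

include eU in
/-- The local dimension of `R` at a closed point equals the local dimension at the identity. -/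
theorem localDim_closed_eq (r : G.R) (hr : IsClosed ({r} : Set G.R)) :
    FlatMor.localDim ↥G.R r = FlatMor.localDim ↥G.R (G.e (eU.inv (closedPoint k))) := by
  have hjac : JacobsonSpace G.U := JacobsonSpace.of_isOpenEmbedding eU.hom.isOpenEmbedding
  obtain ⟨ρ, hρdef⟩ : ∃ ρ : Spec (CommRingCat.of (G.R.residueField r)) ⟶ G.R,
      ρ = G.R.fromSpecResidueField r := ⟨_, rfl⟩
  have hρ : ρ (closedPoint (G.R.residueField r)) = r := by
    rw [hρdef]; exact Scheme.fromSpecResidueField_apply _ _
  have hci : IsClosedImmersion ρ := by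
    rw [hρdef]; exact isClosed_singleton_iff_isClosedImmersion.mp hr
  have hfs : IsFinite (ρ ≫ G.s) :=
    isFinite_iff_locallyOfFiniteType_of_jacobsonSpace.mpr inferInstance
  have hft : IsFinite (ρ ≫ G.t) :=
    isFinite_iff_locallyOfFiniteType_of_jacobsonSpace.mpr inferInstance
  rw [← hρ]
  exact localDim_point_eq G k eU ρ

include eU in
theorem localDim_eq_dim (r : G.R) : FlatMor.localDim ↥G.R r = topologicalKrullDim ↥G.R := by
  have : Nonempty G.R := ⟨G.e (eU.inv (closedPoint k))⟩
  rw [DimLFT.dim_eq_of_forall_closed (G.s ≫ eU.hom) _ (localDim_closed_eq G k eU)]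
  exact DimLFT.localDim_eq_of_forall_closed (G.s ≫ eU.hom) _ (localDim_closed_eq G k eU) r

include eU in
theorem dim_component_eq {Z : Set G.R} (hZ : Z ∈ irreducibleComponents G.R) :
    topologicalKrullDim ↥Z = topologicalKrullDim ↥G.R := by
  have : Nonempty G.R := ⟨G.e (eU.inv (closedPoint k))⟩
  rw [DimLFT.dim_eq_of_forall_closed (G.s ≫ eU.hom) _ (localDim_closed_eq G k eU)]
  exact DimLFT.dim_component_eq_of_forall_closed (G.s ≫ eU.hom) _ (localDim_closed_eq G k eU) hZ

include eU in
theorem ringKrullDim_stalk_eq_dim (r : G.R) (hr : IsClosed ({r} : Set G.R)) :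
    ringKrullDim (G.R.presheaf.stalk r) = topologicalKrullDim ↥G.R := by
  rw [DimLFT.ringKrullDim_stalk_eq_localDim (G.s ≫ eU.hom) hr]
  exact localDim_eq_dim G k eU r

end Groth.Agent.Lib.Helper72.GrpdDim
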