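import Groth.Agent.Lib.Helper72.GrpdPts
import Mathlib.AlgebraicGeometry.PullbackCarrier

set_option autoImplicit false

universe u

namespace Groth.Agent.Lib.Helper72.GrpdPts

open AlgebraicGeometry CategoryTheory CategoryTheory.Limits

variable {S : Scheme.{u}} (G : Grpd.GroupoidScheme S)

lemma c_s : G.c ≫ G.s = pullback.snd G.s G.t ≫ G.s := by
  rw [← fst_mul_snd, mul_s]

lemma c_t : G.c ≫ G.t = pullback.fst G.s G.t ≫ G.t := by
  rw [← fst_mul_snd, mul_t]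

lemma c_s_apply (z : ↑(pullback G.s G.t)) : G.s (G.c z) = G.s (pullback.snd G.s G.t z) := by
  rw [← Scheme.Hom.comp_apply, ← Scheme.Hom.comp_apply, c_s]

lemma c_t_apply (z : ↑(pullback G.s G.t)) : G.t (G.c z) = G.t (pullback.fst G.s G.t z) := by
  rw [← Scheme.Hom.comp_apply, ← Scheme.Hom.comp_apply, c_t]

lemma i_s_apply (r : G.R) : G.s (G.i r) = G.t r := by
  rw [← Scheme.Hom.comp_apply, G.i_s]

lemma i_t_apply (r : G.R) : G.t (G.i r) = G.s r := by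
  rw [← Scheme.Hom.comp_apply, G.i_t]

lemma e_s_apply (x : G.U) : G.s (G.e x) = x := by
  rw [← Scheme.Hom.comp_apply, G.e_s]; rfl

lemma e_t_apply (x : G.U) : G.t (G.e x) = x := by
  rw [← Scheme.Hom.comp_apply, G.e_t]; rfl

/-- points compose: if `s r₁ = t r₂` there is a point with source `s r₂` and target `t r₁`. -/
lemma exists_comp (r₁ r₂ : G.R) (h : G.s r₁ = G.t r₂) :
    ∃ r : G.R, G.s r = G.s r₂ ∧ G.t r = G.t r₁ := by
  obtain ⟨z, hz1, hz2⟩ := Scheme.Pullback.exists_preimage_pullback r₁ r₂ h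
  exact ⟨G.c z, by rw [c_s_apply, hz2], by rw [c_t_apply, hz1]⟩

/-- the orbit relation on points of `U`. -/
def Orb (x y : G.U) : Prop := ∃ r : G.R, G.s r = x ∧ G.t r = y

lemma Orb.refl (x : G.U) : Orb G x x := ⟨G.e x, e_s_apply G x, e_t_apply G x⟩

lemma Orb.symm {x y : G.U} (h : Orb G x y) : Orb G y x := by
  obtain ⟨r, rfl, rfl⟩ := h
  exact ⟨G.i r, i_s_apply G r, i_t_apply G r⟩

lemma Orb.trans {x y z : G.U} (h₁ : Orb G x y) (h₂ : Orb G y z) : Orb G x z := by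
  obtain ⟨r₁, rfl, rfl⟩ := h₁
  obtain ⟨r₂, h2, rfl⟩ := h₂
  obtain ⟨r, hr1, hr2⟩ := exists_comp G r₂ r₁ h2
  exact ⟨r, hr1, hr2⟩

theorem preimage_s_saturation (W : Set G.U) :
    ⇑G.s ⁻¹' (⇑G.t '' (⇑G.s ⁻¹' W)) = ⇑G.t ⁻¹' (⇑G.t '' (⇑G.s ⁻¹' W)) := by
  ext x
  constructor
  · rintro ⟨y, hy, hyx⟩
    obtain ⟨r, hr1, hr2⟩ := exists_comp G x y hyx.symm
    exact ⟨r, by simpa [hr1] using hy, hr2⟩
  · rintro ⟨y, hy, hyx⟩
    obtain ⟨r, hr1, hr2⟩ := exists_comp G (G.i x) y (by rw [i_s_apply, hyx])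
    exact ⟨r, by simpa [hr1] using hy, by rw [hr2, i_t_apply]⟩

end Groth.Agent.Lib.Helper72.GrpdPts
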