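import Groth.Agent.Lib.Helper72.GrpdComp
import Groth.Agent.S7461

/-!
# Geometric irreducibility of the identity component of a groupoid scheme over a field
-/

set_option autoImplicit false

universe u

namespace Groth.Agent.Lib.Helper72.GrpdGeomIrr

open AlgebraicGeometry CategoryTheory CategoryTheory.Limits IsLocalRing
open Groth.Agent.Lib.Helper72.GrpdComp

section sect

lemma exists_fac {X : Scheme.{u}} {L : Type u} [Field L] (α : Spec (CommRingCat.of L) ⟶ X) (x : X)
    (h : α (closedPoint L) = x) :
    ∃ γ : Spec (CommRingCat.of L) ⟶ Spec (X.residueField x),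
      γ ≫ X.fromSpecResidueField x = α := by
  subst h
  exact ⟨_, Scheme.descResidueField_stalkClosedPointTo_fromSpecResidueField L X α⟩

/-- A field-valued point lying (set-theoretically) in the image of a section `e` of `s` is fixed by
the retraction `s ≫ e`. -/
theorem comp_retract_eq {X Y : Scheme.{u}} (s : X ⟶ Y) (e : Y ⟶ X) (he : e ≫ s = 𝟙 Y) (y : Y)
    {L : Type u} [Field L] (α : Spec (CommRingCat.of L) ⟶ X) (hα : α (closedPoint L) = e y) :
    α ≫ s ≫ e = α := by
  have hse : s (e y) = y := by
    rw [← Scheme.Hom.comp_apply, he]; rfl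
  have hβpt : (X.fromSpecResidueField (e y) ≫ s ≫ e) (closedPoint (X.residueField (e y))) =
      e y := by
    rw [Scheme.Hom.comp_apply, Scheme.Hom.comp_apply, Scheme.fromSpecResidueField_apply, hse]
  obtain ⟨ψ, hψ⟩ := exists_fac (L := X.residueField (e y))
    (X.fromSpecResidueField (e y) ≫ s ≫ e) (e y) hβpt
  have hψψ : ψ ≫ ψ = ψ := by
    rw [← cancel_mono (X.fromSpecResidueField (e y)), Category.assoc, hψ, reassoc_of% hψ,
      ← Category.assoc s e, ← Category.assoc (s ≫ e), Category.assoc s e s, he,
      Category.comp_id]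
  obtain ⟨φ, rfl⟩ := Spec.map_surjective ψ
  have hφφ : φ ≫ φ = φ := by
    apply Spec.map_injective
    rw [Spec.map_comp]
    exact hψψ
  have hφ : φ = 𝟙 _ := by
    ext x
    have h1 : φ.hom (φ.hom x) = φ.hom x := by
      have := congrArg (fun f => f.hom x) hφφ
      simpa using this
    exact φ.hom.injective h1
  have hβ : X.fromSpecResidueField (e y) ≫ s ≫ e = X.fromSpecResidueField (e y) := by
    rw [← hψ, hφ, Spec.map_id]
    exact Category.id_comp _
  obtain ⟨γ, hγ⟩ := exists_fac α (e y) hα
  rw [← hγ, Category.assoc, hβ]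

end sect

section point

variable {S : Scheme.{u}} (G : Grpd.GroupoidScheme S) {K : Type u} [Field K]
  (u : Spec (CommRingCat.of K) ⟶ G.U)

lemma eu_fst : eu G u ≫ pullback.fst G.s u = u ≫ G.e := pullback.lift_fst _ _ _

lemma eu_snd : eu G u ≫ pullback.snd G.s u = 𝟙 _ := pullback.lift_snd _ _ _

/-- The identity point is the only point of `R ×_{s,U} Spec K` above a point in the image of `e`. -/
theorem eq_eu_of_fst_eq (y : ↥(pullback G.s u)) (pt₀ : G.U)
    (hy : pullback.fst G.s u y = G.e pt₀) : y = eu G u (closedPoint K) := by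
  have hpt : (pullback G.s u).fromSpecResidueField y
      (closedPoint ((pullback G.s u).residueField y)) = y :=
    Scheme.fromSpecResidueField_apply _ _
  have hα : ((pullback G.s u).fromSpecResidueField y ≫ pullback.fst G.s u)
      (closedPoint ((pullback G.s u).residueField y)) = G.e pt₀ := by
    rw [Scheme.Hom.comp_apply, hpt, hy]
  have key := comp_retract_eq G.s G.e G.e_s pt₀ (L := (pullback G.s u).residueField y)
    ((pullback G.s u).fromSpecResidueField y ≫ pullback.fst G.s u) hα
  have hy2 : ((pullback G.s u).fromSpecResidueField y ≫ pullback.snd G.s u) ≫ eu G u =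
      (pullback G.s u).fromSpecResidueField y := by
    apply pullback.hom_ext
    · rw [Category.assoc, eu_fst, Category.assoc, ← pullback.condition_assoc]
      rw [Category.assoc] at key
      exact key
    · rw [Category.assoc, eu_snd, Category.comp_id]
  rw [← hpt]
  conv_lhs => rw [← hy2]
  rw [Scheme.Hom.comp_apply]
  congr 1
  exact Subsingleton.elim (α := PrimeSpectrum K) _ _

end point

section main

variable {S : Scheme.{u}} (G : Grpd.GroupoidScheme S) [Subsingleton G.U] [IsIntegral G.U]
  {K : Type u} [Field K] (u : Spec (CommRingCat.of K) ⟶ G.U) [IsIntegralHom u]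
  {Z : Scheme.{u}} (J : Z ⟶ G.R) [IsClosedImmersion J] [IrreducibleSpace Z]

/-- The base change along an integral `Spec K ⟶ U` (via `s`) of a closed subscheme of `R` supported
on the irreducible component through an identity point is irreducible. -/
theorem irreducibleSpace_pullback (hZ : Set.range J ∈ irreducibleComponents G.R) (pt₀ : G.U)
    (he : G.e pt₀ ∈ Set.range J) : IrreducibleSpace ↥(pullback J (pullback.fst G.s u)) := by
  have hjq : ∀ x : ↥(pullback J (pullback.fst G.s u)),
      pullback.fst G.s u (pullback.snd J (pullback.fst G.s u) x) =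
        J (pullback.fst J (pullback.fst G.s u) x) := fun x => by
    rw [← Scheme.Hom.comp_apply, ← Scheme.Hom.comp_apply, pullback.condition]
  have hrange : Set.range (pullback.snd J (pullback.fst G.s u)) =
      pullback.fst G.s u ⁻¹' Set.range J := Scheme.Pullback.range_snd ..
  have heK : pullback.fst G.s u (eu G u (closedPoint K)) = G.e pt₀ := by
    rw [← Scheme.Hom.comp_apply, eu_fst, Scheme.Hom.comp_apply]
    congr 1
    exact Subsingleton.elim _ _
  obtain ⟨Z', hZ', heZ'⟩ : ∃ Z' ∈ irreducibleComponents ↥(pullback G.s u),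
      eu G u (closedPoint K) ∈ Z' :=
    ⟨irreducibleComponent _, irreducibleComponent_mem_irreducibleComponents _,
      mem_irreducibleComponent⟩
  have h1 : Z' ⊆ Set.range (pullback.snd J (pullback.fst G.s u)) := by
    rw [hrange]
    have hirr : IsIrreducible (pullback.fst G.s u '' Z') :=
      hZ'.1.image _ (pullback.fst G.s u).continuous.continuousOn
    obtain ⟨C, hC, hsub⟩ := exists_mem_irreducibleComponents_subset_of_isIrreducible _ hirr
    have hCe : G.e pt₀ ∈ C := hsub ⟨_, heZ', heK⟩
    have hCeq : C = Set.range J := eq_of_mem G hC hZ (G.e pt₀) hCe he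
    intro z hz
    show pullback.fst G.s u z ∈ Set.range J
    rw [← hCeq]
    exact hsub ⟨z, hz, rfl⟩
  have h2 : Set.range (pullback.snd J (pullback.fst G.s u)) ⊆ Z' := by
    rintro _ ⟨x, rfl⟩
    have hWmem : irreducibleComponent x ∈
        irreducibleComponents ↥(pullback J (pullback.fst G.s u)) :=
      irreducibleComponent_mem_irreducibleComponents x
    have hWcl : IsClosed (irreducibleComponent x) := isClosed_irreducibleComponent
    have hqW : ∃ w ∈ irreducibleComponent x,
        J (pullback.fst J (pullback.fst G.s u) w) = G.e pt₀ := by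
      obtain ⟨z₀, hz₀⟩ := he
      obtain ⟨ξ, hξ⟩ := QuasiSober.sober hWmem.1 hWcl
      have hgen : GeneralizingMap (pullback.fst J (pullback.fst G.s u)) :=
        Flat.generalizingMap _
      have hη : genericPoint Z ⤳ pullback.fst J (pullback.fst G.s u) ξ :=
        genericPoint_specializes _
      obtain ⟨ξ', hξ', hqξ'⟩ := hgen hη
      have hξ'W : ξ' ∈ irreducibleComponent x := by
        have hsub : irreducibleComponent x ⊆ closure {ξ'} := by
          rw [← hξ.def]
          exact specializes_iff_closure_subset.1 hξ'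
        exact hWmem.2 isIrreducible_singleton.closure hsub (subset_closure rfl)
      have hclosed : IsClosed (pullback.fst J (pullback.fst G.s u) '' irreducibleComponent x) :=
        (pullback.fst J (pullback.fst G.s u)).isClosedMap _ hWcl
      have hz₀mem : z₀ ∈ pullback.fst J (pullback.fst G.s u) '' irreducibleComponent x := by
        refine hclosed.closure_subset_iff.2 (Set.singleton_subset_iff.2 ⟨ξ', hξ'W, hqξ'⟩) ?_
        rw [genericPoint_closure]
        trivial
      obtain ⟨w, hw, hqw⟩ := hz₀mem
      exact ⟨w, hw, by rw [hqw, hz₀]⟩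
    obtain ⟨w, hwW, hw⟩ := hqW
    have hjw : pullback.snd J (pullback.fst G.s u) w = eu G u (closedPoint K) :=
      eq_eu_of_fst_eq G u _ pt₀ (by rw [hjq, hw])
    have hirr : IsIrreducible (pullback.snd J (pullback.fst G.s u) '' irreducibleComponent x) :=
      hWmem.1.image _ (pullback.snd J (pullback.fst G.s u)).continuous.continuousOn
    obtain ⟨C, hC, hsub⟩ := exists_mem_irreducibleComponents_subset_of_isIrreducible _ hirr
    have hCe : eu G u (closedPoint K) ∈ C := hsub ⟨w, hwW, hjw⟩
    have hCeq : C = Z' := eq_of_eu_mem G u hC hZ' hCe heZ'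
    rw [← hCeq]
    exact hsub ⟨x, mem_irreducibleComponent, rfl⟩
  have hirr : IsIrreducible (Set.range (pullback.snd J (pullback.fst G.s u))) := by
    rw [h2.antisymm h1]
    exact hZ'.1
  exact GrpComp.irreducibleSpace_of_range _ hirr

end main

section final

variable {S : Scheme.{u}} (G : Grpd.GroupoidScheme S) (k : Type u) [Field k]
  (eU : G.U ≅ Spec (CommRingCat.of k))
  {Z : Scheme.{u}} (J : Z ⟶ G.R) [IsClosedImmersion J] [IrreducibleSpace Z]

/-- The identity component of a groupoid scheme over a field is geometrically irreducible via `s`. -/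
theorem geometricallyIrreducible_s (hZ : Set.range J ∈ irreducibleComponents G.R)
    (he : G.e (eU.inv (closedPoint k)) ∈ Set.range J) :
    GeometricallyIrreducible (J ≫ G.s ≫ eU.hom) := by
  have hsub : Subsingleton G.U :=
    eU.hom.homeomorph.injective.subsingleton (β := PrimeSpectrum k)
  have hne : Nonempty G.U := ⟨eU.inv (closedPoint k)⟩
  have hint : IsIntegral G.U := isIntegral_of_isOpenImmersion eU.hom
  have hg₀ : IsIntegralHom (Spec.map (CommRingCat.ofHom (algebraMap k (SeparableClosure k)))) := by
    rw [IsIntegralHom.SpecMap_iff]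
    exact algebraMap_isIntegral_iff.2 inferInstance
  have hu : IsIntegralHom
      (Spec.map (CommRingCat.ofHom (algebraMap k (SeparableClosure k))) ≫ eU.inv) := inferInstance
  obtain ⟨u, hudef⟩ : ∃ u : Spec (CommRingCat.of (SeparableClosure k)) ⟶ G.U,
      u = Spec.map (CommRingCat.ofHom (algebraMap k (SeparableClosure k))) ≫ eU.inv := ⟨_, rfl⟩
  rw [← hudef] at hu
  have hirr := irreducibleSpace_pullback G u J hZ _ he
  have hgi : GeometricallyIrreducible
      (pullback.snd J (pullback.fst G.s u) ≫ pullback.snd G.s u) :=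
    Groth.Agent.Lib.Helper51.geometricallyIrreducible_of_isSepClosed _
  have sq : IsPullback (pullback.fst J (pullback.fst G.s u))
      (pullback.snd J (pullback.fst G.s u) ≫ pullback.snd G.s u) (J ≫ G.s ≫ eU.hom)
      (Spec.map (CommRingCat.ofHom (algebraMap k (SeparableClosure k)))) := by
    have s1 : IsPullback (pullback.snd J (pullback.fst G.s u))
        (pullback.fst J (pullback.fst G.s u)) (pullback.fst G.s u) J :=
      (IsPullback.of_hasPullback J (pullback.fst G.s u)).flip
    have s2 : IsPullback (pullback.snd G.s u) (pullback.fst G.s u) u G.s :=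
      (IsPullback.of_hasPullback G.s u).flip
    have s3 := (s1.paste_horiz s2).flip
    refine s3.of_iso (Iso.refl _) (Iso.refl _) (Iso.refl _) eU ?_ ?_ ?_ ?_
    · simp
    · simp
    · simp
    · simp [hudef]
  exact Groth.Agent.Lib.Helper51.geometricallyIrreducible_of_isPullback _ _ _ sq

open Groth.Agent.Lib.Helper72.GrpdPts in
omit k in
lemma e_i : G.e ≫ G.i = G.e := by
  have h1 : (G.e ≫ G.i) ≫ G.s = G.e ≫ G.t := by rw [Category.assoc, G.i_s]
  have h2 : mul G (G.e ≫ G.i) G.e h1 = G.e ≫ G.s ≫ G.e := i_mul G G.e h1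
  have h3 : mul G (G.e ≫ G.i) G.e h1 = G.e ≫ G.i := by
    apply mul_e
    rw [Category.assoc, reassoc_of% G.i_s, reassoc_of% G.e_t]
  rw [← h3, h2, reassoc_of% G.e_s]

/-- The identity component of a groupoid scheme over a field is geometrically irreducible via `t`. -/
theorem geometricallyIrreducible_t (hZ : Set.range J ∈ irreducibleComponents G.R)
    (he : G.e (eU.inv (closedPoint k)) ∈ Set.range J) :
    GeometricallyIrreducible (J ≫ G.t ≫ eU.hom) := by
  have hii : ∀ x : G.R, G.i (G.i x) = x := fun x => by
    rw [← Scheme.Hom.comp_apply, Groth.Agent.S7461.i_i]; rfl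
  have hrange : Set.range (J ≫ G.i) = G.i ⁻¹' Set.range J := by
    ext x
    constructor
    · rintro ⟨z, rfl⟩
      exact ⟨z, by rw [Scheme.Hom.comp_apply, hii]⟩
    · rintro ⟨z, hz⟩
      exact ⟨z, by rw [Scheme.Hom.comp_apply, hz, hii]⟩
  have hei : G.i (G.e (eU.inv (closedPoint k))) = G.e (eU.inv (closedPoint k)) := by
    rw [← Scheme.Hom.comp_apply, e_i]
  have h := geometricallyIrreducible_s G k eU (J ≫ G.i) ?_ ?_
  · have hcomp : (J ≫ G.i) ≫ G.s ≫ eU.hom = J ≫ G.t ≫ eU.hom := by
      rw [Category.assoc, reassoc_of% G.i_s]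
    rwa [hcomp] at h
  · rw [hrange]
    exact preimage_mem_irreducibleComponents hZ G.i.homeomorph.isOpenEmbedding
      ⟨_, he, ⟨_, hei⟩⟩
  · rw [hrange]
    show G.i _ ∈ Set.range J
    rw [hei]
    exact he

end final

end Groth.Agent.Lib.Helper72.GrpdGeomIrr
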