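import Groth.Agent.Lib.Helper72.GrpdPts

/-!
# Morphisms of groupoid schemes preserve identities and inverses; restriction along a mono

* `Hom.mul_comp`, `Hom.e_comp_fR`, `Hom.i_comp_fR`.
* `restrict G ι e' he i' hi c' hc`: the groupoid scheme `(G.U, Z)` obtained from a monomorphism
  `ι : Z ⟶ G.R` through which identities, inverses and composites factor; `restrictHom` is the
  morphism to `G` (identity on objects, `ι` on arrows).
-/

set_option autoImplicit false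

universe u

namespace Groth.Agent.Lib.Helper72.GrpdPts

open AlgebraicGeometry CategoryTheory CategoryTheory.Limits Grpd

variable {S : Scheme.{u}}

section Hom

variable {G₁ G₂ : Grpd.GroupoidScheme S} (f : Grpd.GroupoidScheme.Hom G₁ G₂) {T : Scheme.{u}}

lemma Hom.mul_comp (α β : T ⟶ G₁.R) (h : α ≫ G₁.s = β ≫ G₁.t)
    (h' : (α ≫ f.fR) ≫ G₂.s = (β ≫ f.fR) ≫ G₂.t) :
    mul G₁ α β h ≫ f.fR = mul G₂ (α ≫ f.fR) (β ≫ f.fR) h' :=
  f.comm_c α β h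

/-- an idempotent arrow is an identity. -/
lemma eq_e_of_mul_self (G : Grpd.GroupoidScheme S) (x : T ⟶ G.R) (h : x ≫ G.s = x ≫ G.t)
    (hx : mul G x x h = x) : x = x ≫ G.s ≫ G.e := by
  have h1 : (x ≫ G.i) ≫ G.s = x ≫ G.t := by rw [Category.assoc, G.i_s]
  have h2 : (x ≫ G.i) ≫ G.s = mul G x x h ≫ G.t := by rw [mul_t, h1]
  have e1 := i_mul_mul G x x h h2
  have e2 : mul G (x ≫ G.i) (mul G x x h) h2 = mul G (x ≫ G.i) x h1 := mul_congr G rfl hx _ _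
  exact e1.symm.trans (e2.trans (i_mul G x h1))

lemma Hom.e_comp_fR : G₁.e ≫ f.fR = f.fU ≫ G₂.e := by
  have hs : (G₁.e ≫ f.fR) ≫ G₂.s = f.fU := by
    rw [Category.assoc, f.comm_s, ← Category.assoc, G₁.e_s, Category.id_comp]
  have ht : (G₁.e ≫ f.fR) ≫ G₂.t = f.fU := by
    rw [Category.assoc, f.comm_t, ← Category.assoc, G₁.e_t, Category.id_comp]
  have hee : G₁.e ≫ G₁.s = G₁.e ≫ G₁.t := by rw [G₁.e_s, G₁.e_t]
  have h1 : mul G₁ G₁.e G₁.e hee = G₁.e :=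
    mul_e G₁ G₁.e G₁.e (by rw [← Category.assoc, G₁.e_s, Category.id_comp]) hee
  have h2 : mul G₂ (G₁.e ≫ f.fR) (G₁.e ≫ f.fR) (hs.trans ht.symm) = G₁.e ≫ f.fR := by
    rw [← Hom.mul_comp f G₁.e G₁.e hee, h1]
  have h3 := eq_e_of_mul_self G₂ (G₁.e ≫ f.fR) (hs.trans ht.symm) h2
  rw [h3, ← Category.assoc, hs]

lemma Hom.i_comp_fR : G₁.i ≫ f.fR = f.fR ≫ G₂.i := by
  -- `z = fR`, `y = i ≫ fR`; `z · y = z ≫ t ≫ e`, hence `y = z⁻¹`.
  have h0 : (𝟙 G₁.R) ≫ G₁.s = (𝟙 G₁.R ≫ G₁.i) ≫ G₁.t := by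
    rw [Category.id_comp, Category.id_comp, G₁.i_t]
  have h1 : mul G₁ (𝟙 G₁.R) (𝟙 G₁.R ≫ G₁.i) h0 = 𝟙 G₁.R ≫ G₁.t ≫ G₁.e := mul_i G₁ (𝟙 _) h0
  have hzy : (𝟙 G₁.R ≫ f.fR) ≫ G₂.s = ((𝟙 G₁.R ≫ G₁.i) ≫ f.fR) ≫ G₂.t := by
    rw [Category.id_comp, Category.id_comp, Category.assoc, f.comm_t, f.comm_s,
      ← Category.assoc, G₁.i_t]
  have h2 : mul G₂ (𝟙 G₁.R ≫ f.fR) ((𝟙 G₁.R ≫ G₁.i) ≫ f.fR) hzy =
      (𝟙 G₁.R ≫ G₁.t ≫ G₁.e) ≫ f.fR := by
    rw [← Hom.mul_comp f (𝟙 G₁.R) (𝟙 G₁.R ≫ G₁.i) h0, h1]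
  have h3 : (𝟙 G₁.R ≫ G₁.t ≫ G₁.e) ≫ f.fR = f.fR ≫ G₂.t ≫ G₂.e := by
    rw [Category.id_comp, Category.assoc, Hom.e_comp_fR, ← Category.assoc, ← f.comm_t,
      Category.assoc]
  have hzy' : f.fR ≫ G₂.s = (G₁.i ≫ f.fR) ≫ G₂.t := by
    rw [Category.assoc, f.comm_t, f.comm_s, ← Category.assoc, G₁.i_t]
  have h4 : mul G₂ f.fR (G₁.i ≫ f.fR) hzy' = f.fR ≫ G₂.t ≫ G₂.e := by
    rw [← h3, ← h2]
    exact mul_congr G₂ (Category.id_comp _).symm (by rw [Category.id_comp]) _ _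
  have h5 : (f.fR ≫ G₂.i) ≫ G₂.s = mul G₂ f.fR (G₁.i ≫ f.fR) hzy' ≫ G₂.t := by
    rw [mul_t, Category.assoc, G₂.i_s]
  have h6 := i_mul_mul G₂ f.fR (G₁.i ≫ f.fR) hzy' h5
  rw [← h6]
  have h7 : (f.fR ≫ G₂.i) ≫ G₂.s = (f.fR ≫ G₂.t ≫ G₂.e) ≫ G₂.t := by
    simp only [Category.assoc, G₂.i_s, G₂.e_t, Category.comp_id]
  rw [mul_congr G₂ rfl h4 h5 h7]
  refine mul_e G₂ (f.fR ≫ G₂.i) _ ?_ h7
  simp only [Category.assoc]
  rw [← Category.assoc G₂.i, G₂.i_s]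

end Hom

section restrict

variable (G : Grpd.GroupoidScheme S) {Z : Scheme.{u}} (ι : Z ⟶ G.R) [Mono ι]
  (e' : G.U ⟶ Z) (he : e' ≫ ι = G.e) (i' : Z ⟶ Z) (hi : i' ≫ ι = ι ≫ G.i)
  (c' : pullback (ι ≫ G.s) (ι ≫ G.t) ⟶ Z)
  (hc : c' ≫ ι = pullback.map (ι ≫ G.s) (ι ≫ G.t) G.s G.t ι ι (𝟙 G.U) (by simp) (by simp) ≫ G.c)

omit [Mono ι] in
include hc in
lemma restrict_key {T : Scheme.{u}} (α β : T ⟶ Z) (h : α ≫ ι ≫ G.s = β ≫ ι ≫ G.t)
    (h' : (α ≫ ι) ≫ G.s = (β ≫ ι) ≫ G.t) :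
    (pullback.lift α β h ≫ c') ≫ ι = mul G (α ≫ ι) (β ≫ ι) h' := by
  rw [Category.assoc, hc, ← Category.assoc]
  unfold mul
  congr 1
  apply pullback.hom_ext
  · rw [Category.assoc, pullback.lift_fst, pullback.lift_fst_assoc, pullback.lift_fst]
  · rw [Category.assoc, pullback.lift_snd, pullback.lift_snd_assoc, pullback.lift_snd]

/-- Restriction of a groupoid scheme to a monomorphism `ι : Z ⟶ R` stable under the structure. -/
noncomputable def restrict : Grpd.GroupoidScheme S where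
  U := G.U
  R := Z
  pU := G.pU
  pR := ι ≫ G.pR
  s := ι ≫ G.s
  t := ι ≫ G.t
  e := e'
  i := i'
  c := c'
  s_over := by rw [Category.assoc, G.s_over]
  t_over := by rw [Category.assoc, G.t_over]
  comp_s := fun α β h => by
    rw [← Category.assoc, restrict_key G ι c' hc α β h (by simpa using h), mul_s, Category.assoc]
  comp_t := fun α β h => by
    rw [← Category.assoc, restrict_key G ι c' hc α β h (by simpa using h), mul_t, Category.assoc]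
  assoc := fun α β γ h₁ h₂ => by
    rw [← cancel_mono ι]
    have h₁' : (α ≫ ι) ≫ G.s = (β ≫ ι) ≫ G.t := by simpa using h₁
    have h₂' : (β ≫ ι) ≫ G.s = (γ ≫ ι) ≫ G.t := by simpa using h₂
    have k1 := restrict_key G ι c' hc α β h₁ h₁'
    have k2 := restrict_key G ι c' hc β γ h₂ h₂'
    have hL : ((pullback.lift α β h₁ ≫ c') ≫ ι) ≫ G.s = (γ ≫ ι) ≫ G.t := by
      rw [k1, mul_s, h₂']
    have hR : (α ≫ ι) ≫ G.s = ((pullback.lift β γ h₂ ≫ c') ≫ ι) ≫ G.t := by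
      rw [k2, mul_t, h₁']
    refine (restrict_key G ι c' hc _ γ _ hL).trans ?_
    refine Eq.trans ?_ (restrict_key G ι c' hc α _ _ hR).symm
    exact (mul_congr G k1 rfl hL (by rw [mul_s, h₂'])).trans
      ((mul_assoc G _ _ _ h₁' h₂' _ (by rw [mul_t, h₁'])).trans (mul_congr G rfl k2 hR _).symm)
  e_s := by rw [← Category.assoc, he, G.e_s]
  e_t := by rw [← Category.assoc, he, G.e_t]
  comp_e := fun α => by
    rw [← cancel_mono ι]
    have hη : (α ≫ (ι ≫ G.s) ≫ e') ≫ ι = (α ≫ ι) ≫ G.s ≫ G.e := by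
      simp only [Category.assoc, he]
    have h' : (α ≫ ι) ≫ G.s = ((α ≫ (ι ≫ G.s) ≫ e') ≫ ι) ≫ G.t := by
      rw [hη]
      simp only [Category.assoc, G.e_t, Category.comp_id]
    exact (restrict_key G ι c' hc _ _ _ h').trans (mul_e G (α ≫ ι) _ hη h')
  e_comp := fun α => by
    rw [← cancel_mono ι]
    have hη : (α ≫ (ι ≫ G.t) ≫ e') ≫ ι = (α ≫ ι) ≫ G.t ≫ G.e := by
      simp only [Category.assoc, he]
    have h' : ((α ≫ (ι ≫ G.t) ≫ e') ≫ ι) ≫ G.s = (α ≫ ι) ≫ G.t := by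
      rw [hη]
      simp only [Category.assoc, G.e_s, Category.comp_id]
    exact (restrict_key G ι c' hc _ _ _ h').trans (e_mul G (α ≫ ι) _ hη h')
  i_s := by rw [← Category.assoc, hi, Category.assoc, G.i_s]
  i_t := by rw [← Category.assoc, hi, Category.assoc, G.i_t]
  comp_i := fun α => by
    rw [← cancel_mono ι]
    have hη : (α ≫ i') ≫ ι = (α ≫ ι) ≫ G.i := by simp only [Category.assoc, hi]
    have h'' : (α ≫ ι) ≫ G.s = ((α ≫ ι) ≫ G.i) ≫ G.t := by rw [Category.assoc _ G.i, G.i_t]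
    have h' : (α ≫ ι) ≫ G.s = ((α ≫ i') ≫ ι) ≫ G.t := by rw [hη]; exact h''
    refine (restrict_key G ι c' hc _ _ _ h').trans
      ((mul_congr G rfl hη h' h'').trans ((mul_i G _ h'').trans ?_))
    simp only [Category.assoc, he]
  i_comp := fun α => by
    rw [← cancel_mono ι]
    have hη : (α ≫ i') ≫ ι = (α ≫ ι) ≫ G.i := by simp only [Category.assoc, hi]
    have h'' : ((α ≫ ι) ≫ G.i) ≫ G.s = (α ≫ ι) ≫ G.t := by rw [Category.assoc _ G.i, G.i_s]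
    have h' : ((α ≫ i') ≫ ι) ≫ G.s = (α ≫ ι) ≫ G.t := by rw [hη]; exact h''
    refine (restrict_key G ι c' hc _ _ _ h').trans
      ((mul_congr G hη rfl h' h'').trans ((i_mul G _ h'').trans ?_))
    simp only [Category.assoc, he]

/-- The inclusion of the restricted groupoid. -/
noncomputable def restrictHom : Grpd.GroupoidScheme.Hom (restrict G ι e' he i' hi c' hc) G where
  fU := 𝟙 G.U
  fR := ι
  fU_over := Category.id_comp _
  comm_s := (Category.comp_id _).symm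
  comm_t := (Category.comp_id _).symm
  comm_c := fun α β h => restrict_key G ι c' hc α β h
    (by rw [Category.assoc, Category.assoc]; exact h)

end restrict

end Groth.Agent.Lib.Helper72.GrpdPts
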