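import Groth.Agent.Lib.Helper72.FieldBase
import Groth.Agent.Lib.Helper72.SchDominant
import Groth.Agent.Lib.Helper72.GrpdRestrict

/-!
# The scheme-theoretic image of a morphism of groupoid schemes over a one-point integral base

For `f : G₁ ⟶ G₂` a morphism of groupoid schemes which is an isomorphism on objects, with
`G₂.U` integral with one point and `f.fR` quasi-compact, the scheme-theoretic image of `f.fR`
carries a groupoid structure (`exists_image_data` provides the data for `GrpdPts.restrict`), and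
`f` factors through it (`imageHom`).
-/

set_option autoImplicit false

universe u

namespace Groth.Agent.Lib.Helper72.GrpdPts

open AlgebraicGeometry CategoryTheory CategoryTheory.Limits Grpd
open Groth.Agent.Lib.Helper72.SchDominant

variable {S : Scheme.{u}} {G₁ G₂ : Grpd.GroupoidScheme S} (f : Grpd.GroupoidScheme.Hom G₁ G₂)

set_option backward.isDefEq.respectTransparency false in
theorem exists_image_data [IsIso f.fU] [QuasiCompact f.fR] [IsIntegral G₂.U] [Subsingleton G₂.U] :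
    ∃ (e' : G₂.U ⟶ f.fR.image) (_ : e' ≫ f.fR.imageι = G₂.e) (i' : f.fR.image ⟶ f.fR.image)
      (_ : i' ≫ f.fR.imageι = f.fR.imageι ≫ G₂.i)
      (c' : pullback (f.fR.imageι ≫ G₂.s) (f.fR.imageι ≫ G₂.t) ⟶ f.fR.image),
      c' ≫ f.fR.imageι = pullback.map (f.fR.imageι ≫ G₂.s) (f.fR.imageι ≫ G₂.t) G₂.s G₂.t
        f.fR.imageι f.fR.imageι (𝟙 G₂.U) (by simp) (by simp) ≫ G₂.c := by
  haveI := toImage_dominant f.fR
  have hfac : f.fR.toImage ≫ f.fR.imageι = f.fR := f.fR.toImage_imageι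
  -- identity
  have he : (inv f.fU ≫ G₁.e ≫ f.fR.toImage) ≫ f.fR.imageι = G₂.e := by
    rw [Category.assoc, Category.assoc, hfac, Hom.e_comp_fR, IsIso.inv_hom_id_assoc]
  -- inverse
  obtain ⟨i', hi⟩ := exists_lift_of_dominant f.fR.toImage (f.fR.imageι ≫ G₂.i) f.fR.imageι
    (G₁.i ≫ f.fR.toImage) (by
      rw [Category.assoc, hfac, Hom.i_comp_fR, ← Category.assoc, hfac])
  -- composition
  have e₁ : (f.fR ≫ G₂.s) ≫ 𝟙 G₂.U = f.fR.toImage ≫ f.fR.imageι ≫ G₂.s := by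
    rw [Category.comp_id, reassoc_of% hfac]
  have e₂ : (f.fR ≫ G₂.t) ≫ 𝟙 G₂.U = f.fR.toImage ≫ f.fR.imageι ≫ G₂.t := by
    rw [Category.comp_id, reassoc_of% hfac]
  haveI := dominant_pullback_map f.fR.toImage f.fR.toImage (f.fR ≫ G₂.s) (f.fR ≫ G₂.t)
    (f.fR.imageι ≫ G₂.s) (f.fR.imageι ≫ G₂.t) e₁ e₂
  have hcond : pullback.fst (f.fR ≫ G₂.s) (f.fR ≫ G₂.t) ≫ G₁.s =
      pullback.snd (f.fR ≫ G₂.s) (f.fR ≫ G₂.t) ≫ G₁.t := by
    rw [← cancel_mono f.fU, Category.assoc, Category.assoc, ← f.comm_s, ← f.comm_t]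
    exact pullback.condition
  obtain ⟨c', hc⟩ := exists_lift_of_dominant
    (pullback.map (f.fR ≫ G₂.s) (f.fR ≫ G₂.t) (f.fR.imageι ≫ G₂.s) (f.fR.imageι ≫ G₂.t)
      f.fR.toImage f.fR.toImage (𝟙 G₂.U) e₁ e₂)
    (pullback.map (f.fR.imageι ≫ G₂.s) (f.fR.imageι ≫ G₂.t) G₂.s G₂.t f.fR.imageι f.fR.imageι
      (𝟙 G₂.U) (by simp) (by simp) ≫ G₂.c) f.fR.imageι
    ((pullback.lift _ _ hcond ≫ G₁.c) ≫ f.fR.toImage) (by
      have h3 : pullback.map (f.fR ≫ G₂.s) (f.fR ≫ G₂.t) (f.fR.imageι ≫ G₂.s)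
          (f.fR.imageι ≫ G₂.t) f.fR.toImage f.fR.toImage (𝟙 G₂.U) e₁ e₂ ≫
          pullback.map (f.fR.imageι ≫ G₂.s) (f.fR.imageι ≫ G₂.t) G₂.s G₂.t f.fR.imageι
            f.fR.imageι (𝟙 G₂.U) (by simp) (by simp) =
          pullback.map (f.fR ≫ G₂.s) (f.fR ≫ G₂.t) G₂.s G₂.t f.fR f.fR (𝟙 G₂.U)
            (by simp) (by simp) := by
        apply pullback.hom_ext
        · simp [hfac]
        · simp [hfac]
      calc _ = (pullback.lift _ _ hcond ≫ G₁.c) ≫ f.fR.toImage ≫ f.fR.imageι :=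
            Category.assoc _ _ _
        _ = (pullback.lift _ _ hcond ≫ G₁.c) ≫ f.fR := congrArg (_ ≫ ·) hfac
        _ = _ := f.comm_c _ _ hcond
        _ = _ := congrArg (· ≫ G₂.c) h3.symm
        _ = _ := Category.assoc _ _ _)
  exact ⟨_, he, i', hi, c', hc⟩

variable (e' : G₂.U ⟶ f.fR.image) (he : e' ≫ f.fR.imageι = G₂.e) (i' : f.fR.image ⟶ f.fR.image)
  (hi : i' ≫ f.fR.imageι = f.fR.imageι ≫ G₂.i)
  (c' : pullback (f.fR.imageι ≫ G₂.s) (f.fR.imageι ≫ G₂.t) ⟶ f.fR.image)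
  (hc : c' ≫ f.fR.imageι = pullback.map (f.fR.imageι ≫ G₂.s) (f.fR.imageι ≫ G₂.t) G₂.s G₂.t
    f.fR.imageι f.fR.imageι (𝟙 G₂.U) (by simp) (by simp) ≫ G₂.c)

/-- The factorization of `f` through the groupoid on the scheme-theoretic image of `f.fR`. -/
noncomputable def imageHom :
    Grpd.GroupoidScheme.Hom G₁ (restrict G₂ f.fR.imageι e' he i' hi c' hc) where
  fU := f.fU
  fR := f.fR.toImage
  fU_over := f.fU_over
  comm_s := by
    show f.fR.toImage ≫ f.fR.imageι ≫ G₂.s = G₁.s ≫ f.fU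
    rw [← Category.assoc, f.fR.toImage_imageι, f.comm_s]
  comm_t := by
    show f.fR.toImage ≫ f.fR.imageι ≫ G₂.t = G₁.t ≫ f.fU
    rw [← Category.assoc, f.fR.toImage_imageι, f.comm_t]
  comm_c := fun α β h => by
    have hfac : f.fR.toImage ≫ f.fR.imageι = f.fR := f.fR.toImage_imageι
    have h1 : ((pullback.lift α β h ≫ G₁.c) ≫ f.fR.toImage) ≫ f.fR.imageι =
        (pullback.lift α β h ≫ G₁.c) ≫ f.fR := by
      rw [Category.assoc, hfac]
    have hα : (α ≫ f.fR.toImage) ≫ f.fR.imageι = α ≫ f.fR := by rw [Category.assoc, hfac]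
    have hβ : (β ≫ f.fR.toImage) ≫ f.fR.imageι = β ≫ f.fR := by rw [Category.assoc, hfac]
    have h' : (α ≫ f.fR) ≫ G₂.s = (β ≫ f.fR) ≫ G₂.t := by
      rw [Category.assoc, Category.assoc, f.comm_s, f.comm_t, ← Category.assoc, ← Category.assoc, h]
    have h'' : ((α ≫ f.fR.toImage) ≫ f.fR.imageι) ≫ G₂.s =
        ((β ≫ f.fR.toImage) ≫ f.fR.imageι) ≫ G₂.t := by rw [hα, hβ]; exact h'
    have h3 : (α ≫ f.fR.toImage) ≫ f.fR.imageι ≫ G₂.s =
        (β ≫ f.fR.toImage) ≫ f.fR.imageι ≫ G₂.t := by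
      rw [← Category.assoc, ← Category.assoc]; exact h''
    have key : ((pullback.lift α β h ≫ G₁.c) ≫ f.fR.toImage) ≫ f.fR.imageι =
        (pullback.lift (α ≫ f.fR.toImage) (β ≫ f.fR.toImage) h3 ≫ c') ≫ f.fR.imageι := by
      refine h1.trans ((Hom.mul_comp f α β h h').trans ?_)
      refine Eq.trans ?_ (restrict_key G₂ f.fR.imageι c' hc (α ≫ f.fR.toImage)
        (β ≫ f.fR.toImage) h3 h'').symm
      exact mul_congr G₂ hα.symm hβ.symm h' h''
    exact (cancel_mono f.fR.imageι).1 key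

end Groth.Agent.Lib.Helper72.GrpdPts
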