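import Groth.Prelude.Def_Grpd
import Mathlib.CategoryTheory.Monoidal.Cartesian.Grp
import Mathlib.CategoryTheory.Monoidal.Cartesian.Over

/-!
# The groupoid scheme of a group scheme

For a group object `G` of `Over S` (schemes over `S`), `ofGrp G` is the groupoid scheme over `S`
with objects `S`, arrows `G.left`, source and target the structure morphism.  A homomorphism of
group schemes induces a morphism of groupoid schemes `ofGrpHom`.
-/

set_option autoImplicit false

universe u

namespace Groth.Agent.Lib.Helper72.GrpdPts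

open AlgebraicGeometry CategoryTheory CategoryTheory.Limits Grpd MonoidalCategory
  CartesianMonoidalCategory MonObj GrpObj

variable {S : Scheme.{u}}

/-- A `T`-point of `G.left` over `p` as a morphism of `Over S`. -/
abbrev ptOver (G : Over S) {T : Scheme.{u}} (p : T ⟶ S) (α : T ⟶ G.left) (h : α ≫ G.hom = p) :
    Over.mk p ⟶ G := Over.homMk α h

variable (G : Over S) [GrpObj G]

lemma mul_left {X : Over S} (a b : X ⟶ G) :
    (a * b).left = pullback.lift a.left b.left (a.w.trans b.w.symm) ≫ (μ[G]).left := rfl

lemma one_left {X : Over S} : (1 : X ⟶ G).left = X.hom ≫ (η[G]).left := rfl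

lemma inv_left {X : Over S} (a : X ⟶ G) : (a⁻¹).left = a.left ≫ (ι[G]).left := rfl

lemma lift_congr {T R : Scheme.{u}} {s t : R ⟶ S} {α α' β β' : T ⟶ R} (hα : α = α') (hβ : β = β')
    (h : α ≫ s = β ≫ t) (h' : α' ≫ s = β' ≫ t) : pullback.lift α β h = pullback.lift α' β' h' := by
  subst hα hβ; rfl

set_option backward.isDefEq.respectTransparency false in
/-- The groupoid scheme `(S, G, π, π, μ, η, ι)` of a group scheme `G` over `S`. -/
noncomputable def ofGrp : Grpd.GroupoidScheme S where
  U := S
  R := G.left
  pU := 𝟙 S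
  pR := G.hom
  s := G.hom
  t := G.hom
  e := (η[G]).left
  i := (ι[G]).left
  c := (μ[G]).left
  s_over := Category.comp_id _
  t_over := Category.comp_id _
  comp_s := fun α β h => by
    have hμ : (μ[G]).left ≫ G.hom = pullback.fst G.hom G.hom ≫ G.hom := Over.w μ[G]
    rw [Category.assoc, hμ, pullback.lift_fst_assoc, h]
  comp_t := fun α β h => by
    have hμ : (μ[G]).left ≫ G.hom = pullback.fst G.hom G.hom ≫ G.hom := Over.w μ[G]
    rw [Category.assoc, hμ, pullback.lift_fst_assoc]
  assoc := fun {T} α β γ h₁ h₂ => by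
    let a := ptOver G (α ≫ G.hom) α rfl
    let b := ptOver G (α ≫ G.hom) β h₁.symm
    let c := ptOver G (α ≫ G.hom) γ (h₂.symm.trans h₁.symm)
    exact congrArg CommaMorphism.left (mul_assoc a b c)
  e_s := Over.w η[G]
  e_t := Over.w η[G]
  comp_e := fun {T} α => by
    let a := ptOver G (α ≫ G.hom) α rfl
    exact congrArg CommaMorphism.left (mul_one a)
  e_comp := fun {T} α => by
    let a := ptOver G (α ≫ G.hom) α rfl
    exact congrArg CommaMorphism.left (one_mul a)
  i_s := Over.w ι[G]
  i_t := Over.w ι[G]
  comp_i := fun {T} α => by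
    let a := ptOver G (α ≫ G.hom) α rfl
    exact congrArg CommaMorphism.left (mul_inv_cancel a)
  i_comp := fun {T} α => by
    let a := ptOver G (α ≫ G.hom) α rfl
    exact congrArg CommaMorphism.left (inv_mul_cancel a)

variable {G} {H : Over S} [GrpObj H]

set_option backward.isDefEq.respectTransparency false in
/-- A homomorphism of group schemes as a morphism of groupoid schemes. -/
noncomputable def ofGrpHom (ψ : H ⟶ G) [IsMonHom ψ] :
    Grpd.GroupoidScheme.Hom (ofGrp H) (ofGrp G) where
  fU := 𝟙 S
  fR := ψ.left
  fU_over := Category.id_comp _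
  comm_s := (Over.w ψ).trans (Category.comp_id _).symm
  comm_t := (Over.w ψ).trans (Category.comp_id _).symm
  comm_c := fun {T} α β h => by
    let a := ptOver H (α ≫ H.hom) α rfl
    let b := ptOver H (α ≫ H.hom) β h.symm
    exact congrArg CommaMorphism.left (MonObj.mul_comp a b ψ)

end Groth.Agent.Lib.Helper72.GrpdPts
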