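import Groth.Agent.Lib.Helper72.PerfectReduced
import Groth.Agent.Lib.Helper72.FieldBase
import Groth.Agent.Lib.Helper72.GrpdRestrict
import Groth.Agent.S2285

/-!
# The reduced closure of the image of a morphism of groupoid schemes over a perfect field

* `clIdeal a`, `clScheme a`, `clι a`: the reduced induced closed subscheme on the closure of the image
  of `a`, with `exists_lift_cl`: morphisms from reduced schemes landing set-theoretically in the
  closure factor through it.
* `exists_reducedClosure_data`: for `f : G₁ ⟶ G₂` an isomorphism on objects with `G₂.U` the spectrum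
  of a perfect field, the structure maps of `G₂` restrict to `clScheme f.fR` (data for
  `GrpdPts.restrict`).
-/

set_option autoImplicit false

universe u

namespace Groth.Agent.Lib.Helper72.GrpdPts

open AlgebraicGeometry CategoryTheory CategoryTheory.Limits Grpd

section cl

variable {R₁ R₂ : Scheme.{u}} (a : R₁ ⟶ R₂)

/-- The vanishing ideal sheaf of the closure of the image of `a`. -/
noncomputable def clIdeal : R₂.IdealSheafData :=
  Scheme.IdealSheafData.vanishingIdeal ⟨closure (Set.range a), isClosed_closure⟩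

/-- The reduced induced closed subscheme on the closure of the image of `a`. -/
noncomputable abbrev clScheme : Scheme.{u} := (clIdeal a).subscheme

/-- The closed immersion of `clScheme a`. -/
noncomputable abbrev clι : clScheme a ⟶ R₂ := (clIdeal a).subschemeι

lemma range_clι : Set.range (clι a) = closure (Set.range a) := by
  rw [Scheme.IdealSheafData.range_subschemeι, clIdeal,
    Scheme.IdealSheafData.coe_support_vanishingIdeal]
  rfl

instance : AlgebraicGeometry.IsReduced (clScheme a) :=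
  Groth.Agent.S2285.isReduced_subscheme_vanishingIdeal _

theorem exists_lift_cl {W : Scheme.{u}} [AlgebraicGeometry.IsReduced W] (h : W ⟶ R₂)
    (hh : Set.range h ⊆ closure (Set.range a)) : ∃ g : W ⟶ clScheme a, g ≫ clι a = h := by
  have hker : (clι a).ker ≤ h.ker := by
    rw [Scheme.IdealSheafData.ker_subschemeι, ← Scheme.IdealSheafData.map_bot h,
      ← Scheme.nilradical_eq_bot, ← Scheme.IdealSheafData.vanishingIdeal_top,
      Scheme.IdealSheafData.map_vanishingIdeal, clIdeal]
    apply Scheme.IdealSheafData.vanishingIdeal_antimono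
    intro x hx
    change x ∈ closure (h '' Set.univ) at hx
    rw [Set.image_univ] at hx
    exact closure_minimal hh isClosed_closure hx
  exact ⟨IsClosedImmersion.lift (clι a) h hker, IsClosedImmersion.lift_fac _ _ _⟩

end cl

variable {S : Scheme.{u}} {G₁ G₂ : Grpd.GroupoidScheme S} (f : Grpd.GroupoidScheme.Hom G₁ G₂)

set_option backward.isDefEq.respectTransparency false in
theorem exists_reducedClosure_data [IsIso f.fU] (k : Type u) [Field k] [PerfectField k]
    (eU : G₂.U ≅ Spec (CommRingCat.of k)) :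
    ∃ (e' : G₂.U ⟶ clScheme f.fR) (_ : e' ≫ clι f.fR = G₂.e)
      (i' : clScheme f.fR ⟶ clScheme f.fR) (_ : i' ≫ clι f.fR = clι f.fR ≫ G₂.i)
      (c' : pullback (clι f.fR ≫ G₂.s) (clι f.fR ≫ G₂.t) ⟶ clScheme f.fR),
      c' ≫ clι f.fR = pullback.map (clι f.fR ≫ G₂.s) (clι f.fR ≫ G₂.t) G₂.s G₂.t
        (clι f.fR) (clι f.fR) (𝟙 G₂.U) (by simp) (by simp) ≫ G₂.c := by
  haveI := Groth.Agent.Lib.Helper72.FieldBase.isIntegral_of_iso_spec_field k eU
  haveI := Groth.Agent.Lib.Helper72.FieldBase.subsingleton_of_iso_spec_field k eU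
  -- identity
  obtain ⟨e', he⟩ := exists_lift_cl f.fR G₂.e (by
    rintro _ ⟨u, rfl⟩
    apply subset_closure
    refine ⟨G₁.e ((inv f.fU) u), ?_⟩
    rw [← Scheme.Hom.comp_apply, ← Scheme.Hom.comp_apply, Hom.e_comp_fR,
      IsIso.inv_hom_id_assoc])
  -- inverse
  have hi_cl : ∀ r ∈ closure (Set.range f.fR), G₂.i r ∈ closure (Set.range f.fR) := by
    intro r hr
    have h1 : G₂.i r ∈ G₂.i '' closure (Set.range f.fR) := ⟨r, hr, rfl⟩
    have h2 := image_closure_subset_closure_image (s := Set.range f.fR) G₂.i.continuous h1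
    refine closure_mono ?_ h2
    rintro _ ⟨_, ⟨w, rfl⟩, rfl⟩
    refine ⟨G₁.i w, ?_⟩
    rw [← Scheme.Hom.comp_apply, Hom.i_comp_fR, Scheme.Hom.comp_apply]
  obtain ⟨i', hi⟩ := exists_lift_cl f.fR (clι f.fR ≫ G₂.i) (by
    rintro _ ⟨z, rfl⟩
    rw [Scheme.Hom.comp_apply]
    apply hi_cl
    rw [← range_clι]
    exact ⟨z, rfl⟩)
  -- composition
  have hcond : pullback.fst (f.fR ≫ G₂.s) (f.fR ≫ G₂.t) ≫ G₁.s =
      pullback.snd (f.fR ≫ G₂.s) (f.fR ≫ G₂.t) ≫ G₁.t := by
    rw [← cancel_mono f.fU, Category.assoc, Category.assoc, ← f.comm_s, ← f.comm_t]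
    exact pullback.condition
  have hγ : (pullback.lift _ _ hcond ≫ G₁.c) ≫ f.fR =
      pullback.map (f.fR ≫ G₂.s) (f.fR ≫ G₂.t) G₂.s G₂.t f.fR f.fR (𝟙 G₂.U)
        (by simp) (by simp) ≫ G₂.c := by
    refine (f.comm_c _ _ hcond).trans ?_
    congr 1
  haveI : AlgebraicGeometry.IsReduced (pullback (clι f.fR ≫ G₂.s) (clι f.fR ≫ G₂.t)) :=
    Groth.Agent.Lib.Helper72.PerfectReduced.isReduced_pullback_of_perfectField eU _ _
  obtain ⟨c', hc⟩ := exists_lift_cl f.fR
    (pullback.map (clι f.fR ≫ G₂.s) (clι f.fR ≫ G₂.t) G₂.s G₂.t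
        (clι f.fR) (clι f.fR) (𝟙 G₂.U) (by simp) (by simp) ≫ G₂.c) (by
    rintro _ ⟨q, rfl⟩
    rw [Scheme.Hom.comp_apply]
    apply Groth.Agent.Lib.Helper72.FieldBase.comp_mem_closure G₂.s G₂.t f.fR G₂.c _ hγ
    · rw [← Scheme.Hom.comp_apply, pullback.lift_fst, Scheme.Hom.comp_apply, ← range_clι]
      exact ⟨_, rfl⟩
    · rw [← Scheme.Hom.comp_apply, pullback.lift_snd, Scheme.Hom.comp_apply, ← range_clι]
      exact ⟨_, rfl⟩)
  exact ⟨e', he, i', hi, c', hc⟩

end Groth.Agent.Lib.Helper72.GrpdPts
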