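import Groth.Agent.Lib.Helper72.IntClosureAlg
import Groth.Agent.Lib.Helper73.DimFT.Scheme

/-!
# The integral closure of the base field in the global functions does not depend on the field
(Stacks 04MK)
-/

set_option autoImplicit false

universe u

namespace Groth.Agent.Lib.Helper72.IntClosureIndep

open AlgebraicGeometry CategoryTheory CategoryTheory.Limits Polynomial TopologicalSpace Opposite

section stepA

variable {X : Scheme.{u}}

/-- On a connected reduced scheme, a global function integral over a field is zero or a unit. -/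
theorem eq_zero_or_isUnit_of_isIntegralElem [IsReduced X] [PreconnectedSpace X]
    {k : Type*} [Field k] (σ : k →+* Γ(X, ⊤)) (y : Γ(X, ⊤)) (hy : σ.IsIntegralElem y) :
    y = 0 ∨ IsUnit y := by
  obtain ⟨R, hRm, hR⟩ := hy
  obtain ⟨R₁, hR1, hnd⟩ := exists_eq_pow_rootMultiplicity_mul_and_not_dvd R hRm.ne_zero 0
  rw [C_0, sub_zero] at hR1 hnd
  have hr0 : R₁.coeff 0 ≠ 0 := fun h => hnd (X_dvd_iff.2 h)
  obtain ⟨m, hm⟩ : ∃ m, m = R.rootMultiplicity 0 := ⟨_, rfl⟩
  rw [← hm] at hR1
  have hw : eval₂ σ y R₁ = eval₂ σ y R₁.divX * y + σ (R₁.coeff 0) := by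
    conv_lhs => rw [← divX_mul_X_add R₁]
    rw [eval₂_add, eval₂_mul, eval₂_X, eval₂_C]
  have hyw : y ^ m * eval₂ σ y R₁ = 0 := by
    rw [← hR, hR1, eval₂_mul, eval₂_pow, eval₂_X]
  have hunit : IsUnit (σ (R₁.coeff 0)) := (IsUnit.mk0 _ hr0).map σ
  have hcompl : ((X.basicOpen y : Set X))ᶜ = X.basicOpen (eval₂ σ y R₁) := by
    ext p
    simp only [Set.mem_compl_iff, SetLike.mem_coe, Scheme.mem_basicOpen_top]
    constructor
    · intro hp
      by_contra hcon
      have h1 : X.presheaf.germ ⊤ p trivial (σ (R₁.coeff 0)) =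
          X.presheaf.germ ⊤ p trivial (eval₂ σ y R₁) -
            X.presheaf.germ ⊤ p trivial (eval₂ σ y R₁.divX) *
              X.presheaf.germ ⊤ p trivial y := by
        rw [hw, map_add, map_mul]; ring
      have h2 : IsUnit (X.presheaf.germ ⊤ p trivial (σ (R₁.coeff 0))) :=
        hunit.map (X.presheaf.germ ⊤ p trivial).hom
      have h3 : X.presheaf.germ ⊤ p trivial (σ (R₁.coeff 0)) ∈
          nonunits (X.presheaf.stalk p) := by
        rw [h1]
        rw [sub_eq_add_neg]
        refine IsLocalRing.nonunits_add hcon ?_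
        rw [mem_nonunits_iff, IsUnit.neg_iff]
        intro h
        exact hp (isUnit_of_mul_isUnit_right h)
      exact h3 h2
    · intro hp hp'
      have : IsUnit (X.presheaf.germ ⊤ p trivial (y ^ m * eval₂ σ y R₁)) := by
        rw [map_mul, map_pow]
        exact (hp'.pow m).mul hp
      rw [hyw, map_zero] at this
      exact not_isUnit_zero this
  have hclopen : IsClopen (X.basicOpen y : Set X) := by
    refine ⟨?_, (X.basicOpen y).isOpen⟩
    rw [← isOpen_compl_iff, hcompl]
    exact (X.basicOpen _).isOpen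
  rcases isClopen_iff.1 hclopen with h | h
  · left
    rw [← basicOpen_eq_bot_iff]
    exact Opens.ext h
  · right
    refine X.toRingedSpace.isUnit_of_isUnit_germ ⊤ y fun p hp => ?_
    have hp' : p ∈ (X.basicOpen y : Set X) := by rw [h]; trivial
    exact (Scheme.mem_basicOpen_top X y p).1 hp'

end stepA

/-- The ring map `A → Γ(X, ⊤)` attached to `X ⟶ Spec A` (same as `Coh.toGlobal`, with codomain
written as `Γ(X, ⊤)`). -/
noncomputable def tg {X : Scheme.{u}} {A : Type u} [CommRing A] (f : X ⟶ Spec (CommRingCat.of A)) :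
    A →+* Γ(X, ⊤) :=
  (f.appTop).hom.comp (Scheme.ΓSpecIso (CommRingCat.of A)).inv.hom

section stepC

variable {X : Scheme.{u}} {k : Type u} [Field k] (b : X ⟶ Spec (CommRingCat.of k))

/-- The structure map `k → Γ(X, ⊤) → Γ(X, U)`. -/
noncomputable def resHom (U : X.Opens) : k →+* Γ(X, U) :=
  (X.presheaf.map (homOfLE (le_top : U ≤ ⊤)).op).hom.comp (tg b)

lemma resHom_finiteType [LocallyOfFiniteType b] {U : X.Opens} (hU : IsAffineOpen U) :
    (resHom b U).FiniteType := by
  have h1 : (b.appLE ⊤ U le_top).hom.FiniteType :=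
    HasRingHomProperty.appLE (P := @LocallyOfFiniteType) b inferInstance
      ⟨⊤, isAffineOpen_top _⟩ ⟨U, hU⟩ le_top
  have h2 : resHom b U =
      (b.appLE ⊤ U le_top).hom.comp (Scheme.ΓSpecIso (CommRingCat.of k)).inv.hom := by
    ext c
    rfl
  rw [h2]
  refine h1.comp (RingHom.FiniteType.of_surjective _ ?_)
  exact (ConcreteCategory.bijective_of_isIso (Scheme.ΓSpecIso (CommRingCat.of k)).inv).2

variable [LocallyOfFiniteType b]

/-- If `x ^ n - 1` is zero or a unit for all `n ≥ 1`, then at every prime of every affine open,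
`x` is a root of a monic irreducible polynomial over `k`. -/
theorem exists_monic_irreducible_mem (x : Γ(X, ⊤))
    (H : ∀ n : ℕ, 1 ≤ n → x ^ n - 1 = 0 ∨ IsUnit (x ^ n - 1)) {U : X.Opens}
    (hU : IsAffineOpen U) (𝔭 : Ideal Γ(X, U)) [𝔭.IsPrime] :
    ∃ P : k[X], P.Monic ∧ Irreducible P ∧
      X.presheaf.map (homOfLE (le_top : U ≤ ⊤)).op (eval₂ (tg b) x P) ∈ 𝔭 := by
  let _ : Algebra k Γ(X, U) := (resHom b U).toAlgebra
  have hft : Algebra.FiniteType k Γ(X, U) := resHom_finiteType b hU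
  have hftD : Algebra.FiniteType k (Γ(X, U) ⧸ 𝔭) :=
    Algebra.FiniteType.of_surjective (Ideal.Quotient.mkₐ k 𝔭) (Ideal.Quotient.mkₐ_surjective k 𝔭)
  have hres : ∀ P : k[X], Ideal.Quotient.mk 𝔭
      (X.presheaf.map (homOfLE (le_top : U ≤ ⊤)).op (eval₂ (tg b) x P)) =
      aeval (Ideal.Quotient.mk 𝔭 (X.presheaf.map (homOfLE (le_top : U ≤ ⊤)).op x)) P := by
    intro P
    have h1 : X.presheaf.map (homOfLE (le_top : U ≤ ⊤)).op (eval₂ (tg b) x P) =
        aeval (X.presheaf.map (homOfLE (le_top : U ≤ ⊤)).op x) P := by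
      show (X.presheaf.map (homOfLE (le_top : U ≤ ⊤)).op).hom (eval₂ (tg b) x P) = _
      rw [hom_eval₂]
      rfl
    rw [h1]
    exact (aeval_algHom_apply (Ideal.Quotient.mkₐ k 𝔭) _ P).symm
  by_cases halg : IsAlgebraic k
      (Ideal.Quotient.mk 𝔭 (X.presheaf.map (homOfLE (le_top : U ≤ ⊤)).op x))
  · refine ⟨minpoly k _, minpoly.monic halg.isIntegral, minpoly.irreducible halg.isIntegral, ?_⟩
    rw [← Ideal.Quotient.eq_zero_iff_mem, hres]
    exact minpoly.aeval _ _
  · exfalso
    obtain ⟨n, hn1, Q, hQ⟩ := IntClosureAlg.exists_prime_pow_sub_one_mem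
      (Ideal.Quotient.mk 𝔭 (X.presheaf.map (homOfLE (le_top : U ≤ ⊤)).op x)) halg
    have hxn : Ideal.Quotient.mk 𝔭 (X.presheaf.map (homOfLE (le_top : U ≤ ⊤)).op (x ^ n - 1)) =
        (Ideal.Quotient.mk 𝔭 (X.presheaf.map (homOfLE (le_top : U ≤ ⊤)).op x)) ^ n - 1 := by
      rw [map_sub, map_pow, map_one, map_sub, map_pow, map_one]
    rcases H n hn1 with h0 | hu
    · apply halg
      have hmon : (Polynomial.X ^ n - Polynomial.C (1 : k)).Monic :=
        monic_X_pow_sub_C (1 : k) (by omega)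
      refine ⟨Polynomial.X ^ n - Polynomial.C (1 : k), hmon.ne_zero, ?_⟩
      rw [h0, map_zero, map_zero] at hxn
      simp only [map_sub, map_pow, aeval_X, map_one]
      exact hxn.symm
    · have hu' : IsUnit ((Ideal.Quotient.mk 𝔭
          (X.presheaf.map (homOfLE (le_top : U ≤ ⊤)).op x)) ^ n - 1) := by
        rw [← hxn]
        exact (hu.map (X.presheaf.map (homOfLE (le_top : U ≤ ⊤)).op).hom).map
          (Ideal.Quotient.mk 𝔭)
      exact Q.isPrime.ne_top (Ideal.eq_top_of_isUnit_mem _ hQ hu')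

end stepC

section stepD

variable {X : Scheme.{u}} {k : Type u} [Field k] (b : X ⟶ Spec (CommRingCat.of k))

omit [Field k] in
/-- Membership in the prime of `Γ(X, U)` attached to a point, in terms of basic opens. -/
lemma mem_comap_germ_iff {k : Type u} [CommRing k] {U : X.Opens} (p : X) (hp : p ∈ U)
    (g : Γ(X, ⊤)) :
    X.presheaf.map (homOfLE (le_top : U ≤ ⊤)).op g ∈
      Ideal.comap (X.presheaf.germ U p hp).hom (IsLocalRing.maximalIdeal (X.presheaf.stalk p)) ↔
      p ∉ X.basicOpen g := by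
  rw [Ideal.mem_comap, IsLocalRing.mem_maximalIdeal, mem_nonunits_iff, Scheme.mem_basicOpen_top]
  have : (X.presheaf.germ U p hp).hom (X.presheaf.map (homOfLE (le_top : U ≤ ⊤)).op g) =
      X.presheaf.germ ⊤ p trivial g := X.presheaf.germ_res_apply _ _ _ _
  rw [this]

/-- Distinct monic irreducible polynomials cannot both vanish at `x` at a point. -/
lemma eq_of_notMem_basicOpen (x : Γ(X, ⊤)) {P P' : k[X]} (hP : P.Monic) (hPi : Irreducible P)
    (hP' : P'.Monic) (hPi' : Irreducible P') (p : X)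
    (h1 : p ∉ X.basicOpen (eval₂ (tg b) x P))
    (h2 : p ∉ X.basicOpen (eval₂ (tg b) x P')) : P = P' := by
  by_contra hne
  have hcop : IsCoprime P P' := by
    rw [Irreducible.coprime_iff_not_dvd hPi]
    intro hdvd
    exact hne (eq_of_monic_of_associated hP hP' (hPi.associated_of_dvd hPi' hdvd))
  obtain ⟨u, v, huv⟩ := hcop
  have h3 : eval₂ (tg b) x u * eval₂ (tg b) x P +
      eval₂ (tg b) x v * eval₂ (tg b) x P' = 1 := by
    rw [← eval₂_mul, ← eval₂_mul, ← eval₂_add, huv, eval₂_one]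
  have h4 : p ∈ X.basicOpen (eval₂ (tg b) x u * eval₂ (tg b) x P +
      eval₂ (tg b) x v * eval₂ (tg b) x P') := by
    rw [h3, Scheme.basicOpen_one]; trivial
  rcases X.basicOpen_add_le _ _ h4 with h5 | h5
  · rw [Scheme.basicOpen_mul] at h5
    exact h1 h5.2
  · rw [Scheme.basicOpen_mul] at h5
    exact h2 h5.2

variable [LocallyOfFiniteType b] [IsReduced X] [ConnectedSpace X]

/-- If `x ^ n - 1` is zero or a unit for all `n ≥ 1` on a connected reduced scheme locally of finite
type over `k`, then `x` is integral over `k`. -/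
theorem isIntegralElem_of_forall_pow (x : Γ(X, ⊤))
    (H : ∀ n : ℕ, 1 ≤ n → x ^ n - 1 = 0 ∨ IsUnit (x ^ n - 1)) :
    (tg b).IsIntegralElem x := by
  have hex : ∀ p : X, ∃ P : k[X], P.Monic ∧ Irreducible P ∧
      p ∉ X.basicOpen (eval₂ (tg b) x P) := by
    intro p
    obtain ⟨U, hU, hpU, -⟩ :=
      exists_isAffineOpen_mem_and_subset (X := X) (x := p) (U := ⊤) trivial
    have hprime : (Ideal.comap (X.presheaf.germ U p hpU).hom
        (IsLocalRing.maximalIdeal (X.presheaf.stalk p))).IsPrime := Ideal.IsPrime.comap _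
    obtain ⟨P, hPm, hPi, hmem⟩ := exists_monic_irreducible_mem b x H hU
      (Ideal.comap (X.presheaf.germ U p hpU).hom (IsLocalRing.maximalIdeal (X.presheaf.stalk p)))
    exact ⟨P, hPm, hPi, (mem_comap_germ_iff (k := k) p hpU _).1 hmem⟩
  obtain ⟨p₀⟩ : Nonempty X := inferInstance
  obtain ⟨P₀, hP₀m, hP₀i, hp₀⟩ := hex p₀
  have hclosed : IsClosed ((X.basicOpen (eval₂ (tg b) x P₀) : Set X)ᶜ) :=
    (X.basicOpen _).isOpen.isClosed_compl
  have hopen : IsOpen ((X.basicOpen (eval₂ (tg b) x P₀) : Set X)ᶜ) := by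
    rw [isOpen_iff_mem_nhds]
    intro p hp
    obtain ⟨W, hW, hpW, hall⟩ :=
      Groth.Agent.Lib.Helper73.exists_open_forall_exists_generic_scheme b p
    refine Filter.mem_of_superset (hW.mem_nhds hpW) fun w hw => ?_
    obtain ⟨η, hηw, hηp⟩ := hall w hw
    obtain ⟨Pη, hm, hi, hη⟩ := hex η
    have hclη : IsClosed ((X.basicOpen (eval₂ (tg b) x Pη) : Set X)ᶜ) :=
      (X.basicOpen _).isOpen.isClosed_compl
    have hpη : p ∈ (X.basicOpen (eval₂ (tg b) x Pη) : Set X)ᶜ :=
      hηp.mem_closed hclη hη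
    have hwη : w ∈ (X.basicOpen (eval₂ (tg b) x Pη) : Set X)ᶜ :=
      hηw.mem_closed hclη hη
    have heq : P₀ = Pη := eq_of_notMem_basicOpen b x hP₀m hP₀i hm hi p hp hpη
    rw [heq]
    exact hwη
  have huniv := IsClopen.eq_univ ⟨hclosed, hopen⟩ ⟨p₀, hp₀⟩
  refine ⟨P₀, hP₀m, ?_⟩
  rw [← basicOpen_eq_bot_iff]
  apply Opens.ext
  exact Set.compl_univ_iff.1 huniv

end stepD

section main

variable {X : Scheme.{u}} [IsReduced X] [ConnectedSpace X] {k₁ k₂ : Type u} [Field k₁] [Field k₂]
  (a : X ⟶ Spec (CommRingCat.of k₁)) (b : X ⟶ Spec (CommRingCat.of k₂)) [LocallyOfFiniteType b]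

lemma isIntegralElem_pow {R S : Type*} [CommRing R] [CommRing S] (f : R →+* S) {x : S}
    (hx : f.IsIntegralElem x) (n : ℕ) : f.IsIntegralElem (x ^ n) := by
  induction n with
  | zero => rw [pow_zero]; exact f.isIntegralElem_one
  | succ n ih => rw [pow_succ]; exact ih.mul f hx

/-- **Stacks 04MK**, one direction: on a connected reduced scheme locally of finite type over `k₂`,
a global function integral over another field `k₁` is integral over `k₂`. -/
theorem isIntegralElem_of_isIntegralElem (x : Γ(X, ⊤)) (hx : (tg a).IsIntegralElem x) :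
    (tg b).IsIntegralElem x := by
  apply isIntegralElem_of_forall_pow b x
  intro n _
  apply eq_zero_or_isUnit_of_isIntegralElem (tg a)
  exact RingHom.IsIntegralElem.sub _ (isIntegralElem_pow _ hx n) (tg a).isIntegralElem_one

end main

end Groth.Agent.Lib.Helper72.IntClosureIndep
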