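import Groth.Agent.Lib.Helper72.GrpdDim
import Groth.Agent.Lib.Helper72.IntClosureIndep
import Mathlib.AlgebraicGeometry.Morphisms.Immersion

/-!
# The stabilizer of a groupoid scheme locally of finite type over a field has the dimension of `R`
-/

set_option autoImplicit false

universe u

namespace Groth.Agent.Lib.Helper72.GrpdStab

open AlgebraicGeometry CategoryTheory CategoryTheory.Limits IsLocalRing Polynomial
open Groth.Agent.Lib.Helper72.GrpdComp Groth.Agent.Lib.Helper72.IntClosureIndep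

/-- An integral element of a domain over a field which is killed by a retraction onto the field is
zero. -/
lemma eq_zero_of_isIntegralElem_of_retraction {k A : Type*} [Field k] [CommRing A] [IsDomain A]
    (σ : k →+* A) (ε : A →+* k) (hε : ∀ c, ε (σ c) = c) (z : A) (hz : σ.IsIntegralElem z)
    (hεz : ε z = 0) : z = 0 := by
  let _ : Algebra k A := σ.toAlgebra
  have hint : IsIntegral k z := hz
  have hroot : (minpoly k z).eval 0 = 0 := by
    have h1 : ε (aeval z (minpoly k z)) = 0 := by rw [minpoly.aeval, map_zero]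
    have h2 : ε (aeval z (minpoly k z)) = eval₂ (ε.comp σ) (ε z) (minpoly k z) := by
      show ε (eval₂ σ z (minpoly k z)) = _
      rw [hom_eval₂]
    rw [h2, hεz] at h1
    have h3 : ε.comp σ = RingHom.id k := RingHom.ext hε
    rw [h3] at h1
    exact h1
  have hdvd : (Polynomial.X : k[X]) ∣ minpoly k z := by
    rw [X_dvd_iff, coeff_zero_eq_eval_zero]
    exact hroot
  obtain ⟨Q, hQ⟩ := hdvd
  have hmon : (Polynomial.X * Q).Monic := hQ ▸ minpoly.monic hint
  have hQm : Q.Monic := (monic_X.of_mul_monic_left) hmon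
  have h0 : aeval z (minpoly k z) = 0 := minpoly.aeval _ _
  rw [hQ, map_mul, aeval_X] at h0
  rcases mul_eq_zero.1 h0 with h | h
  · exact h
  · exfalso
    have hle := minpoly.min k z hQm h
    rw [hQ, degree_mul, degree_X] at hle
    have hQ0 : Q ≠ 0 := hQm.ne_zero
    have hd : Q.degree = (Q.natDegree : WithBot ℕ) := degree_eq_natDegree hQ0
    rw [hd] at hle
    have : ((1 : ℕ) : WithBot ℕ) + (Q.natDegree : WithBot ℕ) ≤ (Q.natDegree : WithBot ℕ) := by
      exact_mod_cast hle
    have h2 : (1 + Q.natDegree : ℕ) ≤ Q.natDegree := by exact_mod_cast this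
    omega

section key

variable {S : Scheme.{u}} (G : Grpd.GroupoidScheme S) (k : Type u) [Field k]
  (eU : G.U ≅ Spec (CommRingCat.of k)) [LocallyOfFiniteType G.s]
  {Y : Scheme.{u}} (j : Y ⟶ G.R) [IsClosedImmersion j] [IsReduced Y] [IrreducibleSpace Y]
  (e₁ : G.U ⟶ Y) (he₁ : e₁ ≫ j = G.e)

include he₁ eU in
/-- Source and target agree on a reduced irreducible closed subscheme through the identity. -/
theorem comp_s_eq_comp_t : j ≫ G.s = j ≫ G.t := by
  have hY : IsIntegral Y := isIntegral_of_irreducibleSpace_of_isReduced Y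
  rw [← cancel_mono eU.hom, Category.assoc, Category.assoc]
  have hef : (eU.inv ≫ e₁) ≫ j ≫ G.s ≫ eU.hom = 𝟙 _ := by
    rw [Category.assoc, reassoc_of% he₁, reassoc_of% G.e_s, Iso.inv_hom_id]
  have heg : (eU.inv ≫ e₁) ≫ j ≫ G.t ≫ eU.hom = 𝟙 _ := by
    rw [Category.assoc, reassoc_of% he₁, reassoc_of% G.e_t, Iso.inv_hom_id]
  obtain ⟨ε, hεdef⟩ : ∃ ε : Γ(Y, ⊤) →+* k, ε =
      (Scheme.ΓSpecIso (CommRingCat.of k)).hom.hom.comp (eU.inv ≫ e₁).appTop.hom := ⟨_, rfl⟩
  have hε : ∀ (h : Y ⟶ Spec (CommRingCat.of k)), (eU.inv ≫ e₁) ≫ h = 𝟙 _ →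
      ∀ c, ε (tg h c) = c := by
    intro h hh c
    rw [hεdef]
    show (Scheme.ΓSpecIso (CommRingCat.of k)).hom.hom ((eU.inv ≫ e₁).appTop.hom
      (h.appTop.hom ((Scheme.ΓSpecIso (CommRingCat.of k)).inv.hom c))) = c
    have h1 : (eU.inv ≫ e₁).appTop.hom (h.appTop.hom
        ((Scheme.ΓSpecIso (CommRingCat.of k)).inv.hom c)) =
        ((eU.inv ≫ e₁) ≫ h).appTop.hom ((Scheme.ΓSpecIso (CommRingCat.of k)).inv.hom c) := by
      rw [Scheme.Hom.comp_appTop]
      rfl
    rw [h1, hh]
    show (Scheme.ΓSpecIso (CommRingCat.of k)).hom.hom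
      ((𝟙 (Spec (CommRingCat.of k)) : _ ⟶ _).appTop.hom
        ((Scheme.ΓSpecIso (CommRingCat.of k)).inv.hom c)) = c
    rw [Scheme.Hom.id_appTop]
    exact congrArg (fun φ => φ.hom c) (Scheme.ΓSpecIso (CommRingCat.of k)).inv_hom_id
  apply ext_of_isAffine
  ext c'
  obtain ⟨c, rfl⟩ : ∃ c : k, (Scheme.ΓSpecIso (CommRingCat.of k)).inv.hom c = c' :=
    ⟨(Scheme.ΓSpecIso (CommRingCat.of k)).hom.hom c',
      congrArg (fun φ => φ.hom c') (Scheme.ΓSpecIso (CommRingCat.of k)).hom_inv_id⟩
  show tg (j ≫ G.s ≫ eU.hom) c = tg (j ≫ G.t ≫ eU.hom) c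
  have hy : (tg (j ≫ G.t ≫ eU.hom)).IsIntegralElem (tg (j ≫ G.t ≫ eU.hom) c) :=
    (tg (j ≫ G.t ≫ eU.hom)).isIntegralElem_map
  have hy' : (tg (j ≫ G.s ≫ eU.hom)).IsIntegralElem (tg (j ≫ G.t ≫ eU.hom) c) :=
    isIntegralElem_of_isIntegralElem (j ≫ G.t ≫ eU.hom) (j ≫ G.s ≫ eU.hom) _ hy
  have hz : (tg (j ≫ G.s ≫ eU.hom)).IsIntegralElem
      (tg (j ≫ G.t ≫ eU.hom) c - tg (j ≫ G.s ≫ eU.hom) c) :=
    RingHom.IsIntegralElem.sub _ hy' (tg (j ≫ G.s ≫ eU.hom)).isIntegralElem_map
  have hεz : ε (tg (j ≫ G.t ≫ eU.hom) c - tg (j ≫ G.s ≫ eU.hom) c) = 0 := by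
    rw [map_sub, hε _ heg, hε _ hef, sub_self]
  have := eq_zero_of_isIntegralElem_of_retraction (tg (j ≫ G.s ≫ eU.hom)) ε (hε _ hef) _ hz hεz
  exact (sub_eq_zero.1 this).symm

end key

section dim

variable {S : Scheme.{u}} (G : Grpd.GroupoidScheme S) (k : Type u) [Field k]
  (eU : G.U ≅ Spec (CommRingCat.of k)) [LocallyOfFiniteType G.s] [LocallyOfFiniteType G.t]

instance : IsImmersion (pullback.fst G.j G.diag) := by
  have : IsImmersion G.diag := inferInstanceAs (IsImmersion (pullback.diagonal G.pU))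
  exact MorphismProperty.pullback_fst _ _ this

include eU in
/-- **The stabilizer has the same dimension as `R`.** -/
theorem dim_stabilizer_eq : topologicalKrullDim G.R = topologicalKrullDim G.stabilizer := by
  have hsub : Subsingleton G.U :=
    eU.hom.homeomorph.injective.subsingleton (β := PrimeSpectrum k)
  have hne : Nonempty G.U := ⟨eU.inv (closedPoint k)⟩
  have hint : IsIntegral G.U := isIntegral_of_isOpenImmersion eU.hom
  apply le_antisymm
  · -- `dim R = dim Z₀ ≤ dim Stab`
    have hZ := irreducibleComponent_mem_irreducibleComponents (G.e (eU.inv (closedPoint k)))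
    obtain ⟨Y, j, hj, hred, hr, hl⟩ := GrpComp.exists_reduced_closedSubscheme
      (irreducibleComponent (G.e (eU.inv (closedPoint k)))) isClosed_irreducibleComponent
    have hirr : IrreducibleSpace Y := GrpComp.irreducibleSpace_of_range j (hr ▸ hZ.1)
    obtain ⟨e₁, he₁⟩ := hl G.e (by
      rintro _ ⟨p, rfl⟩
      have : p = eU.inv (closedPoint k) := Subsingleton.elim _ _
      rw [this]
      exact mem_irreducibleComponent)
    have hst := comp_s_eq_comp_t G k eU j e₁ he₁
    have hcond : j ≫ G.j = (j ≫ G.s) ≫ G.diag := by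
      apply pullback.hom_ext
      · rw [Category.assoc, Category.assoc, Grpd.GroupoidScheme.j, pullback.lift_fst,
          Grpd.GroupoidScheme.diag, pullback.lift_fst, Category.comp_id, hst]
      · rw [Category.assoc, Category.assoc, Grpd.GroupoidScheme.j, pullback.lift_snd,
          Grpd.GroupoidScheme.diag, pullback.lift_snd, Category.comp_id]
    have hlift : pullback.lift j (j ≫ G.s) hcond ≫ pullback.fst G.j G.diag = j :=
      pullback.lift_fst _ _ _
    have hemb : Topology.IsEmbedding (pullback.lift j (j ≫ G.s) hcond) := by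
      refine Topology.IsEmbedding.of_comp (pullback.lift j (j ≫ G.s) hcond).continuous
        (pullback.fst G.j G.diag).continuous ?_
      have : (⇑(pullback.fst G.j G.diag) ∘ ⇑(pullback.lift j (j ≫ G.s) hcond)) = ⇑j := by
        funext y
        exact GrpdDim.app_eq hlift y
      rw [this]
      exact j.isEmbedding
    have h1 : topologicalKrullDim Y ≤ topologicalKrullDim G.stabilizer :=
      hemb.isInducing.topologicalKrullDim_le
    have h2 : topologicalKrullDim Y =
        topologicalKrullDim ↥(irreducibleComponent (G.e (eU.inv (closedPoint k)))) := by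
      rw [← hr]
      exact IsHomeomorph.topologicalKrullDim_eq _ j.isEmbedding.toHomeomorph.isHomeomorph
    rw [← GrpdDim.dim_component_eq G k eU hZ, ← h2]
    exact h1
  · exact (pullback.fst G.j G.diag).isEmbedding.isInducing.topologicalKrullDim_le

end dim

end Groth.Agent.Lib.Helper72.GrpdStab
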