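import Groth.Agent.Lib.Helper72.GrpCompQC
import Groth.Agent.Lib.Helper72.DimBC

/-!
# Homogeneous spaces locally of finite type over a field are equidimensional

If a group scheme `G` locally of finite type over a field acts on `X` locally of finite type such
that `(g, x) ↦ (g • x, x)` is surjective, then the local dimension of `X` is constant, and every
nonempty open subset of `X` has the same dimension.
-/

set_option autoImplicit false

universe u

open CategoryTheory CategoryTheory.Limits MonoidalCategory CartesianMonoidalCategory MonObj GrpObj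
  AlgebraicGeometry IsLocalRing

namespace Groth.Agent.Lib.Helper72.HomogDim

open Groth.Agent.Lib.Helper72.TransT Groth.Agent.Lib.Helper72.GrpCompQC
open Groth.Agent.Lib.Helper73

variable {K : Type u} [Field K] {G X : Over (Spec (CommRingCat.of K))} [GrpObj G]
  [LocallyOfFiniteType G.hom] [LocallyOfFiniteType X.hom] (a : AlgGrp.Action G X)

instance : LocallyOfFiniteType (G ⊗ X).hom := by
  have : (G ⊗ X).hom = pullback.fst G.hom X.hom ≫ G.hom := rfl
  rw [this]
  infer_instance

lemma eq_of_specializes_of_isClosed {Y : Type*} [TopologicalSpace Y] {x z : Y} (h : x ⤳ z)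
    (hx : IsClosed ({x} : Set Y)) : z = x := by
  have := specializes_iff_mem_closure.mp h
  rwa [hx.closure_eq] at this

/-- The local dimension at a field-valued point `ξ` finite over the base equals the local
dimension at `g • ξ`. -/
theorem localDim_point_eq {L : Type u} [Field L]
    (t : Spec (CommRingCat.of L) ⟶ Spec (CommRingCat.of K)) [IsFinite t]
    (g : Over.mk t ⟶ G) (ξ : Over.mk t ⟶ X) :
    FlatMor.localDim X.left (ξ.left (closedPoint L)) =
      FlatMor.localDim X.left ((lift g ξ ≫ a.act).left (closedPoint L)) := by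
  let T : Over (Spec (CommRingCat.of K)) := Over.mk t
  let ξ' : T ⟶ X := lift g ξ ≫ a.act
  let τ : X ⊗ T ≅ X ⊗ T := trTIso a g
  have hτ : lift ξ (𝟙 T) ≫ τ.hom = lift ξ' (𝟙 T) := by
    rw [trTIso_hom, lift_trT]
  let pt : T.left := closedPoint L
  let π : (X ⊗ T).left ⟶ X.left := prj X t
  haveI : IsIso τ.hom.left := inferInstanceAs (IsIso ((Over.forget _).map τ.hom))
  let τh : (X ⊗ T).left ≃ₜ (X ⊗ T).left := τ.hom.left.homeomorph
  have h12 : τh ((lift ξ (𝟙 T)).left pt) = (lift ξ' (𝟙 T)).left pt :=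
    app_eq (a := (lift ξ (𝟙 T)).left) (b := τ.hom.left) (congrArg Over.Hom.left hτ) pt
  have hπ1 : π ((lift ξ (𝟙 T)).left pt) = ξ.left pt := by
    have h1 : lift ξ (𝟙 T) ≫ fst X T = ξ := lift_fst _ _
    exact app_eq (a := (lift ξ (𝟙 T)).left) (b := (fst X T).left) (congrArg Over.Hom.left h1) pt
  have hπ2 : π ((lift ξ' (𝟙 T)).left pt) = ξ'.left pt := by
    have h1 : lift ξ' (𝟙 T) ≫ fst X T = ξ' := lift_fst _ _
    exact app_eq (a := (lift ξ' (𝟙 T)).left) (b := (fst X T).left) (congrArg Over.Hom.left h1) pt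
  have hd : ∀ p : (X ⊗ T).left,
      FlatMor.localDim (X ⊗ T).left p = FlatMor.localDim X.left (π p) := fun p =>
    DimBC.localDim_eq_of_isOpenMap X.hom (pullback.snd X.hom t) π (isOpenMap_prj X t) p
  have h3 := DimLFT.localDim_homeomorph τh ((lift ξ (𝟙 T)).left pt)
  rw [h12, hd, hd, hπ1, hπ2] at h3
  exact h3

variable (hΦ : ∀ x y : X.left, ∃ w : (G ⊗ X).left, a.act.left w = x ∧ (snd G X).left w = y)
include hΦ

/-- The local dimension at closed points is constant. -/
theorem localDim_eq_of_closed (x y : X.left) (hx : IsClosed ({x} : Set X.left))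
    (hy : IsClosed ({y} : Set X.left)) :
    FlatMor.localDim X.left x = FlatMor.localDim X.left y := by
  obtain ⟨w₀, hw₀x, hw₀y⟩ := hΦ x y
  obtain ⟨w, -, hw₀w, hw⟩ :=
    DimLFT.exists_specializes_isClosed (G ⊗ X).hom isOpen_univ (Set.mem_univ w₀)
  have hwx : a.act.left w = x := by
    have := hw₀w.map a.act.left.continuous
    rw [hw₀x] at this
    exact eq_of_specializes_of_isClosed this hx
  have hwy : (snd G X).left w = y := by
    have := hw₀w.map (snd G X).left.continuous
    rw [hw₀y] at this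
    exact eq_of_specializes_of_isClosed this hy
  obtain ⟨ρ, hρdef⟩ : ∃ ρ : Spec (CommRingCat.of ((G ⊗ X).left.residueField w)) ⟶ (G ⊗ X).left,
      ρ = (G ⊗ X).left.fromSpecResidueField w := ⟨_, rfl⟩
  have hρ : ρ (closedPoint ((G ⊗ X).left.residueField w)) = w := by
    rw [hρdef]; exact Scheme.fromSpecResidueField_apply _ _
  have hci : IsClosedImmersion ρ := by
    rw [hρdef]; exact isClosed_singleton_iff_isClosedImmersion.mp hw
  haveI : JacobsonSpace ↥(Spec (CommRingCat.of K)) := inferInstance
  have hfin : IsFinite (ρ ≫ (G ⊗ X).hom) :=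
    isFinite_iff_locallyOfFiniteType_of_jacobsonSpace.mpr inferInstance
  let T : Over (Spec (CommRingCat.of K)) := Over.mk (ρ ≫ (G ⊗ X).hom)
  let ρ' : T ⟶ G ⊗ X := Over.homMk ρ rfl
  have key := localDim_point_eq a (ρ ≫ (G ⊗ X).hom) (ρ' ≫ fst G X) (ρ' ≫ snd G X)
  have e1 : lift (ρ' ≫ fst G X) (ρ' ≫ snd G X) = ρ' := by
    rw [← comp_lift, lift_fst_snd, Category.comp_id]
  rw [e1] at key
  have k1 : (ρ' ≫ snd G X).left (closedPoint ((G ⊗ X).left.residueField w)) = y := by
    show (snd G X).left (ρ (closedPoint _)) = y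
    rw [hρ, hwy]
  have k2 : (ρ' ≫ a.act).left (closedPoint ((G ⊗ X).left.residueField w)) = x := by
    show a.act.left (ρ (closedPoint _)) = x
    rw [hρ, hwx]
  rw [k1, k2] at key
  exact key.symm

/-- The local dimension is constant. -/
theorem exists_localDim_eq [Nonempty X.left] :
    ∃ d : WithBot ℕ∞, ∀ x : X.left, FlatMor.localDim X.left x = d := by
  obtain ⟨x₁⟩ := ‹Nonempty X.left›
  obtain ⟨x₀, -, -, hx₀⟩ :=
    DimLFT.exists_specializes_isClosed X.hom isOpen_univ (Set.mem_univ x₁)
  refine ⟨FlatMor.localDim X.left x₀, fun x => ?_⟩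
  exact DimLFT.localDim_eq_of_forall_closed X.hom _
    (fun r hr => localDim_eq_of_closed a hΦ r x₀ hr hx₀) x

/-- All nonempty open subsets have the same dimension. -/
theorem exists_dim_open_eq [Nonempty X.left] :
    ∃ d : WithBot ℕ∞, ∀ W : Set X.left, IsOpen W → W.Nonempty → topologicalKrullDim ↥W = d := by
  obtain ⟨d, hd⟩ := exists_localDim_eq a hΦ
  refine ⟨d, fun W hW ⟨z, hz⟩ => le_antisymm ?_ ?_⟩
  · rw [topologicalKrullDim_open_eq_iSup_trdegNat X.hom hW]
    refine iSup_le fun y => ?_
    exact (DimLFT.trdegNat_le_localDim X.hom y.1).trans (hd y.1).le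
  · rw [← hd z]
    unfold FlatMor.localDim
    exact iInf_le (fun U : {U : TopologicalSpace.Opens X.left // z ∈ U} =>
      topologicalKrullDim ↥(U.1 : Set X.left)) ⟨⟨W, hW⟩, hz⟩

/-- All connected components have the same dimension. -/
theorem dim_connectedComponent_eq (x y : X.left) :
    topologicalKrullDim ↥(connectedComponent x) = topologicalKrullDim ↥(connectedComponent y) := by
  haveI : Nonempty X.left := ⟨x⟩
  haveI : IsLocallyNoetherian X.left := LocallyOfFiniteType.isLocallyNoetherian X.hom
  haveI : LocallyConnectedSpace X.left := locallyConnectedSpace_of_isLocallyNoetherian _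
  obtain ⟨d, hd⟩ := exists_dim_open_eq a hΦ
  rw [hd _ isOpen_connectedComponent ⟨x, mem_connectedComponent⟩,
    hd _ isOpen_connectedComponent ⟨y, mem_connectedComponent⟩]

end Groth.Agent.Lib.Helper72.HomogDim
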