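import Groth.Agent.Lib.Helper72.HomogSpace
import Groth.Agent.Lib.Helper78.HomogDense

/-!
# Homogeneous spaces over a base whose fibres are connected and quasi-separated
(SGA3 VI_B 5.x / 6.x): fibres are irreducible, the space is separated and quasi-compact criteria.
-/

set_option autoImplicit false
set_option linter.style.haveILetI false
set_option linter.unusedSectionVars false

universe u

namespace Groth.Agent.Lib.Helper72.HomogFibre

open AlgebraicGeometry CategoryTheory CategoryTheory.Limits MonoidalCategory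
  CartesianMonoidalCategory MonObj GrpObj Groth.Agent.Lib.Helper72.GrpComp
  Groth.Agent.Lib.Helper72.HomogSpace

section General

variable {S S' : Scheme.{u}} (f : S' ⟶ S) {G X : Over S} [GrpObj G] (a : AlgGrp.Action G X)

theorem bc_lift_act_comp_μ' :
    lift (a.bc f).act (snd (Red.bc f G) (Red.bc f X)) ≫
        Functor.LaxMonoidal.μ (Over.pullback f) X X =
      Functor.LaxMonoidal.μ (Over.pullback f) G X ≫
        (Over.pullback f).map (lift a.act (snd G X)) := by
  apply Over.OverMorphism.ext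
  apply pullback.hom_ext
  · apply pullback.hom_ext
    · simp only [Over.comp_left, Category.assoc]
      rw [ActBC.μ_left_fst_fst, ActBC.pullback_map_left_fst_assoc]
      have h1 : (lift (a.bc f).act (snd (Red.bc f G) (Red.bc f X))).left ≫
          pullback.fst (Red.bc f X).hom (Red.bc f X).hom = (a.bc f).act.left :=
        congrArg CommaMorphism.left
          (lift_fst (a.bc f).act (snd (Red.bc f G) (Red.bc f X)))
      have h2 : (lift a.act (snd G X)).left ≫ pullback.fst X.hom X.hom = a.act.left :=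
        congrArg CommaMorphism.left (lift_fst a.act (snd G X))
      rw [reassoc_of% h1, h2, AlgGrp.Action.bc_act, Over.comp_left, Category.assoc,
        ActBC.pullback_map_left_fst]
    · simp only [Over.comp_left, Category.assoc]
      rw [ActBC.μ_left_fst_snd, ActBC.pullback_map_left_fst_assoc]
      have h1 : (lift (a.bc f).act (snd (Red.bc f G) (Red.bc f X))).left ≫
          pullback.snd (Red.bc f X).hom (Red.bc f X).hom =
            pullback.snd (Red.bc f G).hom (Red.bc f X).hom :=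
        congrArg CommaMorphism.left
          (lift_snd (a.bc f).act (snd (Red.bc f G) (Red.bc f X)))
      have h2 : (lift a.act (snd G X)).left ≫ pullback.snd X.hom X.hom =
          pullback.snd G.hom X.hom :=
        congrArg CommaMorphism.left (lift_snd a.act (snd G X))
      rw [reassoc_of% h1, h2, ActBC.μ_left_fst_snd]
  · exact (Over.w _).trans (Over.w _).symm

/-- Transitivity of an action is stable under base change. -/
theorem surjective_bc' (hΦ : Surjective (lift a.act (snd G X)).left) :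
    Surjective (lift (a.bc f).act (snd (Red.bc f G) (Red.bc f X))).left := by
  let Φ := lift a.act (snd G X)
  have sq : IsPullback (pullback.fst (G ⊗ X).hom f) ((Over.pullback f).map Φ).left Φ.left
      (pullback.fst (X ⊗ X).hom f) := by
    refine IsPullback.of_bot ?_ (ActBC.pullback_map_left_fst f Φ).symm
      (IsPullback.of_hasPullback (X ⊗ X).hom f)
    have e1 : ((Over.pullback f).map Φ).left ≫ pullback.snd (X ⊗ X).hom f =
        pullback.snd (G ⊗ X).hom f := Over.w ((Over.pullback f).map Φ)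
    have e2 : Φ.left ≫ (X ⊗ X).hom = (G ⊗ X).hom := Over.w Φ
    rw [e1, e2]
    exact IsPullback.of_hasPullback (G ⊗ X).hom f
  have hs : Surjective ((Over.pullback f).map Φ).left :=
    MorphismProperty.of_isPullback (P := @Surjective) sq hΦ
  haveI : IsIso (Functor.LaxMonoidal.μ (Over.pullback f) X X).left :=
    inferInstanceAs (IsIso ((Over.forget _).map (Functor.LaxMonoidal.μ (Over.pullback f) X X)))
  haveI : IsIso (Functor.LaxMonoidal.μ (Over.pullback f) G X).left :=
    inferInstanceAs (IsIso ((Over.forget _).map (Functor.LaxMonoidal.μ (Over.pullback f) G X)))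
  refine ⟨fun y => ?_⟩
  obtain ⟨w, hw⟩ := hs.surj ((Functor.LaxMonoidal.μ (Over.pullback f) X X).left y)
  obtain ⟨v, rfl⟩ := (Functor.LaxMonoidal.μ (Over.pullback f) G X).left.homeomorph.surjective w
  refine ⟨v, ?_⟩
  apply (Functor.LaxMonoidal.μ (Over.pullback f) X X).left.homeomorph.injective
  have := left_app (bc_lift_act_comp_μ' f a) v
  exact this.trans hw

end General

section Field

variable {K : Type u} [Field K] {G X : Over (Spec (CommRingCat.of K))} [GrpObj G]
  (a : AlgGrp.Action G X)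

/-- A connected quasi-separated homogeneous space over a field is irreducible. -/
theorem irreducibleSpace_of_connected (hΦ : Surjective (lift a.act (snd G X)).left)
    [QuasiSeparatedSpace ↥X.left] [ConnectedSpace ↥X.left] : IrreducibleSpace ↥X.left := by
  have hdense : ∀ U' : X.left.Opens, IsAffineOpen U' → (U' : Set X.left).Nonempty →
      closure (U' : Set X.left) = Set.univ := by
    intro U' hU' hne
    have hretro : IsRetrocompact (U' : Set X.left) := fun V hVc hVo =>
      QuasiSeparatedSpace.inter_isCompact _ _ U'.isOpen hU'.isCompact hVo hVc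
    have hopen := isOpen_image_act a U'.isOpen
    have heq := image_act_eq_closure a hΦ U' hretro
    have hopen' : IsOpen (closure (U' : Set X.left)) := by
      rw [← heq]; exact hopen
    exact IsClopen.eq_univ ⟨isClosed_closure, hopen'⟩ (hne.mono subset_closure)
  haveI : PreirreducibleSpace ↥X.left := by
    refine ⟨?_⟩
    rintro u v hu hv ⟨x, -, hxu⟩ ⟨y, -, hyv⟩
    obtain ⟨_, ⟨U', hU', rfl⟩, hxU', hU'u⟩ :=
      X.left.isBasis_affineOpens.exists_subset_of_mem_open hxu hu
    have hcl := hdense U' hU' ⟨x, hxU'⟩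
    have hy : y ∈ closure (U' : Set X.left) := by rw [hcl]; trivial
    obtain ⟨w, hwv, hwU'⟩ := mem_closure_iff.mp hy v hv hyv
    exact ⟨w, trivial, hU'u hwU', hwv⟩
  exact { toNonempty := inferInstance }

/-- In a quasi-separated homogeneous space over a field, the connected components are the
irreducible components. -/
theorem connectedComponent_eq_irreducibleComponent
    (hΦ : Surjective (lift a.act (snd G X)).left) [QuasiSeparatedSpace ↥X.left] (x : X.left) :
    connectedComponent x = irreducibleComponent x := by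
  apply Set.Subset.antisymm
  · intro y hy
    by_contra hyC
    have hC' := irreducibleComponent_mem_irreducibleComponents x
    have hZ₁ := irreducibleComponent_mem_irreducibleComponents y
    let ξ' := hC'.1.genericPoint
    let ξ₁ := hZ₁.1.genericPoint
    have hξ' : closure {ξ'} = irreducibleComponent x :=
      hC'.1.closure_genericPoint isClosed_irreducibleComponent
    have hξ₁ : closure {ξ₁} = irreducibleComponent y :=
      hZ₁.1.closure_genericPoint isClosed_irreducibleComponent
    have hξ'mem : ξ' ∈ irreducibleComponent x := hξ' ▸ subset_closure rfl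
    have hξ₁mem : ξ₁ ∈ irreducibleComponent y := hξ₁ ▸ subset_closure rfl
    have hne : ξ' ∉ irreducibleComponent y := by
      intro h
      have := component_unique a hΦ hC' hZ₁ ξ' hξ'mem h
      exact hyC (this ▸ mem_irreducibleComponent)
    obtain ⟨_, ⟨U, hU, rfl⟩, hξ'U, hUsub⟩ :=
      X.left.isBasis_affineOpens.exists_subset_of_mem_open
        (show ξ' ∈ (irreducibleComponent y)ᶜ from hne)
        isClosed_irreducibleComponent.isOpen_compl
    have hretro : IsRetrocompact (U : Set X.left) := fun V hVc hVo =>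
      QuasiSeparatedSpace.inter_isCompact _ _ U.isOpen hU.isCompact hVo hVc
    have hopen := isOpen_image_act a U.isOpen
    have heq := image_act_eq_closure a hΦ U hretro
    have hclopen : IsClopen (closure (U : Set X.left)) := by
      refine ⟨isClosed_closure, ?_⟩
      rw [← heq]; exact hopen
    have hx : x ∈ closure (U : Set X.left) := by
      have h1 : irreducibleComponent x ⊆ closure (U : Set X.left) := by
        rw [← hξ']
        exact closure_mono (Set.singleton_subset_iff.2 hξ'U)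
      exact h1 mem_irreducibleComponent
    have hy' : y ∈ closure (U : Set X.left) := hclopen.connectedComponent_subset hx hy
    rw [← heq, image_act_eq a hΦ U] at hy'
    obtain ⟨Z, ⟨hZ, ξ, hξU, hξ⟩, hyZ⟩ := hy'
    have hZeq : Z = irreducibleComponent y :=
      component_unique a hΦ hZ hZ₁ y hyZ mem_irreducibleComponent
    have h2 : ξ₁ ∈ closure {ξ} := by rw [hξ, hZeq]; exact hξ₁mem
    have h3 : ξ ∈ closure {ξ₁} := by rw [hξ₁, ← hZeq, ← hξ]; exact subset_closure rfl
    have h4 : ξ = ξ₁ :=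
      ((specializes_iff_mem_closure.2 h2).antisymm (specializes_iff_mem_closure.2 h3)).eq
    exact hUsub (h4 ▸ hξU) hξ₁mem
  · exact isIrreducible_irreducibleComponent.isConnected.isPreconnected.subset_connectedComponent
      mem_irreducibleComponent

end Field

section Fibre

variable {S : Scheme.{u}} {G X : Over S} [GrpObj G] (a : AlgGrp.Action G X)

set_option backward.isDefEq.respectTransparency false in
/-- A nonempty, connected and quasi-separated fibre of a homogeneous space is irreducible: it has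
a point lying in every open subset of the total space that meets the fibre. -/
theorem exists_fibre_generic (hΦ : Surjective (lift a.act (snd G X)).left) (s : S)
    (hqs : QuasiSeparatedSpace ↥(X.hom ⁻¹' {s})) (hconn : _root_.IsPreconnected (X.hom ⁻¹' {s}))
    (hne : (X.hom ⁻¹' {s}).Nonempty) :
    ∃ ξ : X.left, X.hom ξ = s ∧
      ∀ V : Set X.left, IsOpen V → (V ∩ X.hom ⁻¹' {s}).Nonempty → ξ ∈ V := by
  let fs : Spec (CommRingCat.of (S.residueField s)) ⟶ S := S.fromSpecResidueField s
  let as := a.bc fs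
  have hΦs := surjective_bc' fs a hΦ
  let e : ↥(X.hom.fiber s) ≃ₜ ↥(X.hom ⁻¹' {s}) := Scheme.Hom.fiberHomeo X.hom s
  haveI : QuasiSeparatedSpace ↥(Red.bc fs X).left :=
    e.isOpenEmbedding.quasiSeparatedSpace
  haveI : ConnectedSpace ↥(X.hom ⁻¹' {s}) := isConnected_iff_connectedSpace.mp ⟨hne, hconn⟩
  haveI : ConnectedSpace ↥(Red.bc fs X).left :=
    e.symm.surjective.connectedSpace e.symm.continuous
  haveI : IrreducibleSpace ↥(Red.bc fs X).left := irreducibleSpace_of_connected as hΦs
  let ξ' : ↥(Red.bc fs X).left := genericPoint ↥(Red.bc fs X).left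
  refine ⟨X.hom.fiberι s ξ', ?_, ?_⟩
  · have : X.hom.fiberι s ξ' ∈ X.hom ⁻¹' {s} := by
      rw [← Scheme.Hom.range_fiberι]; exact ⟨_, rfl⟩
    exact this
  · rintro V hV ⟨y, hyV, hys⟩
    obtain ⟨y', rfl⟩ : y ∈ Set.range (X.hom.fiberι s) := by
      rw [Scheme.Hom.range_fiberι]; exact hys
    have hmem : ξ' ∈ (X.hom.fiberι s) ⁻¹' V := by
      rw [(genericPoint_spec ↥(Red.bc fs X).left).mem_open_set_iff
        (hV.preimage (X.hom.fiberι s).continuous)]
      exact ⟨y', trivial, hyV⟩
    exact hmem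

end Fibre

section Dense

open Groth.Agent.Lib.Helper78.HomogSep Groth.Agent.Lib.Helper78.HomogDense

variable {S : Scheme.{u}} {G X : Over S} [GrpObj G] (a : AlgGrp.Action G X)

/-- A fibrewise generic point: it lies in every open subset meeting the fibre over `s`. -/
def IsFibreGeneric (s : S) (ξ : X.left) : Prop :=
  X.hom ξ = s ∧ ∀ V : Set X.left, IsOpen V → (V ∩ X.hom ⁻¹' {s}).Nonempty → ξ ∈ V

/-- Over a fibrewise generic point `ξ`, `{h : h ξ ∈ U}` is dense in `G_{κ(ξ)}` as soon as `U`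
meets the fibre (after helper78's `exists_fibre_dense`). -/
theorem fibre_dense_generic (s : S) (ξ : X.left) (hξ : IsFibreGeneric (X := X) s ξ)
    (U : Set X.left) (hU : IsOpen U) (hUs : (U ∩ X.hom ⁻¹' {s}).Nonempty) :
    (snd G X).left ⁻¹' {ξ} ⊆ closure (a.act.left ⁻¹' U ∩ (snd G X).left ⁻¹' {ξ}) := by
  obtain ⟨hξs, hgen⟩ := hξ
  intro e he
  rw [mem_closure_iff]
  intro N hN heN
  have hpe : (snd G X).left e = ξ := Set.mem_singleton_iff.mp (Set.mem_preimage.mp he)
  have hes : e ∈ (snd G X).left ⁻¹' (X.hom ⁻¹' {s}) := by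
    rw [Set.mem_preimage, Set.mem_preimage, Set.mem_singleton_iff, hpe]
    exact hξs
  obtain ⟨V₂, hV₂, hV₂eq⟩ := exists_isOpen_image_act_fibre a s _ hN
  have hae : a.act.left e ∈ V₂ ∩ X.hom ⁻¹' {s} := by
    rw [← hV₂eq]; exact ⟨e, ⟨heN, hes⟩, rfl⟩
  -- the generic point lies in `V₂ ∩ U`
  have hξV₂ : ξ ∈ V₂ := hgen V₂ hV₂ ⟨_, hae.1, hae.2⟩
  have hξU : ξ ∈ U := hgen U hU hUs
  have hy : ξ ∈ a.act.left '' (N ∩ (snd G X).left ⁻¹' (X.hom ⁻¹' {s})) := by
    rw [hV₂eq]; exact ⟨hξV₂, hξs⟩
  obtain ⟨e₁, ⟨he₁N, he₁s⟩, he₁ξ⟩ := hy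
  have hN₁ : IsOpen (N ∩ a.act.left ⁻¹' U) := hN.inter (hU.preimage a.act.left.continuous)
  obtain ⟨V₁, hV₁, hV₁eq⟩ := exists_isOpen_image_snd_fibre G.hom X.hom s _ hN₁
  have hV₁eq' : (snd G X).left '' ((N ∩ a.act.left ⁻¹' U) ∩
      (snd G X).left ⁻¹' (X.hom ⁻¹' {s})) = V₁ ∩ X.hom ⁻¹' {s} := hV₁eq
  have hpe₁ : (snd G X).left e₁ ∈ V₁ ∩ X.hom ⁻¹' {s} := by
    rw [← hV₁eq']
    exact ⟨e₁, ⟨⟨he₁N, by show a.act.left e₁ ∈ U; rw [he₁ξ]; exact hξU⟩, he₁s⟩, rfl⟩
  have hξV₁ : ξ ∈ V₁ := hgen V₁ hV₁ ⟨_, hpe₁.1, hpe₁.2⟩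
  have hξim : ξ ∈ (snd G X).left '' ((N ∩ a.act.left ⁻¹' U) ∩
      (snd G X).left ⁻¹' (X.hom ⁻¹' {s})) := by
    rw [hV₁eq']; exact ⟨hξV₁, hξs⟩
  obtain ⟨e₂, ⟨he₂N₁, -⟩, he₂ξ⟩ := hξim
  exact ⟨e₂, he₂N₁.1, he₂N₁.2, he₂ξ⟩

/-- Fibrewise density of `{h : h x ∈ U}` at every point `x` of a fibre with a fibrewise generic
point. -/
theorem fibre_dense_all' (hΦ : Surjective (lift a.act (snd G X)).left) (s : S) (ξ : X.left)
    (hξ : IsFibreGeneric (X := X) s ξ) (U : Set X.left) (hU : IsOpen U)
    (hUs : (U ∩ X.hom ⁻¹' {s}).Nonempty) (x : X.left) (hx : X.hom x = s) :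
    (snd G X).left ⁻¹' {x} ⊆ closure (a.act.left ⁻¹' U ∩ (snd G X).left ⁻¹' {x}) := by
  have hξd := fibre_dense_generic a s ξ hξ U hU hUs
  obtain ⟨w, hw1, hw2⟩ := Scheme.Pullback.exists_preimage_pullback x ξ (hx.trans hξ.1.symm)
  obtain ⟨q, hq⟩ := hΦ.surj w
  have hq1 : a.act.left q = x := by
    rw [← left_apply_of_eq (lift_fst a.act (snd G X)) q, hq]; exact hw1
  have hq2 : (snd G X).left q = ξ := by
    rw [← left_apply_of_eq (lift_snd a.act (snd G X)) q, hq]; exact hw2
  have h := fibre_dense_act a U q (by rw [hq2]; exact hξd)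
  rwa [hq1] at h

/-- **SGA3 VI_B**: a homogeneous space all of whose nonempty fibres have a fibrewise generic
point (e.g. are irreducible) is separated (after helper78's
`isSeparated_of_dense_separated_open`). -/
theorem isSeparated_of_fibre_generic
    (hGo : ∃ W : G.left.Opens, (∀ p : ↥(𝟙_ (Over S)).left, η[G].left.base p ∈ W) ∧
      UniversallyOpen (W.ι ≫ G.hom))
    (hΦ : Surjective (lift a.act (snd G X)).left)
    (hgen : ∀ s : S, (X.hom ⁻¹' {s}).Nonempty → ∃ ξ : X.left, IsFibreGeneric (X := X) s ξ) :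
    IsSeparated X.hom := by
  obtain ⟨W, hWe, hWo⟩ := hGo
  refine ⟨IsClosedImmersion.of_isPreimmersion _ ?_⟩
  rw [← δ_left, ← closure_subset_iff_isClosed]
  intro z hz
  obtain ⟨ξ, hξ⟩ := hgen (X.hom ((fst X X).left z)) ⟨_, rfl⟩
  obtain ⟨U, hUaff, hxU, -⟩ :=
    exists_isAffineOpen_mem_and_subset (x := (fst X X).left z) (U := ⊤) trivial
  haveI : IsAffine U := hUaff
  haveI : IsSeparated (U.ι ≫ X.hom) := inferInstance
  have hUs : ((U : Set X.left) ∩ X.hom ⁻¹' {X.hom ((fst X X).left z)}).Nonempty :=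
    ⟨_, hxU, rfl⟩
  have hx2 : X.hom ((snd X X).left z) = X.hom ((fst X X).left z) := by
    rw [← Scheme.Hom.comp_apply, Over.w (snd X X), ← Over.w (fst X X), Scheme.Hom.comp_apply]
  have FD1 := fibre_dense_all' a hΦ _ ξ hξ U U.2 hUs _ rfl
  have FD2 := fibre_dense_all' a hΦ _ ξ hξ U U.2 hUs _ hx2
  have sqB1 : IsPullback (G ◁ fst X X).left (snd G (X ⊗ X)).left (snd G X).left (fst X X).left :=
    (Groth.Agent.Lib.Helper78.FpqcQuot.isPullback_whiskerLeft G (fst X X)).map (Over.forget S)
  have sqB2 : IsPullback (G ◁ snd X X).left (snd G (X ⊗ X)).left (snd G X).left (snd X X).left :=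
    (Groth.Agent.Lib.Helper78.FpqcQuot.isPullback_whiskerLeft G (snd X X)).map (Over.forget S)
  have B1 := fibre_dense_pullback sqB1 z (a.act.left ⁻¹' U) FD1
  have B2 := fibre_dense_pullback sqB2 z (a.act.left ⁻¹' U) FD2
  have hezπ : (e' G X).left z ∈ (snd G (X ⊗ X)).left ⁻¹' {z} := by
    rw [Set.mem_preimage, Set.mem_singleton_iff,
      left_apply_of_comp_eq_id (e'_snd (G := G) (X := X))]
  have hW'o : IsOpen ((fst G (X ⊗ X)).left ⁻¹' (W : Set G.left)) :=
    W.2.preimage (fst G (X ⊗ X)).left.continuous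
  have hezW : (e' G X).left z ∈ (fst G (X ⊗ X)).left ⁻¹' (W : Set G.left) := by
    rw [Set.mem_preimage, fst_e'_apply]
    exact hWe _
  obtain ⟨p₁, hp₁W, hp₁Ω, hp₁z⟩ := mem_closure_iff.mp (B1 hezπ) _ hW'o hezW
  have hO₂ : IsOpen ((fst G (X ⊗ X)).left ⁻¹' (W : Set G.left) ∩
      (G ◁ fst X X).left ⁻¹' (a.act.left ⁻¹' U)) :=
    hW'o.inter ((U.2.preimage a.act.left.continuous).preimage (G ◁ fst X X).left.continuous)
  obtain ⟨p, ⟨hpW, hpΩ1⟩, hpΩ2, hpz⟩ := mem_closure_iff.mp (B2 hp₁z) _ hO₂ ⟨hp₁W, hp₁Ω⟩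
  have hpz' : (snd G (X ⊗ X)).left p = z := Set.mem_singleton_iff.mp (Set.mem_preimage.mp hpz)
  have hpb : IsPullback (G ◁ δ X).left (snd G X).left (snd G (X ⊗ X)).left (δ X).left :=
    (Groth.Agent.Lib.Helper78.FpqcQuot.isPullback_whiskerLeft G (δ X)).map (Over.forget S)
  have hpre : (snd G (X ⊗ X)).left ⁻¹' Set.range (δ X).left = Set.range (G ◁ δ X).left :=
    (Groth.Agent.Lib.Helper51.IsPullback.range_fst_eq hpb).symm
  rw [← hpz']
  refine mem_of_mem_closure' (snd G (X ⊗ X)).left (Θ a).left (Θ' a).left (τ a).left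
    (Set.range (δ X).left)
    ((pullback.fst X.hom X.hom) ⁻¹' (U : Set X.left) ∩ (pullback.snd X.hom X.hom) ⁻¹' (U : Set X.left))
    ((fst G (X ⊗ X)).left ⁻¹' (W : Set G.left)) hW'o ?_ (Θ a).left.continuous
    ?_ ?_ ?_ ?_ ?_ p hpW ?_ ?_
  · intro N hN hNW
    exact isOpen_image_snd_of_subset G.hom (X ⊗ X).hom W N hN hNW
  · intro p' hp'
    have : p' ∈ Set.range (G ◁ δ X).left := hpre ▸ hp'
    obtain ⟨r, rfl⟩ := this
    rw [left_apply_of_eq (whiskerLeft_δ_Θ a), Over.comp_left, Scheme.Hom.comp_apply]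
    exact ⟨_, rfl⟩
  · intro p' hp'
    have : p' ∈ Set.range (G ◁ δ X).left := hpre ▸ hp'
    obtain ⟨r, rfl⟩ := this
    rw [left_apply_of_eq (whiskerLeft_δ_Θ' a), Over.comp_left, Over.comp_left,
      Scheme.Hom.comp_apply, Scheme.Hom.comp_apply]
    exact ⟨_, rfl⟩
  · intro p'
    exact left_apply_of_eq (τ_snd a) p'
  · intro p'
    exact left_apply_of_eq (τ_Θ' a) p'
  · rw [δ_left]
    exact closure_range_diagonal_inter_subset X.hom U
  · rw [hpz']
    exact hz
  · refine ⟨?_, ?_⟩
    · rw [Set.mem_preimage]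
      have := fst_Θ_apply a p
      rw [show (fst X X).left = pullback.fst X.hom X.hom from rfl] at this
      rw [this]
      exact hpΩ1
    · rw [Set.mem_preimage]
      have := snd_Θ_apply a p
      rw [show (snd X X).left = pullback.snd X.hom X.hom from rfl] at this
      rw [this]
      exact hpΩ2

/-- A compact subset of an open subset of a scheme lies in a compact open subset of it. -/
theorem exists_isCompact_isOpen_between {Y : Scheme.{u}} {Kc O : Set Y} (hK : IsCompact Kc)
    (hO : IsOpen O) (hKO : Kc ⊆ O) :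
    ∃ W' : Y.Opens, IsCompact (W' : Set Y) ∧ Kc ⊆ W' ∧ (W' : Set Y) ⊆ O := by
  have hex : ∀ x ∈ Kc, ∃ A : Y.Opens, IsAffineOpen A ∧ x ∈ A ∧ (A : Set Y) ⊆ O := by
    intro x hx
    obtain ⟨_, ⟨A, hA, rfl⟩, hxA, hAO⟩ :=
      Y.isBasis_affineOpens.exists_subset_of_mem_open (hKO hx) hO
    exact ⟨A, hA, hxA, hAO⟩
  choose A hA hxA hAO using hex
  obtain ⟨t, ht⟩ := hK.elim_nhds_subcover' (fun x hx => (A x hx : Set Y))
    (fun x hx => (A x hx).isOpen.mem_nhds (hxA x hx))
  refine ⟨⟨⋃ x ∈ t, (A (x : Kc) x.2 : Set Y), isOpen_biUnion fun x _ => (A _ x.2).isOpen⟩,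
    ?_, ht, ?_⟩
  · exact t.isCompact_biUnion fun x _ => (hA _ x.2).isCompact
  · intro y hy
    simp only [TopologicalSpace.Opens.coe_mk, Set.mem_iUnion] at hy
    obtain ⟨x, -, hyx⟩ := hy
    exact hAO _ x.2 hyx

set_option backward.isDefEq.respectTransparency false in
/-- **SGA3 VI_B**: a homogeneous space whose nonempty fibres have a fibrewise generic point and
which has a quasi-compact open meeting every nonempty fibre is quasi-compact over the base. -/
theorem quasiCompact_of_fibre_generic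
    (hΦ : Surjective (lift a.act (snd G X)).left)
    (hgen : ∀ s : S, (X.hom ⁻¹' {s}).Nonempty → ∃ ξ : X.left, IsFibreGeneric (X := X) s ξ)
    (V : X.left.Opens) (hVqc : QuasiCompact (V.ι ≫ X.hom))
    (hVm : ∀ s : S, (X.hom ⁻¹' {s}).Nonempty → ((V : Set X.left) ∩ X.hom ⁻¹' {s}).Nonempty) :
    QuasiCompact X.hom := by
  rw [quasiCompact_iff_forall_isAffineOpen]
  intro T hT
  -- a compact open neighbourhood of the unit section over `T`
  have hKc : IsCompact (η[G].left '' (T : Set S)) := hT.isCompact.image η[G].left.continuous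
  have hO : IsOpen (G.hom ⁻¹' (T : Set S)) := T.isOpen.preimage G.hom.continuous
  have hKO : η[G].left '' (T : Set S) ⊆ G.hom ⁻¹' (T : Set S) := by
    rintro _ ⟨t, ht, rfl⟩
    show G.hom (η[G].left t) ∈ T
    have : η[G].left ≫ G.hom = 𝟙 _ := Over.w η[G]
    rw [← Scheme.Hom.comp_apply, this]
    exact ht
  obtain ⟨W', hW'c, hKW', hW'O⟩ := exists_isCompact_isOpen_between hKc hO hKO
  -- its image under inversion
  let W'' : G.left.Opens := ⟨ι[G].left ⁻¹' (W' : Set G.left), W'.isOpen.preimage ι[G].left.continuous⟩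
  have hιι : ∀ g : G.left, ι[G].left (ι[G].left g) = g := fun g =>
    left_app (GrpObj.inv_comp_inv G) g
  have hW''eq : (W'' : Set G.left) = ι[G].left '' (W' : Set G.left) := by
    ext g
    constructor
    · intro hg; exact ⟨ι[G].left g, hg, hιι g⟩
    · rintro ⟨g', hg', rfl⟩
      show ι[G].left (ι[G].left g') ∈ W'
      rw [hιι]; exact hg'
  have hW''c : IsCompact (W'' : Set G.left) := by
    rw [hW''eq]; exact hW'c.image ι[G].left.continuous
  have hW''O : (W'' : Set G.left) ⊆ G.hom ⁻¹' (T : Set S) := by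
    intro g hg
    have h1 : ι[G].left g ∈ G.hom ⁻¹' (T : Set S) := hW'O hg
    have h2 : G.hom (ι[G].left g) = G.hom g := by
      rw [← Scheme.Hom.comp_apply, Over.w ι[G]]
    show G.hom g ∈ T
    rw [← h2]; exact h1
  -- the compact set
  let m : pullback (W''.ι ≫ G.hom) (V.ι ≫ X.hom) ⟶ pullback G.hom X.hom :=
    pullback.map (W''.ι ≫ G.hom) (V.ι ≫ X.hom) G.hom X.hom W''.ι V.ι (𝟙 S) (by simp) (by simp)
  have hrange : Set.range m = (fst G X).left ⁻¹' (W'' : Set G.left) ∩
      (snd G X).left ⁻¹' (V : Set X.left) := by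
    rw [Scheme.Pullback.range_map, Scheme.Opens.range_ι, Scheme.Opens.range_ι]
    rfl
  haveI : CompactSpace ↥W''.toScheme := isCompact_iff_compactSpace.1 hW''c
  haveI : CompactSpace ↥(pullback (W''.ι ≫ G.hom) (V.ι ≫ X.hom)) := inferInstance
  have hKcompact : IsCompact (a.act.left '' ((fst G X).left ⁻¹' (W'' : Set G.left) ∩
      (snd G X).left ⁻¹' (V : Set X.left))) := by
    rw [← hrange]
    exact (isCompact_range m.continuous).image a.act.left.continuous
  have hσ : lift ((fst G X)⁻¹) a.act ≫ a.act = snd G X := by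
    calc lift ((fst G X)⁻¹) a.act ≫ a.act
        = lift ((fst G X)⁻¹) (lift (fst G X) (snd G X) ≫ a.act) ≫ a.act := by
          rw [lift_fst_snd, Category.id_comp]
      _ = lift ((fst G X)⁻¹ * fst G X) (snd G X) ≫ a.act := (a.lift_mul_act _ _ _).symm
      _ = snd G X := by rw [inv_mul_cancel, a.lift_one_act]
  suffices h : (X.hom ⁻¹ᵁ T : Set X.left) = a.act.left '' ((fst G X).left ⁻¹' (W'' : Set G.left) ∩
      (snd G X).left ⁻¹' (V : Set X.left)) by rw [h]; exact hKcompact
  apply Set.Subset.antisymm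
  · intro x hx
    have hxT : X.hom x ∈ T := hx
    obtain ⟨ξ, hξ⟩ := hgen (X.hom x) ⟨x, rfl⟩
    have hUs := hVm (X.hom x) ⟨x, rfl⟩
    have hd := fibre_dense_all' a hΦ _ ξ hξ V V.2 hUs x rfl
    -- the point `(e, x)`
    let ex : ↥(G ⊗ X).left := (lift (toUnit X ≫ η[G]) (𝟙 X)).left x
    have hex1 : (snd G X).left ex = x := by
      rw [left_app (lift_snd (toUnit X ≫ η[G]) (𝟙 X)) x]; rfl
    have hex2 : (fst G X).left ex ∈ (W' : Set G.left) := by
      rw [left_app (lift_fst (toUnit X ≫ η[G]) (𝟙 X)) x]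
      exact hKW' ⟨X.hom x, hxT, rfl⟩
    obtain ⟨q, hqW, hqV, hqx⟩ := mem_closure_iff.mp (hd hex1) _
      (W'.isOpen.preimage (fst G X).left.continuous) hex2
    have hqx' : (snd G X).left q = x := hqx
    refine ⟨(lift ((fst G X)⁻¹) a.act).left q, ⟨?_, ?_⟩, ?_⟩
    · show ι[G].left ((fst G X).left ((lift ((fst G X)⁻¹) a.act).left q)) ∈ W'
      rw [left_app (lift_fst ((fst G X)⁻¹) a.act) q]
      have : ((fst G X)⁻¹).left q = ι[G].left ((fst G X).left q) := rfl
      rw [this, hιι]
      exact hqW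
    · show (snd G X).left ((lift ((fst G X)⁻¹) a.act).left q) ∈ V
      rw [left_app (lift_snd ((fst G X)⁻¹) a.act) q]
      exact hqV
    · rw [left_app hσ q, hqx']
  · rintro _ ⟨q, ⟨hq1, -⟩, rfl⟩
    show X.hom (a.act.left q) ∈ T
    have h1 : X.hom (a.act.left q) = G.hom ((fst G X).left q) := by
      rw [← Scheme.Hom.comp_apply, ← Scheme.Hom.comp_apply, Over.w a.act, Over.w (fst G X)]
    rw [h1]
    exact hW''O hq1

end Dense

end Groth.Agent.Lib.Helper72.HomogFibre
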