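import Mathlib
import Groth.Agent.Lib.Helper19.Grp.OrbitHomogeneity
import Groth.Agent.Lib.Helper19.Grp.MaximalPoints

/-!
# Universally generalizing morphisms at a point

`UG f x`: every base change of `f` is generalizing at every point above `x`.  This pointwise
property is invariant under flat base change (so helper19's homogeneity principle for orbit maps
applies to it) and holds at every point whose image has no proper generization.
-/

set_option autoImplicit false

universe u

open AlgebraicGeometry CategoryTheory CategoryTheory.Limits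

namespace Groth.Agent.Lib.Helper72.UnivGen

/-- `f` is universally generalizing at `x`. -/
def UG {X Y : Scheme.{u}} (f : X ⟶ Y) (x : X) : Prop :=
  ∀ {X' Y' : Scheme.{u}} (k : X' ⟶ X) (f' : X' ⟶ Y') (g : Y' ⟶ Y), IsPullback k f' f g →
    ∀ x' : X', k x' = x → ∀ y' : Y', y' ⤳ f' x' → ∃ z' : X', z' ⤳ x' ∧ f' z' = y'

theorem UG.generalizes {X Y : Scheme.{u}} {f : X ⟶ Y} {x : X} (h : UG f x) (y : Y)
    (hy : y ⤳ f x) : ∃ z : X, z ⤳ x ∧ f z = y :=
  h (𝟙 X) f (𝟙 Y) IsPullback.of_id_fst x rfl y hy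

theorem isFlatBaseChangeInvariant'_UG :
    Groth.Agent.Lib.Helper19.IsFlatBaseChangeInvariant'
      (fun {X Y : Scheme.{u}} (f : X ⟶ Y) x => UG f x) := by
  intro X' X Y' Y k f' f g sq hg x'
  constructor
  · -- descent
    intro h X₂ Y₂ k₂ f₂ g₂ sq₂ x₂ hx₂ y₂ hy₂
    let f₃ : pullback k₂ k ⟶ pullback g₂ g := pullback.map k₂ k g₂ g f₂ f' f sq₂.w sq.w
    have hf₃fst : f₃ ≫ pullback.fst g₂ g = pullback.fst k₂ k ≫ f₂ := pullback.lift_fst _ _ _
    have hf₃snd : f₃ ≫ pullback.snd g₂ g = pullback.snd k₂ k ≫ f' := pullback.lift_snd _ _ _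
    have top : IsPullback (pullback.snd k₂ k) (pullback.fst k₂ k) k k₂ :=
      (IsPullback.of_hasPullback k₂ k).flip
    have R1 : IsPullback (pullback.snd k₂ k) (pullback.fst k₂ k ≫ f₂) (k ≫ f) g₂ :=
      top.paste_vert sq₂
    have bot : IsPullback (pullback.snd g₂ g) (pullback.fst g₂ g) g g₂ :=
      (IsPullback.of_hasPullback g₂ g).flip
    have face : IsPullback (pullback.snd k₂ k) f₃ f' (pullback.snd g₂ g) := by
      refine IsPullback.of_bot ?_ hf₃snd.symm bot
      rw [hf₃fst, ← sq.w]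
      exact R1
    obtain ⟨x₃, hx₃1, hx₃2⟩ := Scheme.Pullback.exists_preimage_pullback (f := k₂) (g := k) x₂ x' hx₂
    have hflat : Flat (pullback.fst g₂ g) := inferInstance
    have hgen : GeneralizingMap (pullback.fst g₂ g) := Flat.generalizingMap _
    have h1 : pullback.fst g₂ g (f₃ x₃) = f₂ x₂ := by
      rw [← Scheme.Hom.comp_apply, hf₃fst, Scheme.Hom.comp_apply, hx₃1]
    obtain ⟨y₃, hy₃, hy₃'⟩ := hgen (h1 ▸ hy₂)
    obtain ⟨z₃, hz₃, hz₃'⟩ := h (pullback.snd k₂ k) f₃ (pullback.snd g₂ g) face x₃ hx₃2 y₃ hy₃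
    refine ⟨pullback.fst k₂ k z₃, ?_, ?_⟩
    · rw [← hx₃1]
      exact hz₃.map (pullback.fst k₂ k).continuous
    · rw [← Scheme.Hom.comp_apply, ← hf₃fst, Scheme.Hom.comp_apply, hz₃', hy₃']
  · -- ascent
    intro h X₂ Y₂ k₂ f₂ g₂ sq₂ x₂ hx₂ y₂ hy₂
    exact h (k₂ ≫ k) f₂ (g₂ ≫ g) (sq₂.paste_horiz sq) x₂
      (by rw [Scheme.Hom.comp_apply, hx₂]) y₂ hy₂

set_option backward.isDefEq.respectTransparency false in
/-- A morphism is universally generalizing at every point whose image has no proper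
generization. -/
theorem UG_of_maximal {X Y : Scheme.{u}} (f : X ⟶ Y) (x : X)
    (hmax : ∀ y : Y, y ⤳ f x → y = f x) : UG f x := by
  intro X' Y' k f' g sq x' hx' y' hy'
  obtain ⟨𝔭, h𝔭⟩ : y' ∈ Set.range (Y'.fromSpecStalk (f' x')) := by
    rw [Scheme.range_fromSpecStalk]; exact hy'
  let O : CommRingCat := Y'.presheaf.stalk (f' x')
  let R : Type u := O ⧸ 𝔭.asIdeal
  haveI : IsDomain R := Ideal.Quotient.isDomain _
  haveI : IsLocalRing R :=
    IsLocalRing.of_surjective' (Ideal.Quotient.mk 𝔭.asIdeal) Ideal.Quotient.mk_surjective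
  haveI : IsLocalHom (CommRingCat.ofHom (Ideal.Quotient.mk 𝔭.asIdeal)).hom :=
    IsLocalHom.of_surjective _ Ideal.Quotient.mk_surjective
  let q : O ⟶ CommRingCat.of R := CommRingCat.ofHom (Ideal.Quotient.mk 𝔭.asIdeal)
  let t : Spec (CommRingCat.of R) ⟶ Y' := Spec.map q ≫ Y'.fromSpecStalk (f' x')
  let c : Spec (CommRingCat.of R) := IsLocalRing.closedPoint R
  let b : Spec (CommRingCat.of R) := (⟨⊥, Ideal.isPrime_bot⟩ : PrimeSpectrum R)
  have htc : t c = f' x' := by
    show (Y'.fromSpecStalk (f' x')) (Spec.map q c) = _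
    have : Spec.map q c = IsLocalRing.closedPoint O := Spec_closedPoint
    rw [this, Scheme.fromSpecStalk_closedPoint]
  have htb : t b = y' := by
    show (Y'.fromSpecStalk (f' x')) (Spec.map q b) = _
    have : Spec.map q b = 𝔭 := by
      apply PrimeSpectrum.ext
      show Ideal.comap (Ideal.Quotient.mk 𝔭.asIdeal) ⊥ = 𝔭.asIdeal
      rw [← RingHom.ker_eq_comap_bot, Ideal.mk_ker]
    rw [this, h𝔭]
  have hbc : b ⤳ c := IsLocalRing.specializes_closedPoint (R := R) b
  let h : Spec (CommRingCat.of R) ⟶ Y := t ≫ g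
  have hhc : h c = f x := by
    show g (t c) = f x
    rw [htc, ← Scheme.Hom.comp_apply, ← sq.w, Scheme.Hom.comp_apply, hx']
  have hmaxξ : ∀ y : Y, y ⤳ h c → y = h c := by rw [hhc]; exact hmax
  let ψ : Y.presheaf.stalk (h c) ⟶ CommRingCat.of R := Scheme.stalkClosedPointTo h
  have hψ : Spec.map ψ ≫ Y.fromSpecStalk (h c) = h := Scheme.Spec_stalkClosedPointTo_fromSpecStalk h
  have hkill : ∀ a ∈ IsLocalRing.maximalIdeal (Y.presheaf.stalk (h c)), ψ.hom a = 0 := by
    intro a ha
    have hnil : IsNilpotent a := by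
      rw [← mem_nilradical, nilradical_eq_sInf, Ideal.mem_sInf]
      intro J hJ
      have hJ' : J.IsPrime := hJ
      let qJ : Spec (Y.presheaf.stalk (h c)) := (⟨J, hJ'⟩ : PrimeSpectrum _)
      have h1 : Y.fromSpecStalk (h c) qJ ⤳ h c := by
        have : Y.fromSpecStalk (h c) qJ ∈ Set.range (Y.fromSpecStalk (h c)) := ⟨qJ, rfl⟩
        rwa [Scheme.range_fromSpecStalk] at this
      have h2 : Y.fromSpecStalk (h c) qJ =
          Y.fromSpecStalk (h c) (IsLocalRing.closedPoint (Y.presheaf.stalk (h c))) := by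
        rw [hmaxξ _ h1, Scheme.fromSpecStalk_closedPoint]
      have h3 : qJ = IsLocalRing.closedPoint (Y.presheaf.stalk (h c)) :=
        (Y.fromSpecStalk (h c)).isEmbedding.injective h2
      have h4 : J = IsLocalRing.maximalIdeal (Y.presheaf.stalk (h c)) :=
        congrArg PrimeSpectrum.asIdeal h3
      rw [h4]; exact ha
    exact (hnil.map ψ.hom).eq_zero
  let ψ' : Y.residueField (h c) ⟶ CommRingCat.of R :=
    CommRingCat.ofHom (Ideal.Quotient.lift _ ψ.hom hkill)
  have hψ' : Y.residue (h c) ≫ ψ' = ψ := by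
    ext a
    exact Ideal.Quotient.lift_mk _ ψ.hom hkill
  let ι := Y.fromSpecResidueField (h c)
  have hh : t ≫ g = Spec.map ψ' ≫ ι := by
    show h = Spec.map ψ' ≫ (Spec.map (Y.residue (h c)) ≫ Y.fromSpecStalk (h c))
    rw [← Category.assoc, ← Spec.map_comp, hψ', hψ]
  have R2 : IsPullback (pullback.fst f' t ≫ k) (pullback.snd f' t) f (t ≫ g) :=
    (IsPullback.of_hasPullback f' t).paste_horiz sq
  let l : pullback f' t ⟶ pullback f ι :=
    pullback.lift (pullback.fst f' t ≫ k) (pullback.snd f' t ≫ Spec.map ψ')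
      (by rw [Category.assoc (pullback.snd f' t), ← hh]; exact R2.w)
  have sqF : IsPullback l (pullback.snd f' t) (pullback.snd f ι) (Spec.map ψ') := by
    refine IsPullback.of_right ?_ (pullback.lift_snd _ _ _) (IsPullback.of_hasPullback f ι)
    rw [pullback.lift_fst, ← hh]
    exact R2
  have hfl : Flat (pullback.snd f ι) := inferInstance
  have hfl' : Flat (pullback.snd f' t) := MorphismProperty.of_isPullback sqF hfl
  have hgen : GeneralizingMap (pullback.snd f' t) := Flat.generalizingMap _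
  obtain ⟨xT, hxT1, hxT2⟩ :=
    Scheme.Pullback.exists_preimage_pullback (f := f') (g := t) x' c htc.symm
  obtain ⟨zT, hzT, hzT'⟩ := hgen (hxT2 ▸ hbc)
  refine ⟨pullback.fst f' t zT, ?_, ?_⟩
  · have := hzT.map (pullback.fst f' t).continuous
    rwa [hxT1] at this
  · rw [← Scheme.Hom.comp_apply, pullback.condition, Scheme.Hom.comp_apply, hzT', htb]

section Orbit

open MonoidalCategory CartesianMonoidalCategory MonObj GrpObj

variable {S : Scheme.{u}} {G X : Over S} [GrpObj G] (a : AlgGrp.Action G X)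
  (o : 𝟙_ (Over S) ⟶ X)

/-- Over a one-point base, an orbit map of a flat group scheme hitting a point without proper
generization is generalizing. -/
theorem generalizingMap_orbitMap [Subsingleton S] [Flat G.hom]
    (h : ∃ g : G.left, ∀ y : X.left, y ⤳ (a.orbitMap o).left g → y = (a.orbitMap o).left g) :
    GeneralizingMap (a.orbitMap o).left := by
  obtain ⟨g, hg⟩ := h
  intro x y hy
  have key : UG (a.orbitMap o).left x :=
    Groth.Agent.Lib.Helper19.forall_of_exists_orbitMap_of_isFlatBaseChangeInvariant'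
      (Q := fun {X Y : Scheme.{u}} (f : X ⟶ Y) x => UG f x) a o
      isFlatBaseChangeInvariant'_UG g (UG_of_maximal _ g hg) x
  exact key.generalizes y hy

end Orbit

end Groth.Agent.Lib.Helper72.UnivGen
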