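import Groth.Agent.Lib.Helper72.GrpIdentity
import Groth.Agent.Lib.Helper72.UnivGen
import Groth.Prelude.Def_ActBC

/-!
# Homogeneous spaces under (not necessarily finite type) group schemes over a field
(SGA3 VI_A 2.5)
-/

set_option autoImplicit false

universe u

namespace Groth.Agent.Lib.Helper72.HomogSpace

open AlgebraicGeometry CategoryTheory CategoryTheory.Limits MonoidalCategory
  CartesianMonoidalCategory MonObj GrpObj Groth.Agent.Lib.Helper72.GrpComp
  Groth.Agent.Lib.Helper72.GrpGen Groth.Agent.Lib.Helper72.GrpConn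

lemma left_app {S : Scheme.{u}} {A B C : Over S} {α : A ⟶ B} {β : B ⟶ C} {c' : A ⟶ C}
    (h : α ≫ β = c') (z : A.left) : β.left (α.left z) = c'.left z := by
  rw [← h]; rfl

variable {K : Type u} [Field K] {G X : Over (Spec (CommRingCat.of K))} [GrpObj G]
  (a : AlgGrp.Action G X)

/-- `y` lies in the orbit of `x` under the identity component. -/
def Orb (x y : X.left) : Prop :=
  ∃ z : ↥(G ⊗ X).left, (fst G X).left z ∈ irreducibleComponent (ePt G) ∧
    (snd G X).left z = x ∧ a.act.left z = y

lemma unit_left_apply' {T : Over (Spec (CommRingCat.of K))} (t : T.left) :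
    (1 : T ⟶ G).left t = ePt G := by
  have h : (1 : T ⟶ G).left t ∈ Set.range (unitS G) := ⟨(toUnit T).left t, rfl⟩
  rw [range_unit] at h
  exact h

theorem Orb.refl (x : X.left) : Orb a x x := by
  refine ⟨(lift (1 : X ⟶ G) (𝟙 X)).left x, ?_, ?_, ?_⟩
  · rw [left_app (lift_fst (1 : X ⟶ G) (𝟙 X)) x, unit_left_apply']
    exact mem_irreducibleComponent
  · rw [left_app (lift_snd (1 : X ⟶ G) (𝟙 X)) x]; rfl
  · rw [left_app (a.lift_one_act (𝟙 X)) x]; rfl

theorem Orb.symm {x y : X.left} (h : Orb a x y) : Orb a y x := by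
  obtain ⟨z, hz1, hz2, hz3⟩ := h
  let σ : G ⊗ X ⟶ G ⊗ X := lift ((fst G X)⁻¹) a.act
  have hσ : σ ≫ a.act = snd G X := by
    calc lift ((fst G X)⁻¹) a.act ≫ a.act
        = lift ((fst G X)⁻¹) (lift (fst G X) (snd G X) ≫ a.act) ≫ a.act := by
          rw [lift_fst_snd, Category.id_comp]
      _ = lift ((fst G X)⁻¹ * fst G X) (snd G X) ≫ a.act := (a.lift_mul_act _ _ _).symm
      _ = snd G X := by rw [inv_mul_cancel, a.lift_one_act]
  refine ⟨σ.left z, ?_, ?_, ?_⟩
  · rw [left_app (lift_fst ((fst G X)⁻¹) a.act) z]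
    have h2 : ((fst G X)⁻¹).left z = invS G ((fst G X).left z) := rfl
    rw [h2]
    exact invS_mem G (irreducibleComponent_mem_irreducibleComponents _) mem_irreducibleComponent hz1
  · rw [left_app (lift_snd ((fst G X)⁻¹) a.act) z, hz3]
  · rw [left_app hσ z, hz2]

theorem Orb.trans {x y w : X.left} (h₁ : Orb a x y) (h₂ : Orb a y w) : Orb a x w := by
  obtain ⟨z₁, hz11, hz12, hz13⟩ := h₁
  obtain ⟨z₂, hz21, hz22, hz23⟩ := h₂
  obtain ⟨p, hp2, hp1⟩ := Scheme.Pullback.exists_preimage_pullback
    (f := (snd G X).left) (g := a.act.left) z₂ z₁ (by rw [hz22, hz13])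
  let P : Over (Spec (CommRingCat.of K)) :=
    Over.mk (pullback.fst (snd G X).left a.act.left ≫ (G ⊗ X).hom)
  let π₂ : P ⟶ G ⊗ X := Over.homMk (pullback.fst (snd G X).left a.act.left) rfl
  let π₁ : P ⟶ G ⊗ X := Over.homMk (pullback.snd (snd G X).left a.act.left) (by
    show pullback.snd (snd G X).left a.act.left ≫ (G ⊗ X).hom =
      pullback.fst (snd G X).left a.act.left ≫ (G ⊗ X).hom
    calc pullback.snd (snd G X).left a.act.left ≫ (G ⊗ X).hom
        = pullback.snd (snd G X).left a.act.left ≫ a.act.left ≫ X.hom := by rw [Over.w a.act]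
      _ = pullback.fst (snd G X).left a.act.left ≫ (snd G X).left ≫ X.hom := by
          rw [← pullback.condition_assoc]
      _ = pullback.fst (snd G X).left a.act.left ≫ (G ⊗ X).hom := by rw [Over.w (snd G X)])
  have hπ : π₂ ≫ snd G X = π₁ ≫ a.act := Over.OverMorphism.ext pullback.condition
  let ν : P ⟶ G ⊗ X := lift ((π₂ ≫ fst G X) * (π₁ ≫ fst G X)) (π₁ ≫ snd G X)
  have hν : ν ≫ a.act = π₂ ≫ a.act := by
    show lift ((π₂ ≫ fst G X) * (π₁ ≫ fst G X)) (π₁ ≫ snd G X) ≫ a.act = _
    rw [a.lift_mul_act]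
    have h1 : lift (π₁ ≫ fst G X) (π₁ ≫ snd G X) = π₁ := by
      rw [← comp_lift, lift_fst_snd, Category.comp_id]
    rw [h1, ← hπ, ← comp_lift_assoc, lift_fst_snd, Category.id_comp]
  have hν1 : ν ≫ fst G X = (π₂ ≫ fst G X) * (π₁ ≫ fst G X) := lift_fst _ _
  have hν2 : ν ≫ snd G X = π₁ ≫ snd G X := lift_snd _ _
  refine ⟨ν.left p, ?_, ?_, ?_⟩
  · rw [left_app hν1 (p : P.left)]
    have h0 := irreducibleComponent_mem_irreducibleComponents (ePt G)
    apply mulSet_subset_component G h0 mem_irreducibleComponent h0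
    refine ⟨(lift (π₂ ≫ fst G X) (π₁ ≫ fst G X)).left p, ⟨?_, ?_⟩, rfl⟩
    · show (fst G G).left ((lift (π₂ ≫ fst G X) (π₁ ≫ fst G X)).left p) ∈
        irreducibleComponent (ePt G)
      rw [left_app (lift_fst (π₂ ≫ fst G X) (π₁ ≫ fst G X)) (p : P.left)]
      show (fst G X).left (π₂.left p) ∈ irreducibleComponent (ePt G)
      rw [show π₂.left p = z₂ from hp2]
      exact hz21
    · show (snd G G).left ((lift (π₂ ≫ fst G X) (π₁ ≫ fst G X)).left p) ∈
        irreducibleComponent (ePt G)
      rw [left_app (lift_snd (π₂ ≫ fst G X) (π₁ ≫ fst G X)) (p : P.left)]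
      show (fst G X).left (π₁.left p) ∈ irreducibleComponent (ePt G)
      rw [show π₁.left p = z₁ from hp1]
      exact hz11
  · rw [left_app hν2 (p : P.left)]
    show (snd G X).left (π₁.left p) = x
    rw [show π₁.left p = z₁ from hp1, hz12]
  · rw [left_app hν (p : P.left)]
    show a.act.left (π₂.left p) = w
    rw [show π₂.left p = z₂ from hp2, hz23]

section Ranges

variable {S : Scheme.{u}}

lemma range_whiskerRight {H G X : Over S} (j : H ⟶ G) :
    Set.range (j ▷ X).left = (fst G X).left ⁻¹' Set.range j.left := by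
  rw [Over.whiskerRight_left, Scheme.Pullback.range_map]
  ext z
  simp only [Set.mem_inter_iff, Set.mem_preimage]
  constructor
  · rintro ⟨h1, -⟩; exact h1
  · intro h1; exact ⟨h1, ⟨_, rfl⟩⟩

lemma range_whiskerLeft {H T X : Over S} (t : T ⟶ X) :
    Set.range (H ◁ t).left = (snd H X).left ⁻¹' Set.range t.left := by
  rw [Over.whiskerLeft_left, Scheme.Pullback.range_map]
  ext z
  simp only [Set.mem_inter_iff, Set.mem_preimage]
  constructor
  · rintro ⟨-, h1⟩; exact h1
  · intro h1; exact ⟨⟨_, rfl⟩, h1⟩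

end Ranges

/-- The action of the identity component on an open subset sweeps out an open subset. -/
theorem isOpen_image_act {U : Set X.left} (hU : IsOpen U) :
    IsOpen (a.act.left '' {z : ↥(G ⊗ X).left | (fst G X).left z ∈ irreducibleComponent (ePt G) ∧
      (snd G X).left z ∈ U}) := by
  obtain ⟨G₀, inst, incl, hmon, hcl, hflat, hrange, hgi, hcpt⟩ := exists_identityComponent G
  have h0 := irreducibleComponent_mem_irreducibleComponents (ePt G)
  rw [connectedComponent_ePt G h0 mem_irreducibleComponent] at hrange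
  have hset : {z : ↥(G ⊗ X).left | (fst G X).left z ∈ irreducibleComponent (ePt G) ∧
      (snd G X).left z ∈ U} = (incl ▷ X).left '' ((snd G₀ X).left ⁻¹' U) := by
    ext z
    constructor
    · rintro ⟨h1, h2⟩
      have hz : z ∈ Set.range (incl ▷ X).left := by
        rw [range_whiskerRight, Set.mem_preimage, hrange]; exact h1
      obtain ⟨w, rfl⟩ := hz
      refine ⟨w, ?_, rfl⟩
      show (snd G₀ X).left w ∈ U
      rw [← left_app (whiskerRight_snd incl X) w]
      exact h2
    · rintro ⟨w, hw, rfl⟩
      refine ⟨?_, ?_⟩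
      · show (fst G X).left ((incl ▷ X).left w) ∈ _
        rw [left_app (whiskerRight_fst incl X) w, ← hrange]
        exact ⟨_, rfl⟩
      · show (snd G X).left ((incl ▷ X).left w) ∈ U
        rw [left_app (whiskerRight_snd incl X) w]
        exact hw
  rw [hset, ← Set.image_comp]
  let a₀ := a.restrict incl
  have h1 : a₀.act = (Groth.Agent.Lib.Helper19.actShear a₀).hom ≫ snd G₀ X :=
    (Groth.Agent.Lib.Helper19.actShear_hom_snd a₀).symm
  have h2 : (a.act.left : ↥(G ⊗ X).left → ↥X.left) ∘ (incl ▷ X).left =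
      ((Groth.Agent.Lib.Helper19.actShear a₀).hom.left ≫ (snd G₀ X).left : (G₀ ⊗ X).left ⟶ X.left) := by
    have : (incl ▷ X) ≫ a.act = (Groth.Agent.Lib.Helper19.actShear a₀).hom ≫ snd G₀ X := h1
    rw [← Over.comp_left, ← this]
    rfl
  have : UniversallyOpen (snd G₀ X).left := by
    rw [Over.snd_left]
    infer_instance
  rw [h2]
  exact Scheme.Hom.isOpenMap _ _ (hU.preimage (snd G₀ X).left.continuous)

set_option backward.isDefEq.respectTransparency false in
/-- The identity component stabilises every irreducible component. -/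
theorem act_mem_component {Z : Set X.left} (hZ : Z ∈ irreducibleComponents X.left)
    (z : ↥(G ⊗ X).left) (hz1 : (fst G X).left z ∈ irreducibleComponent (ePt G))
    (hz2 : (snd G X).left z ∈ Z) : a.act.left z ∈ Z := by
  obtain ⟨G₀, inst, incl, hmon, hcl, hflat, hrange, hgi, hcpt⟩ := exists_identityComponent G
  have h0 := irreducibleComponent_mem_irreducibleComponents (ePt G)
  rw [connectedComponent_ePt G h0 mem_irreducibleComponent] at hrange
  obtain ⟨Y, j, hj, hred, hr, hl⟩ :=
    exists_reduced_closedSubscheme Z (isClosed_of_mem_irreducibleComponents Z hZ)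
  have : IrreducibleSpace Y := irreducibleSpace_of_range j (hr ▸ hZ.1)
  let Yo : Over (Spec (CommRingCat.of K)) := Over.mk (j ≫ X.hom)
  let jo : Yo ⟶ X := Over.homMk j rfl
  let a₀ := a.restrict incl
  let ψ : G₀ ⊗ Yo ⟶ X := (G₀ ◁ jo) ≫ a₀.act
  have : IrreducibleSpace ↥(G₀ ⊗ Yo).left := by
    show IrreducibleSpace ↥(pullback G₀.hom (j ≫ X.hom))
    infer_instance
  have hT : IsIrreducible (closure (Set.range ψ.left)) := by
    rw [← Set.image_univ]
    exact ((IrreducibleSpace.isIrreducible_univ _).image ψ.left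
      ψ.left.continuous.continuousOn).closure
  have hsub : Z ⊆ closure (Set.range ψ.left) := by
    refine subset_trans ?_ subset_closure
    rw [← hr]
    rintro _ ⟨y, rfl⟩
    have hs : lift (1 : Yo ⟶ G₀) (𝟙 Yo) ≫ ψ = jo := by
      show lift 1 (𝟙 Yo) ≫ (G₀ ◁ jo) ≫ a₀.act = jo
      rw [lift_whiskerLeft_assoc, Category.id_comp, a₀.lift_one_act]
    exact ⟨(lift (1 : Yo ⟶ G₀) (𝟙 Yo)).left y, left_app hs y⟩
  have hrange_sub : Set.range ψ.left ⊆ Z := subset_closure.trans (hZ.2 hT hsub)
  have hz : z ∈ Set.range (incl ▷ X).left := by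
    rw [range_whiskerRight, Set.mem_preimage, hrange]; exact hz1
  obtain ⟨w, rfl⟩ := hz
  have hw : w ∈ Set.range (G₀ ◁ jo).left := by
    rw [range_whiskerLeft, Set.mem_preimage]
    show (snd G₀ X).left w ∈ Set.range j
    rw [hr, ← left_app (whiskerRight_snd incl X) w]; exact hz2
  obtain ⟨v, rfl⟩ := hw
  exact hrange_sub ⟨v, rfl⟩

section Rational

variable (x : 𝟙_ (Over (Spec (CommRingCat.of K))) ⟶ X)

lemma maximal_of_mem_irreducibleComponents {Y : Type*} [TopologicalSpace Y] [T0Space Y] {w : Y}
    (hw : closure {w} ∈ irreducibleComponents Y) (y : Y) (hy : y ⤳ w) : y = w := by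
  have h1 : closure {w} ⊆ closure {y} := specializes_iff_closure_subset.1 hy
  have h2 : closure {y} ⊆ closure {w} := hw.2 isIrreducible_singleton.closure h1
  exact (hy.antisymm (specializes_iff_closure_subset.2 h2)).eq

/-- Rational case: if the orbit map of a rational point is surjective, every irreducible
component through that point is the closure of the image of a point of the identity component. -/
theorem exists_generic_of_rational (hsurj : Function.Surjective (a.orbitMap x).left)
    (pt : ↥(𝟙_ (Over (Spec (CommRingCat.of K)))).left)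
    {Z : Set X.left} (hZ : Z ∈ irreducibleComponents X.left) (hxZ : x.left pt ∈ Z) :
    ∃ g ∈ irreducibleComponent (ePt G), closure {(a.orbitMap x).left g} = Z := by
  haveI : Subsingleton ↥(Spec (CommRingCat.of K)) :=
    inferInstanceAs (Subsingleton (PrimeSpectrum K))
  haveI : Flat G.hom := inferInstance
  haveI : Nonempty ↥X.left := ⟨x.left pt⟩
  obtain ⟨w, hw⟩ :=
    Groth.Agent.Lib.Helper19.exists_closure_singleton_mem_irreducibleComponents ↥X.left
  obtain ⟨g, hg⟩ := hsurj w
  have hmax : ∀ y : X.left, y ⤳ (a.orbitMap x).left g → y = (a.orbitMap x).left g := by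
    rw [hg]
    exact maximal_of_mem_irreducibleComponents hw
  have hgen : GeneralizingMap (a.orbitMap x).left :=
    UnivGen.generalizingMap_orbitMap a x ⟨g, hmax⟩
  have h0 := irreducibleComponent_mem_irreducibleComponents (ePt G)
  have hcl : IsClosed (irreducibleComponent (ePt G)) := isClosed_irreducibleComponent
  let γ₀ : G.left := h0.1.genericPoint
  have hγ : closure {γ₀} = irreducibleComponent (ePt G) := h0.1.closure_genericPoint hcl
  have hγmem : γ₀ ∈ irreducibleComponent (ePt G) := hγ ▸ subset_closure rfl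
  have hmaxφ : closure {(a.orbitMap x).left γ₀} ∈ irreducibleComponents X.left :=
    Groth.Agent.Lib.Helper19.closure_singleton_mem_irreducibleComponents_of_generalizingMap
      (a.orbitMap x).left (a.orbitMap x).left.continuous hgen γ₀ (hγ ▸ h0)
  have hγZ : (a.orbitMap x).left γ₀ ∈ Z := by
    show a.act.left ((lift (𝟙 G) (toUnit G ≫ x)).left γ₀) ∈ Z
    apply act_mem_component a hZ
    · rw [left_app (lift_fst (𝟙 G) (toUnit G ≫ x)) γ₀]
      exact hγmem
    · rw [left_app (lift_snd (𝟙 G) (toUnit G ≫ x)) γ₀]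
      show x.left ((toUnit G).left γ₀) ∈ Z
      rw [Subsingleton.elim (α := ↥(Spec (CommRingCat.of K))) ((toUnit G).left γ₀) pt]
      exact hxZ
  have h1 : closure {(a.orbitMap x).left γ₀} ⊆ Z :=
    closure_minimal (Set.singleton_subset_iff.2 hγZ) (isClosed_of_mem_irreducibleComponents Z hZ)
  exact ⟨γ₀, hγmem, h1.antisymm (hmaxφ.2 hZ.1 h1)⟩

end Rational

section BaseChange

variable {L : Type u} [Field L] (f : Spec (CommRingCat.of L) ⟶ Spec (CommRingCat.of K))
  (t : Spec (CommRingCat.of L) ⟶ X.left) (ht : t ≫ X.hom = f)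

/-- An `L`-point of `X` as a rational point of the base change. -/
noncomputable def ratPt : 𝟙_ (Over (Spec (CommRingCat.of L))) ⟶ Red.bc f X :=
  Over.homMk (pullback.lift t (𝟙 _) (by rw [ht, Category.id_comp])) (by
    show pullback.lift t (𝟙 _) _ ≫ pullback.snd X.hom f = 𝟙 _
    exact pullback.lift_snd _ _ _)

lemma ratPt_left_fst : (ratPt f t ht).left ≫ pullback.fst X.hom f = t :=
  pullback.lift_fst _ _ _

/-- The `L`-point as a morphism over `K`. -/
noncomputable abbrev ptOver : (Over.mk f : Over (Spec (CommRingCat.of K))) ⟶ X := Over.homMk t ht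

theorem orbitMap_bc_fst :
    ((a.bc f).orbitMap (ratPt f t ht)).left ≫ pullback.fst X.hom f =
      (G ◁ ptOver f t ht).left ≫ a.act.left := by
  have h1 : ((a.bc f).orbitMap (ratPt f t ht)).left =
      (lift (𝟙 (Red.bc f G)) (toUnit _ ≫ ratPt f t ht)).left ≫
        (Functor.LaxMonoidal.μ (Over.pullback f) G X).left ≫
          ((Over.pullback f).map a.act).left := rfl
  rw [h1, Category.assoc, Category.assoc, ActBC.pullback_map_left_fst, ← Category.assoc,
    ← Category.assoc]
  congr 1
  apply pullback.hom_ext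
  · rw [Category.assoc, Category.assoc, ActBC.μ_left_fst_fst, Over.whiskerLeft_left_fst,
      ← Category.assoc]
    have h2 : (lift (𝟙 (Red.bc f G)) (toUnit _ ≫ ratPt f t ht)).left ≫
        pullback.fst (Red.bc f G).hom (Red.bc f X).hom = 𝟙 _ :=
      congrArg CommaMorphism.left (lift_fst (𝟙 (Red.bc f G)) (toUnit _ ≫ ratPt f t ht))
    rw [h2, Category.id_comp]
    rfl
  · rw [Category.assoc, Category.assoc, ActBC.μ_left_fst_snd, Over.whiskerLeft_left_snd,
      ← Category.assoc]
    have h2 : (lift (𝟙 (Red.bc f G)) (toUnit _ ≫ ratPt f t ht)).left ≫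
        pullback.snd (Red.bc f G).hom (Red.bc f X).hom = (toUnit _ ≫ ratPt f t ht).left :=
      congrArg CommaMorphism.left (lift_snd (𝟙 (Red.bc f G)) (toUnit _ ≫ ratPt f t ht))
    rw [h2, Over.comp_left, Category.assoc, ratPt_left_fst]
    rfl

/-- The orbit map of an `L`-point, written over `K`. -/
noncomputable def orbitT : G ⊗ (Over.mk f : Over (Spec (CommRingCat.of K))) ⟶
    X ⊗ (Over.mk f : Over (Spec (CommRingCat.of K))) :=
  lift ((G ◁ ptOver f t ht) ≫ a.act) (snd G _)

theorem isPullback_orbitT :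
    IsPullback (orbitT a f t ht) (G ◁ ptOver f t ht) (X ◁ ptOver f t ht)
      (lift a.act (snd G X)) := by
  have right : IsPullback (snd X (Over.mk f)) (X ◁ ptOver f t ht) (ptOver f t ht) (snd X X) :=
    (Groth.Agent.Lib.Helper19.isPullback_whiskerLeft_snd X (ptOver f t ht)).flip
  have outer : IsPullback (snd G (Over.mk f)) (G ◁ ptOver f t ht) (ptOver f t ht) (snd G X) :=
    (Groth.Agent.Lib.Helper19.isPullback_whiskerLeft_snd G (ptOver f t ht)).flip
  refine IsPullback.of_right ?_ ?_ right
  · have e1 : orbitT a f t ht ≫ snd X (Over.mk f) = snd G (Over.mk f) := lift_snd _ _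
    have e2 : lift a.act (snd G X) ≫ snd X X = snd G X := lift_snd _ _
    rw [e1, e2]
    exact outer
  · apply CartesianMonoidalCategory.hom_ext
    · simp [orbitT]
    · simp [orbitT]

theorem surjective_orbitT (hΦ : Surjective (lift a.act (snd G X)).left) :
    Surjective (orbitT a f t ht).left := by
  have sq := (isPullback_orbitT a f t ht).map (Over.forget _)
  simp only [Over.forget_obj, Over.forget_map] at sq
  exact MorphismProperty.of_isPullback (P := @Surjective) sq.flip hΦ

theorem orbitMap_bc_eq :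
    ((a.bc f).orbitMap (ratPt f t ht)).left = (orbitT a f t ht).left := by
  apply pullback.hom_ext
  · rw [orbitMap_bc_fst]
    exact (congrArg CommaMorphism.left
      (lift_fst ((G ◁ ptOver f t ht) ≫ a.act) (snd G (Over.mk f)))).symm
  · have h1 : ((a.bc f).orbitMap (ratPt f t ht)).left ≫ (Red.bc f X).hom = (Red.bc f G).hom :=
      Over.w _
    have h2 : (orbitT a f t ht).left ≫ pullback.snd X.hom f = pullback.snd G.hom f :=
      congrArg CommaMorphism.left
        (lift_snd ((G ◁ ptOver f t ht) ≫ a.act) (snd G (Over.mk f)))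
    rw [h2]
    exact h1

theorem surjective_orbitMap_bc (hΦ : Surjective (lift a.act (snd G X)).left) :
    Function.Surjective ((a.bc f).orbitMap (ratPt f t ht)).left := by
  rw [orbitMap_bc_eq]
  exact (surjective_orbitT a f t ht hΦ).surj

variable (G) in
lemma unit_bc_fst : η[Red.bc f G].left ≫ pullback.fst G.hom f = f ≫ η[G].left := by
  have h1 : (η[Red.bc f G] : 𝟙_ _ ⟶ Red.bc f G) =
      Functor.LaxMonoidal.ε (Over.pullback f) ≫ (Over.pullback f).map η[G] :=
    Functor.obj.η_def _
  rw [h1, Over.comp_left, Category.assoc, ActBC.pullback_map_left_fst, Over.ε_pullback_left,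
    ← Category.assoc]
  congr 1
  rw [IsIso.inv_comp_eq]
  have := pullback.condition (f := (𝟙 (Spec (CommRingCat.of K)))) (g := f)
  rw [Category.comp_id] at this
  exact this

variable (G) in
lemma fst_ePt_bc' : pullback.fst G.hom f (ePt (Red.bc f G)) = ePt G := by
  unfold ePt unitS
  rw [← Scheme.Hom.comp_apply, unit_bc_fst, Scheme.Hom.comp_apply]
  congr 1
  exact Subsingleton.elim (α := PrimeSpectrum K) _ _

variable (G) in
lemma image_identityComponent_subset :
    pullback.fst G.hom f '' irreducibleComponent (ePt (Red.bc f G)) ⊆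
      irreducibleComponent (ePt G) := by
  apply subset_of_isIrreducible_of_ePt_mem G
    (irreducibleComponent_mem_irreducibleComponents _) mem_irreducibleComponent
  · exact isIrreducible_irreducibleComponent.image _
      (pullback.fst G.hom f).continuous.continuousOn
  · exact ⟨ePt (Red.bc f G), mem_irreducibleComponent, fst_ePt_bc' G f⟩

end BaseChange

/-- **Key lemma.**  For a homogeneous space, the generic point of any irreducible component
through `x` lies in the orbit of `x` under the identity component. -/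
theorem orb_generic (hΦ : Surjective (lift a.act (snd G X)).left) (x : X.left)
    {Z : Set X.left} (hZ : Z ∈ irreducibleComponents X.left) (hx : x ∈ Z) (ξ : X.left)
    (hξ : closure {ξ} = Z) : Orb a x ξ := by
  let t : Spec (CommRingCat.of (X.left.residueField x)) ⟶ X.left :=
    X.left.fromSpecResidueField x
  let f : Spec (CommRingCat.of (X.left.residueField x)) ⟶ Spec (CommRingCat.of K) := t ≫ X.hom
  have ht : t ≫ X.hom = f := rfl
  let cp : Spec (CommRingCat.of (X.left.residueField x)) :=
    IsLocalRing.closedPoint (X.left.residueField x)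
  have htcp : ∀ c : Spec (CommRingCat.of (X.left.residueField x)), t c = x := fun c =>
    Scheme.fromSpecResidueField_apply _ _
  let a' := a.bc f
  let x' := ratPt f t ht
  have hsurj' := surjective_orbitMap_bc a f t ht hΦ
  let p := pullback.fst X.hom f
  have hpx : p (x'.left cp) = x := by
    show pullback.fst X.hom f ((ratPt f t ht).left cp) = x
    rw [← Scheme.Hom.comp_apply, ratPt_left_fst, htcp]
  haveI : Subsingleton ↥(Spec (CommRingCat.of K)) :=
    inferInstanceAs (Subsingleton (PrimeSpectrum K))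
  have hflat : Flat f := inferInstance
  have hgen : GeneralizingMap p := Flat.generalizingMap _
  have hspec : ξ ⤳ p (x'.left cp) := by
    rw [hpx, specializes_iff_mem_closure, hξ]; exact hx
  obtain ⟨ξ'', hξ'', hpξ''⟩ := hgen hspec
  have hZ'' := irreducibleComponent_mem_irreducibleComponents ξ''
  have hx'Z'' : x'.left cp ∈ irreducibleComponent ξ'' :=
    hξ''.mem_closed isClosed_irreducibleComponent mem_irreducibleComponent
  obtain ⟨g', hg'C, hg'Z⟩ := exists_generic_of_rational a' x' hsurj' cp hZ'' hx'Z''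
  have h1 : (a'.orbitMap x').left g' ⤳ ξ'' := by
    rw [specializes_iff_mem_closure, hg'Z]; exact mem_irreducibleComponent
  have h2 : p ((a'.orbitMap x').left g') ⤳ ξ := hpξ'' ▸ h1.map p.continuous
  have h3 : p ((a'.orbitMap x').left g') = ξ :=
    maximal_of_mem_irreducibleComponents (hξ ▸ hZ) _ h2
  refine ⟨(G ◁ ptOver f t ht).left g', ?_, ?_, ?_⟩
  · have e : (G ◁ ptOver f t ht).left ≫ pullback.fst G.hom X.hom = pullback.fst G.hom f :=
      Over.whiskerLeft_left_fst _
    show (pullback.fst G.hom X.hom) ((G ◁ ptOver f t ht).left g') ∈ _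
    rw [← Scheme.Hom.comp_apply, e]
    exact image_identityComponent_subset G f ⟨g', hg'C, rfl⟩
  · have e : (G ◁ ptOver f t ht).left ≫ pullback.snd G.hom X.hom = pullback.snd G.hom f ≫ t :=
      Over.whiskerLeft_left_snd _
    show (pullback.snd G.hom X.hom) ((G ◁ ptOver f t ht).left g') = x
    rw [← Scheme.Hom.comp_apply, e, Scheme.Hom.comp_apply, htcp]
  · rw [← Scheme.Hom.comp_apply, ← orbitMap_bc_fst a f t ht, Scheme.Hom.comp_apply]
    exact h3

/-- Every point of a homogeneous space lies on exactly one irreducible component. -/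
theorem component_unique (hΦ : Surjective (lift a.act (snd G X)).left) {Z₁ Z₂ : Set X.left}
    (h₁ : Z₁ ∈ irreducibleComponents X.left) (h₂ : Z₂ ∈ irreducibleComponents X.left)
    (x : X.left) (hx₁ : x ∈ Z₁) (hx₂ : x ∈ Z₂) : Z₁ = Z₂ := by
  have hc₁ := isClosed_of_mem_irreducibleComponents Z₁ h₁
  have hc₂ := isClosed_of_mem_irreducibleComponents Z₂ h₂
  let ξ₁ := h₁.1.genericPoint
  let ξ₂ := h₂.1.genericPoint
  have hξ₁ : closure {ξ₁} = Z₁ := h₁.1.closure_genericPoint hc₁
  have hξ₂ : closure {ξ₂} = Z₂ := h₂.1.closure_genericPoint hc₂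
  have o₁ := orb_generic a hΦ x h₁ hx₁ ξ₁ hξ₁
  have o₂ := orb_generic a hΦ x h₂ hx₂ ξ₂ hξ₂
  obtain ⟨z, hz1, hz2, hz3⟩ := (o₁.symm a).trans a o₂
  have hmem : ξ₂ ∈ Z₁ := by
    rw [← hz3]
    exact act_mem_component a h₁ z hz1 (hz2 ▸ hξ₁ ▸ subset_closure rfl)
  have hsub : Z₂ ⊆ Z₁ := by
    rw [← hξ₂]
    exact closure_minimal (Set.singleton_subset_iff.2 hmem) hc₁
  exact (hsub.antisymm (h₂.2 h₁.1 hsub)).symm

theorem existsUnique_component (hΦ : Surjective (lift a.act (snd G X)).left) (x : X.left) :
    ∃! C, C ∈ irreducibleComponents X.left ∧ x ∈ C :=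
  ⟨irreducibleComponent x,
    ⟨irreducibleComponent_mem_irreducibleComponents x, mem_irreducibleComponent⟩,
    fun _ hC => component_unique a hΦ hC.1 (irreducibleComponent_mem_irreducibleComponents x) x
      hC.2 mem_irreducibleComponent⟩

/-- `G⁰ · U` is the union of the irreducible components whose generic point lies in `U`. -/
theorem image_act_eq (hΦ : Surjective (lift a.act (snd G X)).left) (U : X.left.Opens) :
    a.act.left '' {z : ↥(G ⊗ X).left | (fst G X).left z ∈ irreducibleComponent (ePt G) ∧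
      (snd G X).left z ∈ U} =
    ⋃₀ {Z : Set X.left | Z ∈ irreducibleComponents X.left ∧ ∃ ξ ∈ U, closure {ξ} = Z} := by
  apply Set.Subset.antisymm
  · rintro _ ⟨z, ⟨h1, h2⟩, rfl⟩
    have hZ := irreducibleComponent_mem_irreducibleComponents ((snd G X).left z)
    let ξ := hZ.1.genericPoint
    have hξ : closure {ξ} = irreducibleComponent ((snd G X).left z) :=
      hZ.1.closure_genericPoint isClosed_irreducibleComponent
    have hspec : ξ ⤳ (snd G X).left z := by
      rw [specializes_iff_mem_closure, hξ]; exact mem_irreducibleComponent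
    exact ⟨_, ⟨hZ, ξ, hspec.mem_open U.isOpen h2, hξ⟩,
      act_mem_component a hZ z h1 mem_irreducibleComponent⟩
  · rintro y ⟨Z, ⟨hZ, ξ, hξU, hξ⟩, hyZ⟩
    obtain ⟨z, h1, h2, h3⟩ := (orb_generic a hΦ y hZ hyZ ξ hξ).symm a
    exact ⟨z, ⟨h1, h2 ▸ hξU⟩, h3⟩

/-- Every point of the closure of a retrocompact open subset of a scheme is a specialization of a
point of that subset. -/
theorem exists_specializes_of_isRetrocompact {Y : Scheme.{u}} (W : Y.Opens)
    (hW : IsRetrocompact (W : Set Y)) {y : Y} (hy : y ∈ closure (W : Set Y)) :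
    ∃ w ∈ W, w ⤳ y := by
  obtain ⟨V, hV, hyV⟩ : ∃ V : Y.Opens, IsAffineOpen V ∧ y ∈ V := by
    obtain ⟨_, ⟨V, hV, rfl⟩, hyV, -⟩ :=
      Y.isBasis_affineOpens.exists_subset_of_mem_open (Set.mem_univ y) isOpen_univ
    exact ⟨V, hV, hyV⟩
  have hWV : IsCompact ((W ⊓ V : Y.Opens) : Set Y) := hW hV.isCompact V.isOpen
  have hc : CompactSpace (W ⊓ V).toScheme := isCompact_iff_compactSpace.1 hWV
  obtain ⟨R, g, hg⟩ := compactSpace_iff_exists.mp hc
  have hVaff : IsAffine V.toScheme := hV
  let h : Spec R ⟶ V.toScheme := g ≫ Y.homOfLE (inf_le_right : W ⊓ V ≤ V)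
  have hcomp : h ≫ V.ι = g ≫ (W ⊓ V).ι := by
    show (g ≫ _) ≫ _ = _
    rw [Category.assoc, Scheme.homOfLE_ι]
  have hrange : V.ι '' Set.range h = ((W ⊓ V : Y.Opens) : Set Y) := by
    rw [← Set.range_comp]
    have : (V.ι : _ → _) ∘ (h : _ → _) = ((h ≫ V.ι : Spec R ⟶ Y) : _ → _) := rfl
    rw [this, hcomp]
    have h2 : ((g ≫ (W ⊓ V).ι : Spec R ⟶ Y) : _ → _) = ((W ⊓ V).ι : _ → _) ∘ (g : _ → _) := rfl
    rw [h2, Set.range_comp, Set.range_eq_univ.2 hg, Set.image_univ, Scheme.Opens.range_ι]
  have hy' : (⟨y, hyV⟩ : V.toScheme) ∈ closure (Set.range h) := by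
    rw [V.ι.isEmbedding.closure_eq_preimage_closure_image]
    show y ∈ closure (V.ι '' Set.range h)
    rw [hrange]
    have := V.isOpen.inter_closure (t := (W : Set Y)) ⟨hyV, hy⟩
    rw [Set.inter_comm] at this
    exact this
  obtain ⟨z, hz⟩ := exists_specializes_of_mem_closure_range h _ hy'
  refine ⟨V.ι (h z), ?_, hz.map V.ι.continuous⟩
  have : V.ι (h z) ∈ V.ι '' Set.range h := ⟨_, ⟨z, rfl⟩, rfl⟩
  rw [hrange] at this
  exact this.1

/-- For a retrocompact open `U`, `G⁰ · U` is the closure of `U`. -/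
theorem image_act_eq_closure (hΦ : Surjective (lift a.act (snd G X)).left) (U : X.left.Opens)
    (hU : IsRetrocompact (U : Set X.left)) :
    a.act.left '' {z : ↥(G ⊗ X).left | (fst G X).left z ∈ irreducibleComponent (ePt G) ∧
      (snd G X).left z ∈ U} = closure (U : Set X.left) := by
  rw [image_act_eq a hΦ U]
  apply Set.Subset.antisymm
  · rintro y ⟨Z, ⟨hZ, ξ, hξU, hξ⟩, hyZ⟩
    rw [← hξ] at hyZ
    exact closure_mono (Set.singleton_subset_iff.2 hξU) hyZ
  · intro y hy
    obtain ⟨w, hwU, hwy⟩ := exists_specializes_of_isRetrocompact U hU hy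
    have hZ := irreducibleComponent_mem_irreducibleComponents w
    let ξ := hZ.1.genericPoint
    have hξ : closure {ξ} = irreducibleComponent w :=
      hZ.1.closure_genericPoint isClosed_irreducibleComponent
    have hspec : ξ ⤳ w := by
      rw [specializes_iff_mem_closure, hξ]; exact mem_irreducibleComponent
    exact ⟨_, ⟨hZ, ξ, hspec.mem_open U.isOpen hwU, hξ⟩,
      hwy.mem_closed isClosed_irreducibleComponent mem_irreducibleComponent⟩

lemma setOf_eq_image {G₀ : Over (Spec (CommRingCat.of K))} (incl : G₀ ⟶ G)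
    (hrange : Set.range incl.left = irreducibleComponent (ePt G)) (U : Set X.left) :
    {z : ↥(G ⊗ X).left | (fst G X).left z ∈ irreducibleComponent (ePt G) ∧
      (snd G X).left z ∈ U} = (incl ▷ X).left '' ((snd G₀ X).left ⁻¹' U) := by
  ext z
  constructor
  · rintro ⟨h1, h2⟩
    have hz : z ∈ Set.range (incl ▷ X).left := by
      rw [range_whiskerRight, Set.mem_preimage, hrange]; exact h1
    obtain ⟨w, rfl⟩ := hz
    refine ⟨w, ?_, rfl⟩
    show (snd G₀ X).left w ∈ U
    rw [← left_app (whiskerRight_snd incl X) w]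
    exact h2
  · rintro ⟨w, hw, rfl⟩
    refine ⟨?_, ?_⟩
    · show (fst G X).left ((incl ▷ X).left w) ∈ _
      rw [left_app (whiskerRight_fst incl X) w, ← hrange]
      exact ⟨_, rfl⟩
    · show (snd G X).left ((incl ▷ X).left w) ∈ U
      rw [left_app (whiskerRight_snd incl X) w]
      exact hw

/-- The action of the identity component on a quasi-compact open sweeps out a quasi-compact
set. -/
theorem isCompact_image_act (U : X.left.Opens) (hU : IsCompact (U : Set X.left)) :
    IsCompact (a.act.left '' {z : ↥(G ⊗ X).left | (fst G X).left z ∈ irreducibleComponent (ePt G) ∧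
      (snd G X).left z ∈ U}) := by
  obtain ⟨G₀, inst, incl, hmon, hcl, hflat, hrange, hgi, hcpt⟩ := exists_identityComponent G
  have h0 := irreducibleComponent_mem_irreducibleComponents (ePt G)
  rw [connectedComponent_ePt G h0 mem_irreducibleComponent] at hrange
  have hs := setOf_eq_image (X := X) incl hrange (U : Set X.left)
  change IsCompact (a.act.left '' {z : ↥(G ⊗ X).left |
    (fst G X).left z ∈ irreducibleComponent (ePt G) ∧ (snd G X).left z ∈ (U : Set X.left)})
  rw [hs]
  refine (IsCompact.image ?_ (incl ▷ X).left.continuous).image a.act.left.continuous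
  let Uo : Over (Spec (CommRingCat.of K)) := Over.mk (U.ι ≫ X.hom)
  let j : Uo ⟶ X := Over.homMk U.ι rfl
  have h1 : (snd G₀ X).left ⁻¹' (U : Set X.left) = Set.range (G₀ ◁ j).left := by
    rw [range_whiskerLeft]
    show _ = (snd G₀ X).left ⁻¹' Set.range U.ι
    rw [Scheme.Opens.range_ι]
  rw [h1]
  haveI : CompactSpace ↥U.toScheme := isCompact_iff_compactSpace.1 hU
  haveI : QuasiCompact G₀.hom := (HasAffineProperty.iff_of_isAffine (P := @QuasiCompact)).2 hcpt
  haveI : CompactSpace ↥(G₀ ⊗ Uo).left := by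
    show CompactSpace ↥(pullback G₀.hom (U.ι ≫ X.hom))
    infer_instance
  exact isCompact_range (G₀ ◁ j).left.continuous

section BaseChangeSurj

variable {L : Type u} [Field L] (f : Spec (CommRingCat.of L) ⟶ Spec (CommRingCat.of K))

theorem bc_lift_act_comp_μ :
    lift (a.bc f).act (snd (Red.bc f G) (Red.bc f X)) ≫
        Functor.LaxMonoidal.μ (Over.pullback f) X X =
      Functor.LaxMonoidal.μ (Over.pullback f) G X ≫
        (Over.pullback f).map (lift a.act (snd G X)) := by
  apply Over.OverMorphism.ext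
  apply pullback.hom_ext
  · apply pullback.hom_ext
    · simp only [Over.comp_left, Category.assoc]
      rw [ActBC.μ_left_fst_fst, ActBC.pullback_map_left_fst_assoc]
      have h1 : (lift (a.bc f).act (snd (Red.bc f G) (Red.bc f X))).left ≫
          pullback.fst (Red.bc f X).hom (Red.bc f X).hom = (a.bc f).act.left :=
        congrArg CommaMorphism.left
          (lift_fst (a.bc f).act (snd (Red.bc f G) (Red.bc f X)))
      have h2 : (lift a.act (snd G X)).left ≫ pullback.fst X.hom X.hom = a.act.left :=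
        congrArg CommaMorphism.left (lift_fst a.act (snd G X))
      rw [reassoc_of% h1, h2, AlgGrp.Action.bc_act, Over.comp_left, Category.assoc,
        ActBC.pullback_map_left_fst]
    · simp only [Over.comp_left, Category.assoc]
      rw [ActBC.μ_left_fst_snd, ActBC.pullback_map_left_fst_assoc]
      have h1 : (lift (a.bc f).act (snd (Red.bc f G) (Red.bc f X))).left ≫
          pullback.snd (Red.bc f X).hom (Red.bc f X).hom =
            pullback.snd (Red.bc f G).hom (Red.bc f X).hom :=
        congrArg CommaMorphism.left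
          (lift_snd (a.bc f).act (snd (Red.bc f G) (Red.bc f X)))
      have h2 : (lift a.act (snd G X)).left ≫ pullback.snd X.hom X.hom =
          pullback.snd G.hom X.hom :=
        congrArg CommaMorphism.left (lift_snd a.act (snd G X))
      rw [reassoc_of% h1, h2, ActBC.μ_left_fst_snd]
  · exact (Over.w _).trans (Over.w _).symm

theorem surjective_bc (hΦ : Surjective (lift a.act (snd G X)).left) :
    Surjective (lift (a.bc f).act (snd (Red.bc f G) (Red.bc f X))).left := by
  let Φ := lift a.act (snd G X)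
  have sq : IsPullback (pullback.fst (G ⊗ X).hom f) ((Over.pullback f).map Φ).left Φ.left
      (pullback.fst (X ⊗ X).hom f) := by
    refine IsPullback.of_bot ?_ (ActBC.pullback_map_left_fst f Φ).symm
      (IsPullback.of_hasPullback (X ⊗ X).hom f)
    have e1 : ((Over.pullback f).map Φ).left ≫ pullback.snd (X ⊗ X).hom f =
        pullback.snd (G ⊗ X).hom f := Over.w ((Over.pullback f).map Φ)
    have e2 : Φ.left ≫ (X ⊗ X).hom = (G ⊗ X).hom := Over.w Φ
    rw [e1, e2]
    exact IsPullback.of_hasPullback (G ⊗ X).hom f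
  have hs : Surjective ((Over.pullback f).map Φ).left :=
    MorphismProperty.of_isPullback (P := @Surjective) sq hΦ
  haveI : IsIso (Functor.LaxMonoidal.μ (Over.pullback f) X X).left :=
    inferInstanceAs (IsIso ((Over.forget _).map (Functor.LaxMonoidal.μ (Over.pullback f) X X)))
  haveI : IsIso (Functor.LaxMonoidal.μ (Over.pullback f) G X).left :=
    inferInstanceAs (IsIso ((Over.forget _).map (Functor.LaxMonoidal.μ (Over.pullback f) G X)))
  refine ⟨fun y => ?_⟩
  obtain ⟨w, hw⟩ := hs.surj ((Functor.LaxMonoidal.μ (Over.pullback f) X X).left y)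
  obtain ⟨v, rfl⟩ := (Functor.LaxMonoidal.μ (Over.pullback f) G X).left.homeomorph.surjective w
  refine ⟨v, ?_⟩
  apply (Functor.LaxMonoidal.μ (Over.pullback f) X X).left.homeomorph.injective
  have := left_app (bc_lift_act_comp_μ a f) v
  exact this.trans hw

end BaseChangeSurj

section GeomIrred

variable (x : 𝟙_ (Over (Spec (CommRingCat.of K))) ⟶ X)

/-- The irreducible component through a rational point is exactly the orbit of that point under
the identity component. -/
theorem component_eq_image (hΦ : Surjective (lift a.act (snd G X)).left)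
    (pt : ↥(𝟙_ (Over (Spec (CommRingCat.of K)))).left)
    {C : Set X.left} (hC : C ∈ irreducibleComponents X.left) (hxC : x.left pt ∈ C) :
    C = (a.orbitMap x).left '' irreducibleComponent (ePt G) := by
  haveI : Subsingleton ↥(Spec (CommRingCat.of K)) :=
    inferInstanceAs (Subsingleton (PrimeSpectrum K))
  apply Set.Subset.antisymm
  · intro y hy
    have hcl := isClosed_of_mem_irreducibleComponents C hC
    let ξ := hC.1.genericPoint
    have hξ : closure {ξ} = C := hC.1.closure_genericPoint hcl
    have o₁ := orb_generic a hΦ y hC hy ξ hξ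
    have o₂ := orb_generic a hΦ (x.left pt) hC hxC ξ hξ
    obtain ⟨z, hz1, hz2, hz3⟩ := o₂.trans a (o₁.symm a)
    have hz : z ∈ Set.range (G ◁ x).left := by
      rw [range_whiskerLeft, Set.mem_preimage, hz2]; exact ⟨pt, rfl⟩
    obtain ⟨w, rfl⟩ := hz
    let g : G.left := (fst G (𝟙_ _)).left w
    have hw : (lift (𝟙 G) (toUnit G)).left g = w := by
      have e : fst G (𝟙_ (Over (Spec (CommRingCat.of K)))) ≫ lift (𝟙 G) (toUnit G) =
          𝟙 (G ⊗ 𝟙_ _) := by
        apply CartesianMonoidalCategory.hom_ext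
        · simp
        · exact toUnit_unique _ _
      exact left_app e w
    have hg : g ∈ irreducibleComponent (ePt G) := by
      have := left_app (whiskerLeft_fst G x) w
      show (fst G (𝟙_ _)).left w ∈ irreducibleComponent (ePt G)
      rw [← this]; exact hz1
    refine ⟨g, hg, ?_⟩
    have e2 : lift (𝟙 G) (toUnit G) ≫ (G ◁ x) ≫ a.act = a.orbitMap x := by
      rw [lift_whiskerLeft_assoc]; rfl
    rw [← left_app e2 g]
    show a.act.left ((G ◁ x).left ((lift (𝟙 G) (toUnit G)).left g)) = y
    rw [hw, hz3]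
  · rintro _ ⟨g, hg, rfl⟩
    show a.act.left ((lift (𝟙 G) (toUnit G ≫ x)).left g) ∈ C
    apply act_mem_component a hC
    · rw [left_app (lift_fst (𝟙 G) (toUnit G ≫ x)) g]
      exact hg
    · rw [left_app (lift_snd (𝟙 G) (toUnit G ≫ x)) g]
      show x.left ((toUnit G).left g) ∈ C
      rw [Subsingleton.elim (α := ↥(Spec (CommRingCat.of K))) ((toUnit G).left g) pt]
      exact hxC

set_option backward.isDefEq.respectTransparency false in
/-- The irreducible component through a rational point of a homogeneous space is geometrically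
irreducible. -/
theorem isIrreducible_preimage_component (hΦ : Surjective (lift a.act (snd G X)).left)
    (pt : ↥(𝟙_ (Over (Spec (CommRingCat.of K)))).left)
    {C : Set X.left} (hC : C ∈ irreducibleComponents X.left) (hxC : x.left pt ∈ C)
    {L : Type u} [Field L] (f : Spec (CommRingCat.of L) ⟶ Spec (CommRingCat.of K)) :
    IsIrreducible ((pullback.fst X.hom f) ⁻¹' C) := by
  obtain ⟨G₀, inst, incl, hmon, hcl, hflat, hrange, hgi, hcpt⟩ := exists_identityComponent G
  have h0 := irreducibleComponent_mem_irreducibleComponents (ePt G)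
  rw [connectedComponent_ePt G h0 mem_irreducibleComponent] at hrange
  let h : G₀.left ⟶ X.left := (incl ≫ a.orbitMap x).left
  have hCh : C = Set.range h := by
    rw [component_eq_image a x hΦ pt hC hxC, ← hrange, ← Set.range_comp]
    rfl
  have hw : h ≫ X.hom = G₀.hom := Over.w (incl ≫ a.orbitMap x)
  haveI : GeometricallyIrreducible (h ≫ X.hom) := by rw [hw]; exact hgi
  haveI : IrreducibleSpace ↥(pullback (h ≫ X.hom) f) := inferInstance
  let e := pullbackRightPullbackFstIso X.hom f h
  haveI : IrreducibleSpace ↥(pullback h (pullback.fst X.hom f)) :=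
    (e.hom.homeomorph.irreducibleSpace_iff).2 inferInstance
  rw [hCh, ← Scheme.Pullback.range_snd, ← Set.image_univ]
  exact (IrreducibleSpace.isIrreducible_univ _).image _
    (pullback.snd h (pullback.fst X.hom f)).continuous.continuousOn

end GeomIrred

end Groth.Agent.Lib.Helper72.HomogSpace
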