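import Groth.Agent.Lib.Helper72.OpenOrbit
import Groth.Agent.Lib.Helper72.GrpConnStable
import Groth.Agent.Lib.Helper72.EquivFlat
import Groth.Agent.Lib.Helper72.ConstrJacobson
import Groth.Agent.Lib.Helper72.FibDim
import Groth.Agent.Lib.Helper35.ConstrTop

/-!
# Homogeneity under a group and under its identity component

For a group scheme `G` of finite type over a field `k` acting on a geometrically irreducible
`k`-scheme `X` of finite type, with `K` an algebraically closed extension of `k`: if the group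
`G(K)` acts transitively on the `K`-points of an open subset `U` of `X`, then so does the subgroup
of `K`-points lying in the identity component (`neutral_transitive`).
-/

set_option autoImplicit false

universe u

namespace Groth.Agent.Lib.Helper72.IdCompHomog

open AlgebraicGeometry CategoryTheory CategoryTheory.Limits MonoidalCategory
  CartesianMonoidalCategory MonObj GrpObj Topology
open Groth.Agent.Lib.Helper72.OpenOrbit Groth.Agent.Lib.Helper72.OrbitK
  Groth.Agent.Lib.Helper72.GrpComp Groth.Agent.Lib.Helper72.GrpConnStable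

section Neutral

variable {k : Type u} [Field k] {G : Over (Spec (CommRingCat.of k))} [GrpObj G]

/-- A point of `G` with values in the identity component. -/
def Neutral {T : Over (Spec (CommRingCat.of k))} (n : T ⟶ G) : Prop :=
  Set.range n.left ⊆ connectedComponent (ePt G)

lemma neutral_one {T : Over (Spec (CommRingCat.of k))} : Neutral (1 : T ⟶ G) := by
  rintro _ ⟨t, rfl⟩
  rw [Hom.one_def, unit_left_apply]
  exact mem_connectedComponent

lemma Neutral.mul_inv {T : Over (Spec (CommRingCat.of k))} {g h : T ⟶ G} (hg : Neutral g)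
    (hh : Neutral h) : Neutral (g * h⁻¹) := range_mul_inv_subset G g h hg hh

lemma Neutral.inv {T : Over (Spec (CommRingCat.of k))} {g : T ⟶ G} (hg : Neutral g) :
    Neutral g⁻¹ := by
  have := (neutral_one (G := G) (T := T)).mul_inv hg
  rwa [_root_.one_mul] at this

lemma Neutral.mul {T : Over (Spec (CommRingCat.of k))} {g h : T ⟶ G} (hg : Neutral g)
    (hh : Neutral h) : Neutral (g * h) := by
  have := hg.mul_inv hh.inv
  rwa [_root_.inv_inv] at this

lemma Neutral.conj {T : Over (Spec (CommRingCat.of k))} (g : T ⟶ G) {n : T ⟶ G}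
    (hn : Neutral n) : Neutral (g * n * g⁻¹) := range_conj_subset G g n hn

end Neutral


section Main

variable {k : Type u} [Field k] (K : Type u) [Field K] [Algebra k K] [IsAlgClosed K]
  {G X : Over (Spec (CommRingCat.of k))} [GrpObj G] (a : AlgGrp.Action G X)

omit [IsAlgClosed K] in
lemma neutral_iff (n : TK k K ⟶ G) :
    Neutral n ↔ n.left (IsLocalRing.closedPoint K) ∈ connectedComponent (ePt G) := by
  constructor
  · intro h
    exact h ⟨_, rfl⟩
  · rintro h _ ⟨t, rfl⟩
    haveI : Subsingleton ↥(TK k K).left := inferInstanceAs (Subsingleton (PrimeSpectrum K))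
    rwa [Subsingleton.elim t (IsLocalRing.closedPoint K)]

omit [IsAlgClosed K] in
/-- The value of a section at the closed point, projected to the first factor. -/
lemma fst_section {Y : Over (Spec (CommRingCat.of k))} (y : TK k K ⟶ Y) :
    (fst Y (TK k K)).left ((lift y (𝟙 (TK k K))).left (IsLocalRing.closedPoint K)) =
      y.left (IsLocalRing.closedPoint K) := by
  rw [← Scheme.Hom.comp_apply, ← Over.comp_left, lift_fst]

variable [LocallyOfFiniteType G.hom] [QuasiCompact G.hom] [LocallyOfFiniteType X.hom]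
  [QuasiCompact X.hom]

/-- If `G(K)` moves the `K`-point `x` to every `K`-point of the open subset `U`, then so does the
subgroup of `K`-points of the identity component. -/
theorem neutral_transitive [IrreducibleSpace ↥(X ⊗ TK k K).left]
    (hC : IsOpen (connectedComponent (ePt G)))
    (U : X.left.Opens) (x : TK k K ⟶ X) (hxU : x.left (IsLocalRing.closedPoint K) ∈ U)
    (htr : ∀ y : TK k K ⟶ X, y.left (IsLocalRing.closedPoint K) ∈ U →
      ∃ g : TK k K ⟶ G, smul a g x = y) :
    ∀ y : TK k K ⟶ X, y.left (IsLocalRing.closedPoint K) ∈ U →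
      ∃ n : TK k K ⟶ G, Neutral n ∧ smul a n x = y := by
  classical
  let T : Over (Spec (CommRingCat.of k)) := TK k K
  let pt : ↥T.left := IsLocalRing.closedPoint K
  -- the orbit map over `K`
  let oK : G ⊗ T ⟶ X ⊗ T := lift (lift (fst G T) (snd G T ≫ x) ≫ a.act) (snd G T)
  have hoK_snd : oK ≫ snd X T = snd G T := lift_snd _ _
  have hoK_fst : oK ≫ fst X T = lift (fst G T) (snd G T ≫ x) ≫ a.act := lift_fst _ _
  have hsec : ∀ g : T ⟶ G, lift g (𝟙 T) ≫ oK = lift (smul a g x) (𝟙 T) := by
    intro g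
    apply CartesianMonoidalCategory.hom_ext
    · rw [Category.assoc, hoK_fst, comp_lift_assoc, lift_fst, lift_snd_assoc, Category.id_comp,
        lift_fst]
    · rw [Category.assoc, hoK_snd, lift_snd, lift_snd]
  have hequiv : ∀ g : T ⟶ G, Lk g ≫ oK = oK ≫ Tk a g := by
    intro g
    apply CartesianMonoidalCategory.hom_ext
    · rw [Category.assoc, hoK_fst, comp_lift_assoc, Lk_fst, Lk_snd_assoc, Category.assoc, Tk_fst,
        comp_lift_assoc, reassoc_of% hoK_snd, hoK_fst, a.lift_mul_act]
    · rw [Category.assoc, hoK_snd, Lk_snd, Category.assoc, Tk_snd, hoK_snd]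
  -- finiteness properties
  haveI : IsLocallyNoetherian (G ⊗ T).left :=
    LocallyOfFiniteType.isLocallyNoetherian (Y := Spec (CommRingCat.of K)) (snd G T).left
  haveI : CompactSpace ↥(G ⊗ T).left :=
    QuasiCompact.compactSpace_of_compactSpace (Y := Spec (CommRingCat.of K)) (snd G T).left
  haveI : IsNoetherian (G ⊗ T).left := { }
  haveI : JacobsonSpace ↥(G ⊗ T).left :=
    LocallyOfFiniteType.jacobsonSpace (Y := Spec (CommRingCat.of K)) (snd G T).left
  haveI : IsLocallyNoetherian (X ⊗ T).left :=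
    LocallyOfFiniteType.isLocallyNoetherian (Y := Spec (CommRingCat.of K)) (snd X T).left
  haveI : CompactSpace ↥(X ⊗ T).left :=
    QuasiCompact.compactSpace_of_compactSpace (Y := Spec (CommRingCat.of K)) (snd X T).left
  haveI : IsNoetherian (X ⊗ T).left := { }
  haveI : JacobsonSpace ↥(X ⊗ T).left :=
    LocallyOfFiniteType.jacobsonSpace (Y := Spec (CommRingCat.of K)) (snd X T).left
  have hoKw : oK.left ≫ (snd X T).left = (snd G T).left := by
    rw [← Over.comp_left, hoK_snd]
  haveI hoKlft : LocallyOfFiniteType oK.left :=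
    Groth.Agent.Lib.Helper72.FibDim.locallyOfFiniteType_of_comp_eq (snd G T).left (snd X T).left
      oK.left hoKw
  haveI hoKqc : QuasiCompact oK.left :=
    Groth.Agent.Lib.Helper72.FibDim.quasiCompact_of_ft (snd G T).left (snd X T).left oK.left
  -- the identity component over `K` and its translates
  let C₀ : G.left.Opens := ⟨connectedComponent (ePt G), hC⟩
  let E : (G ⊗ T).left.Opens := (fst G T).left ⁻¹ᵁ C₀
  let Eg : (T ⟶ G) → (G ⊗ T).left.Opens := fun g => (Lk g⁻¹).left ⁻¹ᵁ E
  have hmemEg : ∀ g h : T ⟶ G, (lift h (𝟙 T)).left pt ∈ Eg g ↔ Neutral (g⁻¹ * h) := by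
    intro g h
    rw [neutral_iff]
    have e : (Lk g⁻¹).left ((lift h (𝟙 T)).left pt) = (lift (g⁻¹ * h) (𝟙 T)).left pt := by
      rw [← Scheme.Hom.comp_apply, ← Over.comp_left, section_Lk]
    show (fst G T).left ((Lk g⁻¹).left ((lift h (𝟙 T)).left pt)) ∈ connectedComponent (ePt G) ↔ _
    rw [e]
    exact Iff.of_eq (congrArg (· ∈ connectedComponent (ePt G)) (fst_section K (g⁻¹ * h)))
  -- the translates cover
  have hcl : ∀ c : ↥(G ⊗ T).left, IsClosed ({c} : Set ↥(G ⊗ T).left) → ∃ g, c ∈ Eg g := by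
    intro c hc
    obtain ⟨g, rfl⟩ := exists_section G K c hc
    exact ⟨g, (hmemEg g g).2 (by rw [inv_mul_cancel]; exact neutral_one)⟩
  have hcover : ∀ c : ↥(G ⊗ T).left, ∃ g, c ∈ Eg g := by
    intro c
    by_contra hne
    push_neg at hne
    let W : Set ↥(G ⊗ T).left := ⋃ g, (Eg g : Set ↥(G ⊗ T).left)
    have hW : IsOpen W := isOpen_iUnion fun g => (Eg g).isOpen
    have hWne : (Wᶜ).Nonempty := ⟨c, fun h => by
      obtain ⟨g, hg⟩ := Set.mem_iUnion.1 h
      exact hne g hg⟩
    obtain ⟨c', hc'W, hc'⟩ := nonempty_inter_closedPoints hWne hW.isClosed_compl.isLocallyClosed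
    obtain ⟨g, hg⟩ := hcl c' hc'
    exact hc'W (Set.mem_iUnion.2 ⟨g, hg⟩)
  obtain ⟨t, ht⟩ := isCompact_univ.elim_finite_subcover
    (fun g => (Eg g : Set ↥(G ⊗ T).left)) (fun g => (Eg g).isOpen)
    (fun c _ => Set.mem_iUnion.2 (hcover c))
  -- density of the image of the orbit map
  let UK : (X ⊗ T).left.Opens := (fst X T).left ⁻¹ᵁ U
  have hUKne : (UK : Set ↥(X ⊗ T).left).Nonempty :=
    ⟨(lift x (𝟙 T)).left pt, by
      show (fst X T).left _ ∈ U
      rw [fst_section]; exact hxU⟩
  have hclX : ∀ c : ↥(X ⊗ T).left, IsClosed ({c} : Set ↥(X ⊗ T).left) → c ∈ UK →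
      c ∈ Set.range oK.left := by
    intro c hc hcU
    obtain ⟨y, rfl⟩ := exists_section X K c hc
    have hyU : y.left pt ∈ U := by
      have h1 : (fst X T).left ((lift y (𝟙 T)).left pt) ∈ U := hcU
      rwa [fst_section] at h1
    obtain ⟨g, hg⟩ := htr y hyU
    refine ⟨(lift g (𝟙 T)).left pt, ?_⟩
    rw [← Scheme.Hom.comp_apply, ← Over.comp_left, hsec, hg]
  have hdense : Dense (Set.range oK.left) := by
    rw [dense_iff_inter_open]
    intro W hW hWne
    obtain ⟨w, hwW, hwU⟩ := nonempty_preirreducible_inter hW UK.isOpen hWne hUKne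
    obtain ⟨c, ⟨hcW, hcU⟩, hc⟩ := nonempty_inter_closedPoints
      (⟨w, hwW, hwU⟩ : (W ∩ (UK : Set ↥(X ⊗ T).left)).Nonempty)
      (hW.inter UK.isOpen).isLocallyClosed
    exact ⟨c, hcW, hclX c hc hcU⟩
  have hrange : Set.range oK.left = ⋃ g ∈ t, oK.left '' (Eg g : Set ↥(G ⊗ T).left) := by
    rw [← Set.image_iUnion₂, ← Set.image_univ]
    congr 1
    exact (Set.eq_univ_of_univ_subset ht).symm
  have hunion : (Set.univ : Set ↥(X ⊗ T).left) ⊆
      ⋃₀ ↑(t.image fun g => closure (oK.left '' (Eg g : Set ↥(G ⊗ T).left))) := by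
    rw [← hdense.closure_eq, hrange, Finset.closure_biUnion]
    intro z hz
    obtain ⟨g, hg, hzg⟩ := Set.mem_iUnion₂.1 hz
    exact Set.mem_sUnion.2 ⟨_, Finset.mem_coe.2 (Finset.mem_image.2 ⟨g, hg, rfl⟩), hzg⟩
  obtain ⟨z, hz, hzuniv⟩ := isIrreducible_iff_sUnion_isClosed.mp
    (IrreducibleSpace.isIrreducible_univ ↥(X ⊗ T).left) _ (by
      intro z hz
      obtain ⟨g, -, rfl⟩ := Finset.mem_image.1 hz
      exact isClosed_closure) hunion
  obtain ⟨g₁, hg₁t, rfl⟩ := Finset.mem_image.1 hz
  have hZcons : IsConstructible (oK.left '' (Eg g₁ : Set ↥(G ⊗ T).left)) :=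
    Groth.Agent.Lib.Helper72.FibDim.isConstructible_image (k := K) (snd X T).left oK.left
      (Groth.Agent.Lib.Helper35.noeth_isConstructible_of_isOpen (Eg g₁).isOpen)
  obtain ⟨O, hO, ⟨o, hoO, -⟩, hOsub⟩ := Groth.Agent.Lib.Helper35.constr_exists_open_of_dense
    hZcons (IrreducibleSpace.isIrreducible_univ ↥(X ⊗ T).left) (by
      rw [Set.inter_univ]; exact hzuniv)
  -- Claim 1: `K`-points of `O` lie in the coset orbit `g₁ N x`
  have claim1 : ∀ y : T ⟶ X, (lift y (𝟙 T)).left pt ∈ O →
      ∃ h : T ⟶ G, Neutral (g₁⁻¹ * h) ∧ smul a h x = y := by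
    intro y hyO
    have hyZ : (lift y (𝟙 T)).left pt ∈ oK.left '' (Eg g₁ : Set ↥(G ⊗ T).left) :=
      hOsub ⟨hyO, trivial⟩
    obtain ⟨q, hq, hqE⟩ := exists_lift_mem (K := K) oK (Eg g₁) (lift y (𝟙 T)) hyZ
    have hq2 : q ≫ snd G T = 𝟙 T := by
      have h1 := congrArg (· ≫ snd X T) hq
      simp only [Category.assoc, hoK_snd, lift_snd] at h1
      exact h1
    have hqs : lift (q ≫ fst G T) (𝟙 T) = q := by
      apply CartesianMonoidalCategory.hom_ext
      · rw [lift_fst]
      · rw [lift_snd, hq2]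
    refine ⟨q ≫ fst G T, ?_, ?_⟩
    · rw [← hmemEg, hqs]; exact hqE
    · have h1 := hsec (q ≫ fst G T)
      rw [hqs, hq] at h1
      have h2 := congrArg (· ≫ fst X T) h1
      simp only [lift_fst] at h2
      exact h2.symm
  -- Claim 2: every `K`-point of `U` lies in the `N`-orbit of `g₁ x`
  have claim2 : ∀ y : T ⟶ X, y.left pt ∈ U →
      ∃ n : T ⟶ G, Neutral n ∧ smul a (n * g₁) x = y := by
    intro y hyU
    obtain ⟨gy, hgy⟩ := htr y hyU
    let g' : T ⟶ G := gy * g₁⁻¹
    have hO' : IsOpen ((Tk a g').left ⁻¹' O) := hO.preimage (Tk a g').left.continuous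
    have hO'ne : ((Tk a g').left ⁻¹' O).Nonempty := by
      obtain ⟨w, hw⟩ := (Tk a g').left.surjective o
      exact ⟨w, by rw [Set.mem_preimage, hw]; exact hoO⟩
    obtain ⟨w, hwO, hwO'⟩ := nonempty_preirreducible_inter hO hO' ⟨o, hoO⟩ hO'ne
    obtain ⟨c, ⟨hcO, hcO'⟩, hc⟩ := nonempty_inter_closedPoints
      (⟨w, hwO, hwO'⟩ : (O ∩ (Tk a g').left ⁻¹' O).Nonempty) (hO.inter hO').isLocallyClosed
    obtain ⟨u, rfl⟩ := exists_section X K c hc
    have hgu : (lift (smul a g' u) (𝟙 T)).left pt ∈ O := by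
      have e := Groth.Agent.Lib.Helper72.EquivFlat.section_Tk a u g'
      have e' : (Tk a g').left ((lift u (𝟙 T)).left pt) = (lift (smul a g' u) (𝟙 T)).left pt := by
        rw [← Scheme.Hom.comp_apply, ← Over.comp_left, e]
      rw [← e']; exact hcO'
    obtain ⟨h, hh, hhu⟩ := claim1 u hcO
    obtain ⟨h', hh', hhu'⟩ := claim1 _ hgu
    refine ⟨(g' * (g₁ * h⁻¹) * g'⁻¹) * (h' * g₁⁻¹), ?_, ?_⟩
    · refine Neutral.mul (Neutral.conj g' ?_) ?_
      · have h1 := Neutral.conj g₁ hh.inv
        have e : g₁ * (g₁⁻¹ * h)⁻¹ * g₁⁻¹ = g₁ * h⁻¹ := by group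
        rwa [e] at h1
      · have h1 := Neutral.conj g₁ hh'
        have e : g₁ * (g₁⁻¹ * h') * g₁⁻¹ = h' * g₁⁻¹ := by group
        rwa [e] at h1
    · have e : (g' * (g₁ * h⁻¹) * g'⁻¹) * (h' * g₁⁻¹) * g₁ = gy * h⁻¹ * g'⁻¹ * h' := by
        show (gy * g₁⁻¹ * (g₁ * h⁻¹) * (gy * g₁⁻¹)⁻¹) * (h' * g₁⁻¹) * g₁ =
          gy * h⁻¹ * (gy * g₁⁻¹)⁻¹ * h'
        group
      rw [e, smul_mul, smul_mul, smul_mul, hhu', OpenOrbit.inv_smul_smul, ← hhu, OpenOrbit.inv_smul_smul, hgy]
  intro y hyU
  obtain ⟨ny, hny, hy⟩ := claim2 y hyU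
  obtain ⟨nx, hnx, hx⟩ := claim2 x hxU
  refine ⟨ny * nx⁻¹, hny.mul hnx.inv, ?_⟩
  have e1 : smul a (nx * g₁)⁻¹ x = x := by
    conv_lhs => rw [← hx]
    exact OpenOrbit.inv_smul_smul a _ _
  have e2 : ny * nx⁻¹ = (ny * g₁) * (nx * g₁)⁻¹ := by group
  rw [e2, smul_mul, e1, hy]

end Main

section Transitive

variable {k : Type u} [Field k] (K : Type u) [Field K] [Algebra k K] [IsAlgClosed K]
  {G X : Over (Spec (CommRingCat.of k))} [GrpObj G] (a : AlgGrp.Action G X)

/-- Homogeneity implies transitivity on `K`-points. -/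
theorem transitive_of_surjective [LocallyOfFiniteType G.hom] [LocallyOfFiniteType X.hom]
    (hs : Surjective (graph a).left) (x y : TK k K ⟶ X) :
    ∃ g : TK k K ⟶ G, smul a g x = y := by
  obtain ⟨g, hg⟩ := exists_smul_eq_of_mem_range (K := K) a (lift x y)
    ((graph a).left.surjective _)
  rw [lift_fst, lift_snd] at hg
  exact ⟨g, hg⟩

/-- Transitivity on `K`-points implies homogeneity. -/
theorem surjective_of_transitive [LocallyOfFiniteType G.hom] [QuasiCompact G.hom]
    [LocallyOfFiniteType X.hom] [QuasiCompact X.hom]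
    (htr : ∀ x y : TK k K ⟶ X, ∃ g : TK k K ⟶ G, smul a g x = y) :
    Surjective (graph a).left := by
  classical
  have hGX : LocallyOfFiniteType (G ⊗ X).hom := lft_tensor
  have hXX : LocallyOfFiniteType (X ⊗ X).hom := lft_tensor
  have hGXqc : QuasiCompact (G ⊗ X).hom := by
    rw [Over.tensorObj_hom]; infer_instance
  have hXXqc : QuasiCompact (X ⊗ X).hom := by
    rw [Over.tensorObj_hom]; infer_instance
  have hΦlft : LocallyOfFiniteType (graph a).left := lft_hom _
  have hln : IsLocallyNoetherian (X ⊗ X).left :=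
    LocallyOfFiniteType.isLocallyNoetherian (X ⊗ X).hom
  haveI : CompactSpace ↥(X ⊗ X).left :=
    QuasiCompact.compactSpace_of_compactSpace (X ⊗ X).hom
  haveI : IsNoetherian (X ⊗ X).left := { }
  haveI : JacobsonSpace ↥(X ⊗ X).left := LocallyOfFiniteType.jacobsonSpace (X ⊗ X).hom
  haveI : LocallyOfFinitePresentation (graph a).left :=
    LocallyOfFinitePresentation.iff_locallyOfFiniteType.mpr hΦlft
  haveI : QuasiCompact (graph a).left :=
    Groth.Agent.Lib.Helper72.FibDim.quasiCompact_of_ft (G ⊗ X).hom (X ⊗ X).hom _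
  have hcons : Topology.IsConstructible (Set.range (graph a).left) := by
    rw [← Set.image_univ]
    exact Scheme.Hom.isConstructible_image _ Topology.IsConstructible.univ
  have huniv := Groth.Agent.Lib.Helper72.ConstrJacobson.eq_univ_of_closedPoints_subset hcons ?_
  · constructor
    intro z
    have : z ∈ Set.range (graph a).left := huniv ▸ Set.mem_univ z
    exact this
  · intro z hz
    obtain ⟨ζ, hζ⟩ := Groth.Agent.Lib.Helper72.ConstrJacobson.exists_point_of_isClosed
      (k := k) (K := K) (X ⊗ X) z hz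
    obtain ⟨g, hg⟩ := htr (ζ ≫ fst X X) (ζ ≫ snd X X)
    have h3 : lift g (ζ ≫ fst X X) ≫ graph a = ζ := by
      rw [comp_lift, lift_snd]
      change lift (ζ ≫ fst X X) (smul a g (ζ ≫ fst X X)) = ζ
      rw [hg, ← comp_lift, lift_fst_snd, Category.comp_id]
    refine ⟨(lift g (ζ ≫ fst X X)).left (IsLocalRing.closedPoint K), ?_⟩
    rw [← Scheme.Hom.comp_apply, ← Over.comp_left, h3, hζ]

end Transitive

section Restrict

variable {k : Type u} [Field k] (K : Type u) [Field K] [Algebra k K] [IsAlgClosed K]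
  {G G0 X : Over (Spec (CommRingCat.of k))} [GrpObj G] [GrpObj G0]
  (i : G0 ⟶ G) [IsOpenImmersion i.left]
  (hi : Set.range i.left = connectedComponent (ePt G))
  (a : AlgGrp.Action G X) (a0 : AlgGrp.Action G0 X) (ha0 : a0.act = (i ▷ X) ≫ a.act)

include hi in
omit [GrpObj G0] [IsAlgClosed K] in
/-- Neutral points factor through the identity component. -/
lemma exists_factor {T : Over (Spec (CommRingCat.of k))} (n : T ⟶ G) (hn : Neutral n) :
    ∃ n0 : T ⟶ G0, n0 ≫ i = n := by
  have hr : Set.range n.left ⊆ Set.range i.left := by rw [hi]; exact hn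
  let n0' : T.left ⟶ G0.left := IsOpenImmersion.lift i.left n.left hr
  have h1 : n0' ≫ i.left = n.left := IsOpenImmersion.lift_fac _ _ _
  have hw : n0' ≫ G0.hom = T.hom := by
    rw [← Over.w i, ← Category.assoc, h1, Over.w n]
  exact ⟨Over.homMk n0' hw, Over.OverMorphism.ext h1⟩

include hi ha0 in
/-- Homogeneity under `G` implies homogeneity under the identity component. -/
theorem surjective_restrict [LocallyOfFiniteType G.hom] [QuasiCompact G.hom]
    [LocallyOfFiniteType G0.hom] [QuasiCompact G0.hom]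
    [LocallyOfFiniteType X.hom] [QuasiCompact X.hom] [IrreducibleSpace ↥(X ⊗ TK k K).left]
    (hs : Surjective (graph a).left) : Surjective (graph a0).left := by
  have hC : IsOpen (connectedComponent (ePt G)) := by
    rw [← hi]; exact i.left.isOpenEmbedding.isOpen_range
  apply surjective_of_transitive K a0
  intro x y
  obtain ⟨n, hn, hnx⟩ := neutral_transitive K a hC ⊤ x trivial
    (fun y _ => transitive_of_surjective K a hs x y) y trivial
  obtain ⟨n0, rfl⟩ := exists_factor i hi n hn
  refine ⟨n0, ?_⟩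
  show lift n0 x ≫ a0.act = y
  rw [ha0, lift_whiskerRight_assoc]
  exact hnx

include hi ha0 in
/-- Almost homogeneity under `G` implies almost homogeneity under the identity component. -/
theorem dominant_restrict [IsMonHom i] [LocallyOfFiniteType G.hom] [QuasiCompact G.hom]
    [LocallyOfFiniteType G0.hom] [QuasiCompact G0.hom]
    [LocallyOfFiniteType X.hom] [QuasiCompact X.hom] [GeometricallyIntegral X.hom]
    (hd : IsDominant (graph a).left) : IsDominant (graph a0).left := by
  classical
  let K : Type u := AlgebraicClosure k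
  haveI : Subsingleton ↥(Spec (CommRingCat.of k)) :=
    inferInstanceAs (Subsingleton (PrimeSpectrum k))
  haveI : IsLocallyNoetherian X.left := LocallyOfFiniteType.isLocallyNoetherian X.hom
  haveI : IsIntegral X.left := GeometricallyIntegral.isIntegral_of_subsingleton X.hom
  haveI : IsIntegral (X ⊗ X).left := by
    change IsIntegral (pullback X.hom X.hom)
    infer_instance
  have hGX : LocallyOfFiniteType (G ⊗ X).hom := lft_tensor
  have hXX : LocallyOfFiniteType (X ⊗ X).hom := lft_tensor
  have hGXqc : QuasiCompact (G ⊗ X).hom := by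
    rw [Over.tensorObj_hom]; infer_instance
  have hXXqc : QuasiCompact (X ⊗ X).hom := by
    rw [Over.tensorObj_hom]; infer_instance
  have hΦlft : LocallyOfFiniteType (graph a).left := lft_hom _
  have hln : IsLocallyNoetherian (X ⊗ X).left :=
    LocallyOfFiniteType.isLocallyNoetherian (X ⊗ X).hom
  haveI : CompactSpace ↥(X ⊗ X).left :=
    QuasiCompact.compactSpace_of_compactSpace (X ⊗ X).hom
  haveI : IsNoetherian (X ⊗ X).left := { }
  haveI : LocallyOfFinitePresentation (graph a).left :=
    LocallyOfFinitePresentation.iff_locallyOfFiniteType.mpr hΦlft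
  haveI : QuasiCompact (graph a).left :=
    Groth.Agent.Lib.Helper72.FibDim.quasiCompact_of_ft (G ⊗ X).hom (X ⊗ X).hom _
  have hcons : Topology.IsConstructible (Set.range (graph a).left) := by
    rw [← Set.image_univ]
    exact Scheme.Hom.isConstructible_image _ Topology.IsConstructible.univ
  have hdense : Dense (Set.range (graph a).left) := hd.1
  obtain ⟨V, hV, ⟨v, hvV, -⟩, hVsub⟩ := Groth.Agent.Lib.Helper35.constr_exists_open_of_dense
    hcons (IrreducibleSpace.isIrreducible_univ ↥(X ⊗ X).left) (by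
      rw [Set.inter_univ, hdense.closure_eq])
  let V' : (X ⊗ X).left.Opens := ⟨V, hV⟩
  have hV' : (V' : Set ↥(X ⊗ X).left) ⊆ Set.range (graph a).left :=
    fun z hz => hVsub ⟨hz, trivial⟩
  haveI : UniversallyOpen (fst X X).left := by
    rw [Over.fst_left]; infer_instance
  let U : X.left.Opens := ⟨sat a ((fst X X).left '' (V' : Set ↥(X ⊗ X).left)),
    isOpen_sat a ((fst X X).left.isOpenMap _ V'.2)⟩
  have hstable : ∀ z : ↥(G ⊗ X).left, (snd G X).left z ∈ U → a.act.left z ∈ U :=
    fun z hz => act_mem_sat a z hz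
  obtain ⟨b, hb⟩ := exists_restrict a U hstable
  have hsurjb := surjective_graph_restrict a V' hV' U rfl b hb
  have huU : (fst X X).left v ∈ U := subset_sat a _ ⟨v, hvV, rfl⟩
  let U' : Over (Spec (CommRingCat.of k)) := Over.mk (U.ι ≫ X.hom)
  let j : U' ⟶ X := Over.homMk U.ι rfl
  haveI : LocallyOfFiniteType U'.hom := inferInstanceAs (LocallyOfFiniteType (U.ι ≫ X.hom))
  haveI : QuasiCompact U'.hom := inferInstanceAs (QuasiCompact (U.ι ≫ X.hom))
  haveI : Surjective (U.ι ≫ X.hom) :=
    ⟨fun s => ⟨⟨(fst X X).left v, huU⟩, Subsingleton.elim _ _⟩⟩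
  haveI : GeometricallyIrreducible U'.hom :=
    inferInstanceAs (GeometricallyIrreducible (U.ι ≫ X.hom))
  haveI : IrreducibleSpace ↥(TK k K).left := inferInstanceAs (IrreducibleSpace (PrimeSpectrum K))
  haveI : IrreducibleSpace ↥(U' ⊗ TK k K).left := by
    change IrreducibleSpace ↥(pullback U'.hom (TK k K).hom)
    infer_instance
  have hb0 : (b.restrict i).act = (i ▷ U') ≫ b.act := rfl
  have hsurjb0 : Surjective (graph (b.restrict i)).left :=
    surjective_restrict K i hi b (b.restrict i) hb0 hsurjb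
  -- compare the graphs
  have hact : (G0 ◁ j) ≫ a0.act = (b.restrict i).act ≫ j := by
    rw [hb0, ha0, Category.assoc, ← hb, ← whisker_exchange_assoc]
  have hgraph : graph (b.restrict i) ≫ (j ⊗ₘ j) = (G0 ◁ j) ≫ graph a0 := by
    apply CartesianMonoidalCategory.hom_ext
    · rw [Category.assoc, tensorHom_fst, lift_fst_assoc, Category.assoc, lift_fst,
        whiskerLeft_snd]
    · rw [Category.assoc, tensorHom_snd, lift_snd_assoc, Category.assoc, lift_snd, hact]
  have hsub : Set.range (j ⊗ₘ j).left ⊆ Set.range (graph a0).left := by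
    rintro _ ⟨w, rfl⟩
    obtain ⟨w', rfl⟩ := (graph (b.restrict i)).left.surjective w
    refine ⟨(G0 ◁ j).left w', ?_⟩
    rw [← Scheme.Hom.comp_apply, ← Over.comp_left, ← hgraph, Over.comp_left,
      Scheme.Hom.comp_apply]
  have hrangej : Set.range j.left = (U : Set X.left) := by
    show Set.range U.ι = _
    exact U.range_ι
  have hrange : Set.range (j ⊗ₘ j).left =
      (fst X X).left ⁻¹' (U : Set X.left) ∩ (snd X X).left ⁻¹' (U : Set X.left) := by
    rw [Over.tensorHom_left, Scheme.Pullback.range_map, hrangej]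
    rfl
  have hopen : IsOpen (Set.range (j ⊗ₘ j).left) := by
    rw [hrange]
    exact (U.isOpen.preimage (fst X X).left.continuous).inter
      (U.isOpen.preimage (snd X X).left.continuous)
  have hvmem : v ∈ Set.range (j ⊗ₘ j).left := by
    rw [hrange]
    refine ⟨huU, ?_⟩
    obtain ⟨z, rfl⟩ := hV' hvV
    have h1 : (snd G X).left z = (fst X X).left ((graph a).left z) := by
      rw [← Scheme.Hom.comp_apply, ← Over.comp_left, lift_fst]
    have h2 : a.act.left z = (snd X X).left ((graph a).left z) := by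
      rw [← Scheme.Hom.comp_apply, ← Over.comp_left, lift_snd]
    show (snd X X).left ((graph a).left z) ∈ U
    rw [← h2]
    exact hstable z (by rw [h1]; exact huU)
  rw [isDominant_iff]
  exact (hopen.dense ⟨v, hvmem⟩).mono hsub

end Restrict

end Groth.Agent.Lib.Helper72.IdCompHomog
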