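import Mathlib.RingTheory.Spectrum.Prime.Chevalley
import Mathlib.FieldTheory.Separable
import Mathlib.RingTheory.FinitePresentation
import Mathlib.RingTheory.Algebraic.Basic

/-!
# A Chevalley-type lemma: a transcendental element of a finite type domain takes a root of unity
value at some prime
-/

set_option autoImplicit false

namespace Groth.Agent.Lib.Helper72.IntClosureAlg

open Polynomial PrimeSpectrum Topology

/-- A constructible subset of the spectrum of a domain containing the generic point contains a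
nonempty basic open. -/
lemma exists_basicOpen_subset {A : Type*} [CommRing A] [IsDomain A]
    {s : Set (PrimeSpectrum A)} (hs : IsConstructible s)
    (h0 : (⟨⊥, Ideal.isPrime_bot⟩ : PrimeSpectrum A) ∈ s) :
    ∃ f : A, f ≠ 0 ∧ ∀ q : PrimeSpectrum A, f ∉ q.asIdeal → q ∈ s := by
  obtain ⟨S, rfl⟩ := exists_constructibleSetData_iff.mpr hs
  simp only [ConstructibleSetData.toSet, Set.mem_iUnion] at h0
  obtain ⟨C, hC, hmem⟩ := h0
  obtain ⟨h1, h2⟩ := hmem
  refine ⟨C.f, ?_, fun q hq => ?_⟩
  · intro hf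
    apply h2
    rw [mem_zeroLocus]
    intro a ha
    rw [Set.mem_singleton_iff] at ha
    rw [ha, hf]
    exact Ideal.zero_mem _
  · simp only [ConstructibleSetData.toSet, Set.mem_iUnion]
    refine ⟨C, hC, ?_, ?_⟩
    · rw [mem_zeroLocus]
      rintro _ ⟨i, rfl⟩
      rw [mem_zeroLocus] at h1
      have : C.g i ∈ (⊥ : Ideal A) := h1 ⟨i, rfl⟩
      rw [Ideal.mem_bot] at this
      rw [this]
      exact Ideal.zero_mem _
    · rw [mem_zeroLocus]
      intro h
      exact hq (h (Set.mem_singleton _))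

/-- Given a nonzero polynomial `f` over a field there are `n ≥ 1` and a prime of `k[X]` containing
`X ^ n - 1` but not `f`. -/
lemma exists_prime_pow_sub_one {k : Type*} [Field k] (f : k[X]) (hf : f ≠ 0) :
    ∃ n : ℕ, 1 ≤ n ∧ ∃ q : PrimeSpectrum k[X], (X ^ n - 1 : k[X]) ∈ q.asIdeal ∧ f ∉ q.asIdeal := by
  obtain ⟨n, hn1, hnd, hnk⟩ : ∃ n : ℕ, 1 ≤ n ∧ f.natDegree < n ∧ (n : k) ≠ 0 := by
    obtain ⟨p, hp⟩ := CharP.exists k
    by_cases hp0 : p = 0
    · subst hp0
      have : CharZero k := CharP.charP_to_charZero k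
      exact ⟨f.natDegree + 1, by omega, by omega, Nat.cast_ne_zero.2 (Nat.succ_ne_zero _)⟩
    · refine ⟨p * (f.natDegree + 1) + 1, by omega, ?_, ?_⟩
      · have : 1 ≤ p := Nat.one_le_iff_ne_zero.2 hp0
        nlinarith
      · push_cast
        rw [CharP.cast_eq_zero k p]
        simp
  refine ⟨n, hn1, ?_⟩
  have hsep : (X ^ n - 1 : k[X]).Separable := X_pow_sub_one_separable_iff.2 hnk
  have hrad : IsRadical (X ^ n - 1 : k[X]) := hsep.squarefree.isRadical
  have hdeg : (X ^ n - 1 : k[X]).natDegree = n := by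
    have : (X ^ n - 1 : k[X]) = X ^ n - C 1 := by simp
    rw [this, natDegree_X_pow_sub_C]
  by_contra hcon
  push Not at hcon
  have hmem : f ∈ (Ideal.span {(X ^ n - 1 : k[X])}).radical := by
    rw [Ideal.radical_eq_sInf, Ideal.mem_sInf]
    rintro J ⟨hJ, hJp⟩
    exact hcon ⟨J, hJp⟩ (hJ (Ideal.subset_span (Set.mem_singleton _)))
  obtain ⟨m, hm⟩ := hmem
  rw [Ideal.mem_span_singleton] at hm
  have hdvd : (X ^ n - 1 : k[X]) ∣ f := hrad m f hm
  have := natDegree_le_of_dvd hdvd hf
  omega

/-- **Chevalley-type lemma.** If `D` is a domain of finite type over a field `k` and `x : D` is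
transcendental over `k`, then `x ^ n - 1` lies in some prime of `D` for some `n ≥ 1`. -/
theorem exists_prime_pow_sub_one_mem {k D : Type*} [Field k] [CommRing D] [IsDomain D]
    [Algebra k D] [Algebra.FiniteType k D] (x : D) (hx : Transcendental k x) :
    ∃ n : ℕ, 1 ≤ n ∧ ∃ Q : PrimeSpectrum D, x ^ n - 1 ∈ Q.asIdeal := by
  have hinj : Function.Injective (aeval (R := k) x) := transcendental_iff_injective.1 hx
  have hft : (aeval (R := k) x).toRingHom.FiniteType := by
    apply RingHom.FiniteType.of_comp_finiteType (f := (C : k →+* k[X]))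
    have : (aeval (R := k) x).toRingHom.comp C = algebraMap k D := by
      ext c; simp
    rw [this]
    exact RingHom.finiteType_algebraMap.2 ‹Algebra.FiniteType k D›
  have hfp : (aeval (R := k) x).toRingHom.FinitePresentation :=
    RingHom.FinitePresentation.of_finiteType.1 hft
  have hcons := isConstructible_range_comap hfp
  have h0 : (⟨⊥, Ideal.isPrime_bot⟩ : PrimeSpectrum k[X]) ∈
      Set.range (comap (aeval (R := k) x).toRingHom) := by
    refine ⟨⟨⊥, Ideal.isPrime_bot⟩, ?_⟩
    ext1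
    show Ideal.comap _ ⊥ = ⊥
    rw [← RingHom.ker_eq_comap_bot]
    exact (RingHom.injective_iff_ker_eq_bot _).1 hinj
  obtain ⟨f, hf0, hf⟩ := exists_basicOpen_subset hcons h0
  obtain ⟨n, hn1, q, hq1, hq2⟩ := exists_prime_pow_sub_one f hf0
  obtain ⟨Q, rfl⟩ := hf q hq2
  refine ⟨n, hn1, Q, ?_⟩
  have : (aeval (R := k) x) (X ^ n - 1) ∈ Q.asIdeal := hq1
  simpa using this

end Groth.Agent.Lib.Helper72.IntClosureAlg
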