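import Mathlib.RingTheory.Smooth.Locus
import Mathlib.RingTheory.Smooth.Local
import Mathlib.RingTheory.Smooth.Basic
import Mathlib.RingTheory.Etale.Kaehler
import Mathlib.RingTheory.Kaehler.Basic
import Mathlib.RingTheory.LocalRing.ResidueField.Ideal
import Mathlib.RingTheory.Localization.AtPrime.Basic
import Mathlib.RingTheory.Localization.Algebra
import Mathlib.RingTheory.RingHom.Surjective
import Mathlib.RingTheory.Noetherian.Basic
import Mathlib.RingTheory.LocalRing.Module
import Mathlib.LinearAlgebra.LinearIndependent.Lemmas
import Mathlib.RingTheory.Finiteness.Cardinality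

/-!
# Jacobian criterion for quotients of algebras smooth at a prime (helper72)

For an `R`-algebra `A`, an ideal `I` of `A` and a prime `P` of `A ⧸ I` with preimage `q`, such that
`A_q` is formally smooth over `R` with `Ω[A_q/R]` finite, `(A/I)_P` is formally smooth over `R`
iff the Jacobian map `jac : κ(q) ⊗ I A_q → κ(q) ⊗[A] Ω[A/R]` is injective
(`smooth_iff_injective_jac`). Consequences: `exists_of_injective_jac`, `injective_jac_of_exists`,
`injective_jac_singleton_iff`.
-/

set_option autoImplicit false
open TensorProduct KaehlerDifferential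

universe u



namespace Groth.Agent.Lib.Helper72.Jac

variable (R A : Type u) [CommRing R] [CommRing A] [Algebra R A]
  (I : Ideal A) (P : Ideal (A ⧸ I)) [P.IsPrime]

/-- the prime of `A` below `P`. -/
abbrev qq : Ideal A := P.comap (Ideal.Quotient.mk I)

/-- the local homomorphism `A_q → (A/I)_P`. -/
noncomputable abbrev phi : Localization.AtPrime (qq A I P) →+* Localization.AtPrime P :=
  Localization.localRingHom (qq A I P) P (Ideal.Quotient.mk I) rfl

lemma phi_surjective : Function.Surjective (phi A I P) :=
  RingHom.surjective_localRingHom_of_surjective _ Ideal.Quotient.mk_surjective P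

lemma ker_phi : RingHom.ker (phi A I P) = I.map (algebraMap A (Localization.AtPrime (qq A I P))) := by
  have hT : Submonoid.map (Ideal.Quotient.mk I) (qq A I P).primeCompl = P.primeCompl :=
    Submonoid.map_comap_eq_of_surjective Ideal.Quotient.mk_surjective P.primeCompl
  have := IsLocalization.ker_map (S := Localization.AtPrime (qq A I P)) (Localization.AtPrime P)
    (Ideal.Quotient.mk I) hT
  rw [Ideal.mk_ker] at this
  exact this

end Groth.Agent.Lib.Helper72.Jac




namespace Groth.Agent.Lib.Helper72.Jac

variable (R A : Type u) [CommRing R] [CommRing A] [Algebra R A]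
  (I : Ideal A) (P : Ideal (A ⧸ I)) [P.IsPrime]

section

/-- the algebra structure `A_q → (A/I)_P`. -/
noncomputable local instance algAqS :
    Algebra (Localization.AtPrime (qq A I P)) (Localization.AtPrime P) := (phi A I P).toAlgebra

lemma algebraMap_AqS : algebraMap (Localization.AtPrime (qq A I P)) (Localization.AtPrime P) =
    phi A I P := rfl

instance towerRAqS : IsScalarTower R (Localization.AtPrime (qq A I P)) (Localization.AtPrime P) := by
  refine .of_algebraMap_eq fun r => ?_
  rw [algebraMap_AqS, IsScalarTower.algebraMap_apply R A (Localization.AtPrime (qq A I P)),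
    Localization.localRingHom_to_map,
    IsScalarTower.algebraMap_apply R (A ⧸ I) (Localization.AtPrime P)]
  rfl

/-- the map `(A/I)_P → κ(q)`. -/
noncomputable def psi : Localization.AtPrime P →+* (qq A I P).ResidueField :=
  RingHom.liftOfSurjective (phi A I P) (phi_surjective A I P)
    ⟨IsLocalRing.residue (Localization.AtPrime (qq A I P)), by
      intro x hx
      rw [IsLocalRing.ker_residue]
      by_contra hx'
      have hu : IsUnit x := by simpa using hx'
      have := hu.map (phi A I P)
      rw [RingHom.mem_ker.mp hx] at this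
      exact not_isUnit_zero this⟩

lemma psi_phi (x : Localization.AtPrime (qq A I P)) :
    psi A I P (phi A I P x) = IsLocalRing.residue _ x := by
  unfold psi
  exact RingHom.liftOfRightInverse_comp_apply _ _ _ _ x

end

end Groth.Agent.Lib.Helper72.Jac

namespace Groth.Agent.Lib.Helper72.Jac

variable (R A : Type u) [CommRing R] [CommRing A] [Algebra R A]
  (I : Ideal A) (P : Ideal (A ⧸ I)) [P.IsPrime]

section

noncomputable local instance algSκ :
    Algebra (Localization.AtPrime P) (qq A I P).ResidueField := (psi A I P).toAlgebra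

attribute [local instance] algAqS

instance towerAqSκ : IsScalarTower (Localization.AtPrime (qq A I P)) (Localization.AtPrime P)
    (qq A I P).ResidueField :=
  .of_algebraMap_eq fun x => (psi_phi A I P x).symm

theorem smooth_iff_injective
    [Algebra.FormallySmooth R (Localization.AtPrime (qq A I P))]
    [Module.Finite (Localization.AtPrime (qq A I P)) Ω[Localization.AtPrime (qq A I P)⁄R]]
    (hI : I.FG) :
    Algebra.FormallySmooth R (Localization.AtPrime P) ↔
      Function.Injective (cotangentComplexBaseChange R (Localization.AtPrime P)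
        (Localization.AtPrime (qq A I P)) (qq A I P).ResidueField) := by
  have : Module.Free (Localization.AtPrime (qq A I P)) Ω[Localization.AtPrime (qq A I P)⁄R] :=
    Module.free_of_flat_of_isLocalRing
  refine Algebra.FormallySmooth.iff_injective_cotangentComplexBaseChange _ _
    (phi_surjective A I P) ?_ ?_
  · rw [algebraMap_AqS, ker_phi]
    exact hI.map _
  · intro x hx
    obtain ⟨y, rfl⟩ := phi_surjective A I P x
    have hy : y ∈ IsLocalRing.maximalIdeal _ := by
      by_contra hy'
      have hu : IsUnit y := by simpa using hy'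
      exact hx (hu.map (phi A I P))
    rw [RingHom.mem_ker]
    show psi A I P (phi A I P y) = 0
    rw [psi_phi]
    exact (IsLocalRing.residue_eq_zero_iff _).mpr hy

end

end Groth.Agent.Lib.Helper72.Jac




namespace Groth.Agent.Lib.Helper72.Jac

variable (R A : Type u) [CommRing R] [CommRing A] [Algebra R A]
  (I : Ideal A) (P : Ideal (A ⧸ I)) [P.IsPrime]

section

attribute [local instance] algAqS algSκ

instance etaleAq : Algebra.FormallyEtale A (Localization.AtPrime (qq A I P)) :=
  Algebra.FormallyEtale.of_isLocalization (qq A I P).primeCompl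

/-- `κ(q) ⊗[A_q] Ω[A_q/R] ≃ κ(q) ⊗[A] Ω[A/R]`. -/
noncomputable def eOmega :
    (qq A I P).ResidueField ⊗[Localization.AtPrime (qq A I P)] Ω[Localization.AtPrime (qq A I P)⁄R]
      ≃ₗ[(qq A I P).ResidueField] (qq A I P).ResidueField ⊗[A] Ω[A⁄R] :=
  (AlgebraTensorModule.congr (LinearEquiv.refl (qq A I P).ResidueField (qq A I P).ResidueField)
    (tensorKaehlerEquivOfFormallyEtale R A (Localization.AtPrime (qq A I P))).symm) ≪≫ₗ
  AlgebraTensorModule.cancelBaseChange A (Localization.AtPrime (qq A I P))
    (qq A I P).ResidueField (qq A I P).ResidueField Ω[A⁄R]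

lemma eOmega_tmul_D (x : (qq A I P).ResidueField) (a : A) :
    eOmega R A I P (x ⊗ₜ D R _ (algebraMap A (Localization.AtPrime (qq A I P)) a)) =
      x ⊗ₜ D R A a := by
  simp [eOmega, tensorKaehlerEquivOfFormallyEtale_symm_D_algebraMap]

/-- the Jacobian map. -/
noncomputable def jac :
    (qq A I P).ResidueField ⊗[Localization.AtPrime (qq A I P)]
      ↥(I.map (algebraMap A (Localization.AtPrime (qq A I P))))
      →ₗ[(qq A I P).ResidueField] (qq A I P).ResidueField ⊗[A] Ω[A⁄R] :=
  (eOmega R A I P).toLinearMap ∘ₗ
    (cotangentComplexBaseChange R (Localization.AtPrime P)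
        (Localization.AtPrime (qq A I P)) (qq A I P).ResidueField) ∘ₗ
    (AlgebraTensorModule.congr (LinearEquiv.refl (qq A I P).ResidueField (qq A I P).ResidueField)
      (LinearEquiv.ofEq _ _ (ker_phi A I P).symm)).toLinearMap

lemma jac_tmul (x : (qq A I P).ResidueField) (a : A) (ha : a ∈ I) :
    jac R A I P (x ⊗ₜ ⟨algebraMap A _ a, Ideal.mem_map_of_mem _ ha⟩) = x ⊗ₜ D R A a := by
  unfold jac
  simp only [LinearMap.coe_comp, LinearEquiv.coe_coe, Function.comp_apply,
    AlgebraTensorModule.congr_tmul, LinearEquiv.refl_apply]
  rw [cotangentComplexBaseChange_tmul]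
  simp only [kerToTensor_apply, map_smul]
  erw [eOmega_tmul_D]
  rw [TensorProduct.smul_tmul', smul_eq_mul, mul_one]

theorem smooth_iff_injective_jac
    [Algebra.FormallySmooth R (Localization.AtPrime (qq A I P))]
    [Module.Finite (Localization.AtPrime (qq A I P)) Ω[Localization.AtPrime (qq A I P)⁄R]]
    (hI : I.FG) :
    Algebra.FormallySmooth R (Localization.AtPrime P) ↔ Function.Injective (jac R A I P) := by
  rw [smooth_iff_injective R A I P hI]
  unfold jac
  rw [LinearMap.coe_comp, LinearMap.coe_comp, LinearEquiv.coe_coe, LinearEquiv.coe_coe,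
    EquivLike.comp_injective, EquivLike.injective_comp]

end

end Groth.Agent.Lib.Helper72.Jac




namespace Groth.Agent.Lib.Helper72.Jac

lemma span_range_eq_top_iff {R M : Type*} [CommRing R] [AddCommGroup M] [Module R M]
    (N : Submodule R M) {ι : Type*} (f : ι → ↥N) :
    Submodule.span R (Set.range f) = ⊤ ↔
      Submodule.span R (Set.range (fun i => (f i : M))) = N := by
  rw [← (Submodule.map_injective_of_injective N.injective_subtype).eq_iff, Submodule.map_span,
    Submodule.map_subtype_top, ← Set.range_comp]
  rfl

lemma span_tmul_eq_top {R M K : Type*} [CommRing R] [AddCommGroup M] [Module R M]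
    [CommRing K] [Algebra R K] {ι : Type*} (f : ι → M)
    (h : Submodule.span R (Set.range f) = ⊤) :
    Submodule.span K (Set.range (fun i => (1 : K) ⊗ₜ[R] f i)) = ⊤ := by
  have := Submodule.baseChange_span (R := R) (M := M) (A := K) (Set.range f)
  rw [h, Submodule.baseChange_top, ← Set.range_comp] at this
  exact this.symm

/-- a linear map sending a spanning family to a linearly independent family is injective. -/
lemma injective_of_span_of_linearIndependent {K V W : Type*} [Field K] [AddCommGroup V]
    [Module K V] [AddCommGroup W] [Module K W] {ι : Type*} [Finite ι] (f : V →ₗ[K] W) (w : ι → V)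
    (hw : Submodule.span K (Set.range w) = ⊤) (hli : LinearIndependent K (f ∘ w)) :
    Function.Injective f := by
  have := Fintype.ofFinite ι
  rw [injective_iff_map_eq_zero]
  intro x hx
  have hx' : x ∈ Submodule.span K (Set.range w) := by rw [hw]; trivial
  obtain ⟨c, rfl⟩ := (Submodule.mem_span_range_iff_exists_fun K).1 hx'
  rw [map_sum] at hx
  simp only [map_smul] at hx
  have hc := Fintype.linearIndependent_iff.1 hli c hx
  simp [hc]

end Groth.Agent.Lib.Helper72.Jac




namespace Groth.Agent.Lib.Helper72.Jac

variable (R A : Type u) [CommRing R] [CommRing A] [Algebra R A]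
  (I : Ideal A) (P : Ideal (A ⧸ I)) [P.IsPrime]

section

/-- generators of `I A_q` coming from `I`. -/
noncomputable def gen (a : ↥I) : ↥(I.map (algebraMap A (Localization.AtPrime (qq A I P)))) :=
  ⟨algebraMap A _ a, Ideal.mem_map_of_mem _ a.2⟩

theorem exists_of_injective_jac (hI : I.FG) (h : Function.Injective (jac R A I P)) :
    ∃ s : Finset A, (↑s : Set A) ⊆ (I : Set A) ∧
      Ideal.map (algebraMap A (Localization.AtPrime (qq A I P))) I =
        Ideal.span ((algebraMap A (Localization.AtPrime (qq A I P))) '' (↑s : Set A)) ∧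
      LinearIndependent (qq A I P).ResidueField
        (fun g : ↥s => (1 : (qq A I P).ResidueField) ⊗ₜ[A] KaehlerDifferential.D R A (g : A)) := by
  classical
  have hfin : Module.Finite (Localization.AtPrime (qq A I P))
      ↥(I.map (algebraMap A (Localization.AtPrime (qq A I P)))) :=
    Module.Finite.of_fg (hI.map _)
  -- the family `v`
  have hgen : Submodule.span (Localization.AtPrime (qq A I P)) (Set.range (gen A I P)) = ⊤ := by
    rw [span_range_eq_top_iff]
    show Ideal.span _ = Ideal.span _
    congr 1
    ext x
    simp [gen]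
  have hv := span_tmul_eq_top (K := (qq A I P).ResidueField) (gen A I P) hgen
  obtain ⟨κ', a, ha, hsp, hli⟩ := exists_linearIndependent' (qq A I P).ResidueField
    (fun i => (1 : (qq A I P).ResidueField) ⊗ₜ[Localization.AtPrime (qq A I P)] gen A I P i)
  rw [hv] at hsp
  let b := Module.Basis.mk hli hsp.ge
  have : Finite κ' := Module.Finite.finite_basis b
  have := Fintype.ofFinite κ'
  let s : Finset A := Finset.univ.image (fun i => (a i : A))
  have hinj : Function.Injective (fun i => (a i : A)) := Subtype.val_injective.comp ha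
  have hsI : (↑s : Set A) ⊆ (I : Set A) := by
    intro x hx
    simp only [s, Finset.coe_image, Finset.coe_univ, Set.image_univ, Set.mem_range] at hx
    obtain ⟨i, rfl⟩ := hx
    exact (a i).2
  let σ : κ' ≃ ↥s := Equiv.ofBijective (fun i => ⟨(a i : A), by simp [s]⟩) ⟨fun i j hij => hinj (by simpa using hij), by
    rintro ⟨x, hx⟩
    simp only [s, Finset.mem_image, Finset.mem_univ, true_and] at hx
    obtain ⟨i, rfl⟩ := hx
    exact ⟨i, rfl⟩⟩
  let b' := b.reindex σ
  let f : ↥s → ↥(I.map (algebraMap A (Localization.AtPrime (qq A I P)))) :=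
    fun g => gen A I P ⟨g, hsI g.2⟩
  have hb' : ∀ g, (1 : (qq A I P).ResidueField) ⊗ₜ f g = b' g := by
    intro g
    obtain ⟨i, rfl⟩ := σ.surjective g
    simp only [b', Module.Basis.reindex_apply, Equiv.symm_apply_apply, b, Module.Basis.mk_apply]
    rfl
  refine ⟨s, hsI, ?_, ?_⟩
  · have h1 := IsLocalRing.span_eq_top_of_tmul_eq_basis f b' hb'
    rw [span_range_eq_top_iff] at h1
    rw [← h1]
    show Ideal.span _ = Ideal.span _
    congr 1
    ext x
    simp [f, gen]
  · have h2 := b'.linearIndependent.map' (jac R A I P) (LinearMap.ker_eq_bot.2 h)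
    have e : (fun g : ↥s => (1 : (qq A I P).ResidueField) ⊗ₜ[A] KaehlerDifferential.D R A (g : A)) =
        ⇑(jac R A I P) ∘ ⇑b' := by
      ext g
      rw [Function.comp_apply, ← hb' g]
      exact (jac_tmul R A I P 1 g (hsI g.2)).symm
    rw [e]
    exact h2

end

end Groth.Agent.Lib.Helper72.Jac

namespace Groth.Agent.Lib.Helper72.Jac

variable (R A : Type u) [CommRing R] [CommRing A] [Algebra R A]
  (I : Ideal A) (P : Ideal (A ⧸ I)) [P.IsPrime]

theorem injective_jac_of_exists (s : Finset A) (hsI : (↑s : Set A) ⊆ (I : Set A))
    (hspan : Ideal.map (algebraMap A (Localization.AtPrime (qq A I P))) I =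
        Ideal.span ((algebraMap A (Localization.AtPrime (qq A I P))) '' (↑s : Set A)))
    (hli : LinearIndependent (qq A I P).ResidueField
        (fun g : ↥s => (1 : (qq A I P).ResidueField) ⊗ₜ[A] KaehlerDifferential.D R A (g : A))) :
    Function.Injective (jac R A I P) := by
  classical
  let f : ↥s → ↥(I.map (algebraMap A (Localization.AtPrime (qq A I P)))) :=
    fun g => gen A I P ⟨g, hsI g.2⟩
  have hf : Submodule.span (Localization.AtPrime (qq A I P)) (Set.range f) = ⊤ := by
    rw [span_range_eq_top_iff]
    refine Eq.trans ?_ hspan.symm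
    show Ideal.span _ = Ideal.span _
    congr 1
    ext x
    simp [f, gen]
  have hw := span_tmul_eq_top (K := (qq A I P).ResidueField) f hf
  refine injective_of_span_of_linearIndependent (jac R A I P) _ hw ?_
  have e : ⇑(jac R A I P) ∘ (fun g : ↥s => (1 : (qq A I P).ResidueField) ⊗ₜ[_] f g) =
      (fun g : ↥s => (1 : (qq A I P).ResidueField) ⊗ₜ[A] KaehlerDifferential.D R A (g : A)) := by
    ext g
    exact jac_tmul R A I P 1 g (hsI g.2)
  rw [e]
  exact hli

end Groth.Agent.Lib.Helper72.Jac




namespace Groth.Agent.Lib.Helper72.Jac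

variable (R A : Type u) [CommRing R] [CommRing A] [Algebra R A]

theorem injective_jac_singleton_iff (F : A) (P : Ideal (A ⧸ Ideal.span ({F} : Set A))) [P.IsPrime] :
    Function.Injective (jac R A (Ideal.span ({F} : Set A)) P) ↔
      algebraMap A (Localization.AtPrime (qq A (Ideal.span ({F} : Set A)) P)) F = 0 ∨
      (1 : (qq A (Ideal.span ({F} : Set A)) P).ResidueField) ⊗ₜ[A] KaehlerDifferential.D R A F ≠ 0 := by
  classical
  have hFI : F ∈ Ideal.span ({F} : Set A) := Ideal.subset_span rfl
  constructor
  · intro h
    by_contra hcon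
    push Not at hcon
    obtain ⟨h1, h2⟩ := hcon
    have hfin : Module.Finite (Localization.AtPrime (qq A (Ideal.span ({F} : Set A)) P))
        ↥((Ideal.span ({F} : Set A)).map
          (algebraMap A (Localization.AtPrime (qq A (Ideal.span ({F} : Set A)) P)))) :=
      Module.Finite.of_fg (Ideal.FG.map ⟨{F}, by simp⟩ _)
    let f : Unit → ↥((Ideal.span ({F} : Set A)).map
          (algebraMap A (Localization.AtPrime (qq A (Ideal.span ({F} : Set A)) P)))) :=
      fun _ => gen A _ P ⟨F, hFI⟩
    have hf : Submodule.span (Localization.AtPrime (qq A (Ideal.span ({F} : Set A)) P))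
        (Set.range f) = ⊤ := by
      rw [span_range_eq_top_iff]
      refine Eq.trans ?_ (Ideal.map_span _ _).symm
      show Ideal.span _ = Ideal.span _
      congr 1
      ext x
      simp [f, gen]
    have hw := span_tmul_eq_top (R := Localization.AtPrime (qq A (Ideal.span ({F} : Set A)) P))
      (K := (qq A (Ideal.span ({F} : Set A)) P).ResidueField) f hf
    have hz : (1 : (qq A (Ideal.span ({F} : Set A)) P).ResidueField)
        ⊗ₜ[Localization.AtPrime (qq A (Ideal.span ({F} : Set A)) P)] f () = 0 := by
      apply h
      rw [map_zero]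
      exact (jac_tmul R A _ P 1 F hFI).trans h2
    have hsub : Subsingleton ((qq A (Ideal.span ({F} : Set A)) P).ResidueField
        ⊗[Localization.AtPrime (qq A (Ideal.span ({F} : Set A)) P)]
        ↥((Ideal.span ({F} : Set A)).map
          (algebraMap A (Localization.AtPrime (qq A (Ideal.span ({F} : Set A)) P))))) := by
      rw [← Submodule.subsingleton_iff (qq A (Ideal.span ({F} : Set A)) P).ResidueField,
        ← subsingleton_iff_bot_eq_top, ← hw, eq_comm, Submodule.span_eq_bot]
      rintro _ ⟨u, rfl⟩
      exact hz
    rw [IsLocalRing.subsingleton_tensorProduct] at hsub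
    have := congrArg Subtype.val (Subsingleton.elim (f ()) 0)
    exact h1 this
  · rintro (h | h)
    · refine injective_jac_of_exists R A _ P ∅ (by simp) ?_ ?_
      · rw [Ideal.map_span]
        simp [h]
      · exact linearIndependent_empty_type
    · refine injective_jac_of_exists R A _ P {F} (by simp) ?_ ?_
      · rw [Ideal.map_span]
        simp
      · rw [linearIndependent_unique_iff]
        exact h

end Groth.Agent.Lib.Helper72.Jac

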