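import Mathlib

/-!
# The torsor square of a homomorphism with kernel (helper72)

For homomorphisms `p : G ⟶ G''`, `u : G ⟶ H` of group objects in a cartesian monoidal category
and a kernel `i : G' ⟶ G` of `p`, the square

```
G' ⊗ G --(g',g) ↦ i g' * g--> G
  |                            |
(u(i g' * g), g)             (u, p)
  v                            v
H ⊗ G ---------H ◁ p------> H ⊗ G''
```
is cartesian.
-/

set_option autoImplicit false
universe v u

open CategoryTheory MonoidalCategory CartesianMonoidalCategory MonObj GrpObj Limits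

namespace Groth.Agent.Lib.Helper72.KerTorsor

variable {C : Type u} [Category.{v} C] [CartesianMonoidalCategory C]
variable {G' G G'' H : C} [GrpObj G'] [GrpObj G] [GrpObj G''] [GrpObj H]

/-- `(g', g) ↦ i g' * g`. -/
def act (i : G' ⟶ G) : G' ⊗ G ⟶ G := (fst G' G ≫ i) * snd G' G

/-- `(g', g) ↦ (u (i g' * g), g)`. -/
def shear (i : G' ⟶ G) (u : G ⟶ H) : G' ⊗ G ⟶ H ⊗ G := lift (act i ≫ u) (snd G' G)

lemma act_comp (i : G' ⟶ G) (p : G ⟶ G'') [IsMonHom p]
    (hker : IsPullback i (toUnit G') p η[G'']) : act i ≫ p = snd G' G ≫ p := by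
  have h1 : i ≫ p = 1 := by
    rw [hker.w]; rfl
  rw [act, MonObj.mul_comp, Category.assoc, h1, MonObj.comp_one, _root_.one_mul]

lemma shear_eq (i : G' ⟶ G) (u : G ⟶ H) [IsMonHom u] :
    shear i u = ((i ≫ u) ▷ G) ≫ lift (fst H G * (snd H G ≫ u)) (snd H G) := by
  apply CartesianMonoidalCategory.hom_ext
  · rw [shear, lift_fst, Category.assoc, lift_fst, MonObj.comp_mul, act, MonObj.mul_comp,
      whiskerRight_fst, ← Category.assoc ((i ≫ u) ▷ G), whiskerRight_snd, Category.assoc]
  · rw [shear, lift_snd, Category.assoc, lift_snd, whiskerRight_snd]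

/-- The automorphism `(h, g) ↦ (h * u g, g)` of `H ⊗ G`. -/
def rtr (u : G ⟶ H) : H ⊗ G ≅ H ⊗ G where
  hom := lift (fst H G * (snd H G ≫ u)) (snd H G)
  inv := lift (fst H G * (snd H G ≫ u)⁻¹) (snd H G)
  hom_inv_id := by
    apply CartesianMonoidalCategory.hom_ext
    · rw [Category.assoc, lift_fst, MonObj.comp_mul, lift_fst, GrpObj.comp_inv, ← Category.assoc,
        lift_snd, _root_.mul_assoc, mul_inv_cancel, _root_.mul_one, Category.id_comp]
    · rw [Category.assoc, lift_snd, lift_snd, Category.id_comp]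
  inv_hom_id := by
    apply CartesianMonoidalCategory.hom_ext
    · rw [Category.assoc, lift_fst, MonObj.comp_mul, lift_fst, ← Category.assoc,
        lift_snd, _root_.mul_assoc, inv_mul_cancel, _root_.mul_one, Category.id_comp]
    · rw [Category.assoc, lift_snd, lift_snd, Category.id_comp]

lemma shear_eq' (i : G' ⟶ G) (u : G ⟶ H) [IsMonHom u] :
    shear i u = ((i ≫ u) ▷ G) ≫ (rtr u).hom := shear_eq i u

theorem isPullback (p : G ⟶ G'') [IsMonHom p] (i : G' ⟶ G)
    (hker : IsPullback i (toUnit G') p η[G'']) (u : G ⟶ H) [IsMonHom u] :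
    IsPullback (act i) (shear i u) (lift u p) (H ◁ p) := by
  have hw : act i ≫ lift u p = shear i u ≫ H ◁ p := by
    apply CartesianMonoidalCategory.hom_ext
    · rw [Category.assoc, lift_fst, Category.assoc, whiskerLeft_fst, shear, lift_fst]
    · rw [Category.assoc, lift_snd, Category.assoc, whiskerLeft_snd, shear, ← Category.assoc,
        lift_snd, act_comp i p hker]
  refine ⟨⟨hw⟩, ⟨PullbackCone.IsLimit.mk hw (fun s => ?_) (fun s => ?_) (fun s => ?_)
    (fun s m h1 h2 => ?_)⟩⟩
  all_goals
    have hc := s.condition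
    have hc1 : s.fst ≫ u = s.snd ≫ fst H G := by
      have := congrArg (· ≫ fst H G'') hc
      simpa [Category.assoc] using this
    have hc2 : s.fst ≫ p = (s.snd ≫ snd H G) ≫ p := by
      have := congrArg (· ≫ snd H G'') hc
      simpa [Category.assoc] using this
    have hk : (s.fst * (s.snd ≫ snd H G)⁻¹) ≫ p = toUnit s.pt ≫ η[G''] := by
      rw [MonObj.mul_comp, GrpObj.inv_comp, hc2, mul_inv_cancel]; rfl
  · exact lift (hker.lift _ _ hk) (s.snd ≫ snd H G)
  · show lift (hker.lift _ _ hk) (s.snd ≫ snd H G) ≫ act i = s.fst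
    rw [act, MonObj.comp_mul, ← Category.assoc, lift_fst, lift_snd, hker.lift_fst,
      inv_mul_cancel_right]
  · show lift (hker.lift _ _ hk) (s.snd ≫ snd H G) ≫ shear i u = s.snd
    have h3 : lift (hker.lift _ _ hk) (s.snd ≫ snd H G) ≫ act i = s.fst := by
      rw [act, MonObj.comp_mul, ← Category.assoc, lift_fst, lift_snd, hker.lift_fst,
        inv_mul_cancel_right]
    apply CartesianMonoidalCategory.hom_ext
    · rw [Category.assoc, shear, lift_fst, ← Category.assoc, h3, hc1]
    · rw [Category.assoc, shear, lift_snd, lift_snd]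
  · show m = lift (hker.lift _ _ hk) (s.snd ≫ snd H G)
    have h4 : m ≫ snd G' G = s.snd ≫ snd H G := by
      rw [← h2, Category.assoc, shear, lift_snd]
    apply CartesianMonoidalCategory.hom_ext
    · rw [lift_fst]
      apply hker.hom_ext
      · rw [hker.lift_fst, ← h1, act, MonObj.comp_mul, h4, mul_inv_cancel_right, Category.assoc]
      · exact toUnit_unique _ _
    · rw [lift_snd, h4]

end Groth.Agent.Lib.Helper72.KerTorsor
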