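import Groth.Agent.Lib.Helper72.Equidim

/-!
# Dimension of base changes of flat morphisms from equidimensional schemes
-/

set_option autoImplicit false

universe u

open AlgebraicGeometry CategoryTheory CategoryTheory.Limits TopologicalSpace Topology

namespace Groth.Agent.Lib.Helper72.KleimanDim

open Groth.Agent.Lib.Helper73 Groth.Agent.Lib.Helper22.FlatDim Groth.Agent.Lib.Helper72.Equidim

variable {k : Type u} [Field k]

lemma topologicalKrullDim_spec_field : topologicalKrullDim ↥(Spec (CommRingCat.of k)) = 0 := by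
  change topologicalKrullDim (PrimeSpectrum k) = 0
  rw [PrimeSpectrum.topologicalKrullDim_eq_ringKrullDim, ringKrullDim_eq_zero_of_field]

/-- A flat morphism with nonempty source onto an irreducible target does not lower dimension. -/
lemma dim_le_of_flat {A B : Scheme.{u}} (qA : A ⟶ Spec (.of k)) (qB : B ⟶ Spec (.of k))
    [LocallyOfFiniteType qA] [LocallyOfFiniteType qB] (φ : A ⟶ B) (hφ : φ ≫ qB = qA) [Flat φ]
    [IrreducibleSpace B] [Nonempty A] : topologicalKrullDim B ≤ topologicalKrullDim A := by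
  obtain ⟨x⟩ := ‹Nonempty A›
  obtain ⟨t, -, hft⟩ := Flat.generalizingMap φ (genericPoint_specializes (φ x))
  rw [Groth.Agent.Lib.Helper22.AbVarIsogeny.topologicalKrullDim_eq_resTrdegNat_genericPoint qB,
    ← trdegNat_eq_resTrdegNat, ← hft]
  refine le_trans ?_ (Groth.Agent.Lib.Helper22.AbVarIsogeny.resTrdegNat_le_topologicalKrullDim qA t)
  rw [← trdegNat_eq_resTrdegNat]
  exact_mod_cast trdegNat_le_of_hom qB qA φ hφ t

/-- Base change of a flat morphism from a nonempty equidimensional scheme. -/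
theorem equidim_pullback {A B B' : Scheme.{u}} (qA : A ⟶ Spec (.of k)) (qB : B ⟶ Spec (.of k))
    (qB' : B' ⟶ Spec (.of k)) [LocallyOfFiniteType qA] [LocallyOfFiniteType qB]
    [LocallyOfFiniteType qB'] [IrreducibleSpace B] [IrreducibleSpace B'] (φ : A ⟶ B)
    (hφ : φ ≫ qB = qA) [Flat φ] (N : ℕ) (hA : Equidim A N) [Nonempty A] (g : B' ⟶ B) :
    ∃ e dB : ℕ, topologicalKrullDim B = dB ∧ dB + e = N ∧
      Equidim ↥(pullback φ g) (topologicalKrullDim B' + (e : WithBot ℕ∞)) := by
  obtain ⟨dB, hdB, -⟩ := exists_dim_irreducibleComponents_of_irreducible qB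
  have h1 : topologicalKrullDim B ≤ topologicalKrullDim A := dim_le_of_flat qA qB φ hφ
  rw [dim_eq_of_equidim qA N hA, hdB] at h1
  have h2 : dB ≤ N := by exact_mod_cast h1
  refine ⟨N - dB, dB, hdB, by omega, ?_⟩
  refine equidim_pullback_of_flat qA qB qB' φ hφ (N - dB) ?_ g
  rw [hdB]
  have : ((dB : WithBot ℕ∞) + ((N - dB : ℕ) : WithBot ℕ∞)) = (N : WithBot ℕ∞) := by
    have : dB + (N - dB) = N := by omega
    exact_mod_cast this
  rw [this]
  exact hA

end Groth.Agent.Lib.Helper72.KleimanDim
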