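import Mathlib.AlgebraicGeometry.Morphisms.Smooth
import Mathlib.AlgebraicGeometry.Restrict

/-!
# Fibres of `(G × Y) ×_X Z → G` and base change over the smooth locus
-/

set_option autoImplicit false

universe u

open AlgebraicGeometry CategoryTheory CategoryTheory.Limits

namespace Groth.Agent.Lib.Helper72.KleimanFibre

/-- The fibre of `(G × Y) ×_X Z → G` over a point `σ` is `Y ×_X Z` for the translated map. -/
theorem isPullback_fibre {GY Xl Z Gl Yl S : Scheme.{u}} (H : GY ⟶ Xl) (g : Z ⟶ Xl) (pr : GY ⟶ Gl)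
    (s : Yl ⟶ GY) (yS : Yl ⟶ S) (σ : S ⟶ Gl) (hsq : IsPullback s yS pr σ) (fσ : Yl ⟶ Xl)
    (hfσ : fσ = s ≫ H) :
    IsPullback (pullback.lift (pullback.fst fσ g ≫ s) (pullback.snd fσ g)
        (by rw [Category.assoc, ← hfσ, pullback.condition]))
      (pullback.fst fσ g ≫ yS) (pullback.fst H g ≫ pr) σ := by
  have big : IsPullback (pullback.snd fσ g) (pullback.fst fσ g) g fσ :=
    (IsPullback.of_hasPullback fσ g).flip
  have right : IsPullback (pullback.snd H g) (pullback.fst H g) g H :=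
    (IsPullback.of_hasPullback H g).flip
  have left : IsPullback (pullback.lift (pullback.fst fσ g ≫ s) (pullback.snd fσ g)
      (by rw [Category.assoc, ← hfσ, pullback.condition])) (pullback.fst fσ g)
      (pullback.fst H g) s := by
    refine IsPullback.of_right ?_ (pullback.lift_fst _ _ _) right
    rw [pullback.lift_snd, ← hfσ]
    exact big
  exact left.paste_vert hsq

/-- Base change of a morphism along a point of an open subset over which it is smooth. -/
theorem smooth_of_isPullback_of_smoothLocus {P W Gl S : Scheme.{u}} (q : W ⟶ Gl)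
    [LocallyOfFinitePresentation q] (ι : P ⟶ W) (str : P ⟶ S) (σ : S ⟶ Gl)
    (sq : IsPullback ι str q σ) (V : Gl.Opens) (hV : q ⁻¹' (V : Set Gl) ⊆ q.smoothLocus)
    (hσ : Set.range σ ⊆ (V : Set Gl)) :
    Smooth (q ∣_ V) ∧ ∃ (ι' : P ⟶ (q ⁻¹ᵁ V : W.Opens)) (σ' : S ⟶ (V : Scheme.{u})),
      IsPullback ι' str (q ∣_ V) σ' := by
  have hsm : Smooth (q ∣_ V) := by
    rw [← Scheme.Hom.smoothLocus_eq_top_iff, ← top_le_iff]
    rintro y -
    have hy : (y.1 : W) ∈ q.smoothLocus := hV y.2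
    rw [Scheme.Hom.mem_smoothLocus] at hy ⊢
    exact (RingHom.FormallySmooth.respectsIso.arrow_mk_iso_iff
      (morphismRestrictStalkMap q V y)).mpr hy
  refine ⟨hsm, ?_⟩
  have hσ' : Set.range σ ⊆ Set.range V.ι := by
    rw [Scheme.Opens.range_ι]; exact hσ
  have hι' : Set.range ι ⊆ Set.range (q ⁻¹ᵁ V).ι := by
    rw [Scheme.Opens.range_ι]
    rintro _ ⟨z, rfl⟩
    change q (ι z) ∈ V
    rw [← Scheme.Hom.comp_apply, sq.w, Scheme.Hom.comp_apply]
    exact hσ ⟨_, rfl⟩
  refine ⟨IsOpenImmersion.lift (q ⁻¹ᵁ V).ι ι hι', IsOpenImmersion.lift V.ι σ hσ', ?_⟩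
  refine IsPullback.of_right ?_ ?_ (isPullback_morphismRestrict q V).flip
  · rw [IsOpenImmersion.lift_fac, IsOpenImmersion.lift_fac]
    exact sq
  · rw [← cancel_mono V.ι, Category.assoc, Category.assoc, IsOpenImmersion.lift_fac,
      morphismRestrict_ι, IsOpenImmersion.lift_fac_assoc]
    exact sq.w

/-- Restricting a base-change square along a point landing in an open subset of the target. -/
theorem exists_isPullback_restrict {P W Gl S : Scheme.{u}} (q : W ⟶ Gl) (ι : P ⟶ W) (str : P ⟶ S)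
    (σ : S ⟶ Gl) (sq : IsPullback ι str q σ) (V : Gl.Opens) (hσ : Set.range σ ⊆ (V : Set Gl)) :
    ∃ (ι' : P ⟶ (q ⁻¹ᵁ V : W.Opens)) (σ' : S ⟶ (V : Scheme.{u})),
      IsPullback ι' str (q ∣_ V) σ' := by
  have hσ' : Set.range σ ⊆ Set.range V.ι := by
    rw [Scheme.Opens.range_ι]; exact hσ
  have hι' : Set.range ι ⊆ Set.range (q ⁻¹ᵁ V).ι := by
    rw [Scheme.Opens.range_ι]
    rintro _ ⟨z, rfl⟩
    change q (ι z) ∈ V
    rw [← Scheme.Hom.comp_apply, sq.w, Scheme.Hom.comp_apply]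
    exact hσ ⟨_, rfl⟩
  refine ⟨IsOpenImmersion.lift (q ⁻¹ᵁ V).ι ι hι', IsOpenImmersion.lift V.ι σ hσ', ?_⟩
  refine IsPullback.of_right ?_ ?_ (isPullback_morphismRestrict q V).flip
  · rw [IsOpenImmersion.lift_fac, IsOpenImmersion.lift_fac]
    exact sq
  · rw [← cancel_mono V.ι, Category.assoc, Category.assoc, IsOpenImmersion.lift_fac,
      morphismRestrict_ι, IsOpenImmersion.lift_fac_assoc]
    exact sq.w

end Groth.Agent.Lib.Helper72.KleimanFibre
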