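import Groth.Agent.Lib.Helper72.OrbitLC
import Groth.Agent.Lib.Helper72.GrpComp
import Groth.Agent.Lib.Helper55.GR.Scheme
import Groth.Agent.Lib.Helper81.Submersive

/-!
# Homogeneous morphisms are flat over their reduced image; properness by descent

For a homogeneous morphism `α : G ⟶ X` of schemes of finite type over a field (in the sense of
`OrbitDim.Homog`) with closed image `Z`, the base change `α' : α⁻¹(Z_red) ⟶ Z_red` is flat
(generic flatness + homogeneity), hence universally open and surjective.  Consequently universal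
closedness of `α` can be tested after base change along `α` itself.
-/

set_option autoImplicit false

universe u

open AlgebraicGeometry CategoryTheory CategoryTheory.Limits TopologicalSpace Topology

namespace Groth.Agent.Lib.Helper72.OrbitFlat

open Groth.Agent.Lib.Helper72.OrbitDim Groth.Agent.Lib.Helper72.OrbitClosed

section Descent

/-- Surjective universally open morphisms are universally submersive. -/
theorem univSubmersive_of_surjective_of_universallyOpen {Y' Y : Scheme.{u}} (g : Y' ⟶ Y)
    [Surjective g] [UniversallyOpen g] : SGA1.UnivSubmersive g := by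
  intro A B i₁ i₂ g' hpb
  have h1 : UniversallyOpen g' := MorphismProperty.of_isPullback (P := @UniversallyOpen) hpb.flip
    inferInstance
  have h2 : Surjective g' := MorphismProperty.of_isPullback (P := @Surjective) hpb.flip
    inferInstance
  exact g'.isOpenMap.isQuotientMap g'.continuous g'.surjective

/-- The first projection of the kernel pair of `h ≫ α` is a composite of a base change of `h`
and a base change of the first projection of the kernel pair of `α`. -/
theorem kernelPair_fst_of_comp {P : MorphismProperty Scheme.{u}} [P.IsStableUnderBaseChange]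
    [P.IsStableUnderComposition] {G' G X W : Scheme.{u}} (h : G' ⟶ G) (α : G ⟶ X)
    (P₁ P₂ : W ⟶ G) (hW : IsPullback P₁ P₂ α α) (hP₁ : P P₁) (hh : P h) :
    P (pullback.fst (h ≫ α) (h ≫ α)) := by
  -- `M = G' ×_X G`
  have hM := IsPullback.of_hasPullback (h ≫ α) α
  -- `M → W`
  let m : pullback (h ≫ α) α ⟶ W :=
    hW.lift (pullback.fst (h ≫ α) α ≫ h) (pullback.snd (h ≫ α) α)
      (by rw [Category.assoc, pullback.condition])
  have hm1 : m ≫ P₁ = pullback.fst (h ≫ α) α ≫ h := hW.lift_fst _ _ _
  have hm2 : m ≫ P₂ = pullback.snd (h ≫ α) α := hW.lift_snd _ _ _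
  have sq1 : IsPullback m (pullback.fst (h ≫ α) α) P₁ h := by
    refine IsPullback.of_right (h₁₂ := P₂) (v₁₃ := α) (h₂₂ := α) ?_ hm1 hW.flip
    rw [hm2]
    exact hM.flip
  have hπ₁ : P (pullback.fst (h ≫ α) α) :=
    MorphismProperty.of_isPullback (P := P) sq1 hP₁
  -- `T → M`
  let t : pullback (h ≫ α) (h ≫ α) ⟶ pullback (h ≫ α) α :=
    pullback.lift (pullback.fst _ _) (pullback.snd _ _ ≫ h)
      (by rw [Category.assoc, pullback.condition])
  have ht1 : t ≫ pullback.fst (h ≫ α) α = pullback.fst _ _ := pullback.lift_fst _ _ _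
  have ht2 : t ≫ pullback.snd (h ≫ α) α = pullback.snd _ _ ≫ h := pullback.lift_snd _ _ _
  have sq2 : IsPullback (pullback.snd (h ≫ α) (h ≫ α)) t h (pullback.snd (h ≫ α) α) := by
    refine IsPullback.of_bot (v₂₁ := pullback.fst (h ≫ α) α) (v₂₂ := α) (h₃₁ := h ≫ α) ?_
      ht2.symm hM.flip
    rw [ht1]
    exact (IsPullback.of_hasPullback (h ≫ α) (h ≫ α)).flip
  have ht : P t := MorphismProperty.of_isPullback (P := P) sq2 hh
  rw [← ht1]
  exact P.comp_mem _ _ ht hπ₁

/-- Variant of `kernelPair_fst_of_comp` for an arbitrary kernel pair of `h ≫ α`. -/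
theorem kernelPair_fst_of_comp' {P : MorphismProperty Scheme.{u}} [P.IsStableUnderBaseChange]
    [P.IsStableUnderComposition] {G' G X W T : Scheme.{u}} (h : G' ⟶ G) (α : G ⟶ X)
    (P₁ P₂ : W ⟶ G) (hW : IsPullback P₁ P₂ α α) (hP₁ : P P₁) (hh : P h)
    (a b : T ⟶ G') (hT : IsPullback a b (h ≫ α) (h ≫ α)) : P a := by
  rw [← hT.isoPullback_hom_fst, P.cancel_left_of_respectsIso]
  exact kernelPair_fst_of_comp h α P₁ P₂ hW hP₁ hh

/-- Universal closedness of `α` can be tested after base change along `α` itself, provided the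
restriction of `α` over a closed subscheme carrying its image is flat and locally of finite
presentation. -/
theorem universallyClosed_of_kernelPair {G X O W : Scheme.{u}} (α : G ⟶ X) (j : O ⟶ X)
    [IsClosedImmersion j] (hj : Set.range j = Set.range α)
    [Flat (pullback.snd α j)] [LocallyOfFinitePresentation (pullback.snd α j)]
    (P₁ P₂ : W ⟶ G) (hW : IsPullback P₁ P₂ α α) [UniversallyClosed P₁] :
    UniversallyClosed α := by
  have hp : Surjective (pullback.fst α j) := by
    rw [surjective_iff, ← Set.range_eq_univ, Scheme.Pullback.range_fst, hj]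
    exact Set.preimage_range _
  have hα' : Surjective (pullback.snd α j) := by
    rw [surjective_iff, ← Set.range_eq_univ, Scheme.Pullback.range_snd, ← hj]
    exact Set.preimage_range _
  have hsub : SGA1.UnivSubmersive (pullback.snd α j) :=
    univSubmersive_of_surjective_of_universallyOpen _
  have hK : IsPullback (pullback.fst (pullback.snd α j) (pullback.snd α j))
      (pullback.snd (pullback.snd α j) (pullback.snd α j))
      (pullback.fst α j ≫ α) (pullback.fst α j ≫ α) := by
    rw [pullback.condition]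
    exact IsPullback.of_isLimit (pullbackIsPullbackOfCompMono _ _ j)
  have hfst : UniversallyClosed (pullback.fst (pullback.snd α j) (pullback.snd α j)) :=
    kernelPair_fst_of_comp' (P := @UniversallyClosed) (pullback.fst α j) α P₁ P₂ hW
      inferInstance inferInstance _ _ hK
  have h1 : UniversallyClosed (pullback.snd α j) :=
    Groth.Agent.Lib.Helper81.Submersive.universallyClosed_of_isPullback
      (IsPullback.of_hasPullback (pullback.snd α j) (pullback.snd α j)).flip hsub
  have h2 : UniversallyClosed (pullback.fst α j ≫ α) := by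
    rw [pullback.condition]
    infer_instance
  exact UniversallyClosed.of_comp_surjective (pullback.fst α j) α

end Descent

section Flat

variable {k : Type u} [Field k] {G X : Scheme.{u}}
  (qG : G ⟶ Spec (CommRingCat.of k)) (qX : X ⟶ Spec (CommRingCat.of k))
  [LocallyOfFiniteType qG] [QuasiCompact qG] [LocallyOfFiniteType qX] [QuasiCompact qX]
  (α : G ⟶ X) (hα : α ≫ qX = qG)
  {O : Scheme.{u}} (j : O ⟶ X) [IsClosedImmersion j] [IsReduced O]
  (hj : Set.range j = Set.range α)
  (hlift : ∀ {W : Scheme.{u}} [IsReduced W] (h : W ⟶ X), Set.range h ⊆ Set.range α →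
    ∃ g : W ⟶ O, g ≫ j = h)

include hj hlift in
omit [IsClosedImmersion j] in
/-- A compatible pair of endomorphisms of `G` and `X` induces endomorphisms of the reduced image
and of its preimage. -/
lemma exists_lift (L : G ⟶ G) (τ : X ⟶ X) (h : L ≫ α = α ≫ τ) :
    ∃ (L' : pullback α j ⟶ pullback α j) (τ' : O ⟶ O),
      L' ≫ pullback.snd α j = pullback.snd α j ≫ τ' ∧ τ' ≫ j = j ≫ τ ∧
        L' ≫ pullback.fst α j = pullback.fst α j ≫ L := by
  have hr : Set.range (j ≫ τ) ⊆ Set.range α := by
    rintro _ ⟨o, rfl⟩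
    obtain ⟨g, hg⟩ : j o ∈ Set.range α := hj ▸ Set.mem_range_self o
    refine ⟨L g, ?_⟩
    rw [Scheme.Hom.comp_apply, ← hg, ← Scheme.Hom.comp_apply, ← Scheme.Hom.comp_apply, h]
  obtain ⟨τ', hτ'⟩ := hlift (j ≫ τ) hr
  refine ⟨pullback.lift (pullback.fst α j ≫ L) (pullback.snd α j ≫ τ') ?_, τ', ?_, hτ', ?_⟩
  · rw [Category.assoc, h, ← Category.assoc, pullback.condition, Category.assoc, Category.assoc,
      hτ']
  · exact pullback.lift_snd _ _ _
  · exact pullback.lift_fst _ _ _

include hj hlift in
/-- A compatible pair of automorphisms of `G` and `X` induces automorphisms of the reduced image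
and of its preimage. -/
lemma exists_lift_iso (L : G ⟶ G) (τ : X ⟶ X) [IsIso L] [IsIso τ] (h : L ≫ α = α ≫ τ) :
    ∃ (L' : pullback α j ⟶ pullback α j) (τ' : O ⟶ O), IsIso L' ∧ IsIso τ' ∧
      L' ≫ pullback.snd α j = pullback.snd α j ≫ τ' ∧ τ' ≫ j = j ≫ τ := by
  have h' : inv L ≫ α = α ≫ inv τ := by
    rw [IsIso.inv_comp_eq, ← Category.assoc, h, Category.assoc, IsIso.hom_inv_id,
      Category.comp_id]
  obtain ⟨L₁, τ₁, h1, h2, h3⟩ := exists_lift α j hj hlift L τ h
  obtain ⟨L₂, τ₂, k1, k2, k3⟩ := exists_lift α j hj hlift (inv L) (inv τ) h'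
  have e1 : τ₁ ≫ τ₂ = 𝟙 O := by
    rw [← cancel_mono j, Category.assoc, k2, ← Category.assoc, h2, Category.assoc,
      IsIso.hom_inv_id, Category.comp_id, Category.id_comp]
  have e2 : τ₂ ≫ τ₁ = 𝟙 O := by
    rw [← cancel_mono j, Category.assoc, h2, ← Category.assoc, k2, Category.assoc,
      IsIso.inv_hom_id, Category.comp_id, Category.id_comp]
  have f1 : L₁ ≫ L₂ = 𝟙 _ := by
    apply pullback.hom_ext
    · rw [Category.assoc, k3, ← Category.assoc, h3, Category.assoc, IsIso.hom_inv_id,
        Category.comp_id, Category.id_comp]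
    · rw [Category.assoc, k1, ← Category.assoc, h1, Category.assoc, e1, Category.comp_id,
        Category.id_comp]
  have f2 : L₂ ≫ L₁ = 𝟙 _ := by
    apply pullback.hom_ext
    · rw [Category.assoc, h3, ← Category.assoc, k3, Category.assoc, IsIso.inv_hom_id,
        Category.comp_id, Category.id_comp]
    · rw [Category.assoc, h1, ← Category.assoc, k1, Category.assoc, e2, Category.comp_id,
        Category.id_comp]
  exact ⟨L₁, τ₁, ⟨⟨L₂, f1, f2⟩⟩, ⟨⟨τ₂, e1, e2⟩⟩, h1, h2⟩

/-- Flatness over an open subset is transported by compatible automorphisms. -/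
lemma flat_restrict_preimage {A B : Scheme.{u}} (f : A ⟶ B) (U : B.Opens) (hU : Flat (f ∣_ U))
    (L' : A ⟶ A) (τ' : B ⟶ B) [IsIso L'] [IsIso τ'] (h : L' ≫ f = f ≫ τ') :
    Flat (f ∣_ (τ' ⁻¹ᵁ U)) := by
  have h1 : Flat ((L' ≫ f) ∣_ U) := by
    rw [morphismRestrict_comp]
    exact (MorphismProperty.cancel_left_of_respectsIso @Flat (L' ∣_ f ⁻¹ᵁ U) _).mpr hU
  rw [h, morphismRestrict_comp] at h1
  exact (MorphismProperty.cancel_right_of_respectsIso @Flat _ (τ' ∣_ U)).mp h1

variable (hom : Homog qG qX α)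

include qG qX hα hom hj hlift in
/-- A homogeneous morphism is flat over its reduced (closed) image. -/
theorem flat_snd_of_homog : Flat (pullback.snd α j) := by
  have hNG : NoetherianSpace G := noetherianSpace_of_ft qG
  have hlftα : LocallyOfFiniteType α := by
    have : LocallyOfFiniteType (α ≫ qX) := by rw [hα]; infer_instance
    exact locallyOfFiniteType_of_comp α qX
  have hqcα : QuasiCompact α := ⟨fun U _ _ => NoetherianSpace.isCompact _⟩
  have hJO : JacobsonSpace O := LocallyOfFiniteType.jacobsonSpace (j ≫ qX)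
  obtain ⟨U, hUd, hUf, -⟩ := Groth.Agent.Lib.Helper55.GR.generic_flatness_reduced (pullback.snd α j)
  refine IsZariskiLocalAtTarget.of_iSup_eq_top (P := @Flat)
    (fun W : {W : O.Opens // Flat (pullback.snd α j ∣_ W)} => W.1) ?_ (fun W => W.2)
  by_contra hne
  have hC : (((⨆ W : {W : O.Opens // Flat (pullback.snd α j ∣_ W)}, W.1 : O.Opens) : Set O)ᶜ).Nonempty := by
    rw [Set.nonempty_compl]
    intro h
    exact hne (SetLike.coe_injective (by rw [h]; rfl))
  obtain ⟨c₀, hc₀C, hc₀⟩ := nonempty_inter_closedPoints hC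
    (Opens.isOpen _).isClosed_compl.isLocallyClosed
  have : Nonempty O := ⟨c₀⟩
  obtain ⟨u, huU, hu⟩ := nonempty_inter_closedPoints hUd.nonempty U.isOpen.isLocallyClosed
  have hclosed : ∀ o : O, IsClosed ({o} : Set O) → IsClosed ({j o} : Set X) := by
    intro o ho
    have := j.isClosedEmbedding.isClosedMap _ ho
    rwa [Set.image_singleton] at this
  have hmem : ∀ o : O, j o ∈ Set.range α := fun o => hj ▸ Set.mem_range_self o
  obtain ⟨g₀, hg₀c, hg₀⟩ := exists_isClosed_of_mem_range qG α (j c₀) (hclosed c₀ hc₀) (hmem c₀)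
  obtain ⟨g₁, hg₁c, hg₁⟩ := exists_isClosed_of_mem_range qG α (j u) (hclosed u hu) (hmem u)
  obtain ⟨L, τ, hL, hτ, -, -, hLτ, hLg⟩ := hom g₀ g₁ hg₀c hg₁c
  obtain ⟨L', τ', hL', hτ', h1, h2⟩ := exists_lift_iso α j hj hlift L τ hLτ
  have hW : Flat (pullback.snd α j ∣_ (τ' ⁻¹ᵁ U)) :=
    flat_restrict_preimage (pullback.snd α j) U hUf L' τ' h1
  have hτc : τ' c₀ = u := by
    apply j.isClosedEmbedding.injective
    rw [← Scheme.Hom.comp_apply, h2, Scheme.Hom.comp_apply, ← hg₀, ← Scheme.Hom.comp_apply,
      ← hLτ, Scheme.Hom.comp_apply, hLg, hg₁]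
  apply hc₀C
  have hle : τ' ⁻¹ᵁ U ≤ ⨆ W : {W : O.Opens // Flat (pullback.snd α j ∣_ W)}, W.1 :=
    le_iSup (fun W : {W : O.Opens // Flat (pullback.snd α j ∣_ W)} => W.1) ⟨_, hW⟩
  apply hle
  show τ' c₀ ∈ U
  rw [hτc]
  exact huU

end Flat

section Main

variable {k : Type u} [Field k] {G X : Scheme.{u}}
  (qG : G ⟶ Spec (CommRingCat.of k)) (qX : X ⟶ Spec (CommRingCat.of k))
  [LocallyOfFiniteType qG] [QuasiCompact qG] [LocallyOfFiniteType qX] [QuasiCompact qX]
  (α : G ⟶ X) (hα : α ≫ qX = qG) (hom : Homog qG qX α)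

include qG qX hα hom in
/-- A homogeneous morphism with closed image is universally closed as soon as the first
projection of its kernel pair is. -/
theorem universallyClosed_of_homog (hcl : IsClosed (Set.range α)) {W : Scheme.{u}}
    (P₁ P₂ : W ⟶ G) (hW : IsPullback P₁ P₂ α α) [UniversallyClosed P₁] :
    UniversallyClosed α := by
  obtain ⟨O, j, hjc, hred, hjr, hl⟩ :=
    Groth.Agent.Lib.Helper72.GrpComp.exists_reduced_closedSubscheme (Set.range α) hcl
  have hfl : Flat (pullback.snd α j) :=
    flat_snd_of_homog qG qX α hα j hjr (fun h hh => hl h hh) hom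
  have hNO : IsLocallyNoetherian O :=
    Groth.Agent.Lib.Helper72.FibDim.isLocallyNoetherian_of_lft (j ≫ qX)
  have hlftα : LocallyOfFiniteType α := by
    have : LocallyOfFiniteType (α ≫ qX) := by rw [hα]; infer_instance
    exact locallyOfFiniteType_of_comp α qX
  have hfp : LocallyOfFinitePresentation (pullback.snd α j) :=
    LocallyOfFinitePresentation.iff_locallyOfFiniteType.mpr inferInstance
  exact universallyClosed_of_kernelPair α j hjr P₁ P₂ hW

end Main

end Groth.Agent.Lib.Helper72.OrbitFlat
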