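import Groth.Agent.Lib.Helper72.KleimanSmooth
import Groth.Agent.Lib.Helper72.OrbitFlat

/-!
# Flatness of `G × Y → X`, `(σ, y) ↦ σ · f(y)` for a homogeneous space `X`
-/

set_option autoImplicit false

universe u

open CategoryTheory CategoryTheory.Limits MonoidalCategory CartesianMonoidalCategory MonObj GrpObj
  AlgebraicGeometry

namespace Groth.Agent.Lib.Helper72.KleimanFlat

open Groth.Agent.Lib.Helper72.GrpTrans Groth.Agent.Lib.Helper72.OrbitAct
  Groth.Agent.Lib.Helper72.GrpConn Groth.Agent.Lib.Helper72.GrpGen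
  Groth.Agent.Lib.Helper72.KleimanSmooth

section TargetHomog

variable {W X : Scheme.{u}}

/-- A morphism of finite type to a reduced Jacobson scheme whose closed points can be moved to one
another by compatible automorphisms is flat (generic flatness). -/
theorem flat_of_target_homog [JacobsonSpace X] [IsReduced X] (h : W ⟶ X) [LocallyOfFiniteType h]
    [QuasiCompact h]
    (hmove : ∀ x v : X, IsClosed ({x} : Set X) → IsClosed ({v} : Set X) →
      ∃ (L : W ⟶ W) (τ : X ⟶ X), IsIso L ∧ IsIso τ ∧ L ≫ h = h ≫ τ ∧ τ x = v) : Flat h := by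
  obtain ⟨U, hUd, hUf, -⟩ := Groth.Agent.Lib.Helper55.GR.generic_flatness_reduced h
  refine IsZariskiLocalAtTarget.of_iSup_eq_top (P := @Flat)
    (fun W' : {W' : X.Opens // Flat (h ∣_ W')} => W'.1) ?_ (fun W' => W'.2)
  by_contra hne
  have hC : (((⨆ W' : {W' : X.Opens // Flat (h ∣_ W')}, W'.1 : X.Opens) : Set X)ᶜ).Nonempty := by
    rw [Set.nonempty_compl]
    intro h'
    exact hne (SetLike.coe_injective (by rw [h']; rfl))
  obtain ⟨c₀, hc₀C, hc₀⟩ := nonempty_inter_closedPoints hC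
    (TopologicalSpace.Opens.isOpen _).isClosed_compl.isLocallyClosed
  have : Nonempty X := ⟨c₀⟩
  obtain ⟨v, hvU, hv⟩ := nonempty_inter_closedPoints hUd.nonempty U.isOpen.isLocallyClosed
  obtain ⟨L, τ, hL, hτ, hLτ, hτc⟩ := hmove c₀ v hc₀ hv
  have hW : Flat (h ∣_ (τ ⁻¹ᵁ U)) :=
    Groth.Agent.Lib.Helper72.OrbitFlat.flat_restrict_preimage h U hUf L τ hLτ
  apply hc₀C
  have hle : τ ⁻¹ᵁ U ≤ ⨆ W' : {W' : X.Opens // Flat (h ∣_ W')}, W'.1 :=
    le_iSup (fun W' : {W' : X.Opens // Flat (h ∣_ W')} => W'.1) ⟨_, hW⟩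
  apply hle
  show τ c₀ ∈ U
  rw [hτc]
  exact hvU

end TargetHomog

section Flat

variable {k : Type u} [Field k] [IsAlgClosed k]
  (G X : Over (Spec (CommRingCat.of k))) [GrpObj G] (a : AlgGrp.Action G X)
  [LocallyOfFiniteType G.hom] [QuasiCompact G.hom]
  [IsReduced X.left] [LocallyOfFiniteType X.hom] [QuasiCompact X.hom]
  (htrans : ∀ x x' : 𝟙_ (Over (Spec (CommRingCat.of k))) ⟶ X,
    ∃ σ : 𝟙_ (Over (Spec (CommRingCat.of k))) ⟶ G, lift σ x ≫ a.act = x')
  (Yo : Over (Spec (CommRingCat.of k))) (fo : Yo ⟶ X) [LocallyOfFiniteType Yo.hom]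
  [QuasiCompact Yo.hom]

omit [IsAlgClosed k] [QuasiCompact G.hom] [IsReduced X.left] [LocallyOfFiniteType X.hom]
  [QuasiCompact X.hom] [QuasiCompact Yo.hom] in
lemma locallyOfFiniteType_tensor_hom : LocallyOfFiniteType (G ⊗ Yo).hom := by
  have h1 : (snd G Yo).left ≫ Yo.hom = (G ⊗ Yo).hom := Over.w (snd G Yo)
  have h2 : LocallyOfFiniteType (snd G Yo).left :=
    inferInstanceAs (LocallyOfFiniteType (pullback.snd G.hom Yo.hom))
  rw [← h1]
  infer_instance

include htrans in
/-- `(σ, y) ↦ σ · f(y)` is flat. -/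
theorem flat_actMap : Flat (actMap a fo).left := by
  have hlf : LocallyOfFiniteType (G ⊗ Yo).hom := locallyOfFiniteType_tensor_hom G Yo
  have hqc : QuasiCompact (G ⊗ Yo).hom := quasiCompact_tensor_hom G Yo
  have hw : (actMap a fo).left ≫ X.hom = (G ⊗ Yo).hom := Over.w _
  have hlft : LocallyOfFiniteType (actMap a fo).left := by
    have : LocallyOfFiniteType ((actMap a fo).left ≫ X.hom) := by rw [hw]; infer_instance
    exact locallyOfFiniteType_of_comp _ X.hom
  have hq : QuasiCompact (actMap a fo).left :=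
    Groth.Agent.Lib.Helper72.FibDim.quasiCompact_of_ft (G ⊗ Yo).hom X.hom _
  have hJX : JacobsonSpace X.left := LocallyOfFiniteType.jacobsonSpace X.hom
  refine flat_of_target_homog (actMap a fo).left fun x v hx hv => ?_
  let x' : 𝟙_ (Over (Spec (CommRingCat.of k))) ⟶ X :=
    Over.homMk (pointOfClosedPoint X.hom x hx) (pointOfClosedPoint_comp X.hom x hx)
  have hx' : x'.left (IsLocalRing.closedPoint k) = x := pointOfClosedPoint_apply X.hom x hx _
  let v' : 𝟙_ (Over (Spec (CommRingCat.of k))) ⟶ X :=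
    Over.homMk (pointOfClosedPoint X.hom v hv) (pointOfClosedPoint_comp X.hom v hv)
  have hv' : v'.left (IsLocalRing.closedPoint k) = v := pointOfClosedPoint_apply X.hom v hv _
  obtain ⟨σ, hσ⟩ := htrans x' v'
  refine ⟨(ltr σ ▷ Yo).left, (actTr a σ).left, inferInstance, inferInstance, ?_, ?_⟩
  · exact congrArg CommaMorphism.left (whisker_ltr_actMap a fo σ)
  · have h0 : toUnit (𝟙_ (Over (Spec (CommRingCat.of k)))) = 𝟙 _ := toUnit_unique _ _
    have h1 : x' ≫ actTr a σ = v' := by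
      rw [comp_actTr, h0, Category.id_comp, hσ]
    have h2 : (actTr a σ).left (x'.left (IsLocalRing.closedPoint k)) =
        v'.left (IsLocalRing.closedPoint k) :=
      app_eq (congrArg CommaMorphism.left h1 : x'.left ≫ (actTr a σ).left = v'.left) _
    rw [hx', hv'] at h2
    exact h2

end Flat

end Groth.Agent.Lib.Helper72.KleimanFlat
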