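import Groth.Prelude.Def_ChGrp
import Groth.Agent.Lib.Helper72.GrpTrans
import Groth.Agent.Lib.Helper72.GrpAffineNbhd
import Groth.Agent.Lib.Helper72.OrbitDim
import Mathlib.AlgebraicGeometry.AlgClosed.Basic

/-!
# Translations of an action by rational points, and homogeneity of orbit maps

For an action `a` of a group scheme `G` on `X` over a base `S` and a section `g` of `G`,
`actTr a g : X ⟶ X` is the translation `x ↦ g • x`.  It is an automorphism of `X` over `S`, and
orbit maps intertwine it with left translation of `G`.  Over an algebraically closed field this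
shows that orbit maps are homogeneous in the sense of `OrbitDim.Homog`.
-/

set_option autoImplicit false

universe u

open CategoryTheory MonoidalCategory CartesianMonoidalCategory MonObj GrpObj AlgebraicGeometry
  CategoryTheory.Limits

namespace Groth.Agent.Lib.Helper72.OrbitAct

open Groth.Agent.Lib.Helper72.GrpTrans Groth.Agent.Lib.Helper72.GrpConn

section General

variable {S : Scheme.{u}} {G X : Over S} [GrpObj G] (a : AlgGrp.Action G X)

/-- Translation of `X` by a section of `G`. -/
noncomputable def actTr (g : 𝟙_ (Over S) ⟶ G) : X ⟶ X := lift (toUnit X ≫ g) (𝟙 X) ≫ a.act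

lemma comp_actTr {T : Over S} (y : T ⟶ X) (g : 𝟙_ (Over S) ⟶ G) :
    y ≫ actTr a g = lift (toUnit T ≫ g) y ≫ a.act := by
  rw [actTr, comp_lift_assoc, Category.comp_id, ← Category.assoc,
    toUnit_unique (y ≫ toUnit X) (toUnit T)]

lemma actTr_comp (g h : 𝟙_ (Over S) ⟶ G) : actTr a g ≫ actTr a h = actTr a (h * g) := by
  rw [comp_actTr]
  unfold actTr
  rw [← a.lift_mul_act, comp_mul]

lemma actTr_one : actTr a (1 : 𝟙_ (Over S) ⟶ G) = 𝟙 X := by
  unfold actTr
  rw [comp_one, a.lift_one_act]

/-- Translation by a section as an automorphism. -/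
noncomputable def actTrIso (g : 𝟙_ (Over S) ⟶ G) : X ≅ X where
  hom := actTr a g
  inv := actTr a g⁻¹
  hom_inv_id := by rw [actTr_comp, inv_mul_cancel, actTr_one]
  inv_hom_id := by rw [actTr_comp, mul_inv_cancel, actTr_one]

instance (g : 𝟙_ (Over S) ⟶ G) : IsIso (actTr a g).left :=
  ((Over.forget _).mapIso (actTrIso a g)).isIso_hom

/-- Orbit maps intertwine left translation and translation of the action. -/
lemma orbitMap_actTr (g : 𝟙_ (Over S) ⟶ G) (x : 𝟙_ (Over S) ⟶ X) :
    a.orbitMap x ≫ actTr a g = ltr g ≫ a.orbitMap x := by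
  rw [comp_actTr, a.comp_orbitMap (ltr g) x]
  conv_lhs => rw [show a.orbitMap x = lift (𝟙 G) (toUnit G ≫ x) ≫ a.act from rfl]
  rw [← a.lift_mul_act]
  rfl

/-- The orbit map sends the unit section to the base point. -/
lemma one_orbitMap (x : 𝟙_ (Over S) ⟶ X) : η[G] ≫ a.orbitMap x = x := by
  rw [a.comp_orbitMap, one_eq_one, a.lift_one_act]
  have : toUnit (𝟙_ (Over S)) = 𝟙 _ := toUnit_unique _ _
  rw [this, Category.id_comp]

end General

section Field

variable {k : Type u} [Field k] [IsAlgClosed k]
  (G X : Over (Spec (CommRingCat.of k))) [GrpObj G] [LocallyOfFiniteType G.hom]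
  (a : AlgGrp.Action G X) (x : 𝟙_ (Over (Spec (CommRingCat.of k))) ⟶ X)

/-- Closed points of a group scheme locally of finite type over an algebraically closed field are
rational. -/
lemma exists_ptVal_eq (c : G.left) (hc : IsClosed ({c} : Set G.left)) :
    ∃ z : 𝟙_ (Over (Spec (CommRingCat.of k))) ⟶ G, ptVal G z = c :=
  ⟨ptMk G (pointOfClosedPoint G.hom c hc) (pointOfClosedPoint_comp G.hom c hc), by
    rw [ptVal_ptMk, pointOfClosedPoint_apply]⟩

/-- Orbit maps over an algebraically closed field are homogeneous. -/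
theorem homog_orbitMap :
    OrbitDim.Homog G.hom X.hom (a.orbitMap x).left := by
  intro c v hc hv
  obtain ⟨zc, rfl⟩ := exists_ptVal_eq G c hc
  obtain ⟨zv, rfl⟩ := exists_ptVal_eq G v hv
  refine ⟨(ltr (zv * zc⁻¹)).left, (actTr a (zv * zc⁻¹)).left, inferInstance, inferInstance,
    Over.w _, Over.w _, ?_, ?_⟩
  · have := congrArg CommaMorphism.left (orbitMap_actTr a (zv * zc⁻¹) x)
    simpa only [Over.comp_left] using this.symm
  · have h1 : zc ≫ ltr (zv * zc⁻¹) = zv := by
      rw [point_ltr, inv_mul_cancel_right]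
    have h2 : zc.left ≫ (ltr (zv * zc⁻¹)).left = zv.left := by
      rw [← Over.comp_left, h1]
    exact Groth.Agent.Lib.Helper72.GrpGen.app_eq h2 _

end Field

end Groth.Agent.Lib.Helper72.OrbitAct
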