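import Groth.Agent.S10930
import Groth.Agent.Lib.Helper72.OrbitAct
import Groth.Agent.Lib.Helper19.Cartier.Main

/-!
# Smoothness of `G × Y → X`, `(σ, y) ↦ σ · f(y)` for a homogeneous space `X` in characteristic zero
-/

set_option autoImplicit false

universe u

open CategoryTheory CategoryTheory.Limits MonoidalCategory CartesianMonoidalCategory MonObj GrpObj
  AlgebraicGeometry

namespace Groth.Agent.Lib.Helper72.KleimanSmooth

open Groth.Agent.Lib.Helper72.GrpTrans Groth.Agent.Lib.Helper72.OrbitAct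
  Groth.Agent.Lib.Helper72.GrpConn Groth.Agent.Lib.Helper72.GrpGen

section TargetHomog

variable {W X : Scheme.{u}}

/-- A morphism which is smooth over an open `V` of the target, and such that every closed point of
the source can be moved over `V` by compatible automorphisms, is smooth. -/
theorem smooth_of_target_homog [JacobsonSpace W] (h : W ⟶ X) [LocallyOfFinitePresentation h]
    (V : Set X) (hV : h ⁻¹' V ⊆ h.smoothLocus)
    (hmove : ∀ p : W, IsClosed ({p} : Set W) → ∃ (L : W ⟶ W) (τ : X ⟶ X), IsIso L ∧ IsIso τ ∧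
      L ≫ h = h ≫ τ ∧ τ (h p) ∈ V) : Smooth h := by
  rw [← Scheme.Hom.smoothLocus_eq_top_iff, ← TopologicalSpace.Opens.coe_eq_univ,
    ← not_ne_iff, ← Set.nonempty_compl]
  intro H
  obtain ⟨c, hc, hcc⟩ :=
    nonempty_inter_closedPoints H h.smoothLocus.2.isClosed_compl.isLocallyClosed
  obtain ⟨L, τ, hL, hτ, hLτ, hmem⟩ := hmove c hcc
  apply hc
  have h0 : h (L c) = τ (h c) := app_eq hLτ c ▸ (app_eq (rfl : L ≫ h = L ≫ h) c)
  have hv' : (h.stalkMap (L c)).hom.FormallySmooth := by
    apply hV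
    change h (L c) ∈ V
    rw [h0]; exact hmem
  have h1 : ((L ≫ h).stalkMap c).hom.FormallySmooth := by
    rw [Scheme.Hom.stalkMap_comp]
    exact (RingHom.FormallySmooth.respectsIso.cancel_right_isIso _ (L.stalkMap c)).mpr hv'
  rw [hLτ, Scheme.Hom.stalkMap_comp] at h1
  exact (RingHom.FormallySmooth.respectsIso.cancel_left_isIso (τ.stalkMap (h c)) _).mp h1

end TargetHomog

section Cartesian

variable {C : Type*} [Category C] [CartesianMonoidalCategory C]

/-- The slice `y ↦ (σ, y)` is the base change of the point `σ`. -/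
theorem isPullback_lift_toUnit {G Y : C} (σ : 𝟙_ C ⟶ G) :
    IsPullback (lift (toUnit Y ≫ σ) (𝟙 Y)) (toUnit Y) (fst G Y) σ := by
  refine ⟨⟨by simp⟩, ⟨PullbackCone.IsLimit.mk _ (fun s => s.fst ≫ snd G Y) ?_ ?_ ?_⟩⟩
  · intro s
    apply CartesianMonoidalCategory.hom_ext
    · simp only [Category.assoc, lift_fst]
      rw [s.condition, ← Category.assoc, ← Category.assoc]
      congr 1
      exact toUnit_unique _ _
    · simp
  · intro s
    exact toUnit_unique _ _
  · intro s m h1 _
    rw [← h1]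
    simp

end Cartesian

section Act

variable {S : Scheme.{u}} {G X Yo : Over S} [GrpObj G] (a : AlgGrp.Action G X) (fo : Yo ⟶ X)

/-- `(σ, y) ↦ σ · f(y)`. -/
noncomputable def actMap : G ⊗ Yo ⟶ X := (G ◁ fo) ≫ a.act

lemma lift_actMap {T : Over S} (c : T ⟶ G) (y : T ⟶ Yo) :
    lift c y ≫ actMap a fo = lift c (y ≫ fo) ≫ a.act := by
  unfold actMap
  rw [lift_whiskerLeft_assoc]

/-- Equivariance of `actMap`. -/
lemma whisker_ltr_actMap (σ : 𝟙_ (Over S) ⟶ G) :
    (ltr σ ▷ Yo) ≫ actMap a fo = actMap a fo ≫ actTr a σ := by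
  apply AlgGrp.Action.hom_ext_lift₂
  intro T c y
  rw [lift_whiskerRight_assoc, lift_actMap, comp_ltr, a.lift_mul_act, ← Category.assoc,
    lift_actMap, comp_actTr]

instance (σ : 𝟙_ (Over S) ⟶ G) : IsIso (ltr σ ▷ Yo) :=
  (whiskerRightIso (ltrIso σ) Yo).isIso_hom

instance (σ : 𝟙_ (Over S) ⟶ G) : IsIso (ltr σ ▷ Yo).left :=
  ((Over.forget _).mapIso (whiskerRightIso (ltrIso σ) Yo)).isIso_hom

/-- The slice `y ↦ (σ, y)`. -/
noncomputable def slice (Yo : Over S) (σ : 𝟙_ (Over S) ⟶ G) : Yo ⟶ G ⊗ Yo :=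
  lift (toUnit Yo ≫ σ) (𝟙 Yo)

lemma slice_actMap (σ : 𝟙_ (Over S) ⟶ G) :
    slice Yo σ ≫ actMap a fo = lift (toUnit Yo ≫ σ) fo ≫ a.act := by
  unfold slice
  rw [lift_actMap, Category.id_comp]

lemma isPullback_slice_left (σ : 𝟙_ (Over S) ⟶ G) :
    IsPullback (slice Yo σ).left Yo.hom (fst G Yo).left σ.left := by
  have := (isPullback_lift_toUnit (Y := Yo) σ).map (Over.forget S)
  exact this

end Act

section Smooth

variable {k : Type u} [Field k] [IsAlgClosed k] [CharZero k]
  (G X : Over (Spec (CommRingCat.of k))) [GrpObj G] (a : AlgGrp.Action G X)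
  [LocallyOfFiniteType G.hom] [QuasiCompact G.hom]
  [IsIntegral X.left] [LocallyOfFiniteType X.hom] [QuasiCompact X.hom]
  (htrans : ∀ x x' : 𝟙_ (Over (Spec (CommRingCat.of k))) ⟶ X,
    ∃ σ : 𝟙_ (Over (Spec (CommRingCat.of k))) ⟶ G, lift σ x ≫ a.act = x')
  (Yo : Over (Spec (CommRingCat.of k))) (fo : Yo ⟶ X) [Smooth Yo.hom] [QuasiCompact Yo.hom]

omit [IsAlgClosed k] [QuasiCompact G.hom] [IsIntegral X.left] [LocallyOfFiniteType X.hom]
  [QuasiCompact X.hom] [QuasiCompact Yo.hom] in
/-- `G × Y` is smooth over `k`. -/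
lemma smooth_tensor_hom : Smooth (G ⊗ Yo).hom := by
  have : Smooth G.hom := Groth.Agent.Lib.Helper19.Cartier.smooth_of_charZero G
  have h1 : (snd G Yo).left ≫ Yo.hom = (G ⊗ Yo).hom := Over.w (snd G Yo)
  have h2 : Smooth (snd G Yo).left := inferInstanceAs (Smooth (pullback.snd G.hom Yo.hom))
  rw [← h1]
  infer_instance

omit [IsAlgClosed k] [CharZero k] [LocallyOfFiniteType G.hom] [IsIntegral X.left]
  [LocallyOfFiniteType X.hom] [QuasiCompact X.hom] [Smooth Yo.hom] in
lemma quasiCompact_tensor_hom : QuasiCompact (G ⊗ Yo).hom := by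
  have h1 : (snd G Yo).left ≫ Yo.hom = (G ⊗ Yo).hom := Over.w (snd G Yo)
  have h2 : QuasiCompact (snd G Yo).left :=
    inferInstanceAs (QuasiCompact (pullback.snd G.hom Yo.hom))
  rw [← h1]
  infer_instance

include htrans in
/-- `(σ, y) ↦ σ · f(y)` is smooth. -/
theorem smooth_actMap : Smooth (actMap a fo).left := by
  have hsm : Smooth (G ⊗ Yo).hom := smooth_tensor_hom G Yo
  have hqc : QuasiCompact (G ⊗ Yo).hom := quasiCompact_tensor_hom G Yo
  have hw : (actMap a fo).left ≫ X.hom = (G ⊗ Yo).hom := Over.w _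
  have hlft : LocallyOfFiniteType (actMap a fo).left := by
    have : LocallyOfFiniteType ((actMap a fo).left ≫ X.hom) := by rw [hw]; infer_instance
    exact locallyOfFiniteType_of_comp _ X.hom
  have hNX : IsLocallyNoetherian X.left := LocallyOfFiniteType.isLocallyNoetherian X.hom
  have hfp : LocallyOfFinitePresentation (actMap a fo).left :=
    LocallyOfFinitePresentation.iff_locallyOfFiniteType.mpr hlft
  have hN : TopologicalSpace.NoetherianSpace (G ⊗ Yo).left :=
    Groth.Agent.Lib.Helper72.OrbitDim.noetherianSpace_of_ft (G ⊗ Yo).hom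
  have hJ : JacobsonSpace (G ⊗ Yo).left := LocallyOfFiniteType.jacobsonSpace (G ⊗ Yo).hom
  have hJX : JacobsonSpace X.left := LocallyOfFiniteType.jacobsonSpace X.hom
  have hne : ∀ z ∈ (((actMap a fo).left.smoothLocus : Set (G ⊗ Yo).left)ᶜ),
      (actMap a fo).left z ≠ genericPoint X.left := by
    intro z hz hzη
    apply hz
    refine Groth.Agent.S10930.mem_smoothLocus_of_isField (G ⊗ Yo).hom X.hom (actMap a fo).left z ?_
    rw [hzη]
    exact Field.toIsField X.left.functionField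
  obtain ⟨V, hVo, hηV, hV⟩ := Groth.Agent.S10930.exists_open_of_forall_ne (actMap a fo).left
    (actMap a fo).left.continuous (genericPoint X.left)
    (fun b => (genericPoint_spec X.left).specializes (Set.mem_univ b)) _
    (actMap a fo).left.smoothLocus.isOpen.isClosed_compl hne
  rw [compl_compl] at hV
  obtain ⟨x₀, hx₀V, hx₀c⟩ := nonempty_inter_closedPoints (Z := V) ⟨_, hηV⟩ hVo.isLocallyClosed
  have hx₀c' : IsClosed ({x₀} : Set X.left) := hx₀c
  let x₀' : 𝟙_ (Over (Spec (CommRingCat.of k))) ⟶ X :=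
    Over.homMk (pointOfClosedPoint X.hom x₀ hx₀c') (pointOfClosedPoint_comp X.hom x₀ hx₀c')
  have hx₀' : x₀'.left (IsLocalRing.closedPoint k) = x₀ := pointOfClosedPoint_apply X.hom x₀ hx₀c' _
  refine smooth_of_target_homog (actMap a fo).left V hV fun p hp => ?_
  have hxc : IsClosed ({(actMap a fo).left p} : Set X.left) :=
    (actMap a fo).left.closePoints_subset_preimage_closedPoints hp
  let x' : 𝟙_ (Over (Spec (CommRingCat.of k))) ⟶ X :=
    Over.homMk (pointOfClosedPoint X.hom _ hxc) (pointOfClosedPoint_comp X.hom _ hxc)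
  have hx' : x'.left (IsLocalRing.closedPoint k) = (actMap a fo).left p :=
    pointOfClosedPoint_apply X.hom _ hxc _
  obtain ⟨σ, hσ⟩ := htrans x' x₀'
  refine ⟨(ltr σ ▷ Yo).left, (actTr a σ).left, inferInstance, inferInstance, ?_, ?_⟩
  · exact congrArg CommaMorphism.left (whisker_ltr_actMap a fo σ)
  · have h0 : toUnit (𝟙_ (Over (Spec (CommRingCat.of k)))) = 𝟙 _ := toUnit_unique _ _
    have h1 : x' ≫ actTr a σ = x₀' := by
      rw [comp_actTr, h0, Category.id_comp, hσ]
    have h2 : (actTr a σ).left (x'.left (IsLocalRing.closedPoint k)) =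
        x₀'.left (IsLocalRing.closedPoint k) :=
      app_eq (congrArg CommaMorphism.left h1 : x'.left ≫ (actTr a σ).left = x₀'.left) _
    rw [hx', hx₀'] at h2
    rw [h2]
    exact hx₀V

end Smooth

end Groth.Agent.Lib.Helper72.KleimanSmooth
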