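import Groth.Agent.Lib.Helper72.GrpIdentity
import Groth.Agent.Lib.Helper22.GrpFlatLocus
import Groth.Agent.Lib.Helper19.GC.OpenSubgroup
import Groth.Agent.Lib.Helper19.Grp.SurjFlat
import Groth.Agent.Lib.Helper79.OverPullbackSq
import Groth.Prelude.Def_AutSch

/-!
# Flat homomorphisms and the neutral components of the fibres (SGA3 VI_B)
-/

set_option autoImplicit false

universe u

open CategoryTheory CategoryTheory.Limits MonoidalCategory CartesianMonoidalCategory MonObj GrpObj
  AlgebraicGeometry

namespace Groth.Agent.Lib.Helper72.NeutralFlat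

open Groth.Agent.Lib.Helper72.GrpComp Groth.Agent.Lib.Helper72.GrpConn

section Cat

variable {C : Type*} [Category C] [CartesianMonoidalCategory C]

/-- A morphism which becomes a homomorphism after composing with a monic homomorphism is a
homomorphism. -/
theorem isMonHom_of_comp_mono {M N P : C} [MonObj M] [MonObj N] [MonObj P] (ψ : M ⟶ N)
    (i : N ⟶ P) [Mono i] [IsMonHom i] [IsMonHom (ψ ≫ i)] : IsMonHom ψ where
  one_hom := by
    rw [← cancel_mono i, Category.assoc, IsMonHom.one_hom (f := ψ ≫ i), IsMonHom.one_hom]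
  mul_hom := by
    rw [← cancel_mono i, Category.assoc, IsMonHom.mul_hom (f := ψ ≫ i), Category.assoc,
      IsMonHom.mul_hom (f := i), tensorHom_comp_tensorHom_assoc]

end Cat

section Field

variable {k : Type u} [Field k]

/-- The identity component of a locally algebraic group as an open subgroup scheme. -/
theorem exists_openIdentityComponent (G : Over (Spec (CommRingCat.of k))) [GrpObj G]
    [LocallyOfFiniteType G.hom] :
    ∃ (G₀ : Over (Spec (CommRingCat.of k))) (_ : GrpObj G₀) (incl : G₀ ⟶ G) (_ : IsMonHom incl),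
      IsOpenImmersion incl.left ∧ Set.range incl.left = connectedComponent (ePt G) ∧
      CompactSpace G₀.left := by
  obtain ⟨G₀, i1, incl, i2, h1, h2, h3, -, h5⟩ := exists_identityComponent G
  refine ⟨G₀, i1, incl, i2, ?_, h3, h5⟩
  haveI : IsLocallyNoetherian G.left := LocallyOfFiniteType.isLocallyNoetherian G.hom
  exact IsOpenImmersion.of_flat_of_mono incl.left

omit [Field k] in
lemma ePt_eq_unitPt [Field k] (G : Over (Spec (CommRingCat.of k))) [GrpObj G] :
    ePt G = AutSch.unitPt G := rfl

/-- Over a field, a flat homomorphism of locally algebraic groups maps the identity component onto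
the identity component. -/
theorem image_connectedComponent_of_flat (A B : Over (Spec (CommRingCat.of k))) [GrpObj A]
    [GrpObj B] [LocallyOfFiniteType A.hom] [LocallyOfFiniteType B.hom] (f : A ⟶ B) [IsMonHom f]
    [Flat f.left] :
    f.left '' connectedComponent (ePt A) = connectedComponent (ePt B) := by
  obtain ⟨A₀, _, incl, _, hopen, hrange, hc⟩ := exists_openIdentityComponent A
  have hrange' : Set.range (incl ≫ f).left = f.left '' connectedComponent (ePt A) := by
    rw [← hrange]
    ext z
    constructor
    · rintro ⟨x, rfl⟩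
      exact ⟨incl.left x, ⟨x, rfl⟩, rfl⟩
    · rintro ⟨_, ⟨x, rfl⟩, rfl⟩
      exact ⟨x, rfl⟩
  rw [← hrange']
  have hsub := Groth.Agent.Lib.Helper19.isSubgroupSet_range (incl ≫ f)
  haveI : IsLocallyNoetherian B.left := LocallyOfFiniteType.isLocallyNoetherian B.hom
  haveI : LocallyOfFiniteType f.left := by
    have : LocallyOfFiniteType (f.left ≫ B.hom) := by rw [Over.w f]; infer_instance
    exact locallyOfFiniteType_of_comp f.left B.hom
  haveI : Flat (incl ≫ f).left := by rw [Over.comp_left]; infer_instance
  haveI : LocallyOfFinitePresentation (incl ≫ f).left := by rw [Over.comp_left]; infer_instance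
  have hop : IsOpen (Set.range (incl ≫ f).left) := (incl ≫ f).left.isOpenMap.isOpen_range
  have hcl : IsClosed (Set.range (incl ≫ f).left) :=
    Groth.Agent.Lib.Helper19.IsSubgroupSet.isClosed_of_isLocallyClosed k B hsub hop.isLocallyClosed
  have hconn : _root_.IsPreconnected (Set.range (incl ≫ f).left) := by
    rw [hrange']
    exact isPreconnected_connectedComponent.image _ f.left.continuous.continuousOn
  have he : ePt B ∈ Set.range (incl ≫ f).left := hsub.one_mem _
  exact Set.Subset.antisymm (hconn.subset_connectedComponent he)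
    (IsClopen.connectedComponent_subset ⟨hcl, hop⟩ he)

/-- Over a field, a homomorphism of locally algebraic groups with reduced target which maps the
identity component onto the identity component is flat. -/
theorem flat_of_image_connectedComponent (A B : Over (Spec (CommRingCat.of k))) [GrpObj A]
    [GrpObj B] [LocallyOfFiniteType A.hom] [LocallyOfFiniteType B.hom] [IsReduced B.left]
    (f : A ⟶ B) [IsMonHom f]
    (h : f.left '' connectedComponent (ePt A) = connectedComponent (ePt B)) : Flat f.left := by
  obtain ⟨A₀, _, iA, _, hAo, hAr, hAc⟩ := exists_openIdentityComponent A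
  obtain ⟨B₀, _, iB, _, hBo, hBr, hBc⟩ := exists_openIdentityComponent B
  have hsub : Set.range (iA ≫ f).left ⊆ Set.range iB.left := by
    rw [hBr, ← h, ← hAr]
    rintro _ ⟨x, rfl⟩
    exact ⟨iA.left x, ⟨x, rfl⟩, rfl⟩
  let ψl : A₀.left ⟶ B₀.left := IsOpenImmersion.lift iB.left (iA ≫ f).left hsub
  have hψl : ψl ≫ iB.left = (iA ≫ f).left := IsOpenImmersion.lift_fac _ _ _
  let ψ : A₀ ⟶ B₀ := Over.homMk ψl (by
    rw [← Over.w iB, ← Category.assoc, hψl, Over.w])
  have hψ : ψ ≫ iB = iA ≫ f := Over.OverMorphism.ext hψl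
  haveI : Mono iB := (Over.forget _).mono_of_mono_map (inferInstanceAs (Mono iB.left))
  haveI : IsMonHom (ψ ≫ iB) := by rw [hψ]; infer_instance
  haveI : IsMonHom ψ := isMonHom_of_comp_mono ψ iB
  haveI : LocallyOfFiniteType A₀.hom := by rw [← Over.w iA]; infer_instance
  haveI : LocallyOfFiniteType B₀.hom := by rw [← Over.w iB]; infer_instance
  haveI : IsLocallyNoetherian B₀.left := LocallyOfFiniteType.isLocallyNoetherian B₀.hom
  haveI : QuasiCompact ψ.left := inferInstance
  haveI : IsReduced B₀.left := isReduced_of_isOpenImmersion iB.left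
  haveI : Surjective ψ.left := by
    constructor
    intro y₀
    have hy : iB.left y₀ ∈ f.left '' Set.range iA.left := by
      rw [hAr, h, ← hBr]; exact ⟨y₀, rfl⟩
    obtain ⟨_, ⟨x₀, rfl⟩, hx₀⟩ := hy
    refine ⟨x₀, ?_⟩
    apply iB.left.isOpenEmbedding.injective
    rw [← Scheme.Hom.comp_apply, ← Over.comp_left, hψ, Over.comp_left, Scheme.Hom.comp_apply, hx₀]
  have hψflat : Flat ψ.left := Groth.Agent.Lib.Helper19.flat_of_surjective_of_isReduced k A₀ B₀ ψ
  -- `f` is flat at the unit point
  have hcomp : Flat (iA.left ≫ f.left) := by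
    rw [← Over.comp_left, ← hψ, Over.comp_left]; infer_instance
  let x₀ : A₀.left := ePt A₀
  have h1 : ((iA.left ≫ f.left).stalkMap x₀).hom.Flat := Flat.stalkMap _ x₀
  rw [Scheme.Hom.stalkMap_comp] at h1
  have h2 : (f.left.stalkMap (iA.left x₀)).hom.Flat :=
    Groth.Agent.Lib.Helper19.CommRingCat.flat_of_comp_of_bijective _ _
      (Groth.Agent.Lib.Helper19.bijective_stalkMap_of_flat_of_isPreimmersion iA.left x₀) h1
  exact Groth.Agent.Lib.Helper19.flat_of_exists_flat_stalkMap k A B f _ h2

end Field

section Base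

variable {S : Scheme.{u}} (G H : Over S) [GrpObj G] [GrpObj H] (u : G ⟶ H) [IsMonHom u]

/-- the fibre square on points -/
lemma fibre_sq (s : S) (x' : (Red.bc (S.fromSpecResidueField s) G).left) :
    pullback.fst H.hom (S.fromSpecResidueField s)
        (((Over.pullback (S.fromSpecResidueField s)).map u).left x') =
      u.left (pullback.fst G.hom (S.fromSpecResidueField s) x') := by
  rw [← Scheme.Hom.comp_apply, ← Scheme.Hom.comp_apply,
    Groth.Agent.Lib.Helper79.overPullback_map_left_fst]

lemma exists_fibre_point (s : S) (x : G.left) (hx : G.hom x = s) :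
    ∃ x' : (Red.bc (S.fromSpecResidueField s) G).left,
      pullback.fst G.hom (S.fromSpecResidueField s) x' = x := by
  have : x ∈ Set.range (G.hom.fiberι s) := by rw [G.hom.range_fiberι]; exact hx
  exact this

lemma fibre_point_hom (s : S) (x' : (Red.bc (S.fromSpecResidueField s) G).left) :
    G.hom (pullback.fst G.hom (S.fromSpecResidueField s) x') = s := by
  have : pullback.fst G.hom (S.fromSpecResidueField s) x' ∈ Set.range (G.hom.fiberι s) :=
    ⟨x', rfl⟩
  rw [G.hom.range_fiberι] at this
  exact this

lemma fst_injective (s : S) :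
    Function.Injective (pullback.fst G.hom (S.fromSpecResidueField s)) :=
  (G.hom.fiberι s).isEmbedding.injective

lemma hom_apply (x : G.left) : H.hom (u.left x) = G.hom x := by
  rw [← Scheme.Hom.comp_apply, Over.w]

/-- membership in the neutral set of a fibre -/
lemma mem_neutralSet_fibre (s : S) (x' : (Red.bc (S.fromSpecResidueField s) G).left) :
    x' ∈ SGA3x.neutralSet (Red.bc (S.fromSpecResidueField s) G) ↔
      pullback.fst G.hom (S.fromSpecResidueField s) x' ∈ SGA3x.neutralSet G := by
  rw [Groth.Agent.Lib.Helper19.neutralSet_bc]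
  rfl

/-- The global statement `u(G⁰) = H⁰` follows from the fibrewise ones. -/
theorem image_neutralSet_of_fibres
    (hfib : ∀ s : S, ((Over.pullback (S.fromSpecResidueField s)).map u).left ''
      SGA3x.neutralSet (Red.bc (S.fromSpecResidueField s) G) =
      SGA3x.neutralSet (Red.bc (S.fromSpecResidueField s) H)) :
    u.left '' SGA3x.neutralSet G = SGA3x.neutralSet H := by
  apply Set.Subset.antisymm
  · rintro _ ⟨x, hx, rfl⟩
    obtain ⟨s, hs⟩ : ∃ s, s = G.hom x := ⟨_, rfl⟩
    obtain ⟨x', rfl⟩ := exists_fibre_point G s x hs.symm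
    have h1 : x' ∈ SGA3x.neutralSet (Red.bc (S.fromSpecResidueField s) G) :=
      (mem_neutralSet_fibre G s x').2 hx
    have h2 : ((Over.pullback (S.fromSpecResidueField s)).map u).left x' ∈
        SGA3x.neutralSet (Red.bc (S.fromSpecResidueField s) H) := by
      rw [← hfib s]; exact ⟨x', h1, rfl⟩
    have h3 := (mem_neutralSet_fibre H s _).1 h2
    rw [fibre_sq G H u s x'] at h3
    exact h3
  · intro y hy
    obtain ⟨s, hs⟩ : ∃ s, s = H.hom y := ⟨_, rfl⟩
    obtain ⟨y', rfl⟩ := exists_fibre_point H s y hs.symm
    have h1 : y' ∈ SGA3x.neutralSet (Red.bc (S.fromSpecResidueField s) H) :=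
      (mem_neutralSet_fibre H s y').2 hy
    rw [← hfib s] at h1
    obtain ⟨x', hx', rfl⟩ := h1
    exact ⟨_, (mem_neutralSet_fibre G s x').1 hx', (fibre_sq G H u s x').symm⟩

/-- The fibrewise statements follow from the global statement `u(G⁰) = H⁰`. -/
theorem image_neutralSet_fibre (h : u.left '' SGA3x.neutralSet G = SGA3x.neutralSet H) (s : S) :
    ((Over.pullback (S.fromSpecResidueField s)).map u).left ''
      SGA3x.neutralSet (Red.bc (S.fromSpecResidueField s) G) =
      SGA3x.neutralSet (Red.bc (S.fromSpecResidueField s) H) := by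
  apply Set.Subset.antisymm
  · rintro _ ⟨x', hx', rfl⟩
    rw [mem_neutralSet_fibre] at hx' ⊢
    rw [fibre_sq G H u s x', ← h]
    exact ⟨_, hx', rfl⟩
  · intro y' hy'
    rw [mem_neutralSet_fibre, ← h] at hy'
    obtain ⟨x, hx, hxy⟩ := hy'
    have hxs : G.hom x = s := by
      rw [← hom_apply G H u, hxy]; exact fibre_point_hom H s y'
    obtain ⟨x', rfl⟩ := exists_fibre_point G s x hxs
    refine ⟨x', (mem_neutralSet_fibre G s x').2 hx, ?_⟩
    apply fst_injective H s
    rw [fibre_sq G H u s x', hxy]


/-- SGA3 VI_B: a flat homomorphism maps `G⁰` onto `H⁰`. -/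
theorem image_neutralSet_eq_of_flat [LocallyOfFiniteType G.hom] [LocallyOfFiniteType H.hom]
    [Flat u.left] : u.left '' SGA3x.neutralSet G = SGA3x.neutralSet H := by
  apply image_neutralSet_of_fibres
  intro s
  let φ : Spec (CommRingCat.of ↑(S.residueField s)) ⟶ S := S.fromSpecResidueField s
  let A' : Over (Spec (CommRingCat.of ↑(S.residueField s))) := Red.bc φ G
  let B' : Over (Spec (CommRingCat.of ↑(S.residueField s))) := Red.bc φ H
  let f' : A' ⟶ B' := (Over.pullback φ).map u
  haveI : IsMonHom f' := inferInstanceAs (IsMonHom ((Over.pullback φ).map u))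
  haveI : LocallyOfFiniteType A'.hom := by dsimp [A', Red.bc]; infer_instance
  haveI : LocallyOfFiniteType B'.hom := by dsimp [B', Red.bc]; infer_instance
  haveI : Flat f'.left :=
    MorphismProperty.of_isPullback (P := @Flat)
      (Groth.Agent.Lib.Helper79.isPullback_overPullback_map φ u) inferInstance
  have := image_connectedComponent_of_flat A' B' f'
  rw [ePt_eq_unitPt, ePt_eq_unitPt, ← AutSch.neutralSet_eq_connectedComponent,
    ← AutSch.neutralSet_eq_connectedComponent] at this
  exact this

/-- SGA3 VI_B: if `G` is flat, the fibres of `H` are reduced and `u(G⁰) = H⁰` then `u` is flat. -/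
theorem flat_of_image_neutralSet_eq [Flat G.hom] [LocallyOfFinitePresentation G.hom]
    [LocallyOfFiniteType H.hom] (hred : ∀ s : S, IsReduced (H.hom.fiber s))
    (h : u.left '' SGA3x.neutralSet G = SGA3x.neutralSet H) : Flat u.left := by
  rw [Flat.iff_flat_stalkMap]
  intro x
  rw [Groth.Agent.Lib.Helper22.GrpFlatLocus.flat_stalkMap_iff_flat_fibre G H u x]
  obtain ⟨s, hs⟩ : ∃ s, s = G.hom x := ⟨_, rfl⟩
  rw [← hs]
  let φ : Spec (CommRingCat.of ↑(S.residueField s)) ⟶ S := S.fromSpecResidueField s
  let A' : Over (Spec (CommRingCat.of ↑(S.residueField s))) := Red.bc φ G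
  let B' : Over (Spec (CommRingCat.of ↑(S.residueField s))) := Red.bc φ H
  let f' : A' ⟶ B' := (Over.pullback φ).map u
  haveI : IsMonHom f' := inferInstanceAs (IsMonHom ((Over.pullback φ).map u))
  haveI : LocallyOfFiniteType A'.hom := by dsimp [A', Red.bc]; infer_instance
  haveI : LocallyOfFiniteType B'.hom := by dsimp [B', Red.bc]; infer_instance
  haveI : IsReduced B'.left := hred s
  have hf : f'.left '' SGA3x.neutralSet A' = SGA3x.neutralSet B' :=
    image_neutralSet_fibre G H u h s
  rw [AutSch.neutralSet_eq_connectedComponent, AutSch.neutralSet_eq_connectedComponent] at hf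
  exact flat_of_image_connectedComponent A' B' f' hf

end Base

end Groth.Agent.Lib.Helper72.NeutralFlat
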