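import Groth.Agent.Lib.Helper72.HomogFibre
import Groth.Prelude.Def_SGA3x

/-!
# A quasi-compact open containing the union of the neutral components (SGA3 VI_B 3.9)
-/

set_option autoImplicit false

universe u

namespace Groth.Agent.Lib.Helper72.NeutralQC

open AlgebraicGeometry CategoryTheory CategoryTheory.Limits MonoidalCategory
  CartesianMonoidalCategory MonObj GrpObj Groth.Agent.Lib.Helper72.GrpComp
  Groth.Agent.Lib.Helper72.GrpGen Groth.Agent.Lib.Helper72.GrpConn

variable {S : Scheme.{u}} (G : Over S) [GrpObj G]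

/-- Multiplication of a fibre versus multiplication of `G`. -/
lemma mul_fibre_comp (s : S) :
    μ[Red.bc (S.fromSpecResidueField s) G].left ≫ pullback.fst G.hom (S.fromSpecResidueField s) =
      (Functor.LaxMonoidal.μ (Over.pullback (S.fromSpecResidueField s)) G G).left ≫
        pullback.fst (G ⊗ G).hom (S.fromSpecResidueField s) ≫ μ[G].left := by
  have h : μ[Red.bc (S.fromSpecResidueField s) G] =
      Functor.LaxMonoidal.μ (Over.pullback (S.fromSpecResidueField s)) G G ≫
        (Over.pullback (S.fromSpecResidueField s)).map μ[G] := Functor.obj.μ_def _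
  rw [h, Over.comp_left, Category.assoc, ActBC.pullback_map_left_fst]

/-- The unit of a fibre versus the unit of `G`. -/
lemma unit_fibre_comp (s : S) :
    η[Red.bc (S.fromSpecResidueField s) G].left ≫ pullback.fst G.hom (S.fromSpecResidueField s) =
      (Functor.LaxMonoidal.ε (Over.pullback (S.fromSpecResidueField s))).left ≫
        pullback.fst (𝟙_ (Over S)).hom (S.fromSpecResidueField s) ≫ η[G].left := by
  have h : η[Red.bc (S.fromSpecResidueField s) G] =
      Functor.LaxMonoidal.ε (Over.pullback (S.fromSpecResidueField s)) ≫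
        (Over.pullback (S.fromSpecResidueField s)).map η[G] := Functor.obj.η_def _
  rw [h, Over.comp_left, Category.assoc, ActBC.pullback_map_left_fst]

/-- A point of the neutral component of a fibre is a product of two points of any open
neighbourhood of the unit point of that fibre. -/
theorem exists_mul_of_mem_neutral (W : G.left.Opens) (p : ↥(𝟙_ (Over S)).left)
    (hW : η[G].left p ∈ W) (x : G.left)
    (hx : x ∈ connectedComponentIn (G.hom ⁻¹' {(𝟙_ (Over S)).hom p}) (η[G].left p)) :
    ∃ z : ↥(G ⊗ G).left, (fst G G).left z ∈ W ∧ (snd G G).left z ∈ W ∧ μ[G].left z = x := by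
  obtain ⟨s, hs⟩ : ∃ s : S, s = (𝟙_ (Over S)).hom p := ⟨_, rfl⟩
  rw [← hs] at hx
  let fs : Spec (CommRingCat.of (S.residueField s)) ⟶ S := S.fromSpecResidueField s
  let Gs : Over (Spec (CommRingCat.of (S.residueField s))) := Red.bc fs G
  let q : Gs.left ⟶ G.left := pullback.fst G.hom fs
  let cp : ↥(Spec (CommRingCat.of (S.residueField s))) := IsLocalRing.closedPoint (S.residueField s)
  -- the unit point of the fibre maps to the unit point over `s`
  have hinj : Function.Injective (𝟙_ (Over S)).hom := by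
    rw [Over.tensorUnit_hom]
    exact fun a b h => h
  have h1 : q (ePt Gs) = η[G].left p := by
    show q (η[Gs].left cp) = η[G].left p
    rw [← Scheme.Hom.comp_apply, unit_fibre_comp G s, Scheme.Hom.comp_apply, Scheme.Hom.comp_apply]
    congr 1
    apply hinj
    rw [← hs, ← Scheme.Hom.comp_apply, pullback.condition, Scheme.Hom.comp_apply]
    exact Scheme.fromSpecResidueField_apply _ _
  have hpF : η[G].left p ∈ G.hom ⁻¹' {s} := by
    show G.hom (η[G].left p) = s
    rw [← Scheme.Hom.comp_apply, Over.w η[G], hs]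
  -- transport to the fibre
  let e : ↥Gs.left ≃ₜ ↥(G.hom ⁻¹' {s}) := Scheme.Hom.fiberHomeo G.hom s
  rw [connectedComponentIn_eq_image hpF] at hx
  obtain ⟨c, hc, rfl⟩ := hx
  have he : e (ePt Gs) = ⟨η[G].left p, hpF⟩ := Subtype.ext h1
  have hx' : e.symm c ∈ connectedComponent (ePt Gs) := by
    have := e.symm.continuous.image_connectedComponent_subset _ ⟨c, hc, rfl⟩
    rwa [← he, e.symm_apply_apply] at this
  have hqx : q (e.symm c) = c.1 := Scheme.Hom.fiberι_fiberHomeo_symm G.hom s c
  -- the identity component of the fibre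
  have h0 := irreducibleComponent_mem_irreducibleComponents (ePt Gs)
  rw [connectedComponent_ePt Gs h0 mem_irreducibleComponent] at hx'
  let W' : Set Gs.left := q ⁻¹' (W : Set G.left)
  have hW'o : IsOpen W' := W.2.preimage q.continuous
  have heW' : ePt Gs ∈ W' := by
    show q (ePt Gs) ∈ W
    rw [h1]; exact hW
  have hmem := mem_mulSet_of_inter_nonempty Gs h0 mem_irreducibleComponent h0 hW'o
    ⟨ePt Gs, mem_irreducibleComponent, heW'⟩ hW'o heW' hx'
  obtain ⟨z', ⟨⟨hz1, -⟩, hz2⟩, hz3⟩ := hmem
  refine ⟨pullback.fst (G ⊗ G).hom fs ((Functor.LaxMonoidal.μ (Over.pullback fs) G G).left z'),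
    ?_, ?_, ?_⟩
  · show (pullback.fst G.hom G.hom) _ ∈ W
    rw [← Scheme.Hom.comp_apply, ← Scheme.Hom.comp_apply, ActBC.μ_left_fst_fst,
      Scheme.Hom.comp_apply]
    exact hz1
  · show (pullback.snd G.hom G.hom) _ ∈ W
    rw [← Scheme.Hom.comp_apply, ← Scheme.Hom.comp_apply, ActBC.μ_left_fst_snd,
      Scheme.Hom.comp_apply]
    exact hz2
  · rw [← hqx, ← hz3]
    show _ = q (μ[Gs].left z')
    rw [← Scheme.Hom.comp_apply (μ[Gs].left), mul_fibre_comp G s]
    rfl

/-- **SGA3 VI_B 3.9**: over a quasi-compact quasi-separated base there is a quasi-compact open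
subset of `G` containing the union of the neutral components of the fibres. -/
theorem exists_isCompact_isOpen_neutralSet [CompactSpace S] [QuasiSeparatedSpace S] :
    ∃ U : G.left.Opens, IsCompact (U : Set G.left) ∧ SGA3x.neutralSet G ⊆ U := by
  haveI : CompactSpace ↥(𝟙_ (Over S)).left := inferInstanceAs (CompactSpace S)
  have hKc : IsCompact (Set.range η[G].left) := isCompact_range η[G].left.continuous
  obtain ⟨W, hWc, hKW, -⟩ := HomogFibre.exists_isCompact_isOpen_between hKc isOpen_univ
    (Set.subset_univ _)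
  let m : pullback (W.ι ≫ G.hom) (W.ι ≫ G.hom) ⟶ pullback G.hom G.hom :=
    pullback.map (W.ι ≫ G.hom) (W.ι ≫ G.hom) G.hom G.hom W.ι W.ι (𝟙 S) (by simp) (by simp)
  have hrange : Set.range m = (fst G G).left ⁻¹' (W : Set G.left) ∩
      (snd G G).left ⁻¹' (W : Set G.left) := by
    rw [Scheme.Pullback.range_map, Scheme.Opens.range_ι]
    rfl
  haveI : CompactSpace ↥W.toScheme := isCompact_iff_compactSpace.1 hWc
  haveI : QuasiCompact (W.ι ≫ G.hom) := inferInstance
  haveI : CompactSpace ↥(pullback (W.ι ≫ G.hom) (W.ι ≫ G.hom)) := inferInstance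
  have hPc : IsCompact (μ[G].left '' ((fst G G).left ⁻¹' (W : Set G.left) ∩
      (snd G G).left ⁻¹' (W : Set G.left))) := by
    rw [← hrange]
    exact (isCompact_range m.continuous).image μ[G].left.continuous
  obtain ⟨U, hUc, hPU, -⟩ := HomogFibre.exists_isCompact_isOpen_between hPc isOpen_univ
    (Set.subset_univ _)
  refine ⟨U, hUc, ?_⟩
  intro x hx
  simp only [SGA3x.neutralSet, Set.mem_iUnion] at hx
  obtain ⟨p, hp⟩ := hx
  obtain ⟨z, hz1, hz2, hz3⟩ := exists_mul_of_mem_neutral G W p (hKW ⟨p, rfl⟩) x hp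
  exact hPU ⟨z, ⟨hz1, hz2⟩, hz3⟩

end Groth.Agent.Lib.Helper72.NeutralQC
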