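import Groth.Agent.Lib.Helper72.NeutralFlat
import Groth.Agent.Lib.Helper72.NeutralQC
import Groth.Agent.Lib.Helper72.SubGrp
import Groth.Agent.Lib.Helper22.GeomApprox
import Groth.Agent.S1336
import Groth.Agent.Lib.Helper35.ConstrTop

/-!
# Generic openness of the union of the neutral components (FGA / SGA3 VI_B)
-/

set_option autoImplicit false

universe u

open CategoryTheory CategoryTheory.Limits MonoidalCategory CartesianMonoidalCategory MonObj GrpObj
  AlgebraicGeometry

namespace Groth.Agent.Lib.Helper72.NeutralOpen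

open Groth.Agent.Lib.Helper72.GrpComp Groth.Agent.Lib.Helper72.GrpConn
  Groth.Agent.Lib.Helper72.NeutralFlat Groth.Agent.Lib.Helper19

section Field

variable {k : Type u} [Field k]

/-- Over a field the identity component is a subgroup set. -/
theorem isSubgroupSet_neutralSet_field (G : Over (Spec (CommRingCat.of k))) [GrpObj G] :
    IsSubgroupSet G (SGA3x.neutralSet G) := by
  obtain ⟨G₀, _, incl, _, -, -, h3, -, -⟩ := exists_identityComponent G
  have := isSubgroupSet_range incl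
  rw [h3, ePt_eq_unitPt, ← AutSch.neutralSet_eq_connectedComponent] at this
  exact this

end Field

section Base

variable {S : Scheme.{u}} (G : Over S) [GrpObj G]

/-- inverse of a fibre versus inverse of `G`. -/
lemma inv_fibre_comp (s : S) :
    ι[Red.bc (S.fromSpecResidueField s) G].left ≫ pullback.fst G.hom (S.fromSpecResidueField s) =
      pullback.fst G.hom (S.fromSpecResidueField s) ≫ ι[G].left := by
  have h : ι[Red.bc (S.fromSpecResidueField s) G] =
      (Over.pullback (S.fromSpecResidueField s)).map ι[G] := rfl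
  rw [h, ActBC.pullback_map_left_fst]

/-- The union of the neutral components of the fibres is a subgroup set. -/
theorem isSubgroupSet_neutralSet : IsSubgroupSet G (SGA3x.neutralSet G) where
  one_mem pt := by
    rw [mem_neutralSet_iff]
    have h : G.hom (η[G].left pt) = pt := by
      rw [← Scheme.Hom.comp_apply, Over.w η[G]]; rfl
    rw [h]
    exact mem_connectedComponentIn h
  inv_mem := by
    intro y hy
    obtain ⟨s, hs⟩ : ∃ s, s = G.hom y := ⟨_, rfl⟩
    obtain ⟨y', rfl⟩ := exists_fibre_point G s y hs.symm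
    have h1 := (mem_neutralSet_fibre G s y').2 hy
    have h2 := (isSubgroupSet_neutralSet_field (Red.bc (S.fromSpecResidueField s) G)).inv_mem y' h1
    have h3 := (mem_neutralSet_fibre G s _).1 h2
    have e : pullback.fst G.hom (S.fromSpecResidueField s)
        (ι[Red.bc (S.fromSpecResidueField s) G].left y') =
        ι[G].left (pullback.fst G.hom (S.fromSpecResidueField s) y') :=
      congrArg (fun φ : _ ⟶ G.left => φ y') (inv_fibre_comp G s)
    exact e ▸ h3
  mul_mem := by
    intro z hz1 hz2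
    obtain ⟨s, hs⟩ : ∃ s, s = (G ⊗ G).hom z := ⟨_, rfl⟩
    obtain ⟨w, hw⟩ := exists_fibre_point (G ⊗ G) s z hs.symm
    have hiso : IsIso (Functor.LaxMonoidal.μ (Over.pullback (S.fromSpecResidueField s)) G G) :=
      inferInstance
    obtain ⟨z', hz'⟩ : ∃ z', (Functor.LaxMonoidal.μ (Over.pullback (S.fromSpecResidueField s))
        G G).left z' = w := by
      refine ⟨(inv (Functor.LaxMonoidal.μ (Over.pullback (S.fromSpecResidueField s))
        G G)).left w, ?_⟩
      rw [← Scheme.Hom.comp_apply, ← Over.comp_left, IsIso.inv_hom_id]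
      rfl
    have e1 : pullback.fst G.hom (S.fromSpecResidueField s)
        ((fst (Red.bc (S.fromSpecResidueField s) G) (Red.bc (S.fromSpecResidueField s) G)).left z')
        = (fst G G).left z := by
      rw [← hw, ← hz']
      exact congrArg (fun φ : _ ⟶ G.left => φ z')
        (ActBC.μ_left_fst_fst (g := S.fromSpecResidueField s) (X := G) (Y := G)).symm
    have e2 : pullback.fst G.hom (S.fromSpecResidueField s)
        ((snd (Red.bc (S.fromSpecResidueField s) G) (Red.bc (S.fromSpecResidueField s) G)).left z')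
        = (snd G G).left z := by
      rw [← hw, ← hz']
      exact congrArg (fun φ : _ ⟶ G.left => φ z')
        (ActBC.μ_left_fst_snd (g := S.fromSpecResidueField s) (X := G) (Y := G)).symm
    have e3 : pullback.fst G.hom (S.fromSpecResidueField s)
        (μ[Red.bc (S.fromSpecResidueField s) G].left z') = μ[G].left z := by
      rw [← hw, ← hz']
      exact congrArg (fun φ : _ ⟶ G.left => φ z')
        (Groth.Agent.Lib.Helper72.NeutralQC.mul_fibre_comp G s)
    have h1 := (mem_neutralSet_fibre G s _).2 (e1 ▸ hz1)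
    have h2 := (mem_neutralSet_fibre G s _).2 (e2 ▸ hz2)
    have h3 := (isSubgroupSet_neutralSet_field (Red.bc (S.fromSpecResidueField s) G)).mul_mem
      z' h1 h2
    have h4 := (mem_neutralSet_fibre G s _).1 h3
    exact e3 ▸ h4

end Base

section OpenSub

variable {S : Scheme.{u}} (G : Over S) [GrpObj G] (W : G.left.Opens)

/-- The open subscheme `W` as an object over `S`. -/
noncomputable abbrev Hof : Over S := Over.mk (W.ι ≫ G.hom)

/-- The inclusion of the open subscheme `W`. -/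
noncomputable abbrev iof : Hof G W ⟶ G := Over.homMk W.ι rfl

/-- An open subset which is a subgroup set carries a group structure making the inclusion a
homomorphism. -/
theorem exists_grpObj_of_isSubgroupSet (hW : IsSubgroupSet G (W : Set G.left)) :
    ∃ (_ : GrpObj (Hof G W)), IsMonHom (iof G W) := by
  let incl : Hof G W ⟶ G := iof G W
  haveI hmono : Mono incl := Over.mono_homMk _
  have hlift : ∀ {T : Scheme.{u}} (f : T ⟶ G.left), Set.range f ⊆ (W : Set G.left) →
      ∃ g : T ⟶ W.toScheme, g ≫ W.ι = f := by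
    intro T f hf
    exact ⟨IsOpenImmersion.lift W.ι f (by rw [Scheme.Opens.range_ι]; exact hf),
      IsOpenImmersion.lift_fac _ _ _⟩
  -- multiplication
  have hr : Set.range (incl ⊗ₘ incl).left =
      pullback.fst G.hom G.hom ⁻¹' Set.range W.ι ∩ pullback.snd G.hom G.hom ⁻¹' Set.range W.ι := by
    rw [Over.tensorHom_left, Scheme.Pullback.range_map]
    rfl
  have hm_range : Set.range ((incl ⊗ₘ incl) ≫ μ[G]).left ⊆ (W : Set G.left) := by
    rintro _ ⟨p, rfl⟩
    have hp : (incl ⊗ₘ incl).left p ∈ Set.range (incl ⊗ₘ incl).left := ⟨p, rfl⟩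
    rw [hr, Scheme.Opens.range_ι] at hp
    exact hW.mul_mem _ hp.1 hp.2
  obtain ⟨gm, hgm⟩ := hlift ((incl ⊗ₘ incl) ≫ μ[G]).left hm_range
  have wm : gm ≫ (Hof G W).hom = (Hof G W ⊗ Hof G W).hom := by
    show gm ≫ W.ι ≫ G.hom = _
    rw [reassoc_of% hgm]
    exact Over.w ((incl ⊗ₘ incl) ≫ μ[G])
  let m : Hof G W ⊗ Hof G W ⟶ Hof G W := Over.homMk gm wm
  have hm : m ≫ incl = (incl ⊗ₘ incl) ≫ μ[G] := Over.OverMorphism.ext hgm
  -- unit
  have ho_range : Set.range η[G].left ⊆ (W : Set G.left) := by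
    rintro _ ⟨p, rfl⟩
    exact hW.one_mem p
  obtain ⟨go, hgo⟩ := hlift η[G].left ho_range
  have wo : go ≫ (Hof G W).hom = (𝟙_ (Over S)).hom := by
    show go ≫ W.ι ≫ G.hom = _
    rw [reassoc_of% hgo]
    exact Over.w η[G]
  let o : 𝟙_ (Over S) ⟶ Hof G W := Over.homMk go wo
  have ho : o ≫ incl = η[G] := Over.OverMorphism.ext hgo
  -- inverse
  have hv_range : Set.range (W.ι ≫ ι[G].left) ⊆ (W : Set G.left) := by
    rintro _ ⟨p, rfl⟩
    rw [Scheme.Hom.comp_apply]
    exact hW.inv_mem _ (by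
      have : W.ι p ∈ Set.range W.ι := ⟨p, rfl⟩
      rwa [Scheme.Opens.range_ι] at this)
  obtain ⟨gv, hgv⟩ := hlift (W.ι ≫ ι[G].left) hv_range
  have wv : gv ≫ (Hof G W).hom = (Hof G W).hom := by
    show gv ≫ W.ι ≫ G.hom = W.ι ≫ G.hom
    rw [reassoc_of% hgv]
    congr 1
    exact Over.w ι[G]
  let v : Hof G W ⟶ Hof G W := Over.homMk gv wv
  have hv : v ≫ incl = incl ≫ ι[G] := Over.OverMorphism.ext hgv
  let inst : GrpObj (Hof G W) := Groth.Agent.Lib.Helper72.grpObjOfMono incl m hm o ho v hv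
  exact ⟨inst, ⟨ho, hm⟩⟩

end OpenSub

section StepA

variable {S : Scheme.{u}} (G : Over S) [GrpObj G] [LocallyOfFiniteType G.hom]

/-- A quasi-compact open subset of `G` cutting out the neutral component of the fibre over `ξ`,
with geometrically irreducible fibre over `ξ`. -/
theorem stepA (ξ : S) :
    ∃ W : G.left.Opens, IsCompact (W : Set G.left) ∧
      (W : Set G.left) ∩ G.hom ⁻¹' {ξ} = SGA3x.neutralSet G ∩ G.hom ⁻¹' {ξ} ∧
      GeometricallyIrreducible ((W.ι ≫ G.hom).fiberToSpecResidueField ξ) := by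
  let φ : Spec (CommRingCat.of ↑(S.residueField ξ)) ⟶ S := S.fromSpecResidueField ξ
  let Gξ : Over (Spec (CommRingCat.of ↑(S.residueField ξ))) := Red.bc φ G
  haveI : LocallyOfFiniteType Gξ.hom := by dsimp [Gξ, Red.bc]; infer_instance
  obtain ⟨G₀, _, incl, _, hcl, hflat, hrange, hgi, hcomp⟩ := exists_identityComponent Gξ
  haveI : IsLocallyNoetherian Gξ.left := LocallyOfFiniteType.isLocallyNoetherian Gξ.hom
  haveI : IsOpenImmersion incl.left := IsOpenImmersion.of_flat_of_mono incl.left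
  let q : Gξ.left ⟶ G.left := pullback.fst G.hom φ
  have hqr : Set.range q = G.hom ⁻¹' {ξ} := G.hom.range_fiberι ξ
  have hqinj : Function.Injective q := (G.hom.fiberι ξ).isEmbedding.injective
  have hrange' : Set.range incl.left = q ⁻¹' SGA3x.neutralSet G := by
    rw [hrange, ePt_eq_unitPt, ← AutSch.neutralSet_eq_connectedComponent]
    exact neutralSet_bc φ G
  have hK : SGA3x.neutralSet G ∩ G.hom ⁻¹' {ξ} = q '' Set.range incl.left := by
    rw [hrange', Set.image_preimage_eq_inter_range, hqr]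
  have hKc : IsCompact (SGA3x.neutralSet G ∩ G.hom ⁻¹' {ξ}) := by
    rw [hK]; exact (isCompact_range incl.left.continuous).image q.continuous
  obtain ⟨O, hO, hOq⟩ : ∃ O : Set G.left, IsOpen O ∧ q ⁻¹' O = Set.range incl.left :=
    (G.hom.fiberι ξ).isEmbedding.isInducing.isOpen_iff.1 incl.left.isOpenEmbedding.isOpen_range
  have hKO : SGA3x.neutralSet G ∩ G.hom ⁻¹' {ξ} ⊆ O := by
    rw [hK]
    rintro _ ⟨x, hx, rfl⟩
    rw [← hOq] at hx
    exact hx
  obtain ⟨W, hWc, hKW, hWO⟩ :=
    Groth.Agent.Lib.Helper72.HomogFibre.exists_isCompact_isOpen_between hKc hO hKO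
  have hWξ : (W : Set G.left) ∩ G.hom ⁻¹' {ξ} = SGA3x.neutralSet G ∩ G.hom ⁻¹' {ξ} := by
    apply Set.Subset.antisymm
    · rintro x ⟨hxW, hxξ⟩
      obtain ⟨x', rfl⟩ : x ∈ Set.range q := by rw [hqr]; exact hxξ
      have : x' ∈ Set.range incl.left := by rw [← hOq]; exact hWO hxW
      rw [hK]
      exact ⟨x', this, rfl⟩
    · intro x hx
      exact ⟨hKW hx, hx.2⟩
  refine ⟨W, hWc, hWξ, ?_⟩
  -- geometric irreducibility of the fibre of `W` over `ξ`
  let j : pullback (W.ι ≫ G.hom) φ ⟶ Gξ.left :=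
    pullback.map (W.ι ≫ G.hom) φ G.hom φ W.ι (𝟙 _) (𝟙 _) (by simp) (by simp)
  have hjr : Set.range j = Set.range incl.left := by
    have h1 : Set.range j = q ⁻¹' Set.range W.ι ∩ (pullback.snd G.hom φ) ⁻¹' Set.range (𝟙 (Spec (CommRingCat.of ↑(S.residueField ξ))) : _ ⟶ _) := by
      exact Scheme.Pullback.range_map _ _ _ _ _ _ _ _ _
    rw [h1, Scheme.Opens.range_ι]
    ext x'
    constructor
    · rintro ⟨hx1, -⟩
      have hx2 : q x' ∈ (W : Set G.left) ∩ G.hom ⁻¹' {ξ} := ⟨hx1, by rw [← hqr]; exact ⟨x', rfl⟩⟩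
      rw [hWξ, hK] at hx2
      obtain ⟨x'', hx'', hq⟩ := hx2
      rwa [← hqinj hq]
    · intro hx
      refine ⟨?_, ⟨pullback.snd G.hom φ x', rfl⟩⟩
      have : q x' ∈ SGA3x.neutralSet G ∩ G.hom ⁻¹' {ξ} := by rw [hK]; exact ⟨x', hx, rfl⟩
      exact hKW this
  let e : pullback (W.ι ≫ G.hom) φ ≅ G₀.left := IsOpenImmersion.isoOfRangeEq j incl.left hjr
  have he : e.hom ≫ incl.left = j := IsOpenImmersion.isoOfRangeEq_hom_fac _ _ _
  have hsnd : (W.ι ≫ G.hom).fiberToSpecResidueField ξ = e.hom ≫ G₀.hom := by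
    rw [← Over.w incl, ← Category.assoc, he]
    show pullback.snd _ _ = j ≫ pullback.snd G.hom φ
    rw [pullback.lift_snd, Category.comp_id]
  rw [hsnd]
  exact (MorphismProperty.cancel_left_of_respectsIso @GeometricallyIrreducible e.hom G₀.hom).2 hgi

end StepA

section Core

open Groth.Agent.Lib.Helper22.GeomApprox

variable {S : Scheme.{u}} [IsNoetherian S] [IrreducibleSpace S] (G : Over S) [GrpObj G]
  [LocallyOfFiniteType G.hom]

/-- Over an irreducible noetherian base, the union of the neutral components is open and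
quasi-compact over a nonempty open subset of the base. -/
theorem core : ∃ U : S.Opens, (U : Set S).Nonempty ∧
    IsOpen (SGA3x.neutralSet G ∩ G.hom ⁻¹' (U : Set S)) ∧
    IsCompact (SGA3x.neutralSet G ∩ G.hom ⁻¹' (U : Set S)) := by
  obtain ⟨ξ, hξ⟩ : ∃ ξ, ξ = genericPoint S := ⟨_, rfl⟩
  have hgen : IsGenericPoint ξ (Set.univ : Set S) := hξ ▸ genericPoint_spec S
  obtain ⟨W, hWc, hWξ, hgi⟩ := stepA G ξ
  let f : W.toScheme ⟶ S := W.ι ≫ G.hom
  haveI : CompactSpace ↥W.toScheme := isCompact_iff_compactSpace.1 hWc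
  haveI : QuasiCompact f := inferInstance
  haveI : LocallyOfFiniteType f := inferInstance
  have hfib : ∀ s : S, (W : Set G.left) ∩ G.hom ⁻¹' {s} = Set.range (f.fiberι s ≫ W.ι) := by
    intro s
    have hr : Set.range (f.fiberι s) = f ⁻¹' {s} := f.range_fiberι s
    ext x
    constructor
    · rintro ⟨hxW, hxs⟩
      have : (⟨x, hxW⟩ : W.toScheme) ∈ Set.range (f.fiberι s) := by rw [hr]; exact hxs
      obtain ⟨t, ht⟩ := this
      refine ⟨t, ?_⟩
      rw [Scheme.Hom.comp_apply, ht]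
      rfl
    · rintro ⟨t, rfl⟩
      rw [Scheme.Hom.comp_apply]
      refine ⟨(f.fiberι s t).2, ?_⟩
      have : f.fiberι s t ∈ f ⁻¹' {s} := by rw [← hr]; exact ⟨t, rfl⟩
      exact this
  -- (B)
  obtain ⟨V, hVcl, hξV, hVopen, hVconst⟩ := Groth.Agent.S1336.result f ξ
  have hVo : IsOpen V := by
    subst hξ
    exact isOpen_of_isOpen_preimage_closure_genericPoint hVcl hVopen
  have h1 : MoreMor.nGeomIrredComp f ξ = 1 := (nGeomIrredComp_eq_one_iff f ξ).2 hgi
  have hB : ∀ s ∈ V, _root_.IsPreconnected ((W : Set G.left) ∩ G.hom ⁻¹' {s}) := by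
    intro s hs
    have hgs : GeometricallyIrreducible (f.fiberToSpecResidueField s) :=
      (nGeomIrredComp_eq_one_iff f s).1 (by rw [hVconst s hs, h1])
    haveI : Subsingleton ↥(Spec (S.residueField s)) :=
      inferInstanceAs (Subsingleton (PrimeSpectrum (S.residueField s)))
    haveI : IrreducibleSpace ↥(f.fiber s) :=
      GeometricallyIrreducible.irreducibleSpace_of_subsingleton
        (f := f.fiberToSpecResidueField s)
    rw [hfib s]
    exact isPreconnected_range (f.fiberι s ≫ W.ι).continuous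
  -- the unit section
  have hV₂o : IsOpen {s : S | η[G].left s ∈ W} := W.2.preimage η[G].left.continuous
  have hunit : ∀ s : S, G.hom (η[G].left s) = s := fun s => by
    rw [← Scheme.Hom.comp_apply, Over.w η[G]]; rfl
  have hξV₂ : η[G].left ξ ∈ W := by
    have : η[G].left ξ ∈ SGA3x.neutralSet G ∩ G.hom ⁻¹' {ξ} :=
      ⟨(isSubgroupSet_neutralSet G).one_mem ξ, hunit ξ⟩
    rw [← hWξ] at this
    exact this.1
  -- (D)
  let m : pullback f f ⟶ pullback G.hom G.hom :=
    pullback.map f f G.hom G.hom W.ι W.ι (𝟙 S) (by simp [f]) (by simp [f])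
  have hrange : Set.range m = (fst G G).left ⁻¹' (W : Set G.left) ∩
      (snd G G).left ⁻¹' (W : Set G.left) := by
    rw [Scheme.Pullback.range_map, Scheme.Opens.range_ι]
    rfl
  let pP : pullback f f ⟶ S := m ≫ (G ⊗ G).hom
  haveI : CompactSpace ↥(pullback f f) := inferInstance
  haveI : QuasiCompact pP := inferInstance
  haveI : LocallyOfFiniteType (G ⊗ G).hom := by
    show LocallyOfFiniteType (pullback.fst G.hom G.hom ≫ G.hom)
    infer_instance
  haveI : LocallyOfFiniteType pP := inferInstance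
  haveI : IsLocallyNoetherian (pullback f f) := LocallyOfFiniteType.isLocallyNoetherian pP
  haveI : IsNoetherian (pullback f f) := {}
  have hZc : IsClosed ((m ≫ μ[G].left) ⁻¹' (W : Set G.left)ᶜ) :=
    W.2.isClosed_compl.preimage (m ≫ μ[G].left).continuous
  have hE : Topology.IsConstructible (pP '' ((m ≫ μ[G].left) ⁻¹' (W : Set G.left)ᶜ)) :=
    pP.isConstructible_image (Groth.Agent.Lib.Helper35.noeth_isConstructible_of_isClosed hZc)
  have hpP : ∀ z', pP z' = (G ⊗ G).hom (m z') := fun z' => rfl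
  have hfstw : ∀ z : ↥(G ⊗ G).left, G.hom ((fst G G).left z) = (G ⊗ G).hom z := fun z => by
    rw [← Scheme.Hom.comp_apply, Over.w]
  have hsndw : ∀ z : ↥(G ⊗ G).left, G.hom ((snd G G).left z) = (G ⊗ G).hom z := fun z => by
    rw [← Scheme.Hom.comp_apply, Over.w]
  have hmulw : ∀ z : ↥(G ⊗ G).left, G.hom (μ[G].left z) = (G ⊗ G).hom z := fun z => by
    rw [← Scheme.Hom.comp_apply, Over.w]
  have hξE : ξ ∉ pP '' ((m ≫ μ[G].left) ⁻¹' (W : Set G.left)ᶜ) := by
    rintro ⟨z', hz', hz'ξ⟩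
    have hmz : m z' ∈ Set.range m := ⟨z', rfl⟩
    rw [hrange] at hmz
    rw [hpP] at hz'ξ
    have h1 : (fst G G).left (m z') ∈ SGA3x.neutralSet G := by
      have : (fst G G).left (m z') ∈ (W : Set G.left) ∩ G.hom ⁻¹' {ξ} :=
        ⟨hmz.1, by rw [Set.mem_preimage, hfstw, hz'ξ]; rfl⟩
      rw [hWξ] at this
      exact this.1
    have h2 : (snd G G).left (m z') ∈ SGA3x.neutralSet G := by
      have : (snd G G).left (m z') ∈ (W : Set G.left) ∩ G.hom ⁻¹' {ξ} :=
        ⟨hmz.2, by rw [Set.mem_preimage, hsndw, hz'ξ]; rfl⟩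
      rw [hWξ] at this
      exact this.1
    have h3 := (isSubgroupSet_neutralSet G).mul_mem _ h1 h2
    have h4 : μ[G].left (m z') ∈ (W : Set G.left) ∩ G.hom ⁻¹' {ξ} := by
      rw [hWξ]
      exact ⟨h3, by rw [Set.mem_preimage, hmulw, hz'ξ]; rfl⟩
    exact hz' h4.1
  obtain ⟨V₃, hV₃o, hV₃ne, hV₃E⟩ : ∃ V₃ : Set S, IsOpen V₃ ∧ V₃.Nonempty ∧
      V₃ ⊆ (pP '' ((m ≫ μ[G].left) ⁻¹' (W : Set G.left)ᶜ))ᶜ := by
    rcases Groth.Agent.Lib.Helper35.constr_dichotomy hE
      (IrreducibleSpace.isIrreducible_univ S) with ⟨U, hU, hne, hsub⟩ | ⟨U, hU, hne, hsub⟩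
    · exfalso
      rw [Set.inter_univ] at hne hsub
      have : ξ ∈ U := (hgen.mem_open_set_iff hU).2 (by rwa [Set.univ_inter])
      exact hξE (hsub this)
    · rw [Set.inter_univ] at hne hsub
      exact ⟨U, hU, hne, hsub⟩
  have hξV₃ : ξ ∈ V₃ := (hgen.mem_open_set_iff hV₃o).2 (by rwa [Set.univ_inter])
  -- the open subset of the base
  let U : S.Opens := ⟨V ∩ {s : S | η[G].left s ∈ W} ∩ V₃, (hVo.inter hV₂o).inter hV₃o⟩
  have hUmem : ∀ s : S, s ∈ U ↔ (s ∈ V ∧ η[G].left s ∈ W) ∧ s ∈ V₃ := fun s => Iff.rfl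
  have hkey : SGA3x.neutralSet G ∩ G.hom ⁻¹' (U : Set S) =
      (W : Set G.left) ∩ G.hom ⁻¹' (U : Set S) := by
    ext x
    constructor
    · rintro ⟨hxN, hxU⟩
      refine ⟨?_, hxU⟩
      obtain ⟨⟨hsV, hsW⟩, hsV₃⟩ := (hUmem _).1 hxU
      rw [mem_neutralSet_iff] at hxN
      obtain ⟨z, hz1, hz2, hz3⟩ :=
        Groth.Agent.Lib.Helper72.NeutralQC.exists_mul_of_mem_neutral G W (G.hom x) hsW x hxN
      have hz : z ∈ Set.range m := by rw [hrange]; exact ⟨hz1, hz2⟩
      obtain ⟨z', rfl⟩ := hz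
      by_contra hxW
      apply hV₃E hsV₃
      refine ⟨z', ?_, ?_⟩
      · show μ[G].left (m z') ∉ (W : Set G.left)
        rw [hz3]; exact hxW
      · rw [hpP, ← hmulw, hz3]
    · rintro ⟨hxW, hxU⟩
      refine ⟨?_, hxU⟩
      obtain ⟨⟨hsV, hsW⟩, hsV₃⟩ := (hUmem _).1 hxU
      rw [mem_neutralSet_iff]
      exact (hB _ hsV).subset_connectedComponentIn ⟨hsW, hunit _⟩ Set.inter_subset_right
        ⟨hxW, rfl⟩
  refine ⟨U, ⟨ξ, (hUmem ξ).2 ⟨⟨hξV, hξV₂⟩, hξV₃⟩⟩, ?_, ?_⟩
  · rw [hkey]
    exact W.2.inter (U.2.preimage G.hom.continuous)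
  · rw [hkey]
    haveI : IsLocallyNoetherian W.toScheme := LocallyOfFiniteType.isLocallyNoetherian f
    haveI : IsNoetherian W.toScheme := {}
    have h2 : (W : Set G.left) ∩ G.hom ⁻¹' (U : Set S) = W.ι '' (f ⁻¹' (U : Set S)) := by
      ext x
      constructor
      · rintro ⟨hxW, hxU⟩
        exact ⟨⟨x, hxW⟩, hxU, rfl⟩
      · rintro ⟨w, hw, rfl⟩
        exact ⟨w.2, hw⟩
    rw [h2]
    exact (TopologicalSpace.NoetherianSpace.isCompact _).image W.ι.continuous

end Core

section General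

variable {S : Scheme.{u}} (G : Over S) [GrpObj G]

/-- The set-level statement: the union of the neutral components is open and quasi-compact over
a nonempty open subset of the base. -/
def GoodOpen : Prop :=
  ∃ U : S.Opens, (U : Set S).Nonempty ∧
    IsOpen (SGA3x.neutralSet G ∩ G.hom ⁻¹' (U : Set S)) ∧
    IsCompact (SGA3x.neutralSet G ∩ G.hom ⁻¹' (U : Set S))

/-- Transfer from an open subscheme of the base. -/
theorem goodOpen_of_opens (U₁ : S.Opens) (h : GoodOpen (Red.bc U₁.ι G)) : GoodOpen G := by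
  obtain ⟨U', hne, hop, hco⟩ := h
  let q : (Red.bc U₁.ι G).left ⟶ G.left := pullback.fst G.hom U₁.ι
  have hq : ∀ x₁, G.hom (q x₁) = U₁.ι ((Red.bc U₁.ι G).hom x₁) := fun x₁ => by
    rw [← Scheme.Hom.comp_apply, ← Scheme.Hom.comp_apply]
    exact congrArg (fun φ : _ ⟶ S => φ x₁) (pullback.condition (f := G.hom) (g := U₁.ι))
  have hkey : SGA3x.neutralSet G ∩ G.hom ⁻¹' ((U₁.ι ''ᵁ U' : S.Opens) : Set S) =
      q '' (SGA3x.neutralSet (Red.bc U₁.ι G) ∩ (Red.bc U₁.ι G).hom ⁻¹' (U' : Set _)) := by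
    ext x
    constructor
    · rintro ⟨hxN, u', hu', hxu⟩
      obtain ⟨x₁, hx₁, hx₁'⟩ := Scheme.Pullback.exists_preimage_pullback (f := G.hom)
        (g := U₁.ι) x u' hxu.symm
      refine ⟨x₁, ⟨?_, ?_⟩, hx₁⟩
      · rw [neutralSet_bc]
        show q x₁ ∈ SGA3x.neutralSet G
        rw [hx₁]; exact hxN
      · have : (Red.bc U₁.ι G).hom x₁ = u' := hx₁'
        rw [Set.mem_preimage, this]; exact hu'
    · rintro ⟨x₁, ⟨hx₁N, hx₁U⟩, rfl⟩
      rw [neutralSet_bc] at hx₁N
      exact ⟨hx₁N, (Red.bc U₁.ι G).hom x₁, hx₁U, (hq x₁).symm⟩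
  refine ⟨U₁.ι ''ᵁ U', ?_, ?_, ?_⟩
  · obtain ⟨u', hu'⟩ := hne
    exact ⟨U₁.ι u', u', hu', rfl⟩
  · rw [hkey]
    exact q.isOpenEmbedding.isOpenMap _ hop
  · rw [hkey]
    exact hco.image q.continuous

/-- **FGA**: for a group scheme locally of finite type over a nonempty locally noetherian scheme,
the union of the neutral components is open and quasi-compact over a nonempty open of the base. -/
theorem goodOpen [IsLocallyNoetherian S] [Nonempty S] [LocallyOfFiniteType G.hom] :
    GoodOpen G := by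
  obtain ⟨x⟩ := ‹Nonempty S›
  obtain ⟨U₀, hU₀, hxU₀⟩ : ∃ U₀ : S.Opens, IsAffineOpen U₀ ∧ x ∈ U₀ := by
    obtain ⟨_, ⟨U₀, hU₀, rfl⟩, hxU₀, -⟩ :=
      S.isBasis_affineOpens.exists_subset_of_mem_open (Set.mem_univ x) isOpen_univ
    exact ⟨U₀, hU₀, hxU₀⟩
  apply goodOpen_of_opens G U₀
  haveI : IsNoetherianRing Γ(S, U₀) := IsLocallyNoetherian.component_noetherian ⟨U₀, hU₀⟩
  haveI : TopologicalSpace.NoetherianSpace ↥U₀ := noetherianSpace_of_isAffineOpen U₀ hU₀
  -- an irreducible open subset of `U₀`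
  obtain ⟨o, ho, hone, hoZ⟩ :=
    TopologicalSpace.NoetherianSpace.exists_isOpen_nonempty_subset_irreducibleComponent
      (irreducibleComponent (⟨x, hxU₀⟩ : ↥U₀)) (irreducibleComponent_mem_irreducibleComponents _)
  have hoirr : IsIrreducible o :=
    ⟨hone, (isIrreducible_irreducibleComponent (x := (⟨x, hxU₀⟩ : ↥U₀))).2.open_subset ho hoZ⟩
  let O' : (U₀ : Scheme.{u}).Opens := ⟨o, ho⟩
  apply goodOpen_of_opens (Red.bc U₀.ι G) O'
  haveI : IrreducibleSpace ↥(O' : Scheme.{u}) := Subtype.irreducibleSpace hoirr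
  haveI : CompactSpace ↥(O' : Scheme.{u}) :=
    isCompact_iff_compactSpace.1 (TopologicalSpace.NoetherianSpace.isCompact (o : Set ↥U₀))
  haveI : IsNoetherian (O' : Scheme.{u}) := {}
  haveI : LocallyOfFiniteType (Red.bc O'.ι (Red.bc U₀.ι G)).hom := by
    dsimp [Red.bc]; infer_instance
  exact core (Red.bc O'.ι (Red.bc U₀.ι G))

end General

section Final

variable {S : Scheme.{u}} (G : Over S) [GrpObj G]

/-- **FGA**: generically on the base, the union of the neutral components is an open subgroup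
scheme of finite type with connected fibres. -/
theorem exists_open_subgroup [IsLocallyNoetherian S] [Nonempty S] [LocallyOfFiniteType G.hom] :
    ∃ U : S.Opens, (U : Set ↥S).Nonempty ∧
      ∃ (H : Over (U : Scheme.{u})) (_ : GrpObj H) (i : H ⟶ Red.bc U.ι G), IsMonHom i ∧
        IsOpenImmersion i.left ∧ QuasiCompact H.hom ∧ LocallyOfFiniteType H.hom ∧
        (∀ u : ↥(U : Scheme.{u}), _root_.IsConnected (H.hom.base ⁻¹' {u})) ∧
        Set.range (i.left ≫ pullback.fst G.hom U.ι).base =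
          SGA3x.neutralSet G ∩ G.hom.base ⁻¹' (U : Set ↥S) := by
  obtain ⟨U, hne, hop, hco⟩ := goodOpen G
  refine ⟨U, hne, ?_⟩
  let GU : Over (U : Scheme.{u}) := Red.bc U.ι G
  let q : GU.left ⟶ G.left := pullback.fst G.hom U.ι
  have hqr : Set.range q = G.hom ⁻¹' (U : Set S) := by
    have := Scheme.Pullback.range_fst G.hom U.ι
    rw [Scheme.Opens.range_ι] at this
    exact this
  have hN : SGA3x.neutralSet GU = q ⁻¹' (SGA3x.neutralSet G ∩ G.hom ⁻¹' (U : Set S)) := by
    rw [neutralSet_bc]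
    ext x₁
    constructor
    · intro h
      exact ⟨h, by rw [← hqr]; exact ⟨x₁, rfl⟩⟩
    · exact fun h => h.1
  have hNo : IsOpen (SGA3x.neutralSet GU) := by rw [hN]; exact hop.preimage q.continuous
  have hNc : IsCompact (SGA3x.neutralSet GU) := by
    rw [hN, q.isOpenEmbedding.isEmbedding.isCompact_iff, Set.image_preimage_eq_inter_range, hqr,
      Set.inter_assoc, Set.inter_self]
    exact hco
  let W' : GU.left.Opens := ⟨SGA3x.neutralSet GU, hNo⟩
  obtain ⟨inst, hmon⟩ := exists_grpObj_of_isSubgroupSet GU W' (isSubgroupSet_neutralSet GU)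
  haveI : LocallyOfFiniteType GU.hom := by dsimp [GU, Red.bc]; infer_instance
  refine ⟨Hof GU W', inst, iof GU W', hmon, ?_, ?_, ?_, ?_, ?_⟩
  · show IsOpenImmersion W'.ι
    infer_instance
  · haveI : CompactSpace ↥W'.toScheme := isCompact_iff_compactSpace.1 hNc
    show QuasiCompact (W'.ι ≫ GU.hom)
    infer_instance
  · show LocallyOfFiniteType (W'.ι ≫ GU.hom)
    infer_instance
  · intro u
    have hu : GU.hom (η[GU].left u) = u := by
      rw [← Scheme.Hom.comp_apply, Over.w η[GU]]; rfl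
    have himg : W'.ι '' ((W'.ι ≫ GU.hom) ⁻¹' {u}) =
        connectedComponentIn (GU.hom ⁻¹' {u}) (η[GU].left u) := by
      ext x
      constructor
      · rintro ⟨w, hw, rfl⟩
        have hw' : GU.hom (W'.ι w) = u := by
          rw [← Scheme.Hom.comp_apply]; exact hw
        have h1 : W'.ι w ∈ SGA3x.neutralSet GU := w.2
        rw [mem_neutralSet_iff, hw'] at h1
        exact h1
      · intro hx
        have hx'' : x ∈ GU.hom ⁻¹' {u} := connectedComponentIn_subset _ _ hx
        have hx' : GU.hom x = u := hx''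
        have h1 : x ∈ SGA3x.neutralSet GU := by
          rw [mem_neutralSet_iff, hx']; exact hx
        refine ⟨⟨x, h1⟩, ?_, rfl⟩
        show (W'.ι ≫ GU.hom) ⟨x, h1⟩ = u
        rw [Scheme.Hom.comp_apply]
        exact hx'
    have hconn : _root_.IsConnected (connectedComponentIn (GU.hom ⁻¹' {u}) (η[GU].left u)) :=
      isConnected_connectedComponentIn_iff.2 hu
    rw [← himg] at hconn
    refine ⟨?_, ?_⟩
    · obtain ⟨_, ⟨w, hw, -⟩⟩ := hconn.nonempty
      exact ⟨w, hw⟩
    · exact (W'.ι.isOpenEmbedding.isEmbedding.isInducing.isPreconnected_image).1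
        hconn.isPreconnected
  · ext x
    constructor
    · rintro ⟨w, rfl⟩
      have h1 : W'.ι w ∈ SGA3x.neutralSet GU := w.2
      rw [hN] at h1
      exact h1
    · intro hx
      obtain ⟨x₁, rfl⟩ : x ∈ Set.range q := by rw [hqr]; exact hx.2
      have h1 : x₁ ∈ SGA3x.neutralSet GU := by rw [hN]; exact hx
      exact ⟨⟨x₁, h1⟩, rfl⟩

end Final

section LC

open Topology TopologicalSpace Set.Notation

variable {S : Scheme.{u}} [IsLocallyNoetherian S] (G : Over S) [GrpObj G]
  [LocallyOfFiniteType G.hom]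

/-- Over a locally noetherian base, the union of the neutral components of a group scheme locally
of finite type is locally constructible. -/
theorem isLocallyConstructible_neutralSet :
    IsLocallyConstructible (SGA3x.neutralSet G) := by
  haveI : IsLocallyNoetherian G.left := LocallyOfFiniteType.isLocallyNoetherian G.hom
  intro x
  obtain ⟨U₀, hU₀, hxU₀⟩ : ∃ U₀ : S.Opens, IsAffineOpen U₀ ∧ G.hom x ∈ U₀ := by
    obtain ⟨_, ⟨U₀, hU₀, rfl⟩, hxU₀, -⟩ :=
      S.isBasis_affineOpens.exists_subset_of_mem_open (Set.mem_univ (G.hom x)) isOpen_univ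
    exact ⟨U₀, hU₀, hxU₀⟩
  obtain ⟨A, hA, hxA, hAU⟩ : ∃ A : G.left.Opens, IsAffineOpen A ∧ x ∈ A ∧
      (A : Set G.left) ⊆ G.hom ⁻¹' (U₀ : Set S) := by
    obtain ⟨_, ⟨A, hA, rfl⟩, hxA, hAU⟩ :=
      G.left.isBasis_affineOpens.exists_subset_of_mem_open
        (show x ∈ G.hom ⁻¹' (U₀ : Set S) from hxU₀) (U₀.2.preimage G.hom.continuous)
    exact ⟨A, hA, hxA, hAU⟩
  refine ⟨A, A.2.mem_nhds hxA, A.2, ?_⟩
  haveI : IsNoetherianRing Γ(S, U₀) := IsLocallyNoetherian.component_noetherian ⟨U₀, hU₀⟩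
  haveI : NoetherianSpace ↥U₀ := noetherianSpace_of_isAffineOpen U₀ hU₀
  haveI : IsNoetherianRing Γ(G.left, A) := IsLocallyNoetherian.component_noetherian ⟨A, hA⟩
  haveI : NoetherianSpace ↥A := noetherianSpace_of_isAffineOpen A hA
  have key : ∀ Z : Set ↥U₀, IsClosed Z → IsConstructible ((A : Set G.left) ↓∩
      (SGA3x.neutralSet G ∩ G.hom ⁻¹' (Subtype.val '' Z))) := by
    apply Groth.Agent.Lib.Helper35.noeth_closed_induction
    · simp
    · intro Z₁ Z₂ _ _ h1 h2
      rw [Set.image_union, Set.preimage_union, Set.inter_union_distrib_left, Set.preimage_union]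
      exact h1.union h2
    · intro Z hZ hZirr IH
      let Zc : TopologicalSpace.Closeds ↥(U₀ : Scheme.{u}) := ⟨Z, hZ⟩
      let I := Scheme.IdealSheafData.vanishingIdeal Zc
      let ιZ : I.subscheme ⟶ S := I.subschemeι ≫ U₀.ι
      have hrI : Set.range I.subschemeι = Z := by
        rw [I.range_subschemeι]
        exact Scheme.IdealSheafData.coe_support_vanishingIdeal Zc
      have hrange : Set.range ιZ = Subtype.val '' Z := by
        ext s
        constructor
        · rintro ⟨t, rfl⟩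
          refine ⟨I.subschemeι t, ?_, rfl⟩
          rw [← hrI]; exact ⟨t, rfl⟩
        · rintro ⟨z, hz, rfl⟩
          rw [← hrI] at hz
          obtain ⟨t, rfl⟩ := hz
          exact ⟨t, rfl⟩
      haveI : Nonempty I.subscheme := by
        obtain ⟨z, hz⟩ := hZirr.nonempty
        rw [← hrI] at hz
        obtain ⟨t, _⟩ := hz
        exact ⟨t⟩
      haveI : LocallyOfFiniteType ιZ := inferInstance
      haveI : IsLocallyNoetherian I.subscheme := LocallyOfFiniteType.isLocallyNoetherian ιZ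
      let GZ : Over I.subscheme := Red.bc ιZ G
      haveI : LocallyOfFiniteType GZ.hom := by dsimp [GZ, Red.bc]; infer_instance
      obtain ⟨UZ, hUZne, hUZo, -⟩ := goodOpen GZ
      let qZ : GZ.left ⟶ G.left := pullback.fst G.hom ιZ
      haveI : IsPreimmersion ιZ := inferInstance
      haveI : IsPreimmersion qZ := MorphismProperty.pullback_fst _ _ inferInstance
      have hqZr : Set.range qZ = G.hom ⁻¹' (Subtype.val '' Z) := by
        rw [← hrange]; exact Scheme.Pullback.range_fst G.hom ιZ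
      have hqZhom : ∀ x₁, G.hom (qZ x₁) = ιZ (GZ.hom x₁) := fun x₁ => by
        rw [← Scheme.Hom.comp_apply, ← Scheme.Hom.comp_apply]
        exact congrArg (fun φ : _ ⟶ S => φ x₁) (pullback.condition (f := G.hom) (g := ιZ))
      obtain ⟨O, hO, hOU⟩ : ∃ O : Set S, IsOpen O ∧ ιZ ⁻¹' O = (UZ : Set I.subscheme) :=
        ιZ.isEmbedding.isInducing.isOpen_iff.1 UZ.2
      obtain ⟨O₂, hO₂, hO₂q⟩ := qZ.isEmbedding.isInducing.isOpen_iff.1 hUZo
      let Z' : Set ↥U₀ := Z \ (Subtype.val ⁻¹' O)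
      have hZ'c : IsClosed Z' := hZ.sdiff (hO.preimage continuous_subtype_val)
      have hZ'lt : Z' ⊂ Z := by
        apply Groth.Agent.Lib.Helper35.sdiff_open_ssubset
        obtain ⟨t, ht⟩ := hUZne
        have htO : ιZ t ∈ O := by
          have : t ∈ ιZ ⁻¹' O := by rw [hOU]; exact ht
          exact this
        refine ⟨I.subschemeι t, htO, ?_⟩
        rw [← hrI]; exact ⟨t, rfl⟩
      have hIH := IH Z' hZ'c hZ'lt
      have hdec : SGA3x.neutralSet G ∩ G.hom ⁻¹' (Subtype.val '' Z) =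
          (O₂ ∩ G.hom ⁻¹' (Subtype.val '' Z)) ∪
            (SGA3x.neutralSet G ∩ G.hom ⁻¹' (Subtype.val '' Z')) := by
        ext y
        constructor
        · rintro ⟨hyN, hyZ⟩
          by_cases hyO : G.hom y ∈ O
          · left
            refine ⟨?_, hyZ⟩
            obtain ⟨y₁, rfl⟩ : y ∈ Set.range qZ := by rw [hqZr]; exact hyZ
            have h1 : y₁ ∈ SGA3x.neutralSet GZ := by rw [neutralSet_bc]; exact hyN
            have h2 : GZ.hom y₁ ∈ (UZ : Set I.subscheme) := by
              rw [← hOU, Set.mem_preimage, ← hqZhom]; exact hyO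
            have h3 : y₁ ∈ qZ ⁻¹' O₂ := by rw [hO₂q]; exact ⟨h1, h2⟩
            exact h3
          · right
            refine ⟨hyN, ?_⟩
            obtain ⟨z, hz, hzy⟩ := hyZ
            exact ⟨z, ⟨hz, fun hzO => hyO (by rw [← hzy]; exact hzO)⟩, hzy⟩
        · rintro (⟨hyO₂, hyZ⟩ | ⟨hyN, z, hz, hzy⟩)
          · refine ⟨?_, hyZ⟩
            obtain ⟨y₁, rfl⟩ : y ∈ Set.range qZ := by rw [hqZr]; exact hyZ
            have h3 : y₁ ∈ qZ ⁻¹' O₂ := hyO₂
            rw [hO₂q] at h3
            have h1 := h3.1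
            rw [neutralSet_bc] at h1
            exact h1
          · exact ⟨hyN, z, hz.1, hzy⟩
      rw [hdec, Set.preimage_union]
      refine IsConstructible.union ?_ hIH
      rw [Set.preimage_inter]
      refine IsConstructible.inter ?_ ?_
      · exact Groth.Agent.Lib.Helper35.noeth_isConstructible_of_isOpen
          (hO₂.preimage continuous_subtype_val)
      · apply Groth.Agent.Lib.Helper35.noeth_isConstructible_of_isClosed
        obtain ⟨C, hC, hCZ⟩ := isClosed_induced_iff.1 hZ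
        have : ((A : Set G.left) ↓∩ (G.hom ⁻¹' (Subtype.val '' Z))) =
            ((A : Set G.left) ↓∩ (G.hom ⁻¹' C)) := by
          ext a
          constructor
          · rintro ⟨z, hz, hza⟩
            rw [← hCZ] at hz
            show G.hom a.1 ∈ C
            rw [← hza]; exact hz
          · intro ha
            refine ⟨⟨G.hom a.1, hAU a.2⟩, ?_, rfl⟩
            rw [← hCZ]; exact ha
        rw [this]
        exact (hC.preimage G.hom.continuous).preimage continuous_subtype_val
  have := key Set.univ isClosed_univ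
  convert this using 1
  ext a
  constructor
  · intro ha
    exact ⟨ha, ⟨G.hom a.1, hAU a.2⟩, Set.mem_univ _, rfl⟩
  · intro ha
    exact ha.1

end LC

section Preimage

open Topology TopologicalSpace Set.Notation

/-- Preimages of locally constructible sets under morphisms of schemes are locally
constructible. -/
theorem isLocallyConstructible_preimage {X Y : Scheme.{u}} (g : X ⟶ Y) {s : Set Y}
    (hs : IsLocallyConstructible s) : IsLocallyConstructible (g ⁻¹' s) := by
  intro x
  obtain ⟨V, hVx, hV, hVs⟩ := hs (g x)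
  let V' : Y.Opens := ⟨V, hV⟩
  have hgx : g x ∈ V := mem_of_mem_nhds hVx
  have hxV : x ∈ g ⁻¹ᵁ V' := hgx
  refine ⟨(g ⁻¹ᵁ V' : X.Opens), (g ⁻¹ᵁ V').2.mem_nhds hxV, (g ⁻¹ᵁ V').2, ?_⟩
  have h1 := (g ∣_ V').isConstructible_preimage hVs
  have h2 : (((g ⁻¹ᵁ V' : X.Opens) : Set X) ↓∩ (g ⁻¹' s)) =
      (g ∣_ V') ⁻¹' ((V' : Set Y) ↓∩ s) := by
    ext a
    show g a.1 ∈ s ↔ ((g ∣_ V') a).1 ∈ s
    rw [morphismRestrict_base_coe]
  rw [h2]
  exact h1

lemma isLocallyConstructible_compl' {Y : Type*} [TopologicalSpace Y] {s : Set Y}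
    (hs : IsLocallyConstructible s) : IsLocallyConstructible sᶜ := by
  intro x
  obtain ⟨U, hxU, hU, hsU⟩ := hs x
  exact ⟨U, hxU, hU, by rw [Set.preimage_compl]; exact hsU.compl⟩

end Preimage

section Torsion

open Topology

variable {S : Scheme.{u}} [IsLocallyNoetherian S] (G : Over S) [GrpObj G] [IsCommMonObj G]
  [LocallyOfFiniteType G.hom]

/-- The order function on the torsion component set is locally constructible. -/
theorem isLocallyConstructible_order (n : ℕ) :
    IsLocallyConstructible {x : ↥G.left |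
      ((𝟙 G : G ⟶ G) ^ n).left.base x ∈ SGA3x.neutralSet G ∧
      ∀ d : ℕ, 0 < d → d < n → ((𝟙 G : G ⟶ G) ^ d).left.base x ∉ SGA3x.neutralSet G} := by
  have hN := isLocallyConstructible_neutralSet G
  have hpre : ∀ d : ℕ, IsLocallyConstructible
      (((𝟙 G : G ⟶ G) ^ d).left ⁻¹' SGA3x.neutralSet G) :=
    fun d => isLocallyConstructible_preimage _ hN
  have hset : {x : ↥G.left |
      ((𝟙 G : G ⟶ G) ^ n).left.base x ∈ SGA3x.neutralSet G ∧
      ∀ d : ℕ, 0 < d → d < n → ((𝟙 G : G ⟶ G) ^ d).left.base x ∉ SGA3x.neutralSet G} =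
      (((𝟙 G : G ⟶ G) ^ n).left ⁻¹' SGA3x.neutralSet G) ∩
        ⋂ d : Fin n, (if 0 < d.1 then
          (((𝟙 G : G ⟶ G) ^ d.1).left ⁻¹' SGA3x.neutralSet G)ᶜ else Set.univ) := by
    ext x
    simp only [Set.mem_ofPred_eq, Set.mem_inter_iff, Set.mem_preimage, Set.mem_iInter]
    constructor
    · rintro ⟨h1, h2⟩
      refine ⟨h1, fun d => ?_⟩
      split_ifs with hd
      · exact h2 d.1 hd d.2
      · exact Set.mem_univ _
    · rintro ⟨h1, h2⟩
      refine ⟨h1, fun d hd hdn => ?_⟩
      have := h2 ⟨d, hdn⟩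
      rw [if_pos hd] at this
      exact this
  rw [hset]
  refine (hpre n).inter (IsLocallyConstructible.iInter fun d => ?_)
  split_ifs
  · exact isLocallyConstructible_compl' (hpre d.1)
  · exact IsLocallyConstructible.univ

end Torsion

end Groth.Agent.Lib.Helper72.NeutralOpen
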