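import Groth.Agent.Lib.Helper72.ActRestrict
import Groth.Agent.Lib.Helper72.AlgClosedLift
import Groth.Agent.Lib.Helper72.ConstrJacobson
import Groth.Agent.Lib.Helper72.FibDim
import Groth.Agent.Lib.Helper19.Grp.OrbitHomogeneity
import Groth.Agent.Lib.Helper35.ConstrTop

/-!
# The open orbit of an almost homogeneous variety

Orbit relation on the points of a `G`-scheme, saturation of open subsets, restriction of the
action to stable opens, and the transitivity of the group of geometric points on the saturation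
of the first projection of an open subset of the image of the graph morphism.
-/

set_option autoImplicit false

universe u

namespace Groth.Agent.Lib.Helper72.OpenOrbit

open AlgebraicGeometry CategoryTheory CategoryTheory.Limits MonoidalCategory
  CartesianMonoidalCategory MonObj GrpObj

lemma left_app {S : Scheme.{u}} {A B C : Over S} {α : A ⟶ B} {β : B ⟶ C} {c' : A ⟶ C}
    (h : α ≫ β = c') (z : A.left) : β.left (α.left z) = c'.left z := by
  rw [← h]; rfl

section Orb

variable {S : Scheme.{u}} {G X : Over S} [GrpObj G] (a : AlgGrp.Action G X)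

/-- `y` lies in the orbit of `x`. -/
def OrbG (x y : X.left) : Prop :=
  ∃ z : ↥(G ⊗ X).left, (snd G X).left z = x ∧ a.act.left z = y

theorem OrbG.refl (x : X.left) : OrbG a x x := by
  refine ⟨(lift (1 : X ⟶ G) (𝟙 X)).left x, ?_, ?_⟩
  · rw [left_app (lift_snd (1 : X ⟶ G) (𝟙 X)) x]; rfl
  · rw [left_app (a.lift_one_act (𝟙 X)) x]; rfl

theorem OrbG.symm {x y : X.left} (h : OrbG a x y) : OrbG a y x := by
  obtain ⟨z, hz2, hz3⟩ := h
  let σ : G ⊗ X ⟶ G ⊗ X := lift ((fst G X)⁻¹) a.act
  have hσ : σ ≫ a.act = snd G X := by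
    calc lift ((fst G X)⁻¹) a.act ≫ a.act
        = lift ((fst G X)⁻¹) (lift (fst G X) (snd G X) ≫ a.act) ≫ a.act := by
          rw [lift_fst_snd, Category.id_comp]
      _ = lift ((fst G X)⁻¹ * fst G X) (snd G X) ≫ a.act := (a.lift_mul_act _ _ _).symm
      _ = snd G X := by rw [inv_mul_cancel, a.lift_one_act]
  refine ⟨σ.left z, ?_, ?_⟩
  · rw [left_app (lift_snd ((fst G X)⁻¹) a.act) z, hz3]
  · rw [left_app hσ z, hz2]

theorem OrbG.trans {x y w : X.left} (h₁ : OrbG a x y) (h₂ : OrbG a y w) : OrbG a x w := by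
  obtain ⟨z₁, hz12, hz13⟩ := h₁
  obtain ⟨z₂, hz22, hz23⟩ := h₂
  obtain ⟨p, hp2, hp1⟩ := Scheme.Pullback.exists_preimage_pullback
    (f := (snd G X).left) (g := a.act.left) z₂ z₁ (by rw [hz22, hz13])
  let P : Over S :=
    Over.mk (pullback.fst (snd G X).left a.act.left ≫ (G ⊗ X).hom)
  let π₂ : P ⟶ G ⊗ X := Over.homMk (pullback.fst (snd G X).left a.act.left) rfl
  let π₁ : P ⟶ G ⊗ X := Over.homMk (pullback.snd (snd G X).left a.act.left) (by
    show pullback.snd (snd G X).left a.act.left ≫ (G ⊗ X).hom =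
      pullback.fst (snd G X).left a.act.left ≫ (G ⊗ X).hom
    calc pullback.snd (snd G X).left a.act.left ≫ (G ⊗ X).hom
        = pullback.snd (snd G X).left a.act.left ≫ a.act.left ≫ X.hom := by rw [Over.w a.act]
      _ = pullback.fst (snd G X).left a.act.left ≫ (snd G X).left ≫ X.hom := by
          rw [← pullback.condition_assoc]
      _ = pullback.fst (snd G X).left a.act.left ≫ (G ⊗ X).hom := by rw [Over.w (snd G X)])
  have hπ : π₂ ≫ snd G X = π₁ ≫ a.act := Over.OverMorphism.ext pullback.condition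
  let ν : P ⟶ G ⊗ X := lift ((π₂ ≫ fst G X) * (π₁ ≫ fst G X)) (π₁ ≫ snd G X)
  have hν : ν ≫ a.act = π₂ ≫ a.act := by
    show lift ((π₂ ≫ fst G X) * (π₁ ≫ fst G X)) (π₁ ≫ snd G X) ≫ a.act = _
    rw [a.lift_mul_act]
    have h1 : lift (π₁ ≫ fst G X) (π₁ ≫ snd G X) = π₁ := by
      rw [← comp_lift, lift_fst_snd, Category.comp_id]
    rw [h1, ← hπ, ← comp_lift_assoc, lift_fst_snd, Category.id_comp]
  have hν2 : ν ≫ snd G X = π₁ ≫ snd G X := lift_snd _ _
  refine ⟨ν.left p, ?_, ?_⟩
  · rw [left_app hν2 (p : P.left)]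
    show (snd G X).left (π₁.left p) = x
    rw [show π₁.left p = z₁ from hp1, hz12]
  · rw [left_app hν (p : P.left)]
    show a.act.left (π₂.left p) = w
    rw [show π₂.left p = z₂ from hp2, hz23]

/-- Saturation of a subset under the action. -/
def sat (W : Set X.left) : Set X.left := a.act.left '' ((snd G X).left ⁻¹' W)

lemma mem_sat {W : Set X.left} {y : X.left} : y ∈ sat a W ↔ ∃ w ∈ W, OrbG a w y := by
  constructor
  · rintro ⟨z, hz, rfl⟩
    exact ⟨_, hz, z, rfl, rfl⟩
  · rintro ⟨w, hw, z, hz1, hz2⟩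
    exact ⟨z, by rw [Set.mem_preimage, hz1]; exact hw, hz2⟩

lemma subset_sat (W : Set X.left) : W ⊆ sat a W := fun w hw =>
  (mem_sat a).2 ⟨w, hw, OrbG.refl a w⟩

lemma act_mem_sat {W : Set X.left} (z : ↥(G ⊗ X).left) (hz : (snd G X).left z ∈ sat a W) :
    a.act.left z ∈ sat a W := by
  obtain ⟨w, hw, hwo⟩ := (mem_sat a).1 hz
  exact (mem_sat a).2 ⟨w, hw, hwo.trans a ⟨z, rfl, rfl⟩⟩

lemma isOpenMap_act [UniversallyOpen G.hom] : IsOpenMap a.act.left := by
  have e : a.act.left = (Groth.Agent.Lib.Helper19.actShear a).hom.left ≫ (snd G X).left := by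
    rw [← Over.comp_left, Groth.Agent.Lib.Helper19.actShear_hom_snd]
  haveI : IsIso (Groth.Agent.Lib.Helper19.actShear a).hom.left :=
    inferInstanceAs (IsIso ((Over.forget _).map (Groth.Agent.Lib.Helper19.actShear a).hom))
  haveI : UniversallyOpen (snd G X).left := by
    rw [Over.snd_left]; infer_instance
  rw [e]
  exact Scheme.Hom.isOpenMap _

lemma isOpen_sat [UniversallyOpen G.hom] {W : Set X.left} (hW : IsOpen W) : IsOpen (sat a W) :=
  isOpenMap_act a _ (hW.preimage (snd G X).left.continuous)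

/-- Restriction of the action to a stable open subscheme. -/
theorem exists_restrict (U : X.left.Opens)
    (hU : ∀ z : ↥(G ⊗ X).left, (snd G X).left z ∈ U → a.act.left z ∈ U) :
    ∃ b : AlgGrp.Action G (Over.mk (U.ι ≫ X.hom)),
      (G ◁ (Over.homMk U.ι rfl : Over.mk (U.ι ≫ X.hom) ⟶ X)) ≫ a.act =
        b.act ≫ Over.homMk U.ι rfl := by
  let U' : Over S := Over.mk (U.ι ≫ X.hom)
  let j : U' ⟶ X := Over.homMk U.ι rfl
  let m : G ⊗ U' ⟶ X := (G ◁ j) ≫ a.act
  have hrange : Set.range m.left ⊆ Set.range U.ι := by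
    rintro _ ⟨q, rfl⟩
    rw [Scheme.Opens.range_ι]
    show a.act.left ((G ◁ j).left q) ∈ U
    apply hU
    rw [left_app (whiskerLeft_snd G j) q]
    show U.ι ((snd G U').left q) ∈ U
    exact ((snd G U').left q).2
  let l : (G ⊗ U').left ⟶ U.toScheme := IsOpenImmersion.lift U.ι m.left hrange
  have hl : l ≫ U.ι = m.left := IsOpenImmersion.lift_fac _ _ _
  let bact : G ⊗ U' ⟶ U' := Over.homMk l (by
    show l ≫ U.ι ≫ X.hom = (G ⊗ U').hom
    rw [← Category.assoc, hl]
    exact Over.w m)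
  have hb : bact ≫ j = (G ◁ j) ≫ a.act := Over.OverMorphism.ext hl
  haveI : Mono j := by
    haveI : Mono ((Over.forget S).map j) := by
      show Mono U.ι
      infer_instance
    exact (Over.forget S).mono_of_mono_map inferInstance
  exact ⟨Groth.Agent.Lib.Helper72.ActRestrict.restrictMono a j bact hb, hb.symm⟩

end Orb

section KPoints

variable {k K : Type u} [Field k] [Field K] [Algebra k K] [IsAlgClosed K]

/-- The base object of `K`-points. -/
noncomputable abbrev TK (k K : Type u) [Field k] [Field K] [Algebra k K] : Over (Spec (CommRingCat.of k)) :=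
  Over.mk (Spec.map (CommRingCat.ofHom (algebraMap k K)))

/-- Lifting a geometric point through a morphism locally of finite type, into a prescribed open
subset of the source. -/
theorem exists_lift_mem {P Y : Over (Spec (CommRingCat.of k))} (f : P ⟶ Y)
    [LocallyOfFiniteType f.left] (O : P.left.Opens) (y : TK k K ⟶ Y)
    (hy : y.left (IsLocalRing.closedPoint K) ∈ f.left '' (O : Set P.left)) :
    ∃ q : TK k K ⟶ P, q ≫ f = y ∧ q.left (IsLocalRing.closedPoint K) ∈ O := by
  let fO : O.toScheme ⟶ Y.left := O.ι ≫ f.left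
  haveI : LocallyOfFiniteType fO := inferInstance
  haveI : Nonempty ↥(pullback fO y.left) := by
    obtain ⟨p, hp, hpy⟩ := hy
    obtain ⟨r, -, -⟩ := Scheme.Pullback.exists_preimage_pullback (f := fO) (g := y.left)
      (⟨p, hp⟩ : O.toScheme) (IsLocalRing.closedPoint K) (by
        show f.left (O.ι ⟨p, hp⟩) = _
        exact hpy)
    exact ⟨r⟩
  obtain ⟨s, hs⟩ := Groth.Agent.Lib.Helper72.AlgClosedLift.exists_section (pullback.snd fO y.left)
  let q₀ : Spec (CommRingCat.of K) ⟶ P.left := s ≫ pullback.fst fO y.left ≫ O.ι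
  have hq₀ : q₀ ≫ f.left = y.left := by
    show (s ≫ pullback.fst fO y.left ≫ O.ι) ≫ f.left = y.left
    have : pullback.fst fO y.left ≫ O.ι ≫ f.left = pullback.snd fO y.left ≫ y.left :=
      pullback.condition
    rw [Category.assoc, Category.assoc, this, ← Category.assoc, hs, Category.id_comp]
  have hw : q₀ ≫ P.hom = (TK k K).hom := by
    rw [← Over.w f, ← Category.assoc, hq₀, Over.w y]
  refine ⟨Over.homMk q₀ hw, Over.OverMorphism.ext hq₀, ?_⟩
  show O.ι ((s ≫ pullback.fst fO y.left) (IsLocalRing.closedPoint K)) ∈ O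
  exact ((s ≫ pullback.fst fO y.left) (IsLocalRing.closedPoint K)).2

end KPoints

section Transitive

variable {k K : Type u} [Field k] [Field K] [Algebra k K] [IsAlgClosed K]
  {G X : Over (Spec (CommRingCat.of k))} [GrpObj G] (a : AlgGrp.Action G X)

/-- The graph morphism `(g, x) ↦ (x, g • x)`. -/
noncomputable abbrev graph : G ⊗ X ⟶ X ⊗ X := lift (snd G X) a.act

/-- The action on `T`-points. -/
noncomputable abbrev smul {T : Over (Spec (CommRingCat.of k))} (g : T ⟶ G) (x : T ⟶ X) : T ⟶ X :=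
  lift g x ≫ a.act

lemma smul_mul {T : Over (Spec (CommRingCat.of k))} (g h : T ⟶ G) (x : T ⟶ X) :
    smul a (g * h) x = smul a g (smul a h x) := a.lift_mul_act g h x

lemma one_smul {T : Over (Spec (CommRingCat.of k))} (x : T ⟶ X) : smul a 1 x = x :=
  a.lift_one_act x

lemma inv_smul_smul {T : Over (Spec (CommRingCat.of k))} (g : T ⟶ G) (x : T ⟶ X) :
    smul a g⁻¹ (smul a g x) = x := by
  rw [← smul_mul, inv_mul_cancel, one_smul]

lemma lft_tensor {A B : Over (Spec (CommRingCat.of k))} [LocallyOfFiniteType A.hom]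
    [LocallyOfFiniteType B.hom] : LocallyOfFiniteType (A ⊗ B).hom := by
  rw [Over.tensorObj_hom]; infer_instance

lemma lft_hom {A B : Over (Spec (CommRingCat.of k))} [LocallyOfFiniteType A.hom]
    (f : A ⟶ B) : LocallyOfFiniteType f.left := by
  haveI : LocallyOfFiniteType (f.left ≫ B.hom) := by rw [Over.w]; infer_instance
  exact locallyOfFiniteType_of_comp f.left B.hom

/-- A `K`-point of `X × X` in the image of the graph morphism is of the form `(x, g • x)`. -/
lemma exists_smul_eq_of_mem_range [LocallyOfFiniteType G.hom] [LocallyOfFiniteType X.hom]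
    (v : TK k K ⟶ X ⊗ X)
    (hv : v.left (IsLocalRing.closedPoint K) ∈ Set.range (graph a).left) :
    ∃ g : TK k K ⟶ G, smul a g (v ≫ fst X X) = v ≫ snd X X := by
  haveI : LocallyOfFiniteType (G ⊗ X).hom := lft_tensor
  haveI : LocallyOfFiniteType (graph a).left := lft_hom _
  obtain ⟨q, hq, -⟩ := exists_lift_mem (K := K) (graph a) ⊤ v (by
    obtain ⟨p, hp⟩ := hv
    exact ⟨p, trivial, hp⟩)
  have h1 : q ≫ snd G X = v ≫ fst X X := by
    rw [← hq, Category.assoc, lift_fst]
  have h2 : q ≫ a.act = v ≫ snd X X := by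
    rw [← hq, Category.assoc, lift_snd]
  refine ⟨q ≫ fst G X, ?_⟩
  show lift (q ≫ fst G X) (v ≫ fst X X) ≫ a.act = v ≫ snd X X
  rw [← h1, ← comp_lift, lift_fst_snd, Category.comp_id, h2]

/-- Two nonempty "vertical slices" of an open subset of `X × X` over `K`-points of a
geometrically irreducible `X` have a common `K`-point. -/
lemma exists_common [GeometricallyIrreducible X.hom] [LocallyOfFiniteType X.hom]
    (V : (X ⊗ X).left.Opens) (w₁ w₂ y₁ y₂ : TK k K ⟶ X)
    (h₁ : (lift w₁ y₁).left (IsLocalRing.closedPoint K) ∈ V)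
    (h₂ : (lift w₂ y₂).left (IsLocalRing.closedPoint K) ∈ V) :
    ∃ y₀ : TK k K ⟶ X, (lift w₁ y₀).left (IsLocalRing.closedPoint K) ∈ V ∧
      (lift w₂ y₀).left (IsLocalRing.closedPoint K) ∈ V := by
  let φ₁ : TK k K ⊗ X ⟶ X ⊗ X := lift (fst (TK k K) X ≫ w₁) (snd (TK k K) X)
  let φ₂ : TK k K ⊗ X ⟶ X ⊗ X := lift (fst (TK k K) X ≫ w₂) (snd (TK k K) X)
  have hφ : ∀ (w y : TK k K ⟶ X),
      lift (𝟙 (TK k K)) y ≫ lift (fst (TK k K) X ≫ w) (snd (TK k K) X) = lift w y := by
    intro w y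
    rw [comp_lift, lift_fst_assoc, lift_snd, Category.id_comp]
  haveI : Subsingleton ↥(Spec (CommRingCat.of k)) :=
    inferInstanceAs (Subsingleton (PrimeSpectrum k))
  haveI : UniversallyOpen X.hom := inferInstance
  haveI : IrreducibleSpace ↥(TK k K).left :=
    inferInstanceAs (IrreducibleSpace ↥(Spec (CommRingCat.of K)))
  haveI : IrreducibleSpace ↥(TK k K ⊗ X).left := by
    show IrreducibleSpace ↥(pullback (TK k K).hom X.hom)
    infer_instance
  let O₁ : (TK k K ⊗ X).left.Opens := φ₁.left ⁻¹ᵁ V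
  let O₂ : (TK k K ⊗ X).left.Opens := φ₂.left ⁻¹ᵁ V
  have hne₁ : (O₁ : Set ↥(TK k K ⊗ X).left).Nonempty := by
    refine ⟨(lift (𝟙 (TK k K)) y₁).left (IsLocalRing.closedPoint K), ?_⟩
    show φ₁.left ((lift (𝟙 (TK k K)) y₁).left (IsLocalRing.closedPoint K)) ∈ V
    rw [left_app (hφ w₁ y₁)]
    exact h₁
  have hne₂ : (O₂ : Set ↥(TK k K ⊗ X).left).Nonempty := by
    refine ⟨(lift (𝟙 (TK k K)) y₂).left (IsLocalRing.closedPoint K), ?_⟩
    show φ₂.left ((lift (𝟙 (TK k K)) y₂).left (IsLocalRing.closedPoint K)) ∈ V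
    rw [left_app (hφ w₂ y₂)]
    exact h₂
  let O : (TK k K ⊗ X).left.Opens := O₁ ⊓ O₂
  obtain ⟨p, hp⟩ : ((O₁ : Set ↥(TK k K ⊗ X).left) ∩ O₂).Nonempty :=
    nonempty_preirreducible_inter O₁.2 O₂.2 hne₁ hne₂
  haveI : Nonempty ↥O.toScheme := ⟨⟨p, hp⟩⟩
  let gO : O.toScheme ⟶ Spec (CommRingCat.of K) := O.ι ≫ (fst (TK k K) X).left
  haveI : LocallyOfFiniteType (fst (TK k K) X).left := by
    rw [Over.fst_left]; infer_instance
  haveI : LocallyOfFiniteType gO := inferInstance
  obtain ⟨s, hs⟩ := Groth.Agent.Lib.Helper72.AlgClosedLift.exists_section gO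
  let r₀ : Spec (CommRingCat.of K) ⟶ (TK k K ⊗ X).left := s ≫ O.ι
  have hr₀ : r₀ ≫ (fst (TK k K) X).left = 𝟙 _ := by
    show (s ≫ O.ι) ≫ (fst (TK k K) X).left = 𝟙 _
    rw [Category.assoc]; exact hs
  let r : TK k K ⟶ TK k K ⊗ X := Over.homMk r₀ (by
    rw [← Over.w (fst (TK k K) X), ← Category.assoc, hr₀]
    exact Category.id_comp _)
  have hr : r ≫ fst (TK k K) X = 𝟙 _ := Over.OverMorphism.ext hr₀
  refine ⟨r ≫ snd (TK k K) X, ?_, ?_⟩
  · have e : r ≫ φ₁ = lift w₁ (r ≫ snd (TK k K) X) := by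
      show r ≫ lift (fst (TK k K) X ≫ w₁) (snd (TK k K) X) = _
      rw [comp_lift, ← Category.assoc, hr, Category.id_comp]
    rw [← left_app e]
    show φ₁.left (O.ι (s (IsLocalRing.closedPoint K))) ∈ V
    exact (s (IsLocalRing.closedPoint K)).2.1
  · have e : r ≫ φ₂ = lift w₂ (r ≫ snd (TK k K) X) := by
      show r ≫ lift (fst (TK k K) X ≫ w₂) (snd (TK k K) X) = _
      rw [comp_lift, ← Category.assoc, hr, Category.id_comp]
    rw [← left_app e]
    show φ₂.left (O.ι (s (IsLocalRing.closedPoint K))) ∈ V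
    exact (s (IsLocalRing.closedPoint K)).2.2

/-- **Transitivity on the saturation.**  If `V` is an open subset of `X × X` contained in the
image of the graph morphism, then the group of `K`-points of `G` acts transitively on the
`K`-points of the saturation of the first projection of `V`. -/
theorem exists_smul_eq [GeometricallyIrreducible X.hom] [LocallyOfFiniteType X.hom]
    [LocallyOfFiniteType G.hom] (V : (X ⊗ X).left.Opens)
    (hV : (V : Set ↥(X ⊗ X).left) ⊆ Set.range (graph a).left) (x y : TK k K ⟶ X)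
    (hx : x.left (IsLocalRing.closedPoint K) ∈ sat a ((fst X X).left '' (V : Set ↥(X ⊗ X).left)))
    (hy : y.left (IsLocalRing.closedPoint K) ∈ sat a ((fst X X).left '' (V : Set ↥(X ⊗ X).left))) :
    ∃ g : TK k K ⟶ G, smul a g x = y := by
  haveI : LocallyOfFiniteType (G ⊗ X).hom := lft_tensor
  haveI : LocallyOfFiniteType (X ⊗ X).hom := lft_tensor
  haveI : LocallyOfFiniteType a.act.left := lft_hom _
  haveI : LocallyOfFiniteType (fst X X).left := lft_hom _
  haveI : UniversallyOpen (fst X X).left := by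
    rw [Over.fst_left]; infer_instance
  let W : X.left.Opens := ⟨(fst X X).left '' (V : Set ↥(X ⊗ X).left),
    Scheme.Hom.isOpenMap _ _ V.2⟩
  let O : (G ⊗ X).left.Opens := (snd G X).left ⁻¹ᵁ W
  -- decompose a point of the saturation
  have key : ∀ x : TK k K ⟶ X, x.left (IsLocalRing.closedPoint K) ∈
      sat a ((fst X X).left '' (V : Set ↥(X ⊗ X).left)) →
      ∃ (g : TK k K ⟶ G) (w y' : TK k K ⟶ X), smul a g w = x ∧
        (lift w y').left (IsLocalRing.closedPoint K) ∈ V := by
    intro x hx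
    obtain ⟨q, hq, hqO⟩ := exists_lift_mem (K := K) a.act O x hx
    have hw : (q ≫ snd G X).left (IsLocalRing.closedPoint K) ∈
        (fst X X).left '' (V : Set ↥(X ⊗ X).left) := hqO
    obtain ⟨v, hv, hvV⟩ := exists_lift_mem (K := K) (fst X X) V (q ≫ snd G X) hw
    refine ⟨q ≫ fst G X, q ≫ snd G X, v ≫ snd X X, ?_, ?_⟩
    · show lift (q ≫ fst G X) (q ≫ snd G X) ≫ a.act = x
      rw [← comp_lift, lift_fst_snd, Category.comp_id, hq]
    · rw [← hv, ← comp_lift, lift_fst_snd, Category.comp_id]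
      exact hvV
  obtain ⟨g₁, w₁, y₁, hg₁, hv₁⟩ := key x hx
  obtain ⟨g₂, w₂, y₂, hg₂, hv₂⟩ := key y hy
  obtain ⟨y₀, hy₁, hy₂⟩ := exists_common V w₁ w₂ y₁ y₂ hv₁ hv₂
  obtain ⟨h₁, hh₁⟩ := exists_smul_eq_of_mem_range a (lift w₁ y₀) (hV hy₁)
  obtain ⟨h₂, hh₂⟩ := exists_smul_eq_of_mem_range a (lift w₂ y₀) (hV hy₂)
  rw [lift_fst, lift_snd] at hh₁ hh₂
  refine ⟨g₂ * h₂⁻¹ * h₁ * g₁⁻¹, ?_⟩
  rw [smul_mul, smul_mul, smul_mul, ← hg₁, inv_smul_smul, hh₁, ← hh₂, inv_smul_smul, hg₂]

end Transitive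

section Main

variable {k : Type u} [Field k]
  {G X : Over (Spec (CommRingCat.of k))} [GrpObj G] (a : AlgGrp.Action G X)

/-- Points of a stable open subscheme: the orbit of a point of `U` stays in `U`. -/
lemma mem_of_orbG (U : X.left.Opens) (b : AlgGrp.Action G (Over.mk (U.ι ≫ X.hom)))
    (hb : (G ◁ (Over.homMk U.ι rfl : Over.mk (U.ι ≫ X.hom) ⟶ X)) ≫ a.act =
      b.act ≫ Over.homMk U.ι rfl) {x y : X.left} (hx : x ∈ U) (h : OrbG a x y) : y ∈ U := by
  obtain ⟨z, hz1, hz2⟩ := h
  let j : Over.mk (U.ι ≫ X.hom) ⟶ X := Over.homMk U.ι rfl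
  have hz : z ∈ Set.range (G ◁ j).left := by
    rw [Over.whiskerLeft_left, Scheme.Pullback.range_map]
    refine ⟨⟨_, rfl⟩, ?_⟩
    show (snd G X).left z ∈ Set.range U.ι
    rw [Scheme.Opens.range_ι, hz1]
    exact hx
  obtain ⟨q, rfl⟩ := hz
  rw [← hz2, left_app hb q]
  show U.ι (b.act.left q) ∈ U
  exact (b.act.left q).2

/-- In a homogeneous stable open subscheme any two points are in the same orbit. -/
lemma orbG_of_surjective (U : X.left.Opens) (b : AlgGrp.Action G (Over.mk (U.ι ≫ X.hom)))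
    (hb : (G ◁ (Over.homMk U.ι rfl : Over.mk (U.ι ≫ X.hom) ⟶ X)) ≫ a.act =
      b.act ≫ Over.homMk U.ι rfl)
    (hs : Surjective (lift (snd G (Over.mk (U.ι ≫ X.hom))) b.act).left) {x y : X.left}
    (hx : x ∈ U) (hy : y ∈ U) : OrbG a x y := by
  let U' : Over (Spec (CommRingCat.of k)) := Over.mk (U.ι ≫ X.hom)
  let j : U' ⟶ X := Over.homMk U.ι rfl
  obtain ⟨z', hz1, hz2⟩ := Scheme.Pullback.exists_preimage_pullback
    (f := U'.hom) (g := U'.hom) (⟨x, hx⟩ : U.toScheme) (⟨y, hy⟩ : U.toScheme)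
    (Subsingleton.elim (α := ↥(Spec (CommRingCat.of k)))
      (h := inferInstanceAs (Subsingleton (PrimeSpectrum k))) _ _)
  obtain ⟨q, hq⟩ := hs.surj (z' : ↥(U' ⊗ U').left)
  refine ⟨(G ◁ j).left q, ?_, ?_⟩
  · rw [left_app (whiskerLeft_snd G j) q]
    show U.ι ((snd G U').left q) = x
    have e : (snd G U').left q = (fst U' U').left z' := by
      rw [← hq, left_app (lift_fst (snd G U') b.act) q]
    rw [e]
    show U.ι (pullback.fst U'.hom U'.hom z') = x
    rw [hz1]; rfl
  · rw [left_app hb q]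
    show U.ι (b.act.left q) = y
    have e : b.act.left q = (snd U' U').left z' := by
      rw [← hq, left_app (lift_snd (snd G U') b.act) q]
    rw [e]
    show U.ι (pullback.snd U'.hom U'.hom z') = y
    rw [hz2]; rfl

/-- The image of the graph morphism contains `U × U` for a homogeneous stable open `U`. -/
lemma subset_range_graph (U : X.left.Opens) (b : AlgGrp.Action G (Over.mk (U.ι ≫ X.hom)))
    (hb : (G ◁ (Over.homMk U.ι rfl : Over.mk (U.ι ≫ X.hom) ⟶ X)) ≫ a.act =
      b.act ≫ Over.homMk U.ι rfl)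
    (hs : Surjective (lift (snd G (Over.mk (U.ι ≫ X.hom))) b.act).left) :
    (fst X X).left ⁻¹' (U : Set X.left) ∩ (snd X X).left ⁻¹' (U : Set X.left) ⊆
      Set.range (graph a).left := by
  let U' : Over (Spec (CommRingCat.of k)) := Over.mk (U.ι ≫ X.hom)
  let j : U' ⟶ X := Over.homMk U.ι rfl
  rintro z ⟨hz1, hz2⟩
  have hz : z ∈ Set.range (j ⊗ₘ j).left := by
    rw [Over.tensorHom_left, Scheme.Pullback.range_map]
    refine ⟨?_, ?_⟩
    · show (fst X X).left z ∈ Set.range U.ι
      rw [Scheme.Opens.range_ι]; exact hz1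
    · show (snd X X).left z ∈ Set.range U.ι
      rw [Scheme.Opens.range_ι]; exact hz2
  obtain ⟨z', rfl⟩ := hz
  obtain ⟨q, rfl⟩ := hs.surj z'
  have e : lift (snd G U') b.act ≫ (j ⊗ₘ j) = (G ◁ j) ≫ graph a := by
    apply CartesianMonoidalCategory.hom_ext
    · simp [graph]
    · simp only [graph, Category.assoc, tensorHom_snd, lift_snd_assoc, lift_snd]
      exact hb.symm
  exact ⟨(G ◁ j).left q, (left_app e q).symm ▸ rfl⟩

end Main

section Homog

variable {k : Type u} [Field k]
  {G X : Over (Spec (CommRingCat.of k))} [GrpObj G] (a : AlgGrp.Action G X)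

/-- The saturation of the first projection of an open subset of the image of the graph morphism
is homogeneous. -/
theorem surjective_graph_restrict [LocallyOfFiniteType G.hom] [QuasiCompact G.hom]
    [LocallyOfFiniteType X.hom] [QuasiCompact X.hom] [GeometricallyIrreducible X.hom]
    (V : (X ⊗ X).left.Opens) (hV : (V : Set ↥(X ⊗ X).left) ⊆ Set.range (graph a).left)
    (U : X.left.Opens)
    (hU : (U : Set X.left) = sat a ((fst X X).left '' (V : Set ↥(X ⊗ X).left)))
    (b : AlgGrp.Action G (Over.mk (U.ι ≫ X.hom)))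
    (hb : (G ◁ (Over.homMk U.ι rfl : Over.mk (U.ι ≫ X.hom) ⟶ X)) ≫ a.act =
      b.act ≫ Over.homMk U.ι rfl) :
    Surjective (lift (snd G (Over.mk (U.ι ≫ X.hom))) b.act).left := by
  classical
  let K : Type u := AlgebraicClosure k
  let U' : Over (Spec (CommRingCat.of k)) := Over.mk (U.ι ≫ X.hom)
  let j : U' ⟶ X := Over.homMk U.ι rfl
  haveI : Mono j := by
    haveI : Mono ((Over.forget _).map j) := by
      show Mono U.ι
      infer_instance
    exact (Over.forget _).mono_of_mono_map inferInstance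
  haveI : IsLocallyNoetherian X.left := LocallyOfFiniteType.isLocallyNoetherian X.hom
  haveI : LocallyOfFiniteType U'.hom := inferInstanceAs (LocallyOfFiniteType (U.ι ≫ X.hom))
  haveI : QuasiCompact U'.hom := inferInstanceAs (QuasiCompact (U.ι ≫ X.hom))
  have hGU : LocallyOfFiniteType (G ⊗ U').hom := lft_tensor
  have hUU : LocallyOfFiniteType (U' ⊗ U').hom := lft_tensor
  have hGUqc : QuasiCompact (G ⊗ U').hom := by
    rw [Over.tensorObj_hom]; infer_instance
  have hUUqc : QuasiCompact (U' ⊗ U').hom := by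
    rw [Over.tensorObj_hom]; infer_instance
  have hΦlft : LocallyOfFiniteType (lift (snd G U') b.act).left := lft_hom _
  have hln : IsLocallyNoetherian (U' ⊗ U').left :=
    LocallyOfFiniteType.isLocallyNoetherian (U' ⊗ U').hom
  haveI : CompactSpace ↥(U' ⊗ U').left :=
    QuasiCompact.compactSpace_of_compactSpace (U' ⊗ U').hom
  haveI : IsNoetherian (U' ⊗ U').left := { }
  haveI : JacobsonSpace ↥(U' ⊗ U').left := LocallyOfFiniteType.jacobsonSpace (U' ⊗ U').hom
  haveI : LocallyOfFinitePresentation (lift (snd G U') b.act).left :=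
    LocallyOfFinitePresentation.iff_locallyOfFiniteType.mpr hΦlft
  haveI : QuasiCompact (lift (snd G U') b.act).left :=
    Groth.Agent.Lib.Helper72.FibDim.quasiCompact_of_ft (G ⊗ U').hom (U' ⊗ U').hom _
  have hcons : Topology.IsConstructible (Set.range (lift (snd G U') b.act).left) := by
    rw [← Set.image_univ]
    exact Scheme.Hom.isConstructible_image _ Topology.IsConstructible.univ
  have huniv := Groth.Agent.Lib.Helper72.ConstrJacobson.eq_univ_of_closedPoints_subset hcons ?_
  · constructor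
    intro z
    have : z ∈ Set.range (lift (snd G U') b.act).left := huniv ▸ Set.mem_univ z
    exact this
  · intro z hz
    obtain ⟨ζ, hζ⟩ := Groth.Agent.Lib.Helper72.ConstrJacobson.exists_point_of_isClosed
      (k := k) (K := K) (U' ⊗ U') z hz
    have hmem : ∀ ξ : TK k K ⟶ U', (ξ ≫ j).left (IsLocalRing.closedPoint K) ∈
        sat a ((fst X X).left '' (V : Set ↥(X ⊗ X).left)) := by
      intro ξ
      rw [← hU]
      show U.ι (ξ.left (IsLocalRing.closedPoint K)) ∈ U
      exact (ξ.left (IsLocalRing.closedPoint K)).2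
    obtain ⟨g, hg⟩ := exists_smul_eq (K := K) a V hV (ζ ≫ fst U' U' ≫ j) (ζ ≫ snd U' U' ≫ j)
      (by rw [← Category.assoc]; exact hmem _) (by rw [← Category.assoc]; exact hmem _)
    have hg' : lift g (ζ ≫ fst U' U') ≫ b.act = ζ ≫ snd U' U' := by
      rw [← cancel_mono j, Category.assoc, ← hb, lift_whiskerLeft_assoc, Category.assoc,
        Category.assoc]
      exact hg
    have h3 : lift g (ζ ≫ fst U' U') ≫ lift (snd G U') b.act = ζ := by
      rw [comp_lift, lift_snd, hg', ← comp_lift, lift_fst_snd, Category.comp_id]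
    refine ⟨(lift g (ζ ≫ fst U' U')).left (IsLocalRing.closedPoint K), ?_⟩
    rw [left_app h3, hζ]

end Homog

end Groth.Agent.Lib.Helper72.OpenOrbit
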