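import Groth.Agent.Lib.Helper72.OrbitAct

/-!
# Existence of closed orbits

Over an algebraically closed field, an action of a group scheme of finite type on a nonempty
scheme of finite type has a closed orbit (an orbit of minimal dimension is closed, because the
boundary of an orbit is stable and of smaller dimension).
-/

set_option autoImplicit false

universe u

open CategoryTheory MonoidalCategory CartesianMonoidalCategory MonObj GrpObj AlgebraicGeometry Topology
  CategoryTheory.Limits

namespace Groth.Agent.Lib.Helper72.OrbitClosed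

open Groth.Agent.Lib.Helper72.GrpTrans Groth.Agent.Lib.Helper72.GrpConn
  Groth.Agent.Lib.Helper72.OrbitAct Groth.Agent.Lib.Helper72.OrbitDim
  Groth.Agent.Lib.Helper72.FibDim

section Abstract

variable {k : Type u} [Field k] {X : Scheme.{u}} (qX : X ⟶ Spec (CommRingCat.of k))
  [LocallyOfFiniteType qX]

include qX in
/-- A nonempty constructible subset of a scheme locally of finite type over a field contains a
closed point. -/
lemma exists_isClosed_mem_of_isConstructible {E : Set X} (hE : IsConstructible E)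
    (hne : E.Nonempty) : ∃ y ∈ E, IsClosed ({y} : Set X) := by
  have : JacobsonSpace X := LocallyOfFiniteType.jacobsonSpace qX
  obtain ⟨p, hp⟩ := hne
  rcases Groth.Agent.Lib.Helper35.constr_dichotomy hE
    (isIrreducible_singleton.closure : IsIrreducible (closure ({p} : Set X))) with
    ⟨U, hU, hne, hsub⟩ | ⟨U, hU, ⟨z, hzU, hzp⟩, hsub⟩
  · obtain ⟨y, hy, hyc⟩ := nonempty_inter_closedPoints (X := X) hne
      (hU.isLocallyClosed.inter isClosed_closure.isLocallyClosed)
    exact ⟨y, hsub hy, hyc⟩
  · exfalso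
    have hpz : p ⤳ z := specializes_iff_mem_closure.mpr hzp
    exact hsub ⟨hpz.mem_open hU hzU, subset_closure rfl⟩ hp

include qX in
/-- A closed point of the image of a morphism is the image of a closed point. -/
lemma exists_isClosed_of_mem_range {Y : Scheme.{u}} (α : X ⟶ Y) (z : Y)
    (hz : IsClosed ({z} : Set Y)) (hzr : z ∈ Set.range α) :
    ∃ c : X, IsClosed ({c} : Set X) ∧ α c = z := by
  have : JacobsonSpace X := LocallyOfFiniteType.jacobsonSpace qX
  obtain ⟨t, ht⟩ := hzr
  obtain ⟨c, hc, hcc⟩ := nonempty_inter_closedPoints (X := X) (Z := α ⁻¹' {z}) ⟨t, ht⟩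
    (hz.preimage α.continuous).isLocallyClosed
  exact ⟨c, hcc, hc⟩

end Abstract

section Field

variable {k : Type u} [Field k] [IsAlgClosed k]
  (G X : Over (Spec (CommRingCat.of k))) [GrpObj G] [LocallyOfFiniteType G.hom]
  [QuasiCompact G.hom] [LocallyOfFiniteType X.hom] [QuasiCompact X.hom]
  (a : AlgGrp.Action G X)

omit [IsAlgClosed k] [LocallyOfFiniteType G.hom] [QuasiCompact G.hom] [LocallyOfFiniteType X.hom]
  [QuasiCompact X.hom] in
/-- Translations preserve orbits. -/
lemma actTr_mem_range (g : 𝟙_ (Over (Spec (CommRingCat.of k))) ⟶ G)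
    (x : 𝟙_ (Over (Spec (CommRingCat.of k))) ⟶ X) (y : X.left)
    (hy : y ∈ Set.range (a.orbitMap x).left) :
    (actTr a g).left y ∈ Set.range (a.orbitMap x).left := by
  obtain ⟨t, rfl⟩ := hy
  have h1 := congrArg CommaMorphism.left (orbitMap_actTr a g x)
  exact ⟨(ltr g).left t, (GrpGen.app_eq
    (h1 : (a.orbitMap x).left ≫ (actTr a g).left = (ltr g).left ≫ (a.orbitMap x).left) t ▸ rfl :
    (a.orbitMap x).left ((ltr g).left t) = (actTr a g).left ((a.orbitMap x).left t))⟩

omit [IsAlgClosed k] [LocallyOfFiniteType G.hom] [QuasiCompact G.hom] [LocallyOfFiniteType X.hom]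
  [QuasiCompact X.hom] in
lemma actTr_inv_apply (g : 𝟙_ (Over (Spec (CommRingCat.of k))) ⟶ G) (y : X.left) :
    (actTr a g⁻¹).left ((actTr a g).left y) = y := by
  have h1 : actTr a g ≫ actTr a g⁻¹ = 𝟙 X := by rw [actTr_comp, inv_mul_cancel, actTr_one]
  have h2 := congrArg CommaMorphism.left h1
  exact GrpGen.app_eq (h2 : (actTr a g).left ≫ (actTr a g⁻¹).left = 𝟙 X.left) y

omit [IsAlgClosed k] [LocallyOfFiniteType G.hom] [QuasiCompact G.hom] [LocallyOfFiniteType X.hom]
  [QuasiCompact X.hom] in
/-- Translations preserve the boundary of an orbit. -/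
lemma actTr_mem_boundary (g : 𝟙_ (Over (Spec (CommRingCat.of k))) ⟶ G)
    (x : 𝟙_ (Over (Spec (CommRingCat.of k))) ⟶ X) (y : X.left)
    (hy : y ∈ closure (Set.range (a.orbitMap x).left) \ Set.range (a.orbitMap x).left) :
    (actTr a g).left y ∈
      closure (Set.range (a.orbitMap x).left) \ Set.range (a.orbitMap x).left := by
  refine ⟨?_, fun h => hy.2 ?_⟩
  · have h1 : (actTr a g).left '' closure (Set.range (a.orbitMap x).left) ⊆
        closure ((actTr a g).left '' Set.range (a.orbitMap x).left) :=
      image_closure_subset_closure_image (actTr a g).left.continuous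
    refine closure_mono ?_ (h1 ⟨y, hy.1, rfl⟩)
    rintro _ ⟨z, hz, rfl⟩
    exact actTr_mem_range G X a g x z hz
  · have := actTr_mem_range G X a g⁻¹ x _ h
    rwa [actTr_inv_apply] at this

omit [IsAlgClosed k] [LocallyOfFiniteType G.hom] [QuasiCompact G.hom] [LocallyOfFiniteType X.hom]
  [QuasiCompact X.hom] in
/-- The orbit map of `y` at the rational point `g` is the translate of `y` by `g`. -/
lemma orbitMap_ptVal (g : 𝟙_ (Over (Spec (CommRingCat.of k))) ⟶ G)
    (y : 𝟙_ (Over (Spec (CommRingCat.of k))) ⟶ X) :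
    (a.orbitMap y).left (ptVal G g) = (actTr a g).left (y.left (IsLocalRing.closedPoint k)) := by
  have h0 : toUnit (𝟙_ (Over (Spec (CommRingCat.of k)))) = 𝟙 _ := toUnit_unique _ _
  have h1 : g ≫ a.orbitMap y = y ≫ actTr a g := by
    rw [a.comp_orbitMap, comp_actTr, h0, Category.id_comp, Category.id_comp]
  have h2 := congrArg CommaMorphism.left h1
  have h3 := GrpGen.app_eq (h2 : g.left ≫ (a.orbitMap y).left = (y ≫ actTr a g).left)
    (IsLocalRing.closedPoint k)
  exact h3

/-- **Existence of a closed orbit.** -/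
theorem exists_closed_orbit [Nonempty ↥X.left] :
    ∃ x : 𝟙_ (Over (Spec (CommRingCat.of k))) ⟶ X,
      IsClosed (Set.range (a.orbitMap x).left.base) := by
  have hJ : JacobsonSpace X.left := LocallyOfFiniteType.jacobsonSpace X.hom
  -- rational points of `X`
  have hpt : ∀ y₀ : X.left, IsClosed ({y₀} : Set X.left) →
      ∃ y : 𝟙_ (Over (Spec (CommRingCat.of k))) ⟶ X, y.left (IsLocalRing.closedPoint k) = y₀ := by
    intro y₀ hy₀
    exact ⟨Over.homMk (pointOfClosedPoint X.hom y₀ hy₀) (pointOfClosedPoint_comp X.hom y₀ hy₀),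
      pointOfClosedPoint_apply X.hom y₀ hy₀ _⟩
  obtain ⟨p⟩ := ‹Nonempty ↥X.left›
  obtain ⟨p₀, hp₀, -⟩ := Groth.Agent.Lib.Helper73.exists_isClosed_specializes p
  obtain ⟨x₁, -⟩ := hpt p₀ hp₀
  -- an orbit of minimal dimension
  let dimO : (𝟙_ (Over (Spec (CommRingCat.of k))) ⟶ X) → WithBot ℕ∞ :=
    fun x => topologicalKrullDim ↥(Set.range (a.orbitMap x).left.base)
  obtain ⟨d, ⟨x, rfl⟩, hmin⟩ :=
    WellFounded.has_min (wellFounded_lt (α := WithBot ℕ∞)) (Set.range dimO) ⟨_, x₁, rfl⟩
  refine ⟨x, ?_⟩
  by_contra hncl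
  have hα : (a.orbitMap x).left ≫ X.hom = G.hom := Over.w _
  have hom := homog_orbitMap G X a x
  have hlt := dim_boundary_lt G.hom X.hom (a.orbitMap x).left hα hom
    (η[G].left (IsLocalRing.closedPoint k))
  have hE := isConstructible_range G.hom X.hom (a.orbitMap x).left hα
  have hN := noetherianSpace_of_ft X.hom
  have hB : IsConstructible
      (closure (Set.range (a.orbitMap x).left) \ Set.range (a.orbitMap x).left) :=
    (Groth.Agent.Lib.Helper35.noeth_isConstructible_of_isClosed isClosed_closure).sdiff hE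
  have hBne : (closure (Set.range (a.orbitMap x).left) \ Set.range (a.orbitMap x).left).Nonempty := by
    rw [Set.nonempty_iff_ne_empty]
    intro he
    apply hncl
    have : closure (Set.range (a.orbitMap x).left) ⊆ Set.range (a.orbitMap x).left :=
      Set.diff_eq_empty.mp he
    exact closure_subset_iff_isClosed.mp this
  obtain ⟨y₀, hy₀B, hy₀c⟩ := exists_isClosed_mem_of_isConstructible X.hom hB hBne
  obtain ⟨y, rfl⟩ := hpt y₀ hy₀c
  -- the orbit of `y` lies in the boundary
  have hαy : (a.orbitMap y).left ≫ X.hom = G.hom := Over.w _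
  have hEy := isConstructible_range G.hom X.hom (a.orbitMap y).left hαy
  have hsub : Set.range (a.orbitMap y).left ⊆
      closure (Set.range (a.orbitMap x).left) \ Set.range (a.orbitMap x).left := by
    by_contra hns
    have hne : (Set.range (a.orbitMap y).left \
        (closure (Set.range (a.orbitMap x).left) \ Set.range (a.orbitMap x).left)).Nonempty := by
      rw [Set.nonempty_iff_ne_empty]
      exact fun he => hns (Set.diff_eq_empty.mp he)
    obtain ⟨z, ⟨hzr, hzn⟩, hzc⟩ :=
      exists_isClosed_mem_of_isConstructible X.hom (hEy.sdiff hB) hne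
    obtain ⟨c, hcc, rfl⟩ := exists_isClosed_of_mem_range G.hom (a.orbitMap y).left z hzc hzr
    obtain ⟨g, rfl⟩ := exists_ptVal_eq G c hcc
    rw [orbitMap_ptVal] at hzn
    exact hzn (actTr_mem_boundary G X a g x _ hy₀B)
  have h1 : dimO y ≤ topologicalKrullDim
      ↥(closure (Set.range (a.orbitMap x).left) \ Set.range (a.orbitMap x).left) :=
    (Topology.IsEmbedding.inclusion hsub).isInducing.topologicalKrullDim_le
  exact hmin (dimO y) ⟨y, rfl⟩ (lt_of_le_of_lt h1 hlt)

end Field

end Groth.Agent.Lib.Helper72.OrbitClosed
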