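import Groth.Agent.Lib.Helper72.OrbitClosed

/-!
# The image of a homogeneous morphism is locally closed

For a homogeneous morphism `α : G ⟶ X` of schemes of finite type over a field (in the sense of
`OrbitDim.Homog`), the image of `α` is open in its closure.
-/

set_option autoImplicit false

universe u

open AlgebraicGeometry CategoryTheory TopologicalSpace Topology Order

namespace Groth.Agent.Lib.Helper72.OrbitLC

open Groth.Agent.Lib.Helper73 Groth.Agent.Lib.Helper72.FibDim Groth.Agent.Lib.Helper72.FibDimIrr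
  Groth.Agent.Lib.Helper72.OrbitDim Groth.Agent.Lib.Helper72.OrbitClosed

section Main

variable {k : Type u} [Field k] {G X : Scheme.{u}}
  (qG : G ⟶ Spec (CommRingCat.of k)) (qX : X ⟶ Spec (CommRingCat.of k))
  [LocallyOfFiniteType qG] [QuasiCompact qG] [LocallyOfFiniteType qX] [QuasiCompact qX]
  (α : G ⟶ X) (hα : α ≫ qX = qG)

include qG in
omit [LocallyOfFiniteType qX] [QuasiCompact qX] in
/-- A scheme of finite type over a field has finitely many maximal points. -/
lemma finite_maximal : {ξ : G | ∀ t : G, t ⤳ ξ → t = ξ}.Finite := by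
  have := noetherianSpace_of_ft qG
  have hfin := NoetherianSpace.finite_irreducibleComponents (α := G)
  refine Set.Finite.of_finite_image (f := fun ξ : G => closure ({ξ} : Set G))
    (hfin.subset ?_) ?_
  · rintro _ ⟨ξ, hξ, rfl⟩
    exact closure_singleton_mem_irreducibleComponents_of_maximal ξ hξ
  · intro ξ _ ξ' hξ' h
    have h1 : ξ ⤳ ξ' := by
      rw [specializes_iff_closure_subset]
      exact (congrArg (fun s => s) h).symm.le
    exact hξ' ξ h1

omit [Field k] in
/-- Compatible automorphisms preserve the image. -/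
lemma apply_mem_range_iff (L : G ⟶ G) (τ : X ⟶ X) [IsIso L] [IsIso τ] (hLτ : L ≫ α = α ≫ τ)
    (u : X) : τ u ∈ Set.range α ↔ u ∈ Set.range α := by
  constructor
  · rintro ⟨t, ht⟩
    obtain ⟨s, rfl⟩ : ∃ s : G, L s = t := L.homeomorph.surjective t
    have h1 : α (L s) = τ (α s) := by
      rw [← Scheme.Hom.comp_apply, hLτ, Scheme.Hom.comp_apply]
    rw [h1] at ht
    exact ⟨s, τ.homeomorph.injective ht⟩
  · rintro ⟨t, rfl⟩
    exact ⟨L t, by rw [← Scheme.Hom.comp_apply, hLτ, Scheme.Hom.comp_apply]⟩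

omit [Field k] in
/-- Compatible automorphisms preserve the closure of the image. -/
lemma apply_mem_closure_range_iff (L : G ⟶ G) (τ : X ⟶ X) [IsIso L] [IsIso τ]
    (hLτ : L ≫ α = α ≫ τ) (u : X) :
    τ u ∈ closure (Set.range α) ↔ u ∈ closure (Set.range α) := by
  have h1 : τ.homeomorph ⁻¹' Set.range α = Set.range α := by
    ext v
    exact apply_mem_range_iff α L τ hLτ v
  have h2 := τ.homeomorph.preimage_closure (Set.range α)
  rw [h1] at h2
  exact Set.ext_iff.mp h2 u

/-- The largest open subset of the target on which the image agrees with its closure. -/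
def goodOpen : Set X :=
  ⋃₀ {U : Set X | IsOpen U ∧ U ∩ closure (Set.range α) ⊆ Set.range α}

omit [Field k] in
lemma isOpen_goodOpen : IsOpen (goodOpen α) :=
  isOpen_sUnion fun _ hU => hU.1

omit [Field k] in
lemma goodOpen_inter_subset : goodOpen α ∩ closure (Set.range α) ⊆ Set.range α := by
  rintro y ⟨⟨U, ⟨-, hU⟩, hyU⟩, hy⟩
  exact hU ⟨hyU, hy⟩

omit [Field k] in
lemma apply_mem_goodOpen (L : G ⟶ G) (τ : X ⟶ X) [IsIso L] [IsIso τ] (hLτ : L ≫ α = α ≫ τ)
    (u : X) (hu : u ∈ goodOpen α) : τ u ∈ goodOpen α := by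
  obtain ⟨U, ⟨hU, hUsub⟩, huU⟩ := hu
  refine ⟨τ '' U, ⟨τ.isOpenEmbedding.isOpenMap U hU, ?_⟩, ⟨u, huU, rfl⟩⟩
  rintro _ ⟨⟨u', hu'U, rfl⟩, hz⟩
  have h1 := (apply_mem_closure_range_iff α L τ hLτ u').mp hz
  exact (apply_mem_range_iff α L τ hLτ u').mpr (hUsub ⟨hu'U, h1⟩)

variable (hom : Homog qG qX α)

include hα hom in
/-- The image of a maximal point is a good point. -/
lemma mem_goodOpen_of_maximal (ξ₀ : G) (hξ₀ : ∀ t : G, t ⤳ ξ₀ → t = ξ₀) :
    α ξ₀ ∈ goodOpen α := by
  have hδ := isDimFun_trdegNat qX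
  have hE := isConstructible_range qG qX α hα
  obtain ⟨U₁, hU₁, hηU₁, hsub⟩ :
      ∃ U : Set X, IsOpen U ∧ α ξ₀ ∈ U ∧ U ∩ closure {α ξ₀} ⊆ Set.range α := by
    obtain ⟨U, hU, ⟨z, hzU, hzη⟩, hsub⟩ :=
      Groth.Agent.Lib.Helper35.constr_exists_open_of_dense hE
        (isIrreducible_singleton.closure : IsIrreducible (closure ({α ξ₀} : Set X)))
        (closure_mono (Set.singleton_subset_iff.mpr ⟨⟨ξ₀, rfl⟩, subset_closure rfl⟩))
    exact ⟨U, hU, (specializes_iff_mem_closure.mpr hzη : α ξ₀ ⤳ z).mem_open hU hzU, hsub⟩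
  have hfin : {ξ : G | (∀ t : G, t ⤳ ξ → t = ξ) ∧ α ξ ≠ α ξ₀}.Finite :=
    (finite_maximal qG).subset fun ξ hξ => hξ.1
  have hF : IsClosed (⋃ ξ ∈ {ξ : G | (∀ t : G, t ⤳ ξ → t = ξ) ∧ α ξ ≠ α ξ₀},
      closure ({α ξ} : Set X)) :=
    hfin.isClosed_biUnion fun _ _ => isClosed_closure
  refine ⟨U₁ ∩ (⋃ ξ ∈ {ξ : G | (∀ t : G, t ⤳ ξ → t = ξ) ∧ α ξ ≠ α ξ₀},
      closure ({α ξ} : Set X))ᶜ, ⟨hU₁.inter hF.isOpen_compl, ?_⟩, hηU₁, ?_⟩
  · rintro y ⟨⟨hyU₁, hyF⟩, hy⟩
    obtain ⟨ξ, hξ, hξy⟩ := exists_maximal_specializes_of_mem_closure_range qG α y hy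
    by_cases he : α ξ = α ξ₀
    · rw [he] at hξy
      exact hsub ⟨hyU₁, specializes_iff_mem_closure.mp hξy⟩
    · exfalso
      apply hyF
      exact Set.mem_biUnion (⟨hξ, he⟩ : ξ ∈ {ξ : G | (∀ t : G, t ⤳ ξ → t = ξ) ∧ α ξ ≠ α ξ₀})
        (specializes_iff_mem_closure.mp hξy)
  · intro hmem
    obtain ⟨ξ, ⟨hξ, hne⟩, hy⟩ := Set.mem_iUnion₂.mp hmem
    have h1 : α ξ ⤳ α ξ₀ := specializes_iff_mem_closure.mpr hy
    have h2 := hδ.lt_of_specializes h1 hne
    have h3 := (invariants_eq_of_maximal qG qX α hα hom ξ₀ ξ hξ₀ hξ).2.1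
    omega

include hα hom in
/-- **The image of a homogeneous morphism is locally closed.** -/
theorem isLocallyClosed_range : IsLocallyClosed (Set.range α) := by
  by_cases hne : Nonempty G
  · obtain ⟨e⟩ := hne
    have hδG := isDimFun_trdegNat qG
    have := hδG.t0Space
    have : JacobsonSpace X := LocallyOfFiniteType.jacobsonSpace qX
    have hN := noetherianSpace_of_ft qX
    obtain ⟨ξ₀, -, hξ₀⟩ := exists_maximal_specializes e
    have hgood := mem_goodOpen_of_maximal qG qX α hα hom ξ₀ hξ₀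
    have hE := isConstructible_range qG qX α hα
    -- a closed good point
    obtain ⟨w, ⟨hwg, hwc⟩, hwcl⟩ := nonempty_inter_closedPoints (X := X)
      (Z := goodOpen α ∩ closure (Set.range α)) ⟨α ξ₀, hgood, subset_closure ⟨ξ₀, rfl⟩⟩
      ((isOpen_goodOpen α).isLocallyClosed.inter isClosed_closure.isLocallyClosed)
    have hwr : w ∈ Set.range α := goodOpen_inter_subset α ⟨hwg, hwc⟩
    obtain ⟨c', hc', rfl⟩ := exists_isClosed_of_mem_range qG α w hwcl hwr
    -- every point of the image is good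
    have hsub : Set.range α ⊆ goodOpen α := by
      by_contra hns
      have hne : (Set.range α \ goodOpen α).Nonempty := by
        rw [Set.nonempty_iff_ne_empty]
        exact fun he => hns (Set.diff_eq_empty.mp he)
      obtain ⟨y, ⟨hyr, hyn⟩, hyc⟩ := exists_isClosed_mem_of_isConstructible qX
        (hE.sdiff (Groth.Agent.Lib.Helper35.noeth_isConstructible_of_isOpen (isOpen_goodOpen α)))
        hne
      obtain ⟨c, hc, rfl⟩ := exists_isClosed_of_mem_range qG α y hyc hyr
      obtain ⟨L, τ, hL, hτ, -, -, h3, h4⟩ := hom c' c hc' hc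
      have h5 : τ (α c') = α c := by
        rw [← h4, ← Scheme.Hom.comp_apply, ← h3, Scheme.Hom.comp_apply]
      exact hyn (h5 ▸ apply_mem_goodOpen α L τ h3 _ hwg)
    have heq : Set.range α = goodOpen α ∩ closure (Set.range α) :=
      subset_antisymm (fun y hy => ⟨hsub hy, subset_closure hy⟩) (goodOpen_inter_subset α)
    rw [heq]
    exact (isOpen_goodOpen α).isLocallyClosed.inter isClosed_closure.isLocallyClosed
  · have : Set.range α = ∅ := by
      rw [Set.range_eq_empty_iff]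
      exact not_nonempty_iff.mp hne
    rw [this]
    exact isClosed_empty.isLocallyClosed

end Main

end Groth.Agent.Lib.Helper72.OrbitLC
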