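import Groth.Agent.Lib.Helper72.OrbitK

/-!
# Semicontinuity of orbit dimension

Over an algebraically closed field, for an action of a group scheme `G` of finite type on a scheme
`X` of finite type, the set of rational points whose orbit has dimension `≤ r` is closed.  The
proof computes the dimension of the stabilizer of `x` as the local fibre dimension of the graph
morphism `(g, y) ↦ (g y, y)` at `(e, x)` and uses Chevalley's semicontinuity theorem.
-/

set_option autoImplicit false

universe u

open CategoryTheory MonoidalCategory CartesianMonoidalCategory MonObj GrpObj AlgebraicGeometry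
  CategoryTheory.Limits Topology

namespace Groth.Agent.Lib.Helper72.OrbitSemi

open Groth.Agent.Lib.Helper73 Groth.Agent.Lib.Helper72.FibDim Groth.Agent.Lib.Helper72.FibDimIrr
  Groth.Agent.Lib.Helper72.OrbitDim Groth.Agent.Lib.Helper72.OrbitAct

section Abstract

variable {k : Type u} [Field k] {G X : Scheme.{u}}
  (qG : G ⟶ Spec (CommRingCat.of k)) (qX : X ⟶ Spec (CommRingCat.of k))
  [LocallyOfFiniteType qG] [QuasiCompact qG] [LocallyOfFiniteType qX] [QuasiCompact qX]
  (α : G ⟶ X) (hα : α ≫ qX = qG) (hom : Homog qG qX α)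

include hα hom in
omit [QuasiCompact qG] [QuasiCompact qX] in
/-- Upper bound for residual transcendence degrees on the fibre over a closed point. -/
lemma resTrdegNat_le_of_fibre (ξ₀ : G) (hξ₀ : ∀ t : G, t ⤳ ξ₀ → t = ξ₀) (x₀ : X)
    (hx₀ : IsClosed ({x₀} : Set X)) (t : G) (htx : α t = x₀) :
    resTrdegNat α t ≤ resTrdegNat α ξ₀ := by
  have hfT : LocallyOfFiniteType α := locallyOfFiniteType_of_comp_eq qG qX α hα
  have hδ := isDimFun_trdegNat qG
  have := hδ.t0Space
  have : JacobsonSpace G := LocallyOfFiniteType.jacobsonSpace qG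
  have := isLocallyNoetherian_of_lft qG
  obtain ⟨ξ, hξt, hξ⟩ := exists_maximal_specializes t
  obtain ⟨V₀, hV₀, hξV₀, hall⟩ := exists_open_forall_resTrdegNat_le α ξ
  obtain ⟨c, hc, htc⟩ := exists_isClosed_specializes t
  have hαc : α c = x₀ := by
    have h1 : α t ⤳ α c := htc.map α.continuous
    rw [htx] at h1
    have h2 : α c ∈ closure ({x₀} : Set X) := specializes_iff_mem_closure.mp h1
    rw [hx₀.closure_eq] at h2
    exact h2
  obtain ⟨L, τ, hL, hτ, h1, h2, h3, h4, h5⟩ :=
    exists_move qG qX α hom ξ ξ hξ hξ c hc (hξt.trans htc) V₀ hV₀ hξV₀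
  have h6 : ξ ⤳ L t := by
    have := (specializes_apply_iff L).mpr hξt
    rwa [h4] at this
  have h7 : L t ⤳ L c := (specializes_apply_iff L).mpr htc
  have h8 : α (L t) = α (L c) := by
    have e1 : α (L t) = τ (α t) := by
      rw [← Scheme.Hom.comp_apply, h3, Scheme.Hom.comp_apply]
    have e2 : α (L c) = τ (α c) := by
      rw [← Scheme.Hom.comp_apply, h3, Scheme.Hom.comp_apply]
    rw [e1, e2, htx, hαc]
  have h9 := hall (L c) h5 (h6.trans h7) (L t) h6 h7 h8
  rw [resTrdegNat_apply qG qX α hα L τ h1 h2 h3] at h9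
  have h10 := (invariants_eq_of_maximal qG qX α hα hom ξ₀ ξ hξ₀ hξ).2.2
  rw [h10] at h9
  exact h9

include hα hom in
omit [QuasiCompact qG] [QuasiCompact qX] in
/-- Lower bound: every point has a generization in its fibre of generic residual transcendence
degree. -/
lemma exists_generization_ge (ξ₀ : G) (hξ₀ : ∀ t : G, t ⤳ ξ₀ → t = ξ₀) (e : G) :
    ∃ t : G, t ⤳ e ∧ α t = α e ∧ resTrdegNat α ξ₀ ≤ resTrdegNat α t := by
  have hfT : LocallyOfFiniteType α := locallyOfFiniteType_of_comp_eq qG qX α hα
  have hδ := isDimFun_trdegNat qG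
  have := hδ.t0Space
  obtain ⟨ξ, hξe, hξ⟩ := exists_maximal_specializes e
  obtain ⟨t, -, hte', hte, hle⟩ := exists_generization_resTrdegNat_ge α ξ e hξe
  have h10 := (invariants_eq_of_maximal qG qX α hα hom ξ₀ ξ hξ₀ hξ).2.2
  rw [h10] at hle
  exact ⟨t, hte', hte, hle⟩

include hα hom in
/-- The dimension of the closure of the image. -/
lemma dim_closure_range_eq (ξ₀ : G) (hξ₀ : ∀ t : G, t ⤳ ξ₀ → t = ξ₀) :
    topologicalKrullDim ↥(closure (Set.range α)) = ((trdegNat qX (α ξ₀) : ℕ) : WithBot ℕ∞) := by
  have hδ := isDimFun_trdegNat qX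
  apply le_antisymm
  · rw [hδ.topologicalKrullDim_closed_eq_iSup isClosed_closure]
    refine iSup_le fun y => ?_
    obtain ⟨ξ, hξ, hξy⟩ := exists_maximal_specializes_of_mem_closure_range qG α y.1 y.2
    have h2 := hδ.le_of_specializes hξy
    have h3 := (invariants_eq_of_maximal qG qX α hα hom ξ₀ ξ hξ₀ hξ).2.1
    rw [h3] at h2
    exact_mod_cast h2
  · rw [← dim_range_eq qG qX α hα hom ξ₀ hξ₀]
    exact (Topology.IsEmbedding.inclusion
      (subset_closure (s := Set.range α))).isInducing.topologicalKrullDim_le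

end Abstract

section Cat

variable {S : Scheme.{u}} {X : Over S}

/-- The section `a ↦ (a, x)` of `A ⊗ X → A` attached to a section `x` of `X`. -/
noncomputable def jx (A : Over S) (x : 𝟙_ (Over S) ⟶ X) : A ⟶ A ⊗ X :=
  lift (𝟙 A) (toUnit A ≫ x)

variable (A : Over S) (x : 𝟙_ (Over S) ⟶ X)

@[reassoc (attr := simp)]
lemma jx_fst : jx A x ≫ fst A X = 𝟙 A := lift_fst _ _

@[reassoc (attr := simp)]
lemma jx_snd : jx A x ≫ snd A X = toUnit A ≫ x := lift_snd _ _

/-- `jx A x` is the base change of `x` along the second projection. -/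
lemma isPullback_jx : IsPullback (jx A x).left A.hom (snd A X).left x.left := by
  have t : IsPullback (fst A X).left (snd A X).left A.hom X.hom :=
    IsPullback.of_hasPullback A.hom X.hom
  have e1 : (jx A x).left ≫ (fst A X).left = 𝟙 A.left := by
    rw [← Over.comp_left, jx_fst]; rfl
  have e2 : x.left ≫ X.hom = 𝟙 S := Over.w x
  have s0 : IsPullback ((jx A x).left ≫ (fst A X).left) A.hom A.hom (x.left ≫ X.hom) := by
    rw [e1, e2]
    exact IsPullback.id_horiz A.hom
  have p : (jx A x).left ≫ (snd A X).left = A.hom ≫ x.left := by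
    rw [← Over.comp_left, jx_snd]; rfl
  exact IsPullback.of_right s0 p t

end Cat

section Field

variable {k : Type u} [Field k] [IsAlgClosed k]
  (G X : Over (Spec (CommRingCat.of k))) [GrpObj G] [LocallyOfFiniteType G.hom]
  [QuasiCompact G.hom] [LocallyOfFiniteType X.hom] [QuasiCompact X.hom]
  (a : AlgGrp.Action G X)

/-- The graph morphism `(g, y) ↦ (g y, y)`. -/
noncomputable def graph : G ⊗ X ⟶ X ⊗ X := lift a.act (snd G X)

/-- The unit section `y ↦ (e, y)`. -/
noncomputable def unitSec : X ⟶ G ⊗ X := lift (toUnit X ≫ η[G]) (𝟙 X)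

variable {G X}

omit [IsAlgClosed k] [LocallyOfFiniteType G.hom] [QuasiCompact G.hom] [LocallyOfFiniteType X.hom]
  [QuasiCompact X.hom] in
lemma jx_graph (x : 𝟙_ (Over (Spec (CommRingCat.of k))) ⟶ X) :
    jx G x ≫ graph G X a = a.orbitMap x ≫ jx X x := by
  apply CartesianMonoidalCategory.hom_ext
  · rw [Category.assoc, graph, lift_fst, Category.assoc, jx_fst, Category.comp_id]
    rfl
  · rw [Category.assoc, graph, lift_snd, jx_snd, Category.assoc, jx_snd, ← Category.assoc,
      toUnit_unique (a.orbitMap x ≫ toUnit X) (toUnit G)]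

omit [IsAlgClosed k] [LocallyOfFiniteType G.hom] [QuasiCompact G.hom] [LocallyOfFiniteType X.hom]
  [QuasiCompact X.hom] in
lemma unit_jx (x : 𝟙_ (Over (Spec (CommRingCat.of k))) ⟶ X) :
    η[G] ≫ jx G x = x ≫ unitSec G X := by
  have h0 : toUnit (𝟙_ (Over (Spec (CommRingCat.of k)))) = 𝟙 _ := toUnit_unique _ _
  apply CartesianMonoidalCategory.hom_ext
  · rw [Category.assoc, jx_fst, Category.comp_id, Category.assoc, unitSec, lift_fst,
      ← Category.assoc, toUnit_unique (x ≫ toUnit X) (toUnit _), h0, Category.id_comp]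
  · rw [Category.assoc, jx_snd, Category.assoc, unitSec, lift_snd, Category.comp_id,
      ← Category.assoc, toUnit_unique (η[G] ≫ toUnit G) (toUnit _), h0, Category.id_comp]

instance : LocallyOfFiniteType (G ⊗ X).hom := by
  rw [Over.tensorObj_hom]; infer_instance

instance : LocallyOfFiniteType (graph G X a).left :=
  locallyOfFiniteType_of_comp_eq (G ⊗ X).hom (X ⊗ X).hom (graph G X a).left (Over.w _)

omit [IsAlgClosed k] [GrpObj G] [LocallyOfFiniteType G.hom] [QuasiCompact G.hom]
  [LocallyOfFiniteType X.hom] [QuasiCompact X.hom] in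
lemma isClosedImmersion_jx (A : Over (Spec (CommRingCat.of k)))
    (x : 𝟙_ (Over (Spec (CommRingCat.of k))) ⟶ X) : IsClosedImmersion (jx A x).left := by
  have hcl : IsClosedImmersion x.left := isClosedImmersion_of_comp_eq_id X.hom x.left (Over.w x)
  exact MorphismProperty.of_isPullback (P := @IsClosedImmersion) (isPullback_jx A x).flip hcl

omit [IsAlgClosed k] [LocallyOfFiniteType G.hom] [QuasiCompact G.hom] [LocallyOfFiniteType X.hom]
  [QuasiCompact X.hom] in
/-- Residual transcendence degrees of the graph morphism along `jx`. -/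
lemma resTrdegNat_graph_jx (x : 𝟙_ (Over (Spec (CommRingCat.of k))) ⟶ X) (p : G.left) :
    resTrdegNat (graph G X a).left ((jx G x).left p) = resTrdegNat (a.orbitMap x).left p := by
  have h1 := isClosedImmersion_jx G x
  have h2 := isClosedImmersion_jx X x
  have h3 : (jx G x).left ≫ (graph G X a).left = (a.orbitMap x).left ≫ (jx X x).left := by
    rw [← Over.comp_left, ← Over.comp_left, jx_graph]
  rw [← resTrdegNat_comp_of_isPreimmersion, h3]
  unfold resTrdegNat
  rw [resTrdeg_comp_of_bijective_right _ _ _ (residueFieldMap_bijective_of_isPreimmersion _ _)]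

/-- The local fibre dimension of the graph morphism at `(e, x)` is the dimension of the
stabilizer of `x`. -/
theorem fibreDimAt_graph (x : 𝟙_ (Over (Spec (CommRingCat.of k))) ⟶ X) (ξ₀ : G.left)
    (hξ₀ : ∀ t : G.left, t ⤳ ξ₀ → t = ξ₀) :
    FlatMor.fibreDimAt (graph G X a).left
        ((unitSec G X).left (x.left (IsLocalRing.closedPoint k))) =
      ((resTrdegNat (a.orbitMap x).left ξ₀ : ℕ) : WithBot ℕ∞) := by
  have hα : (a.orbitMap x).left ≫ X.hom = G.hom := Over.w _
  have hom := homog_orbitMap G X a x
  have hcl : IsClosedImmersion x.left := isClosedImmersion_of_comp_eq_id X.hom x.left (Over.w x)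
  have hrange : Set.range x.left = {x.left (IsLocalRing.closedPoint k)} := by
    ext y
    constructor
    · rintro ⟨z, rfl⟩
      exact congrArg x.left (Subsingleton.elim (α := ↥(Spec (CommRingCat.of k))) z _)
    · rintro rfl
      exact ⟨_, rfl⟩
  have hx₀ : IsClosed ({x.left (IsLocalRing.closedPoint k)} : Set X.left) := by
    rw [← hrange]
    exact x.left.isClosedEmbedding.isClosed_range
  have he : (a.orbitMap x).left (η[G].left (IsLocalRing.closedPoint k)) =
      x.left (IsLocalRing.closedPoint k) := by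
    have h1 := congrArg CommaMorphism.left (one_orbitMap a x)
    exact GrpGen.app_eq (h1 : η[G].left ≫ (a.orbitMap x).left = x.left) _
  -- the base point
  have hz : (unitSec G X).left (x.left (IsLocalRing.closedPoint k)) =
      (jx G x).left (η[G].left (IsLocalRing.closedPoint k)) := by
    have h1 := congrArg CommaMorphism.left (unit_jx (G := G) x)
    have h2 := GrpGen.app_eq (h1 : η[G].left ≫ (jx G x).left = (x ≫ unitSec G X).left)
      (IsLocalRing.closedPoint k)
    exact h2.symm
  rw [hz]
  have hgj : ∀ p : G.left, (graph G X a).left ((jx G x).left p) =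
      (jx X x).left ((a.orbitMap x).left p) := by
    intro p
    have h1 := congrArg CommaMorphism.left (jx_graph a x)
    exact (GrpGen.app_eq (h1 : (jx G x).left ≫ (graph G X a).left =
      (a.orbitMap x ≫ jx X x).left) p)
  have hjinj : Function.Injective (jx X x).left := by
    intro y y' h
    have h1 : (jx X x).left ≫ (fst X X).left = 𝟙 X.left := by
      rw [← Over.comp_left, jx_fst]; rfl
    have := congrArg (fst X X).left h
    rwa [GrpGen.app_eq h1, GrpGen.app_eq h1] at this
  apply le_antisymm
  · refine fibreDimAt_le_of_forall_generization _ _ _ fun t ht hft => ?_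
    -- `t` lies in the image of `jx`
    have hsnd : (snd G X).left t = x.left (IsLocalRing.closedPoint k) := by
      have h1 : (graph G X a).left ≫ (snd X X).left = (snd G X).left := by
        rw [← Over.comp_left, graph, lift_snd]
      have h2 : (jx G x).left ≫ (snd G X).left = G.hom ≫ x.left := by
        rw [← Over.comp_left, jx_snd]; rfl
      rw [← GrpGen.app_eq h1 t, hft, GrpGen.app_eq h1, GrpGen.app_eq h2]
      exact congrArg x.left (Subsingleton.elim (α := ↥(Spec (CommRingCat.of k))) _ _)
    obtain ⟨p, hp, -⟩ := Scheme.exists_preimage_of_isPullback (isPullback_jx G x) t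
      (IsLocalRing.closedPoint k) hsnd
    have hp' : (jx G x).left p = t := hp
    rw [← hp'] at hft ⊢
    rw [resTrdegNat_graph_jx]
    rw [hgj, hgj] at hft
    have hαp := (hjinj hft).trans he
    exact resTrdegNat_le_of_fibre G.hom X.hom (a.orbitMap x).left hα hom ξ₀ hξ₀ _ hx₀ p hαp
  · obtain ⟨t, hte, hαt, hle⟩ := exists_generization_ge G.hom X.hom (a.orbitMap x).left hα hom
      ξ₀ hξ₀ (η[G].left (IsLocalRing.closedPoint k))
    have h1 := resTrdegNat_le_fibreDimAt_of_specializes (graph G X a).left
      ((jx G x).left (η[G].left (IsLocalRing.closedPoint k))) ((jx G x).left t)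
      (hte.map (jx G x).left.continuous) (by rw [hgj, hgj, hαt])
    rw [resTrdegNat_graph_jx] at h1
    refine le_trans ?_ h1
    exact_mod_cast hle

/-- **Semicontinuity of orbit dimension.** -/
theorem exists_isClosed_orbitDim_le (r : ℕ) :
    ∃ Z : Set ↥X.left, IsClosed Z ∧
      ∀ x : 𝟙_ (Over (Spec (CommRingCat.of k))) ⟶ X,
        topologicalKrullDim ↥(closure (Set.range ⇑(a.orbitMap x).left.base)) ≤ (r : WithBot ℕ∞) ↔
          Set.range ⇑x.left.base ⊆ Z := by
  have hδ := isDimFun_trdegNat G.hom
  have := hδ.t0Space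
  obtain ⟨ξ₀, -, hξ₀⟩ := exists_maximal_specializes (η[G].left (IsLocalRing.closedPoint k))
  -- orbit dimension in terms of the stabilizer dimension
  have key : ∀ x : 𝟙_ (Over (Spec (CommRingCat.of k))) ⟶ X,
      topologicalKrullDim ↥(closure (Set.range ⇑(a.orbitMap x).left.base)) ≤ (r : WithBot ℕ∞) ↔
        trdegNat G.hom ξ₀ ≤ r + resTrdegNat (a.orbitMap x).left ξ₀ := by
    intro x
    have hα : (a.orbitMap x).left ≫ X.hom = G.hom := Over.w _
    have hom := homog_orbitMap G X a x
    have h1 := dim_closure_range_eq G.hom X.hom (a.orbitMap x).left hα hom ξ₀ hξ₀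
    have h2 := trdegNat_eq_add G.hom X.hom (a.orbitMap x).left hα ξ₀
    rw [show (closure (Set.range ⇑(a.orbitMap x).left.base)) =
      closure (Set.range (a.orbitMap x).left) from rfl, h1]
    constructor
    · intro h
      have h' : trdegNat X.hom ((a.orbitMap x).left ξ₀) ≤ r := by exact_mod_cast h
      omega
    · intro h
      have h' : trdegNat X.hom ((a.orbitMap x).left ξ₀) ≤ r := by omega
      exact_mod_cast h'
  have hrange : ∀ x : 𝟙_ (Over (Spec (CommRingCat.of k))) ⟶ X,
      Set.range ⇑x.left.base = {x.left (IsLocalRing.closedPoint k)} := by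
    intro x
    ext y
    constructor
    · rintro ⟨z, rfl⟩
      exact congrArg x.left (Subsingleton.elim (α := ↥(Spec (CommRingCat.of k))) z _)
    · rintro rfl
      exact ⟨_, rfl⟩
  by_cases hr : trdegNat G.hom ξ₀ ≤ r
  · refine ⟨Set.univ, isClosed_univ, fun x => ?_⟩
    rw [key x]
    exact ⟨fun _ => Set.subset_univ _, fun _ => by omega⟩
  · push Not at hr
    refine ⟨((unitSec G X).left ⁻¹' {z | FlatMor.fibreDimAt (graph G X a).left z ≤
      ((trdegNat G.hom ξ₀ - r - 1 : ℕ) : WithBot ℕ∞)})ᶜ, ?_, fun x => ?_⟩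
    · rw [isClosed_compl_iff]
      exact (isOpen_fibreDimAt_le _ _ _ (graph G X a).left).preimage
        (unitSec G X).left.continuous
    · rw [key x, hrange x, Set.singleton_subset_iff, Set.mem_compl_iff, Set.mem_preimage,
        Set.mem_ofPred_eq, fibreDimAt_graph a x ξ₀ hξ₀]
      constructor
      · intro h hle
        have : resTrdegNat (a.orbitMap x).left ξ₀ ≤ trdegNat G.hom ξ₀ - r - 1 := by
          exact_mod_cast hle
        omega
      · intro h
        by_contra hcon
        apply h
        have : resTrdegNat (a.orbitMap x).left ξ₀ ≤ trdegNat G.hom ξ₀ - r - 1 := by omega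
        exact_mod_cast this

end Field

end Groth.Agent.Lib.Helper72.OrbitSemi
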