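import Groth.Agent.Lib.Helper72.OrbitClosed
import Mathlib.AlgebraicGeometry.Morphisms.Smooth

/-!
# Homogeneous morphisms that are smooth at one point are smooth
-/

set_option autoImplicit false

universe u

open AlgebraicGeometry CategoryTheory CategoryTheory.Limits TopologicalSpace Topology

namespace Groth.Agent.Lib.Helper72.OrbitSmooth

open Groth.Agent.Lib.Helper72.OrbitDim Groth.Agent.Lib.Helper72.OrbitClosed

variable {k : Type u} [Field k] {G X : Scheme.{u}}
  (qG : G ⟶ Spec (CommRingCat.of k)) (qX : X ⟶ Spec (CommRingCat.of k))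
  [LocallyOfFiniteType qG] [QuasiCompact qG] [LocallyOfFiniteType qX] [QuasiCompact qX]
  (α : G ⟶ X) (hom : Homog qG qX α)

include qG hom in
omit [QuasiCompact qG] [LocallyOfFiniteType qX] [QuasiCompact qX] in
/-- A homogeneous morphism which is smooth at one point is smooth. -/
theorem smooth_of_homog [LocallyOfFinitePresentation α] (g : G) (hg : g ∈ α.smoothLocus) :
    Smooth α := by
  have hJ : JacobsonSpace G := LocallyOfFiniteType.jacobsonSpace qG
  rw [← Scheme.Hom.smoothLocus_eq_top_iff, ← TopologicalSpace.Opens.coe_eq_univ,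
    ← not_ne_iff, ← Set.nonempty_compl]
  intro H
  obtain ⟨c, hc, hcc⟩ :=
    nonempty_inter_closedPoints H α.smoothLocus.2.isClosed_compl.isLocallyClosed
  obtain ⟨v, hv, hvc⟩ := nonempty_inter_closedPoints (Z := (α.smoothLocus : Set G)) ⟨g, hg⟩
    α.smoothLocus.2.isLocallyClosed
  obtain ⟨L, τ, hL, hτ, -, -, hLτ, hLc⟩ := hom c v hcc hvc
  apply hc
  have hv' : (α.stalkMap (L c)).hom.FormallySmooth := by rw [hLc]; exact hv
  have h1 : ((L ≫ α).stalkMap c).hom.FormallySmooth := by
    rw [Scheme.Hom.stalkMap_comp]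
    exact (RingHom.FormallySmooth.respectsIso.cancel_right_isIso _ (L.stalkMap c)).mpr hv'
  rw [hLτ, Scheme.Hom.stalkMap_comp] at h1
  exact (RingHom.FormallySmooth.respectsIso.cancel_left_isIso (τ.stalkMap (α c)) _).mp h1

end Groth.Agent.Lib.Helper72.OrbitSmooth
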