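import Mathlib.CategoryTheory.Sites.Precoverage
import Mathlib.CategoryTheory.Sites.PrecoverageToGrothendieck

set_option autoImplicit false

namespace Groth.Agent.Lib.Helper72

open CategoryTheory

universe v₁ u₁

variable {C : Type u₁} [Category.{v₁} C]

/-- presieve form of stability under composition. -/
lemma bind_mem_coverings (P : Precoverage C) [P.IsStableUnderComposition] {X : C}
    (R : Presieve X) (hR : R ∈ P X) (R₂ : ∀ ⦃Y : C⦄ ⦃f : Y ⟶ X⦄, R f → Presieve Y)
    (h₂ : ∀ ⦃Y : C⦄ ⦃f : Y ⟶ X⦄ (hf : R f), R₂ hf ∈ P Y) : R.bind R₂ ∈ P X := by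
  obtain ⟨ι, Z, g, rfl⟩ := R.exists_eq_ofArrows
  have hex : ∀ ⦃Y : C⦄ (f : Y ⟶ X) (H : Presieve.ofArrows Z g f),
      ∃ (j : Type (max u₁ v₁)) (W : j → C) (k : ∀ i, W i ⟶ Y), R₂ H = .ofArrows W k :=
    fun Y f H => (R₂ H).exists_eq_ofArrows
  choose j W k hk using hex
  have e : R₂ = fun _ f H => Presieve.ofArrows (W f H) (k f H) := by
    funext Y f H
    exact hk f H
  rw [e, Presieve.ofArrows_bind]
  refine Precoverage.comp_mem_coverings (f := g) hR
    (σ := fun i => j (g i) (Presieve.ofArrows.mk i))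
    (Y := fun i => W (g i) (Presieve.ofArrows.mk i))
    (g := fun i => k (g i) (Presieve.ofArrows.mk i)) ?_
  intro i
  rw [← hk]
  exact h₂ _

lemma mem_sup_coverings_iff (P P' : Precoverage C) {X : C} (R : Presieve X) :
    R ∈ (P ⊔ P') X ↔ R ∈ P X ∨ R ∈ P' X := Iff.rfl

end Groth.Agent.Lib.Helper72
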