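import Mathlib.CategoryTheory.Monoidal.Cartesian.Grp
import Mathlib.CategoryTheory.Monoidal.Grp
import Mathlib.CategoryTheory.Limits.Shapes.Equalizers
import Mathlib.CategoryTheory.Limits.Preserves.Shapes.Equalizers

set_option autoImplicit false

namespace Groth.Agent.Lib.Helper72

open CategoryTheory CategoryTheory.Limits MonoidalCategory CartesianMonoidalCategory MonObj

section whisker

variable {E : Type*} [Category E] [CartesianMonoidalCategory E]
variable {A B : E} (f g : A ⟶ B) [HasCoequalizer f g]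

noncomputable def whiskerCoeqIsColimit (X : E) [PreservesColimit (parallelPair f g) (tensorLeft X)] :
    IsColimit (Cofork.ofπ (X ◁ coequalizer.π f g)
      (by rw [← whiskerLeft_comp, ← whiskerLeft_comp, coequalizer.condition]) :
        Cofork (X ◁ f) (X ◁ g)) :=
  isColimitOfHasCoequalizerOfPreservesColimit (tensorLeft X) f g

lemma whisker_π_hom_ext (X : E) [PreservesColimit (parallelPair f g) (tensorLeft X)] {W : E}
    {k l : X ⊗ coequalizer f g ⟶ W}
    (h : X ◁ coequalizer.π f g ≫ k = X ◁ coequalizer.π f g ≫ l) : k = l :=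
  Cofork.IsColimit.hom_ext (whiskerCoeqIsColimit f g X) h

noncomputable def whiskerDesc (X : E) [PreservesColimit (parallelPair f g) (tensorLeft X)] {W : E}
    (k : X ⊗ B ⟶ W) (hk : X ◁ f ≫ k = X ◁ g ≫ k) : X ⊗ coequalizer f g ⟶ W :=
  Cofork.IsColimit.desc (whiskerCoeqIsColimit f g X) k hk

@[reassoc]
lemma whisker_π_desc (X : E) [PreservesColimit (parallelPair f g) (tensorLeft X)] {W : E}
    (k : X ⊗ B ⟶ W) (hk : X ◁ f ≫ k = X ◁ g ≫ k) :
    X ◁ coequalizer.π f g ≫ whiskerDesc f g X k hk = k :=
  Cofork.IsColimit.π_desc' (whiskerCoeqIsColimit f g X) k hk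

end whisker

end Groth.Agent.Lib.Helper72
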