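import Mathlib.CategoryTheory.Sites.CartesianMonoidal
import Mathlib.CategoryTheory.Sites.Sheafification
import Mathlib.CategoryTheory.Sites.Limits
import Mathlib.CategoryTheory.Monoidal.Closed.Types
import Mathlib.CategoryTheory.Monoidal.Cartesian.FunctorCategory
import Mathlib.CategoryTheory.Adjunction.Limits
import Mathlib.CategoryTheory.Adjunction.FullyFaithful

set_option autoImplicit false

namespace Groth.Agent.Lib.Helper72

open CategoryTheory CategoryTheory.Limits MonoidalCategory CartesianMonoidalCategory

universe w v₁ u₁

section general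

variable {P E E' : Type*} [Category P] [Category E] [Category E']

lemma preservesColimitsOfShape_of_comp_reflector {L : P ⥤ E} {R : E ⥤ P} (adj : L ⊣ R)
    [R.Full] [R.Faithful]
    (K : Type*) [Category K] [HasColimitsOfShape K P] (T : E ⥤ E')
    [PreservesColimitsOfShape K (L ⋙ T)] : PreservesColimitsOfShape K T := by
  constructor
  intro D
  have : PreservesColimitsOfSize L := adj.leftAdjoint_preservesColimits
  let cP := colimit.cocone (D ⋙ R)
  let hcP : IsColimit cP := colimit.isColimit _
  let e : (D ⋙ R) ⋙ L ≅ D :=
    Functor.associator _ _ _ ≪≫ Functor.isoWhiskerLeft D (asIso adj.counit) ≪≫ D.rightUnitor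
  let c' : Cocone D := (Cocone.precompose e.inv).obj (L.mapCocone cP)
  have hc' : IsColimit c' := (IsColimit.precomposeInvEquiv e _).symm (isColimitOfPreserves L hcP)
  refine preservesColimit_of_preserves_colimit_cocone hc' ?_
  refine IsColimit.ofIsoColimit ?_ (Functor.mapCoconePrecompose T).symm
  refine (IsColimit.precomposeInvEquiv (Functor.isoWhiskerRight e T) _).symm ?_
  exact IsColimit.ofIsoColimit (isColimitOfPreserves (L ⋙ T) hcP)
    (Functor.mapCoconeMapCocone _).symm

end general

section sheaf

variable {C : Type u₁} [Category.{v₁} C] (J : GrothendieckTopology C) [HasSheafify J (Type w)]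

lemma sheaf_tensorLeft_preservesCoequalizers (G : Sheaf J (Type w)) :
    PreservesColimitsOfShape WalkingParallelPair (tensorLeft G) := by
  let a := presheafToSheaf J (Type w)
  have adj := sheafificationAdjunction J (Type w)
  let i1 : tensorLeft G.obj ⋙ a ≅ a ⋙ tensorLeft (a.obj G.obj) := prodComparisonNatIso a G.obj
  let i2 : a.obj G.obj ≅ G := asIso (adj.counit.app G)
  let i3 : tensorLeft (a.obj G.obj) ≅ tensorLeft G := (curriedTensor _).mapIso i2
  have : PreservesColimitsOfShape WalkingParallelPair (a ⋙ tensorLeft G) :=
    preservesColimitsOfShape_of_natIso (i1 ≪≫ Functor.isoWhiskerLeft a i3)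
  exact preservesColimitsOfShape_of_comp_reflector adj _ _

end sheaf

end Groth.Agent.Lib.Helper72
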