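import Groth.Agent.Lib.Helper72.QuotGrp
import Groth.Agent.Lib.Helper72.SheafTensor
import Groth.Agent.Lib.Helper57.SheafQuot
import Mathlib.CategoryTheory.Limits.Shapes.KernelPair
import Mathlib.Tactic.Group

set_option autoImplicit false

namespace Groth.Agent.Lib.Helper72

open CategoryTheory CategoryTheory.Limits MonoidalCategory CartesianMonoidalCategory MonObj

universe w v₁ u₁

section orbit

variable {E : Type*} [Category E] [CartesianMonoidalCategory E] [HasPullbacks E]
  {H G : E} [GrpObj H] [GrpObj G] (u : H ⟶ G)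

lemma comp_mul_eq' {X : E} (k : X ⟶ G ⊗ G) : k ≫ μ = (k ≫ fst _ _) * (k ≫ snd _ _) := by
  rw [Hom.mul_def]
  congr 1
  ext <;> simp

lemma orbit_map_eq : (G ◁ u) ≫ μ = fst G H * (snd G H ≫ u) := by
  rw [comp_mul_eq', whiskerLeft_fst, whiskerLeft_snd]

lemma comp_orbit_map {X : E} (f : X ⟶ G ⊗ H) :
    f ≫ (G ◁ u) ≫ μ = (f ≫ fst G H) * ((f ≫ snd G H) ≫ u) := by
  rw [orbit_map_eq, MonObj.comp_mul, Category.assoc]

omit [HasPullbacks E] [GrpObj H] in
lemma quot_cond_elem [HasCoequalizers E] {X : E} (x : X ⟶ G) (k : X ⟶ H) :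
    (x * (k ≫ u)) ≫ coequalizer.π (fst G H) ((G ◁ u) ≫ μ) =
      x ≫ coequalizer.π (fst G H) ((G ◁ u) ≫ μ) := by
  have h := coequalizer.condition (fst G H) ((G ◁ u) ≫ μ)
  have h2 := congrArg (fun t => lift x k ≫ t) h
  simp only [lift_fst_assoc, lift_whiskerLeft_assoc, Category.assoc] at h2
  rw [Hom.mul_def, Category.assoc]
  exact h2.symm

variable [Mono u] [hu : IsMonHom u]

/-- transitivity witness -/
noncomputable def orbitTrans : pullback ((G ◁ u) ≫ μ) (fst G H) ⟶ G ⊗ H :=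
  lift (pullback.fst ((G ◁ u) ≫ μ) (fst G H) ≫ fst G H)
    ((pullback.fst ((G ◁ u) ≫ μ) (fst G H) ≫ snd G H) *
      (pullback.snd ((G ◁ u) ≫ μ) (fst G H) ≫ snd G H))

omit [Mono u] hu in
lemma orbitTrans_fst : orbitTrans u ≫ fst G H =
    pullback.fst ((G ◁ u) ≫ μ) (fst G H) ≫ fst G H := by
  simp [orbitTrans]

omit [Mono u] in
lemma orbitTrans_snd : orbitTrans u ≫ (G ◁ u) ≫ μ =
    pullback.snd ((G ◁ u) ≫ μ) (fst G H) ≫ (G ◁ u) ≫ μ := by
  have hc := pullback.condition (f := (G ◁ u) ≫ μ) (g := fst G H)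
  rw [comp_orbit_map] at hc
  rw [comp_orbit_map, comp_orbit_map, orbitTrans, lift_fst, lift_snd, MonObj.mul_comp,
    ← _root_.mul_assoc, hc]

/-- the orbit relation `G ⊗ H ⇉ G` of a subgroup object is an equivalence relation. -/
noncomputable def orbitEquivalenceRelation :
    EquivalenceRelation (fst G H) ((G ◁ u) ≫ μ) where
  right_cancellation := by
    intro Y f g h₁ h₂
    rw [comp_orbit_map, comp_orbit_map, h₁] at h₂
    have h₃ := mul_left_cancel h₂
    rw [cancel_mono] at h₃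
    ext
    · exact h₁
    · exact h₃
  r := lift (𝟙 G) 1
  reflexivity₁ := lift_fst _ _
  reflexivity₂ := by
    rw [comp_orbit_map, lift_fst, lift_snd, MonObj.one_comp, _root_.mul_one]
  s := lift ((G ◁ u) ≫ μ) ((snd G H)⁻¹)
  symmetry₁ := lift_fst _ _
  symmetry₂ := by
    rw [comp_orbit_map, lift_fst, lift_snd, orbit_map_eq, GrpObj.inv_comp]
    group
  c := PullbackCone.mk (pullback.fst ((G ◁ u) ≫ μ) (fst G H))
    (pullback.snd ((G ◁ u) ≫ μ) (fst G H)) pullback.condition
  isLimit := pullbackIsPullback _ _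
  t := orbitTrans u
  transitivity₁ := orbitTrans_fst u
  transitivity₂ := orbitTrans_snd u

end orbit

section sheaf

variable {C : Type u₁} [Category.{v₁} C] (J : GrothendieckTopology C) [HasSheafify J (Type w)]
  {H G : Sheaf J (Type w)} [hH : GrpObj H] [hG : GrpObj G] (u : H ⟶ G) [Mono u]
  (hu : @IsMonHom (Sheaf J (Type w)) _ _ H G hH.toMonObj hG.toMonObj u)

include hu in
/-- In sheaves of sets, the orbit relation of a subgroup sheaf is the kernel pair of the
quotient map `G ⟶ G/H`. -/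
theorem isKernelPair_quotient :
    IsKernelPair (coequalizer.π (fst G H) ((G ◁ u) ≫ hG.mul)) (fst G H) ((G ◁ u) ≫ hG.mul) := by
  let e := Groth.Agent.Lib.Helper57.sheafUeerOfEquivalenceRelation J
    (orbitEquivalenceRelation (hu := hu) u)
  let hcoeq := EffectiveEquivalenceRelation.isCoequalizer _ _ e.toEffectiveEquivalenceRelation
  let c₂ := coequalizerIsCoequalizer (fst G H) ((G ◁ u) ≫ hG.mul)
  let i := IsColimit.coconePointUniqueUpToIso hcoeq c₂
  have hi : e.π ≫ i.hom = coequalizer.π (fst G H) ((G ◁ u) ≫ hG.mul) :=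
    IsColimit.comp_coconePointUniqueUpToIso_hom hcoeq c₂ WalkingParallelPair.one
  rw [← hi]
  exact e.isKernelPair.comp_of_mono

end sheaf

end Groth.Agent.Lib.Helper72
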