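import Groth.Agent.Lib.Helper72.QuotKer

set_option autoImplicit false

namespace Groth.Agent.Lib.Helper72

open CategoryTheory CategoryTheory.Limits MonoidalCategory CartesianMonoidalCategory MonObj

universe w v₁ u₁

section

variable {E : Type*} [Category E] [CartesianMonoidalCategory E]
  {H L G Q : E} [GrpObj L] [GrpObj G] (u : H ⟶ G) (l : L ⟶ G)

lemma cond_elem (π : G ⟶ Q) (hw : fst G H ≫ π = ((G ◁ u) ≫ μ) ≫ π) {X : E} (x : X ⟶ G)
    (k : X ⟶ H) : (x * (k ≫ u)) ≫ π = x ≫ π := by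
  have h2 := congrArg (fun t => lift x k ≫ t) hw
  simp only [lift_fst_assoc, lift_whiskerLeft_assoc, Category.assoc] at h2
  rw [Hom.mul_def, Category.assoc]
  exact h2.symm

lemma comp_mul_eq'' {X : E} (k : X ⟶ G ⊗ G) : k ≫ μ = (k ≫ fst _ _) * (k ≫ snd _ _) := by
  rw [Hom.mul_def]
  congr 1
  ext <;> simp

lemma comp_whiskerLeft_mul {K X : E} (k : K ⟶ G) (f : X ⟶ G ⊗ K) :
    f ≫ (G ◁ k) ≫ μ = (f ≫ fst G K) * ((f ≫ snd G K) ≫ k) := by
  rw [← Category.assoc, comp_mul_eq'', Category.assoc, Category.assoc, whiskerLeft_fst,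
    whiskerLeft_snd, Category.assoc]

variable [HasPullbacks E] [hl : IsMonHom l]

theorem isKernelPair_comp_of_orbit (π : G ⟶ Q)
    (hπ : IsKernelPair π (fst G H) ((G ◁ u) ≫ μ)) :
    IsKernelPair (l ≫ π) (fst L (pullback u l)) ((L ◁ pullback.snd u l) ≫ μ) := by
  have hw' : ((L ◁ pullback.snd u l) ≫ μ) ≫ l =
      (fst L (pullback u l) ≫ l) * ((snd L (pullback u l) ≫ pullback.fst u l) ≫ u) := by
    have h1 := comp_whiskerLeft_mul (pullback.snd u l) (𝟙 (L ⊗ pullback u l))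
    simp only [Category.id_comp] at h1
    rw [h1, MonObj.mul_comp, Category.assoc, Category.assoc, pullback.condition]
  have w : fst L (pullback u l) ≫ l ≫ π = ((L ◁ pullback.snd u l) ≫ μ) ≫ l ≫ π := by
    rw [← Category.assoc ((L ◁ pullback.snd u l) ≫ μ) l π, hw', cond_elem u π hπ.w, Category.assoc]
  have key : ∀ (s : PullbackCone (l ≫ π) (l ≫ π)),
      ∃ h : s.pt ⟶ H, h ≫ u = (s.fst⁻¹ * s.snd) ≫ l ∧
        ∀ h' : s.pt ⟶ H, h' ≫ u = (s.fst⁻¹ * s.snd) ≫ l → h' = h := by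
    intro s
    have hc : (s.fst ≫ l) ≫ π = (s.snd ≫ l) ≫ π := by simpa using s.condition
    have h1 := hπ.lift_fst (s.fst ≫ l) (s.snd ≫ l) hc
    have h2 := hπ.lift_snd (s.fst ≫ l) (s.snd ≫ l) hc
    rw [comp_whiskerLeft_mul, h1] at h2
    refine ⟨hπ.lift (s.fst ≫ l) (s.snd ≫ l) hc ≫ snd G H, ?_, ?_⟩
    · rw [MonObj.mul_comp, GrpObj.inv_comp]
      exact eq_inv_mul_of_mul_eq h2
    · intro h' hh'
      have h3 : lift (s.fst ≫ l) h' = hπ.lift (s.fst ≫ l) (s.snd ≫ l) hc := by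
        apply hπ.hom_ext
        · rw [lift_fst, h1]
        · rw [hπ.lift_snd, comp_whiskerLeft_mul, lift_fst, lift_snd, hh', MonObj.mul_comp,
            GrpObj.inv_comp]
          group
      rw [← h3, lift_snd]
  choose h hh huniq using key
  refine ⟨⟨w⟩, ⟨PullbackCone.IsLimit.mk _
    (fun s => lift s.fst (pullback.lift (h s) (s.fst⁻¹ * s.snd) (hh s))) ?_ ?_ ?_⟩⟩
  · intro s
    exact lift_fst _ _
  · intro s
    rw [comp_whiskerLeft_mul, lift_fst, lift_snd, pullback.lift_snd]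
    group
  · intro s m hm1 hm2
    rw [comp_whiskerLeft_mul, hm1] at hm2
    have hk2 : (m ≫ snd _ _) ≫ pullback.snd u l = s.fst⁻¹ * s.snd :=
      eq_inv_mul_of_mul_eq hm2
    apply CartesianMonoidalCategory.hom_ext
    · rw [lift_fst]; exact hm1
    · rw [lift_snd]
      apply pullback.hom_ext
      · rw [pullback.lift_fst]
        apply huniq
        rw [Category.assoc, pullback.condition, ← Category.assoc, hk2]
      · rw [pullback.lift_snd]; exact hk2

end

section sheaf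

variable {C : Type u₁} [Category.{v₁} C] (J : GrothendieckTopology C) [HasSheafify J (Type w)]
  {H L G : Sheaf J (Type w)} [hH : GrpObj H] [hL : GrpObj L] [hG : GrpObj G]
  (u : H ⟶ G) (l : L ⟶ G) [Mono u]
  (hu : @IsMonHom (Sheaf J (Type w)) _ _ H G hH.toMonObj hG.toMonObj u)
  (hl : @IsMonHom (Sheaf J (Type w)) _ _ L G hL.toMonObj hG.toMonObj l)

include hu hl in
theorem isKernelPair_second_iso :
    IsKernelPair (l ≫ coequalizer.π (fst G H) ((G ◁ u) ≫ hG.mul))
      (fst L (pullback u l)) ((L ◁ pullback.snd u l) ≫ hL.mul) :=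
  isKernelPair_comp_of_orbit (hl := hl) u l _ (isKernelPair_quotient J u hu)

end sheaf

end Groth.Agent.Lib.Helper72
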