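import Mathlib

/-!
# A finite free local algebra receiving all homomorphisms into a fixed field (helper72)

Given a local artinian ring `A`, a finite free `A`-algebra `A₁` and a field `Ω` over `A`, we build a
finite free local `A`-algebra `A'` with an `A`-algebra map `Φ : A' → Ω` such that every
`A`-algebra map `A₁ → Ω` factors as `Φ ∘ j` for some `A`-algebra map `j : A₁ → A'`.
-/

set_option autoImplicit false
universe u

namespace Groth.Agent.Lib.Helper72.StrictRatAlg

open TensorProduct

variable (A : Type u) [CommRing A] (A₁ : Type u) [CommRing A₁] [Algebra A A₁]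
  [Module.Finite A A₁] [Module.Free A A₁] (Ω : Type u) [Field Ω] [Algebra A Ω]

theorem exists_tensor (l : List (A₁ →ₐ[A] Ω)) :
    ∃ (T : Type u) (_ : CommRing T) (_ : Algebra A T) (_ : Module.Finite A T)
      (_ : Module.Free A T) (Φ : T →ₐ[A] Ω), ∀ h ∈ l, ∃ j : A₁ →ₐ[A] T, Φ.comp j = h := by
  induction l with
  | nil =>
    exact ⟨A, inferInstance, inferInstance, inferInstance, inferInstance, Algebra.ofId A Ω,
      fun h hh => by simp at hh⟩
  | cons h l ih =>
    obtain ⟨T, _, _, _, _, Φ, hΦ⟩ := ih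
    refine ⟨T ⊗[A] A₁, inferInstance, inferInstance, inferInstance, inferInstance,
      Algebra.TensorProduct.productMap Φ h, ?_⟩
    intro h' hh'
    rcases List.mem_cons.mp hh' with rfl | hh'
    · exact ⟨Algebra.TensorProduct.includeRight, Algebra.TensorProduct.productMap_right _ _⟩
    · obtain ⟨j, hj⟩ := hΦ h' hh'
      refine ⟨Algebra.TensorProduct.includeLeft.comp j, ?_⟩
      rw [← AlgHom.comp_assoc, Algebra.TensorProduct.productMap_left, hj]

theorem exists_local [IsArtinianRing A] [IsLocalRing A] :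
    ∃ (A' : Type u) (_ : CommRing A') (_ : IsLocalRing A') (_ : Algebra A A')
      (_ : Module.Finite A A') (_ : Module.Free A A') (Φ : A' →ₐ[A] Ω),
      ∀ h : A₁ →ₐ[A] Ω, ∃ j : A₁ →ₐ[A] A', Φ.comp j = h := by
  classical
  haveI : Fintype (A₁ →ₐ[A] Ω) := Fintype.ofFinite _
  obtain ⟨T, _, _, _, _, Φ, hΦ⟩ :=
    exists_tensor A A₁ Ω (Finset.univ : Finset (A₁ →ₐ[A] Ω)).toList
  let 𝔐 : Ideal T := RingHom.ker Φ.toRingHom
  haveI : 𝔐.IsPrime := RingHom.ker_isPrime _
  haveI : IsArtinianRing T := IsArtinianRing.of_finite A T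
  have hsurj : Function.Surjective (algebraMap T (Localization.AtPrime 𝔐)) :=
    IsArtinianRing.localization_surjective 𝔐.primeCompl _
  haveI : Module.Finite A (Localization.AtPrime 𝔐) :=
    Module.Finite.of_surjective (IsScalarTower.toAlgHom A T (Localization.AtPrime 𝔐)).toLinearMap
      hsurj
  haveI : Module.Flat A (Localization.AtPrime 𝔐) := Module.Flat.trans A T _
  haveI : Module.Free A (Localization.AtPrime 𝔐) := Module.free_of_flat_of_isLocalRing
  have hunit : ∀ y : 𝔐.primeCompl, IsUnit (Φ.toRingHom y) := fun y =>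
    IsUnit.mk0 _ (fun h0 => y.2 h0)
  let Φr : Localization.AtPrime 𝔐 →+* Ω := IsLocalization.lift hunit
  have hΦr : Φr.comp (algebraMap T (Localization.AtPrime 𝔐)) = Φ.toRingHom :=
    IsLocalization.lift_comp hunit
  let Φ' : Localization.AtPrime 𝔐 →ₐ[A] Ω :=
    { Φr with
      commutes' := fun a => by
        rw [IsScalarTower.algebraMap_apply A T (Localization.AtPrime 𝔐)]
        show Φr.comp (algebraMap T (Localization.AtPrime 𝔐)) (algebraMap A T a) = _
        rw [hΦr]
        exact Φ.commutes a }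
  refine ⟨Localization.AtPrime 𝔐, inferInstance, inferInstance, inferInstance, inferInstance,
    inferInstance, Φ', ?_⟩
  intro h
  obtain ⟨j, hj⟩ := hΦ h (by simp)
  refine ⟨(IsScalarTower.toAlgHom A T (Localization.AtPrime 𝔐)).comp j, ?_⟩
  ext a
  show Φr.comp (algebraMap T (Localization.AtPrime 𝔐)) (j a) = h a
  rw [hΦr, ← hj]
  rfl

end Groth.Agent.Lib.Helper72.StrictRatAlg
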