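import Groth.Agent.S3029
import Groth.Agent.S1349
import Groth.Agent.Lib.Helper72.StrictRatAlg
import Groth.Agent.Lib.Helper19.Grp.OrbitHomogeneity
import Groth.Prelude.Def_Red

/-!
# Finite free quasi-sections of flat group schemes over a local artinian ring (helper72)
-/

set_option autoImplicit false
universe u

open CategoryTheory CategoryTheory.Limits MonoidalCategory CartesianMonoidalCategory MonObj GrpObj
  AlgebraicGeometry

namespace Groth.Agent.Lib.Helper72.StrictRat

/-- A flat group scheme locally of finite type is Cohen–Macaulay at every point. -/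
theorem isCMAt_of_grp {S : Scheme.{u}} (G : Over S) [GrpObj G] [Flat G.hom]
    [LocallyOfFiniteType G.hom] (x : G.left) : MoreMor.IsCMAt G.hom x := by
  refine ⟨Flat.stalkMap G.hom x, ?_⟩
  let s := G.hom x
  let fs : Spec (CommRingCat.of (S.residueField s)) ⟶ S := S.fromSpecResidueField s
  let Gs : Over (Spec (CommRingCat.of (S.residueField s))) := Red.bc fs G
  haveI : LocallyOfFiniteType Gs.hom := by
    show LocallyOfFiniteType (pullback.snd G.hom fs)
    infer_instance
  exact Groth.Agent.S3029.result (S.residueField s) Gs (G.hom.asFiber x)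

/-- A point with values in a field whose image lies in a closed subscheme factors through it. -/
theorem exists_lift_closedImmersion {Z V : Scheme.{u}} (i : Z ⟶ V) [IsClosedImmersion i]
    (Ω : Type u) [Field Ω] (b : Spec (CommRingCat.of Ω) ⟶ V)
    (hb : ∀ p, b p ∈ Set.range i) : ∃ b' : Spec (CommRingCat.of Ω) ⟶ Z, b' ≫ i = b := by
  haveI : Subsingleton ↥(Spec (CommRingCat.of Ω)) :=
    inferInstanceAs (Subsingleton (PrimeSpectrum Ω))
  let p₀ : ↥(Spec (CommRingCat.of Ω)) := IsLocalRing.closedPoint Ω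
  obtain ⟨z, hz⟩ := hb p₀
  obtain ⟨w, -, hw⟩ := Scheme.Pullback.exists_preimage_pullback z p₀ hz
  haveI : Surjective (pullback.snd i b) := ⟨fun q => ⟨w, Subsingleton.elim _ _⟩⟩
  haveI : IsIso (pullback.snd i b) := isIso_of_isClosedImmersion_of_surjective _
  refine ⟨inv (pullback.snd i b) ≫ pullback.fst i b, ?_⟩
  rw [Category.assoc, pullback.condition, IsIso.inv_hom_id_assoc]

/-- **Finite free quasi-sections**: through a closed point `x` of a flat group scheme locally of
finite type over a local artinian ring `A` there passes an `A`-morphism from the spectrum of a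
finite free `A`-algebra `A₁`, through which every field-valued point located at `x` factors. -/
theorem exists_quasiSection (A : Type u) [CommRing A] [IsArtinianRing A] [IsLocalRing A]
    (G : Over (Spec (CommRingCat.of A))) [GrpObj G] [Flat G.hom] [LocallyOfFiniteType G.hom]
    (x : G.left) (hx : IsClosed ({x} : Set G.left)) :
    ∃ (A₁ : Type u) (_ : CommRing A₁) (_ : Algebra A A₁) (_ : Module.Finite A A₁)
      (_ : Module.Free A A₁) (φ₁ : Spec (CommRingCat.of A₁) ⟶ G.left),
      φ₁ ≫ G.hom = Spec.map (CommRingCat.ofHom (algebraMap A A₁)) ∧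
      ∀ (Ω : Type u) [Field Ω] (a : Spec (CommRingCat.of Ω) ⟶ G.left), (∀ p, a p = x) →
        ∃ ρ : A₁ →+* Ω, Spec.map (CommRingCat.ofHom ρ) ≫ φ₁ = a := by
  have hCM := isCMAt_of_grp G x
  have hcl : IsClosed ({G.hom.asFiber x} : Set ↑(G.hom.fiber (G.hom x))) := by
    have h1 := hx.preimage (G.hom.fiberι (G.hom x)).continuous
    convert h1 using 1
    ext q
    simp only [Set.mem_singleton_iff, Set.mem_preimage]
    constructor
    · rintro rfl
      exact G.hom.fiberι_asFiber x
    · intro hq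
      exact (G.hom.fiberι (G.hom x)).isEmbedding.injective
        (hq.trans (G.hom.fiberι_asFiber x).symm)
  haveI : LocallyOfFinitePresentation G.hom :=
    LocallyOfFinitePresentation.iff_locallyOfFiniteType.mpr inferInstance
  obtain ⟨V, Z, i, hreg, ⟨z₀, hz₀⟩, hfl, hfp, hqf, huniq⟩ :=
    Groth.Agent.S1349.result G.hom x hCM hcl
  haveI : IsClosedImmersion i := hreg.1
  haveI : Subsingleton ↥(Spec (CommRingCat.of A)) :=
    Groth.Agent.Lib.Helper19.subsingleton_Spec_of_isArtinianRing_of_isLocalRing A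
  have hall : ∀ z : Z, V.ι (i z) = x := fun z => huniq z (Subsingleton.elim _ _)
  haveI : Subsingleton Z := ⟨fun z z' => i.isEmbedding.injective
    (V.ι.isOpenEmbedding.injective ((hall z).trans (hall z').symm))⟩
  haveI : CompactSpace Z := Finite.compactSpace
  haveI : Flat (i ≫ V.ι ≫ G.hom) := hfl
  haveI : LocallyOfFinitePresentation (i ≫ V.ι ≫ G.hom) := hfp
  haveI : LocallyQuasiFinite (i ≫ V.ι ≫ G.hom) := hqf
  haveI : IsFinite (i ≫ V.ι ≫ G.hom) := IsFinite.of_locallyQuasiFinite _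
  haveI : IsAffine Z := isAffine_of_isAffineHom (i ≫ V.ι ≫ G.hom)
  let gam : CommRingCat.of A ⟶ Γ(Z, ⊤) := Spec.preimage (Z.isoSpec.inv ≫ i ≫ V.ι ≫ G.hom)
  have hgam : Spec.map gam = Z.isoSpec.inv ≫ i ≫ V.ι ≫ G.hom := Spec.map_preimage _
  letI : Algebra A Γ(Z, ⊤) := gam.hom.toAlgebra
  have hfin : IsFinite (Spec.map gam) := by rw [hgam]; infer_instance
  have hflat : Flat (Spec.map gam) := by rw [hgam]; infer_instance
  haveI : Module.Finite A Γ(Z, ⊤) := (IsFinite.SpecMap_iff gam).mp hfin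
  haveI : Module.Flat A Γ(Z, ⊤) := (HasRingHomProperty.Spec_iff (P := @Flat)).mp hflat
  haveI : Module.Free A Γ(Z, ⊤) := Module.free_of_flat_of_isLocalRing
  refine ⟨Γ(Z, ⊤), inferInstance, inferInstance, inferInstance, inferInstance,
    Z.isoSpec.inv ≫ i ≫ V.ι, ?_, ?_⟩
  · rw [Category.assoc, Category.assoc, ← hgam]
    rfl
  · intro Ω _ a ha
    haveI : Subsingleton ↥(Spec (CommRingCat.of Ω)) :=
      inferInstanceAs (Subsingleton (PrimeSpectrum Ω))
    have hx0 : V.ι (i z₀) = x := hz₀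
    have hrange : Set.range a ⊆ Set.range V.ι := by
      rintro _ ⟨p, rfl⟩
      exact ⟨i z₀, hx0.trans (ha p).symm⟩
    let aV : Spec (CommRingCat.of Ω) ⟶ ↑V := IsOpenImmersion.lift V.ι a hrange
    have haV : aV ≫ V.ι = a := IsOpenImmersion.lift_fac _ _ _
    have hb : ∀ p, aV p ∈ Set.range i := by
      intro p
      refine ⟨z₀, V.ι.isOpenEmbedding.injective ?_⟩
      rw [hx0, ← Scheme.Hom.comp_apply, haV, ha p]
    obtain ⟨b', hb'⟩ := exists_lift_closedImmersion i Ω aV hb
    let ρ' : Γ(Z, ⊤) ⟶ CommRingCat.of Ω := Spec.preimage (b' ≫ Z.isoSpec.hom)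
    have hρ' : Spec.map ρ' = b' ≫ Z.isoSpec.hom := Spec.map_preimage _
    refine ⟨ρ'.hom, ?_⟩
    show Spec.map ρ' ≫ Z.isoSpec.inv ≫ i ≫ V.ι = a
    rw [hρ', Category.assoc, Iso.hom_inv_id_assoc, reassoc_of% hb', haV]

/-- A point of a scheme locally of finite type over a Jacobson base lying over a closed point
under a finite morphism is closed. -/
theorem isClosed_singleton_of_isFinite {P X : Scheme.{u}} (π : P ⟶ X) [IsFinite π]
    [JacobsonSpace P] (x' : P) (hx : IsClosed ({π x'} : Set X)) : IsClosed ({x'} : Set P) := by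
  have hC : IsClosed (closure ({x'} : Set P)) := isClosed_closure
  have h1 := JacobsonSpace.closure_inter_closedPoints hC
  have hne : (closure ({x'} : Set P) ∩ closedPoints P).Nonempty := by
    by_contra h
    rw [Set.not_nonempty_iff_eq_empty] at h
    rw [h, closure_empty] at h1
    have hne0 : (closure ({x'} : Set P)).Nonempty := ⟨x', subset_closure (Set.mem_singleton x')⟩
    exact hne0.ne_empty h1.symm
  obtain ⟨y', hy', hy'c⟩ := hne
  have hsp : x' ⤳ y' := specializes_iff_mem_closure.mpr hy'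
  have hπ : π y' = π x' := by
    have h2 : π x' ⤳ π y' := hsp.map π.continuous
    have h3 : π y' ∈ closure ({π x'} : Set X) := specializes_iff_mem_closure.mp h2
    rwa [hx.closure_eq] at h3
  have hdisc := Scheme.Hom.isDiscrete_preimage_singleton π (π x')
  have hxm : x' ∈ π ⁻¹' {π x'} := rfl
  have hym : y' ∈ π ⁻¹' {π x'} := hπ
  haveI : DiscreteTopology ↥(π ⁻¹' {π x'}) := isDiscrete_iff_discreteTopology.mp hdisc
  have hsp' : (⟨x', hxm⟩ : ↥(π ⁻¹' {π x'})) ⤳ ⟨y', hym⟩ :=
    (subtype_specializes_iff _ _).mpr hsp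
  have heq : x' = y' := congrArg Subtype.val hsp'.eq
  rw [heq]
  exact mem_closedPoints_iff.mp hy'c

/-- The main step: all points over `x` are strictly rational over the constructed algebra. -/
theorem main_aux (A : Type u) [CommRing A] [IsArtinianRing A] [IsLocalRing A]
    (G : Over (Spec (CommRingCat.of A))) [GrpObj G] [Flat G.hom] [LocallyOfFiniteType G.hom]
    (x : G.left) (hx : IsClosed ({x} : Set G.left))
    (A₁ : Type u) [CommRing A₁] [Algebra A A₁] (φ₁ : Spec (CommRingCat.of A₁) ⟶ G.left)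
    (hφ₁ : φ₁ ≫ G.hom = Spec.map (CommRingCat.ofHom (algebraMap A A₁)))
    (hlift : ∀ (Ω : Type u) [Field Ω] (a : Spec (CommRingCat.of Ω) ⟶ G.left), (∀ p, a p = x) →
        ∃ ρ : A₁ →+* Ω, Spec.map (CommRingCat.ofHom ρ) ≫ φ₁ = a)
    (Ω : Type u) [Field Ω] [IsAlgClosed Ω] [Algebra A Ω]
    (A' : Type u) [CommRing A'] [IsLocalRing A'] [Algebra A A'] [Module.Finite A A']
    (Φ : A' →ₐ[A] Ω) (hΦ : ∀ h : A₁ →ₐ[A] Ω, ∃ j : A₁ →ₐ[A] A', Φ.comp j = h)
    (g : Spec (CommRingCat.of A') ⟶ Spec (CommRingCat.of A))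
    (hg : g = Spec.map (CommRingCat.ofHom (algebraMap A A')))
    (x' : ↥(pullback G.hom g)) (hx' : (pullback.fst G.hom g) x' = x) :
    ∃ s : Spec (CommRingCat.of A') ⟶ pullback G.hom g,
      s ≫ pullback.snd G.hom g = 𝟙 _ ∧ x' ∈ Set.range s.base := by
  haveI : IsArtinianRing A' := IsArtinianRing.of_finite A A'
  haveI : Subsingleton ↥(Spec (CommRingCat.of A')) :=
    Groth.Agent.Lib.Helper19.subsingleton_Spec_of_isArtinianRing_of_isLocalRing A'
  haveI : Subsingleton ↥(Spec (CommRingCat.of Ω)) :=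
    inferInstanceAs (Subsingleton (PrimeSpectrum Ω))
  let p₀ : ↥(Spec (CommRingCat.of Ω)) := IsLocalRing.closedPoint Ω
  haveI : IsFinite g := by
    rw [hg]
    exact (IsFinite.SpecMap_iff _).mpr (RingHom.finite_algebraMap.mpr inferInstance)
  haveI : JacobsonSpace ↥(pullback G.hom g) :=
    LocallyOfFiniteType.jacobsonSpace (pullback.snd G.hom g)
  -- (i) `x'` is a closed point
  have hx'c : IsClosed ({x'} : Set ↥(pullback G.hom g)) :=
    isClosed_singleton_of_isFinite (pullback.fst G.hom g) x' (by rw [hx']; exact hx)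
  -- (ii) an `Ω`-point through `x'` over `Φ`
  obtain ⟨b, hb⟩ : ∃ b : Spec (CommRingCat.of Ω) ⟶ Spec (CommRingCat.of A'),
      b = Spec.map (CommRingCat.ofHom Φ.toRingHom) := ⟨_, rfl⟩
  haveI : JacobsonSpace ↥(pullback (pullback.snd G.hom g) b) :=
    LocallyOfFiniteType.jacobsonSpace (pullback.snd (pullback.snd G.hom g) b)
  obtain ⟨w, hw, -⟩ := Scheme.Pullback.exists_preimage_pullback (f := pullback.snd G.hom g)
    (g := b) x' p₀ (Subsingleton.elim _ _)
  have hC : IsClosed ((pullback.fst (pullback.snd G.hom g) b) ⁻¹' {x'}) :=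
    hx'c.preimage (pullback.fst (pullback.snd G.hom g) b).continuous
  have h1 := JacobsonSpace.closure_inter_closedPoints hC
  have hne : ((pullback.fst (pullback.snd G.hom g) b) ⁻¹' {x'} ∩
      closedPoints ↥(pullback (pullback.snd G.hom g) b)).Nonempty := by
    by_contra h
    rw [Set.not_nonempty_iff_eq_empty] at h
    rw [h, closure_empty] at h1
    have hne0 : ((pullback.fst (pullback.snd G.hom g) b) ⁻¹' {x'}).Nonempty := ⟨w, hw⟩
    exact hne0.ne_empty h1.symm
  obtain ⟨c, hcx, hcc⟩ := hne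
  obtain ⟨sΩ, hsΩ, hsΩc⟩ : ∃ sΩ : Spec (CommRingCat.of Ω) ⟶ pullback (pullback.snd G.hom g) b,
      sΩ ≫ pullback.snd (pullback.snd G.hom g) b = 𝟙 _ ∧ ∀ p, sΩ p = c :=
    ⟨pointOfClosedPoint (pullback.snd (pullback.snd G.hom g) b) c (mem_closedPoints_iff.mp hcc),
      pointOfClosedPoint_comp _ c _, fun p => pointOfClosedPoint_apply _ c _ p⟩
  obtain ⟨ψ, hψdef⟩ : ∃ ψ : Spec (CommRingCat.of Ω) ⟶ pullback G.hom g,
      ψ = sΩ ≫ pullback.fst (pullback.snd G.hom g) b := ⟨_, rfl⟩
  have hψx : ∀ p, ψ p = x' := by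
    intro p
    rw [hψdef, Scheme.Hom.comp_apply, hsΩc p]
    exact hcx
  have hψ₂ : ψ ≫ pullback.snd G.hom g = b := by
    rw [hψdef, Category.assoc, pullback.condition, reassoc_of% hsΩ]
  -- (iv) the corresponding homomorphism `A₁ → Ω`
  have ha : ∀ p, (ψ ≫ pullback.fst G.hom g) p = x := by
    intro p
    rw [Scheme.Hom.comp_apply, hψx p]
    exact hx'
  obtain ⟨ρ, hρ⟩ := hlift Ω (ψ ≫ pullback.fst G.hom g) ha
  have hcompat : ρ.comp (algebraMap A A₁) = algebraMap A Ω := by
    have h2 : Spec.map (CommRingCat.ofHom (ρ.comp (algebraMap A A₁))) =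
        Spec.map (CommRingCat.ofHom (algebraMap A Ω)) := by
      have e1 : CommRingCat.ofHom (ρ.comp (algebraMap A A₁)) =
          CommRingCat.ofHom (algebraMap A A₁) ≫ CommRingCat.ofHom ρ := rfl
      have e2 : CommRingCat.ofHom (algebraMap A Ω) =
          CommRingCat.ofHom (algebraMap A A') ≫ CommRingCat.ofHom Φ.toRingHom := by
        ext r
        exact (Φ.commutes r).symm
      rw [e1, e2, Spec.map_comp, Spec.map_comp, ← hφ₁, reassoc_of% hρ,
        pullback.condition, reassoc_of% hψ₂, hb, hg]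
    have h3 := Spec.map_injective h2
    exact congrArg CommRingCat.Hom.hom h3
  let h : A₁ →ₐ[A] Ω := { ρ with commutes' := fun r => DFunLike.congr_fun hcompat r }
  obtain ⟨j, hj⟩ := hΦ h
  have hcond : (Spec.map (CommRingCat.ofHom j.toRingHom) ≫ φ₁) ≫ G.hom =
      𝟙 (Spec (CommRingCat.of A')) ≫ g := by
    rw [Category.assoc, hφ₁, Category.id_comp, ← Spec.map_comp, hg]
    congr 1
    ext r
    exact j.commutes r
  obtain ⟨s, hs₁, hs₂⟩ : ∃ s : Spec (CommRingCat.of A') ⟶ pullback G.hom g,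
      s ≫ pullback.fst G.hom g = Spec.map (CommRingCat.ofHom j.toRingHom) ≫ φ₁ ∧
      s ≫ pullback.snd G.hom g = 𝟙 _ :=
    ⟨pullback.lift _ _ hcond, pullback.lift_fst _ _ _, pullback.lift_snd _ _ _⟩
  refine ⟨s, hs₂, ?_⟩
  have hψ : ψ = b ≫ s := by
    apply pullback.hom_ext
    · rw [Category.assoc, hs₁, ← hρ, hb, ← Category.assoc, ← Spec.map_comp]
      congr 2
      ext r
      exact (DFunLike.congr_fun hj r).symm
    · rw [Category.assoc, hs₂, Category.comp_id]
      exact hψ₂
  refine ⟨b p₀, ?_⟩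
  rw [← hψx p₀, hψ]
  rfl

end Groth.Agent.Lib.Helper72.StrictRat
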