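import Mathlib
import Groth.Agent.Lib.Helper35.ConstrTop

/-!
# An openness criterion in (locally) noetherian spaces (helper72)

A subset of a noetherian quasi-sober space which is stable under generization and is a countable
union of constructible subsets is open (EGA 0_III 9.2.6-style noetherian induction).
-/

set_option autoImplicit false
universe u

open Topology TopologicalSpace AlgebraicGeometry Set.Notation

namespace Groth.Agent.Lib.Helper72.TauTop

theorem isOpen_of_iUnion_constructible {X : Type*} [TopologicalSpace X] [NoetherianSpace X]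
    [QuasiSober X] (E : Set X) (Es : ℕ → Set X) (hE : E = ⋃ n, Es n)
    (hc : ∀ n, IsConstructible (Es n)) (hgen : StableUnderGeneralization E) : IsOpen E := by
  have key : ∀ Z : Set X, IsClosed Z → IsClosed (Z \ E) := by
    apply Groth.Agent.Lib.Helper35.noeth_closed_induction
    · simp
    · intro Z₁ Z₂ _ _ h1 h2
      rw [Set.union_diff_distrib]
      exact h1.union h2
    · intro Z hZ hZirr IH
      obtain ⟨ζ, hζ⟩ := QuasiSober.sober hZirr hZ
      have hζZ : ζ ∈ Z := hζ.mem
      by_cases hζE : ζ ∈ E
      · rw [hE] at hζE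
        obtain ⟨n, hn⟩ := Set.mem_iUnion.1 hζE
        have hopen : ∃ U : Set X, IsOpen U ∧ (U ∩ Z).Nonempty ∧ U ∩ Z ⊆ Es n := by
          rcases Groth.Agent.Lib.Helper35.constr_dichotomy (hc n) hZirr with h | ⟨U, hU, hne, hsub⟩
          · exact h
          · exfalso
            obtain ⟨y, hyU, hyZ⟩ := hne
            have hζU : ζ ∈ U := (hζ.specializes hyZ).mem_open hU hyU
            exact hsub ⟨hζU, hζZ⟩ hn
        obtain ⟨U, hU, hne, hsub⟩ := hopen
        have hlt : Z \ U ⊂ Z := Groth.Agent.Lib.Helper35.sdiff_open_ssubset hne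
        have hcl : IsClosed (Z \ U) := hZ.sdiff hU
        have := IH _ hcl hlt
        have heq : Z \ E = (Z \ U) \ E := by
          ext y
          constructor
          · rintro ⟨hyZ, hyE⟩
            refine ⟨⟨hyZ, fun hyU => hyE ?_⟩, hyE⟩
            rw [hE]
            exact Set.mem_iUnion.2 ⟨n, hsub ⟨hyU, hyZ⟩⟩
          · rintro ⟨⟨hyZ, -⟩, hyE⟩
            exact ⟨hyZ, hyE⟩
        rw [heq]
        exact this
      · have heq : Z \ E = Z := by
          ext y
          constructor
          · exact fun h => h.1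
          · intro hyZ
            exact ⟨hyZ, fun hyE => hζE (hgen (hζ.specializes hyZ) hyE)⟩
        rw [heq]
        exact hZ
  have := key Set.univ isClosed_univ
  rw [← Set.compl_eq_univ_diff] at this
  exact isClosed_compl_iff.1 this

/-- Scheme version: on a locally noetherian scheme, a countable union of locally constructible
subsets which is stable under generization is open. -/
theorem isOpen_of_stableUnderGeneralization {X : Scheme.{u}} [IsLocallyNoetherian X] (E : Set X)
    (Es : ℕ → Set X) (hE : E = ⋃ n, Es n) (hc : ∀ n, IsLocallyConstructible (Es n))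
    (hgen : StableUnderGeneralization E) : IsOpen E := by
  rw [isOpen_iff_forall_mem_open]
  intro x hx
  obtain ⟨W, hW, hxW⟩ : ∃ W : X.Opens, IsAffineOpen W ∧ x ∈ W := by
    obtain ⟨_, ⟨W, hW, rfl⟩, hxW, -⟩ :=
      X.isBasis_affineOpens.exists_subset_of_mem_open (Set.mem_univ x) isOpen_univ
    exact ⟨W, hW, hxW⟩
  haveI : IsNoetherianRing Γ(X, W) := IsLocallyNoetherian.component_noetherian ⟨W, hW⟩
  haveI : NoetherianSpace ↥W := noetherianSpace_of_isAffineOpen W hW
  haveI : QuasiSober ↥W := inferInstanceAs (QuasiSober ↥(W : Scheme.{u}))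
  have hopen : IsOpen ((W : Set X) ↓∩ E) := by
    apply isOpen_of_iUnion_constructible ((W : Set X) ↓∩ E) (fun n => (W : Set X) ↓∩ Es n)
    · rw [hE, Set.preimage_iUnion]
    · intro n
      have h1 : IsLocallyConstructible ((W : Set X) ↓∩ Es n) :=
        (hc n).preimage_of_isOpenEmbedding W.2.isOpenEmbedding_subtypeVal
      haveI : CompactSpace ↥W := isCompact_iff_compactSpace.1 hW.isCompact
      haveI : QuasiSeparatedSpace ↥W := inferInstanceAs (QuasiSeparatedSpace ↥(W : Scheme.{u}))
      haveI : PrespectralSpace ↥W := inferInstanceAs (PrespectralSpace ↥(W : Scheme.{u}))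
      exact h1.isConstructible
    · intro a b hba ha
      exact hgen (hba.map continuous_subtype_val) ha
  refine ⟨Subtype.val '' ((W : Set X) ↓∩ E), ?_, W.2.isOpenEmbedding_subtypeVal.isOpenMap _ hopen,
    ⟨⟨x, hxW⟩, hx, rfl⟩⟩
  rintro _ ⟨a, ha, rfl⟩
  exact ha

end Groth.Agent.Lib.Helper72.TauTop

namespace Groth.Agent.Lib.Helper72.TauTop

/-- On a locally noetherian scheme an open subset which is stable under specialization is
closed. -/
theorem isClosed_of_isOpen_of_stableUnderSpecialization {X : Scheme.{u}} [IsLocallyNoetherian X]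
    {E : Set X} (hE : IsOpen E) (hs : StableUnderSpecialization E) : IsClosed E := by
  rw [← isOpen_compl_iff]
  apply isOpen_of_stableUnderGeneralization Eᶜ (fun _ => Eᶜ) (by rw [Set.iUnion_const])
  · intro _ x
    obtain ⟨W, hW, hxW⟩ : ∃ W : X.Opens, IsAffineOpen W ∧ x ∈ W := by
      obtain ⟨_, ⟨W, hW, rfl⟩, hxW, -⟩ :=
        X.isBasis_affineOpens.exists_subset_of_mem_open (Set.mem_univ x) isOpen_univ
      exact ⟨W, hW, hxW⟩
    haveI : IsNoetherianRing Γ(X, W) := IsLocallyNoetherian.component_noetherian ⟨W, hW⟩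
    haveI : NoetherianSpace ↥W := noetherianSpace_of_isAffineOpen W hW
    exact ⟨W, W.2.mem_nhds hxW, W.2, Groth.Agent.Lib.Helper35.noeth_isConstructible_of_isClosed
      (hE.isClosed_compl.preimage continuous_subtype_val)⟩
  · exact hs.compl

end Groth.Agent.Lib.Helper72.TauTop
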