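import Groth.Agent.Lib.Helper72.NeutralOpen
import Groth.Agent.Lib.Helper72.Transl
import Groth.Agent.Lib.Helper72.TauTop

/-!
# The torsion component set `G^τ` is stable under generization (helper72)

For a group scheme `G` locally of finite type over a locally noetherian base, if `z ⤳ x` in `G`
and `x` lies in the neutral component of its fibre then some power `z^m`, `m ≥ 1`, lies in the
neutral component of its fibre (SGA 6 XIII 4.7, FGA 236).
-/

set_option autoImplicit false
universe u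

open CategoryTheory CategoryTheory.Limits MonoidalCategory CartesianMonoidalCategory MonObj GrpObj
  AlgebraicGeometry TopologicalSpace

namespace Groth.Agent.Lib.Helper72.TauGen

open Groth.Agent.Lib.Helper72.NeutralOpen Groth.Agent.Lib.Helper19 Groth.Agent.Lib.Helper72.Transl

variable {S : Scheme.{u}} (G : Over S) [GrpObj G]

lemma pow_mem {Y : Set G.left} (hY : IsSubgroupSet G Y) (x : G.left) (hx : x ∈ Y) (n : ℕ) :
    ((𝟙 G : G ⟶ G) ^ n).left x ∈ Y := by
  induction n with
  | zero =>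
    rw [pow_zero, Hom.one_def, Over.comp_left, Scheme.Hom.comp_apply]
    exact hY.one_mem _
  | succ n ih =>
    rw [pow_succ, Hom.mul_def, Over.comp_left, Scheme.Hom.comp_apply]
    apply hY.mul_mem
    · rw [← Scheme.Hom.comp_apply, ← Over.comp_left, lift_fst]; exact ih
    · rw [← Scheme.Hom.comp_apply, ← Over.comp_left, lift_snd]; exact hx

lemma hom_pow (n : ℕ) (x : G.left) : G.hom (((𝟙 G : G ⟶ G) ^ n).left x) = G.hom x := by
  rw [← Scheme.Hom.comp_apply, Over.w]

theorem exists_pow_mem_neutralSet_of_specializes [IsLocallyNoetherian S]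
    [LocallyOfFiniteType G.hom] (x z : G.left) (hzx : z ⤳ x) (hx : x ∈ SGA3x.neutralSet G) :
    ∃ m : ℕ, 0 < m ∧ ((𝟙 G : G ⟶ G) ^ m).left z ∈ SGA3x.neutralSet G := by
  -- a compact open of `G` containing the neutral components over an affine neighbourhood
  obtain ⟨S₀, hS₀, hxS₀⟩ : ∃ S₀ : S.Opens, IsAffineOpen S₀ ∧ G.hom x ∈ S₀ := by
    obtain ⟨_, ⟨S₀, hS₀, rfl⟩, hxS₀, -⟩ :=
      S.isBasis_affineOpens.exists_subset_of_mem_open (Set.mem_univ (G.hom x)) isOpen_univ
    exact ⟨S₀, hS₀, hxS₀⟩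
  obtain ⟨U, hUc, hU⟩ : ∃ U : G.left.Opens, IsCompact (U : Set G.left) ∧
      SGA3x.neutralSet G ∩ G.hom ⁻¹' (S₀ : Set S) ⊆ U := by
    let G₀ : Over (S₀ : Scheme.{u}) := Red.bc S₀.ι G
    haveI : IsAffine (S₀ : Scheme.{u}) := hS₀
    obtain ⟨U₀, hU₀c, hU₀⟩ := NeutralQC.exists_isCompact_isOpen_neutralSet G₀
    let q : G₀.left ⟶ G.left := pullback.fst G.hom S₀.ι
    refine ⟨q ''ᵁ U₀, hU₀c.image q.continuous, ?_⟩
    rintro y ⟨hyN, hyS⟩
    obtain ⟨y₁, hy₁, -⟩ := Scheme.Pullback.exists_preimage_pullback (f := G.hom)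
      (g := S₀.ι) y ⟨G.hom y, hyS⟩ rfl
    refine ⟨y₁, hU₀ ?_, hy₁⟩
    rw [neutralSet_bc]
    show q y₁ ∈ SGA3x.neutralSet G
    rw [hy₁]; exact hyN
  have hN := isSubgroupSet_neutralSet G
  -- the powers of `z` lie in `U`
  have hzU : ∀ n : ℕ, ((𝟙 G : G ⟶ G) ^ n).left z ∈ U := by
    intro n
    have h1 : ((𝟙 G : G ⟶ G) ^ n).left z ⤳ ((𝟙 G : G ⟶ G) ^ n).left x :=
      hzx.map ((𝟙 G : G ⟶ G) ^ n).left.continuous
    have h2 : ((𝟙 G : G ⟶ G) ^ n).left x ∈ (U : Set G.left) := by
      apply hU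
      refine ⟨pow_mem G hN x hx n, ?_⟩
      show G.hom _ ∈ S₀
      rw [hom_pow]; exact hxS₀
    exact h1.mem_open U.2 h2
  -- the residue field point
  let T : Scheme.{u} := Spec (G.left.residueField z)
  let g : T ⟶ G.left := G.left.fromSpecResidueField z
  let T' : Over S := Over.mk (g ≫ G.hom)
  let g' : T' ⟶ G := Over.homMk g rfl
  let pt : T := default
  have hgpt : g pt = z := Scheme.fromSpecResidueField_apply _ _
  let P : Over S := T' ⊗ G
  let pr : P.left ⟶ G.left := (snd T' G).left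
  let pT : P.left ⟶ T := (fst T' G).left
  have hcond : pT ≫ (g ≫ G.hom) = pr ≫ G.hom := pullback.condition
  let q : ℕ → P.left := fun n => (lift (𝟙 T') (g' ^ n)).left pt
  have hprq : ∀ n, pr (q n) = ((𝟙 G : G ⟶ G) ^ n).left z := by
    intro n
    show (snd T' G).left ((lift (𝟙 T') (g' ^ n)).left pt) = _
    rw [← Scheme.Hom.comp_apply, ← Over.comp_left, lift_snd]
    have : g' ^ n = g' ≫ (𝟙 G : G ⟶ G) ^ n := by rw [MonObj.comp_pow, Category.comp_id]
    rw [this, Over.comp_left, Scheme.Hom.comp_apply]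
    show ((𝟙 G : G ⟶ G) ^ n).left (g pt) = _
    rw [hgpt]
  have hτ : ∀ n k, (transl (g' ^ n) : T' ⊗ G ⟶ T' ⊗ G).left (q k) = q (n + k) := by
    intro n k
    show (transl (g' ^ n) : T' ⊗ G ⟶ T' ⊗ G).left ((lift (𝟙 T') (g' ^ k)).left pt) =
      (lift (𝟙 T') (g' ^ (n + k))).left pt
    rw [← Scheme.Hom.comp_apply, ← Over.comp_left, graph_transl, ← pow_add]
  have hτinv : ∀ n k, (transl (g' ^ n)⁻¹ : T' ⊗ G ⟶ T' ⊗ G).left (q (n + k)) = q k := by
    intro n k
    rw [← hτ n k, ← Scheme.Hom.comp_apply, ← Over.comp_left, transl_comp, inv_mul_cancel,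
      transl_one]
    rfl
  -- finiteness
  haveI : QuasiCompact (g ≫ G.hom) := by
    haveI : QuasiSeparated (terminal.from S) :=
      (quasiSeparatedSpace_iff_quasiSeparated S).1 inferInstance
    haveI : QuasiCompact ((g ≫ G.hom) ≫ terminal.from S) := by
      rw [terminal.comp_from]
      exact (compactSpace_iff_quasiCompact T).1 inferInstance
    exact QuasiCompact.of_comp (g ≫ G.hom) (terminal.from S)
  haveI : QuasiCompact pr := inferInstanceAs (QuasiCompact (pullback.snd (g ≫ G.hom) G.hom))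
  let V : P.left.Opens := pr ⁻¹ᵁ U
  have hVc : IsCompact (V : Set P.left) := pr.isCompact_preimage hUc
  haveI : LocallyOfFiniteType pT :=
    inferInstanceAs (LocallyOfFiniteType (pullback.fst (g ≫ G.hom) G.hom))
  haveI : IsLocallyNoetherian P.left := LocallyOfFiniteType.isLocallyNoetherian pT
  haveI : CompactSpace ↥(V : Scheme.{u}) := isCompact_iff_compactSpace.1 hVc
  haveI : IsNoetherian (V : Scheme.{u}) := {}
  haveI : NoetherianSpace ↥V := inferInstanceAs (NoetherianSpace ↥(V : Scheme.{u}))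
  have hqV : ∀ n, q n ∈ V := by
    intro n
    show pr (q n) ∈ U
    rw [hprq]; exact hzU n
  let c : ℕ → irreducibleComponents ↥V := fun n =>
    ⟨irreducibleComponent (⟨q (n + 1), hqV (n + 1)⟩ : ↥V),
      irreducibleComponent_mem_irreducibleComponents _⟩
  haveI : Finite (irreducibleComponents ↥V) :=
    (NoetherianSpace.finite_irreducibleComponents (α := ↥V)).to_subtype
  obtain ⟨n, m, hnm, hc⟩ := Finite.exists_ne_map_eq_of_infinite c
  wlog h : n < m generalizing n m
  · exact this m n hnm.symm hc.symm (lt_of_le_of_ne (not_lt.1 h) hnm.symm)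
  have hconn : q (m + 1) ∈ connectedComponent (q (n + 1)) := by
    let Z : Set ↥V := irreducibleComponent (⟨q (n + 1), hqV (n + 1)⟩ : ↥V)
    have hZ : _root_.IsPreconnected (Subtype.val '' Z) :=
      (isIrreducible_irreducibleComponent.2.isPreconnected).image _
        continuous_subtype_val.continuousOn
    have h1 : q (n + 1) ∈ Subtype.val '' Z :=
      ⟨⟨q (n + 1), hqV (n + 1)⟩, mem_irreducibleComponent, rfl⟩
    have h2 : q (m + 1) ∈ Subtype.val '' Z := by
      refine ⟨⟨q (m + 1), hqV (m + 1)⟩, ?_, rfl⟩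
      have := congrArg Subtype.val hc
      show _ ∈ irreducibleComponent (⟨q (n + 1), hqV (n + 1)⟩ : ↥V)
      rw [show irreducibleComponent (⟨q (n + 1), hqV (n + 1)⟩ : ↥V) =
        irreducibleComponent (⟨q (m + 1), hqV (m + 1)⟩ : ↥V) from this]
      exact mem_irreducibleComponent
    exact hZ.subset_connectedComponent h1 h2
  obtain ⟨k, hk⟩ : ∃ k, m = n + k := ⟨m - n, by omega⟩
  have hk0 : 0 < k := by omega
  refine ⟨k, hk0, ?_⟩
  -- translate back
  have hqk : q k ∈ connectedComponent (q 0) := by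
    have himg := Continuous.image_connectedComponent_subset
      (transl (g' ^ (n + 1))⁻¹ : T' ⊗ G ⟶ T' ⊗ G).left.continuous (q (n + 1))
    have e0 : (transl (g' ^ (n + 1))⁻¹ : T' ⊗ G ⟶ T' ⊗ G).left (q (n + 1)) = q 0 := hτinv (n + 1) 0
    have ek : (transl (g' ^ (n + 1))⁻¹ : T' ⊗ G ⟶ T' ⊗ G).left (q (m + 1)) = q k := by
      have : m + 1 = (n + 1) + k := by omega
      rw [this]; exact hτinv (n + 1) k
    rw [e0] at himg
    rw [← ek]
    exact himg ⟨_, hconn, rfl⟩
  -- the connected component of `q 0` maps into the neutral component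
  have hfib : ∀ w' : P.left, G.hom (pr w') = G.hom z := by
    intro w'
    rw [← Scheme.Hom.comp_apply, ← hcond, Scheme.Hom.comp_apply, Scheme.Hom.comp_apply,
      Subsingleton.elim (pT w') pt, hgpt]
  rw [← hprq k, mem_neutralSet_iff]
  have hpre : _root_.IsPreconnected (pr '' connectedComponent (q 0)) :=
    isPreconnected_connectedComponent.image _ pr.continuous.continuousOn
  have hsub : pr '' connectedComponent (q 0) ⊆ G.hom ⁻¹' {G.hom (pr (q k))} := by
    rintro _ ⟨w', -, rfl⟩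
    show G.hom (pr w') = G.hom (pr (q k))
    rw [hfib, hfib]
  have he : η[G].left (G.hom (pr (q k))) = pr (q 0) := by
    rw [hprq 0, pow_zero, Hom.one_def, Over.comp_left, Scheme.Hom.comp_apply, hfib]
    rfl
  rw [he]
  exact hpre.subset_connectedComponentIn ⟨q 0, mem_connectedComponent, rfl⟩ hsub
    ⟨q k, hqk, rfl⟩

end Groth.Agent.Lib.Helper72.TauGen
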