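import Groth.Agent.Lib.Helper72.TauOpen

/-!
# The exponents carrying a point into the neutral components form a subgroup of `ℤ` (helper72)
-/

set_option autoImplicit false
universe u

open CategoryTheory CategoryTheory.Limits MonoidalCategory CartesianMonoidalCategory MonObj GrpObj
  AlgebraicGeometry TopologicalSpace

namespace Groth.Agent.Lib.Helper72.TauGrp

open Groth.Agent.Lib.Helper72.NeutralOpen Groth.Agent.Lib.Helper19 Groth.Agent.Lib.Helper72.Transl

variable {S : Scheme.{u}} (G : Over S) [GrpObj G]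

/-- For a point `x` of a group scheme the integers `m` with `x^m` in the neutral component of
its fibre form a subgroup of `ℤ`. -/
theorem exists_addSubgroup_zpow (x : G.left) :
    ∃ I : AddSubgroup ℤ, ∀ m : ℤ, m ∈ I ↔
      ((𝟙 G : G ⟶ G) ^ m).left x ∈ SGA3x.neutralSet G := by
  let T : Scheme.{u} := Spec (G.left.residueField x)
  let g : T ⟶ G.left := G.left.fromSpecResidueField x
  let T' : Over S := Over.mk (g ≫ G.hom)
  let g' : T' ⟶ G := Over.homMk g rfl
  let pt : T := default
  have hgpt : g pt = x := Scheme.fromSpecResidueField_apply _ _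
  let P : Over S := T' ⊗ G
  let pr : P.left ⟶ G.left := (snd T' G).left
  let pT : P.left ⟶ T := (fst T' G).left
  let q : ℤ → P.left := fun m => (lift (𝟙 T') (g' ^ m)).left pt
  have hprq : ∀ m, pr (q m) = ((𝟙 G : G ⟶ G) ^ m).left x := by
    intro m
    show (snd T' G).left ((lift (𝟙 T') (g' ^ m)).left pt) = _
    rw [← Scheme.Hom.comp_apply, ← Over.comp_left, lift_snd]
    have : g' ^ m = g' ≫ (𝟙 G : G ⟶ G) ^ m := by rw [GrpObj.comp_zpow, Category.comp_id]
    rw [this, Over.comp_left, Scheme.Hom.comp_apply]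
    show ((𝟙 G : G ⟶ G) ^ m).left (g pt) = _
    rw [hgpt]
  have hτ : ∀ n k : ℤ, (transl (g' ^ n) : T' ⊗ G ⟶ T' ⊗ G).left (q k) = q (n + k) := by
    intro n k
    show (transl (g' ^ n) : T' ⊗ G ⟶ T' ⊗ G).left ((lift (𝟙 T') (g' ^ k)).left pt) =
      (lift (𝟙 T') (g' ^ (n + k))).left pt
    rw [← Scheme.Hom.comp_apply, ← Over.comp_left, graph_transl, ← zpow_add]
  -- the key identification
  let s' : T ⟶ P.left := (lift (𝟙 T') (1 : T' ⟶ G)).left
  have hs'pt : s' pt = q 0 := by
    show (lift (𝟙 T') (1 : T' ⟶ G)).left pt = (lift (𝟙 T') (g' ^ (0 : ℤ))).left pt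
    rw [zpow_zero]
  have key : ∀ w : P.left, pr w ∈ SGA3x.neutralSet G ↔ w ∈ connectedComponent (q 0) := by
    intro w
    have hc : IsPullback pr pT G.hom (g ≫ G.hom) :=
      (IsPullback.of_hasPullback (g ≫ G.hom) G.hom).flip
    have hs' : s' ≫ pT = 𝟙 T := by
      show (lift (𝟙 T') (1 : T' ⟶ G)).left ≫ (fst T' G).left = 𝟙 T
      rw [← Over.comp_left, lift_fst]; rfl
    have hs'g : s' ≫ pr = (g ≫ G.hom) ≫ η[G].left := by
      show (lift (𝟙 T') (1 : T' ⟶ G)).left ≫ (snd T' G).left = _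
      rw [← Over.comp_left, lift_snd, Hom.one_def, Over.comp_left]
      rfl
    have h := mem_connectedComponentIn_fibre_baseChange G.hom η[G].left (Over.w η[G]) pT pr
      (g ≫ G.hom) hc s' hs' hs'g w
    rw [mem_neutralSet_iff, ← h]
    have h1 : pT ⁻¹' {pT w} = Set.univ := by
      ext w'
      simp only [Set.mem_preimage, Set.mem_singleton_iff, Set.mem_univ, iff_true]
      exact Subsingleton.elim _ _
    have h2 : s' (pT w) = q 0 := by rw [Subsingleton.elim (pT w) pt, hs'pt]
    rw [h1, h2, connectedComponentIn_univ]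
  refine ⟨{ carrier := {m : ℤ | q m ∈ connectedComponent (q 0)}
            zero_mem' := mem_connectedComponent
            add_mem' := ?_
            neg_mem' := ?_ }, ?_⟩
  · intro a b ha hb
    show q (a + b) ∈ connectedComponent (q 0)
    have himg := Continuous.image_connectedComponent_subset
      (transl (g' ^ a) : T' ⊗ G ⟶ T' ⊗ G).left.continuous (q 0)
    rw [hτ a 0, add_zero] at himg
    rw [connectedComponent_eq ha, ← hτ a b]
    exact himg ⟨_, hb, rfl⟩
  · intro a ha
    show q (-a) ∈ connectedComponent (q 0)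
    have himg := Continuous.image_connectedComponent_subset
      (transl (g' ^ (-a)) : T' ⊗ G ⟶ T' ⊗ G).left.continuous (q a)
    rw [hτ (-a) a, neg_add_cancel] at himg
    have h0 : q 0 ∈ connectedComponent (q a) := by
      rw [← connectedComponent_eq ha]; exact mem_connectedComponent
    have := himg ⟨_, h0, rfl⟩
    rw [hτ (-a) 0, add_zero] at this
    exact this
  · intro m
    show q m ∈ connectedComponent (q 0) ↔ _
    rw [← key, hprq]

/-- gcd form for natural exponents. -/
theorem pow_gcd_mem (x : G.left) (a b : ℕ)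
    (ha : ((𝟙 G : G ⟶ G) ^ a).left x ∈ SGA3x.neutralSet G)
    (hb : ((𝟙 G : G ⟶ G) ^ b).left x ∈ SGA3x.neutralSet G) :
    ((𝟙 G : G ⟶ G) ^ (Nat.gcd a b)).left x ∈ SGA3x.neutralSet G := by
  obtain ⟨I, hI⟩ := exists_addSubgroup_zpow G x
  have ha' : (a : ℤ) ∈ I := by rw [hI, zpow_natCast]; exact ha
  have hb' : (b : ℤ) ∈ I := by rw [hI, zpow_natCast]; exact hb
  have hg : ((Nat.gcd a b : ℕ) : ℤ) ∈ I := by
    rw [Nat.gcd_eq_gcd_ab]
    refine I.add_mem ?_ ?_
    · have := I.zsmul_mem ha' (Nat.gcdA a b)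
      rwa [smul_eq_mul, mul_comm] at this
    · have := I.zsmul_mem hb' (Nat.gcdB a b)
      rwa [smul_eq_mul, mul_comm] at this
  rw [hI, zpow_natCast] at hg
  exact hg

/-- multiples -/
theorem pow_mul_mem (x : G.left) (a b : ℕ)
    (ha : ((𝟙 G : G ⟶ G) ^ a).left x ∈ SGA3x.neutralSet G) :
    ((𝟙 G : G ⟶ G) ^ (a * b)).left x ∈ SGA3x.neutralSet G := by
  rw [← TauOpen.pow_pow_apply]
  exact TauGen.pow_mem G (isSubgroupSet_neutralSet G) _ ha b

end Groth.Agent.Lib.Helper72.TauGrp
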