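import Groth.Agent.Lib.Helper72.TauGen

/-!
# The torsion component set `G^τ` is open (SGA 6 XIII 4.7 / FGA 236) (helper72)
-/

set_option autoImplicit false
universe u

open CategoryTheory CategoryTheory.Limits MonoidalCategory CartesianMonoidalCategory MonObj GrpObj
  AlgebraicGeometry TopologicalSpace Topology

namespace Groth.Agent.Lib.Helper72.TauOpen

open Groth.Agent.Lib.Helper72.NeutralOpen Groth.Agent.Lib.Helper19 Groth.Agent.Lib.Helper72.TauGen
  Groth.Agent.Lib.Helper72.TauTop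

variable {S : Scheme.{u}} (G : Over S) [GrpObj G]

/-- The torsion component set. -/
def tauSet : Set G.left :=
  {x : ↥G.left | ∃ n : ℕ, 0 < n ∧ ((𝟙 G : G ⟶ G) ^ n).left.base x ∈ SGA3x.neutralSet G}

lemma pow_pow_apply (n m : ℕ) (x : G.left) :
    ((𝟙 G : G ⟶ G) ^ m).left (((𝟙 G : G ⟶ G) ^ n).left x) = ((𝟙 G : G ⟶ G) ^ (n * m)).left x := by
  rw [← Scheme.Hom.comp_apply, ← Over.comp_left, MonObj.comp_pow, Category.comp_id, ← pow_mul]

theorem stableUnderGeneralization_tauSet [IsLocallyNoetherian S] [LocallyOfFiniteType G.hom] :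
    StableUnderGeneralization (tauSet G) := by
  rintro x z hzx ⟨n, hn, hxn⟩
  have h1 : ((𝟙 G : G ⟶ G) ^ n).left z ⤳ ((𝟙 G : G ⟶ G) ^ n).left x :=
    hzx.map ((𝟙 G : G ⟶ G) ^ n).left.continuous
  obtain ⟨m, hm, hzm⟩ := exists_pow_mem_neutralSet_of_specializes G _ _ h1 hxn
  refine ⟨n * m, Nat.mul_pos hn hm, ?_⟩
  show ((𝟙 G : G ⟶ G) ^ (n * m)).left z ∈ SGA3x.neutralSet G
  rw [← pow_pow_apply]
  exact hzm

theorem isOpen_tauSet [IsLocallyNoetherian S] [LocallyOfFiniteType G.hom] :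
    IsOpen (tauSet G) := by
  haveI : IsLocallyNoetherian G.left := LocallyOfFiniteType.isLocallyNoetherian G.hom
  apply isOpen_of_stableUnderGeneralization (tauSet G)
    (fun n => ((𝟙 G : G ⟶ G) ^ (n + 1)).left ⁻¹' SGA3x.neutralSet G)
  · ext x
    simp only [tauSet, Set.mem_setOf_eq, Set.mem_iUnion, Set.mem_preimage]
    constructor
    · rintro ⟨n, hn, h⟩
      obtain ⟨k, rfl⟩ : ∃ k, n = k + 1 := ⟨n - 1, by omega⟩
      exact ⟨k, h⟩
    · rintro ⟨k, h⟩
      exact ⟨k + 1, Nat.succ_pos k, h⟩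
  · intro n
    exact isLocallyConstructible_preimage _ (isLocallyConstructible_neutralSet G)
  · exact stableUnderGeneralization_tauSet G

theorem isClosed_tauSet [IsLocallyNoetherian S] [LocallyOfFiniteType G.hom]
    (h0 : IsClosed (SGA3x.neutralSet G)) : IsClosed (tauSet G) := by
  haveI : IsLocallyNoetherian G.left := LocallyOfFiniteType.isLocallyNoetherian G.hom
  apply isClosed_of_isOpen_of_stableUnderSpecialization (isOpen_tauSet G)
  rintro z x hzx ⟨n, hn, hzn⟩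
  have h1 : ((𝟙 G : G ⟶ G) ^ n).left z ⤳ ((𝟙 G : G ⟶ G) ^ n).left x :=
    hzx.map ((𝟙 G : G ⟶ G) ^ n).left.continuous
  exact ⟨n, hn, h1.mem_closed h0 hzn⟩

end Groth.Agent.Lib.Helper72.TauOpen
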