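import Groth.Agent.Lib.Helper72.TauRoot

/-!
# The `p`-power torsion component set is open when the prime-to-`p` power maps are open
(FGA 236 / SGA 6 XIII 4.7) (helper72)
-/

set_option autoImplicit false
universe u

open CategoryTheory CategoryTheory.Limits MonoidalCategory CartesianMonoidalCategory MonObj GrpObj
  AlgebraicGeometry TopologicalSpace Topology Set.Notation

namespace Groth.Agent.Lib.Helper72.TauPOpen

open Groth.Agent.Lib.Helper72.NeutralOpen Groth.Agent.Lib.Helper19 Groth.Agent.Lib.Helper72.TauOpen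
  Groth.Agent.Lib.Helper72.TauGrp Groth.Agent.Lib.Helper72.TauGen
  Groth.Agent.Lib.Helper72.TauRoot Groth.Agent.Lib.Helper72.TauTop

variable {S : Scheme.{u}} (G : Over S) [GrpObj G]

section Ord

open Classical in
/-- The order of a point of the torsion component set modulo the neutral components. -/
noncomputable def ord (v : G.left) (hv : v ∈ tauSet G) : ℕ := Nat.find hv

lemma ord_pos (v : G.left) (hv : v ∈ tauSet G) : 0 < ord G v hv := by
  classical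
  exact (Nat.find_spec hv).1

lemma ord_mem (v : G.left) (hv : v ∈ tauSet G) :
    ((𝟙 G : G ⟶ G) ^ (ord G v hv)).left v ∈ SGA3x.neutralSet G := by
  classical
  exact (Nat.find_spec hv).2

lemma ord_dvd (v : G.left) (hv : v ∈ tauSet G) (k : ℕ)
    (hk : ((𝟙 G : G ⟶ G) ^ k).left v ∈ SGA3x.neutralSet G) : ord G v hv ∣ k := by
  classical
  by_cases hk0 : k = 0
  · rw [hk0]; exact dvd_zero _
  have hg := pow_gcd_mem G v k (ord G v hv) hk (ord_mem G v hv)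
  have hgpos : 0 < Nat.gcd k (ord G v hv) := Nat.gcd_pos_of_pos_left _ (Nat.pos_of_ne_zero hk0)
  have hle : ord G v hv ≤ Nat.gcd k (ord G v hv) := Nat.find_min' hv ⟨hgpos, hg⟩
  have hdvd : Nat.gcd k (ord G v hv) ∣ ord G v hv := Nat.gcd_dvd_right _ _
  have heq : Nat.gcd k (ord G v hv) = ord G v hv :=
    le_antisymm (Nat.le_of_dvd (ord_pos G v hv) hdvd) hle
  rw [← heq]
  exact Nat.gcd_dvd_left _ _

lemma mem_of_ord_dvd (v : G.left) (hv : v ∈ tauSet G) (k : ℕ) (hk : ord G v hv ∣ k) :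
    ((𝟙 G : G ⟶ G) ^ k).left v ∈ SGA3x.neutralSet G := by
  obtain ⟨c, rfl⟩ := hk
  exact pow_mul_mem G v _ c (ord_mem G v hv)

end Ord

variable [IsLocallyNoetherian S] [LocallyOfFiniteType G.hom]

/-- A quasi-compact open of `G` containing the neutral components over an affine open of `S`. -/
lemma exists_compact_open (S₀ : S.Opens) (hS₀ : IsAffineOpen S₀) :
    ∃ U : G.left.Opens, IsCompact (U : Set G.left) ∧
      SGA3x.neutralSet G ∩ G.hom ⁻¹' (S₀ : Set S) ⊆ U := by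
  let G₀ : Over (S₀ : Scheme.{u}) := Red.bc S₀.ι G
  haveI : IsAffine (S₀ : Scheme.{u}) := hS₀
  obtain ⟨U₀, hU₀c, hU₀⟩ := NeutralQC.exists_isCompact_isOpen_neutralSet G₀
  let q : G₀.left ⟶ G.left := pullback.fst G.hom S₀.ι
  refine ⟨q ''ᵁ U₀, hU₀c.image q.continuous, ?_⟩
  rintro y ⟨hyN, hyS⟩
  obtain ⟨y₁, hy₁, -⟩ := Scheme.Pullback.exists_preimage_pullback (f := G.hom)
    (g := S₀.ι) y ⟨G.hom y, hyS⟩ rfl
  refine ⟨y₁, hU₀ ?_, hy₁⟩
  rw [neutralSet_bc]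
  show q y₁ ∈ SGA3x.neutralSet G
  rw [hy₁]; exact hyN

/-- On a quasi-compact open the torsion orders are bounded. -/
lemma exists_bound_of_compact (U : G.left.Opens) (hUc : IsCompact (U : Set G.left)) :
    ∃ B : ℕ, 0 < B ∧ ∀ v ∈ U, v ∈ tauSet G →
      ((𝟙 G : G ⟶ G) ^ B).left v ∈ SGA3x.neutralSet G := by
  haveI : IsLocallyNoetherian G.left := LocallyOfFiniteType.isLocallyNoetherian G.hom
  haveI : CompactSpace ↥(U : Scheme.{u}) := isCompact_iff_compactSpace.1 hUc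
  haveI : IsNoetherian (U : Scheme.{u}) := {}
  haveI : NoetherianSpace ↥U := inferInstanceAs (NoetherianSpace ↥(U : Scheme.{u}))
  haveI : QuasiSober ↥U := inferInstanceAs (QuasiSober ↥(U : Scheme.{u}))
  haveI : CompactSpace ↥U := inferInstanceAs (CompactSpace ↥(U : Scheme.{u}))
  haveI : QuasiSeparatedSpace ↥U := inferInstanceAs (QuasiSeparatedSpace ↥(U : Scheme.{u}))
  haveI : PrespectralSpace ↥U := inferInstanceAs (PrespectralSpace ↥(U : Scheme.{u}))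
  let C : ℕ → Set ↥U := fun m => {v : ↥U | v.1 ∈ tauSet G →
    ((𝟙 G : G ⟶ G) ^ (m.factorial)).left v.1 ∈ SGA3x.neutralSet G}
  have hC : ∀ m, C m = (Subtype.val ⁻¹' tauSet G)ᶜ ∪
      Subtype.val ⁻¹' (((𝟙 G : G ⟶ G) ^ (m.factorial)).left ⁻¹' SGA3x.neutralSet G) := by
    intro m
    ext v
    simp only [C, Set.mem_setOf_eq, Set.mem_union, Set.mem_compl_iff, Set.mem_preimage]
    tauto
  have hmono : Monotone C := by
    intro m m' hmm' v hv hvτ
    obtain ⟨c, hc⟩ := Nat.factorial_dvd_factorial hmm'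
    rw [hc]
    exact pow_mul_mem G v.1 _ c (hv hvτ)
  have hconstr : ∀ m, IsConstructible (C m) := by
    intro m
    rw [hC]
    refine IsConstructible.union ?_ ?_
    · exact (Groth.Agent.Lib.Helper35.noeth_isConstructible_of_isOpen
        ((isOpen_tauSet G).preimage continuous_subtype_val)).compl
    · have h1 : IsLocallyConstructible ((U : Set G.left) ↓∩
          (((𝟙 G : G ⟶ G) ^ (m.factorial)).left ⁻¹' SGA3x.neutralSet G)) :=
        (isLocallyConstructible_preimage _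
          (isLocallyConstructible_neutralSet G)).preimage_of_isOpenEmbedding
          U.2.isOpenEmbedding_subtypeVal
      exact h1.isConstructible
  have hunion : ⋃ m, C m = Set.univ := by
    rw [Set.eq_univ_iff_forall]
    intro v
    by_cases hv : v.1 ∈ tauSet G
    · obtain ⟨n, hn, hmem⟩ := hv
      refine Set.mem_iUnion.2 ⟨n, fun _ => ?_⟩
      obtain ⟨c, hc⟩ := Nat.dvd_factorial hn le_rfl
      rw [hc]
      exact pow_mul_mem G v.1 n c hmem
    · exact Set.mem_iUnion.2 ⟨0, fun h => absurd h hv⟩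
  obtain ⟨m, hm⟩ := exists_eq_univ_of_monotone C hmono hconstr hunion
  refine ⟨m.factorial, Nat.factorial_pos m, fun v hvU hvτ => ?_⟩
  have : (⟨v, hvU⟩ : ↥U) ∈ C m := by rw [hm]; exact Set.mem_univ _
  exact this hvτ

/-- Generizations of points of the neutral components have `p`-power order when the prime-to-`p`
power maps are open. -/
theorem exists_pPow_of_specializes [IsCommMonObj G] (p : ℕ) (hp : p.Prime ∨ p = 1)
    (hopen : ∀ n : ℕ, 0 < n → Nat.Coprime n p → IsOpenMap ((𝟙 G : G ⟶ G) ^ n).left.base)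
    (x z : G.left) (hzx : z ⤳ x) (hx : x ∈ SGA3x.neutralSet G) :
    ∃ h : ℕ, ((𝟙 G : G ⟶ G) ^ (p ^ h)).left z ∈ SGA3x.neutralSet G := by
  haveI : IsLocallyNoetherian G.left := LocallyOfFiniteType.isLocallyNoetherian G.hom
  obtain ⟨S₀, hS₀, hxS₀⟩ : ∃ S₀ : S.Opens, IsAffineOpen S₀ ∧ G.hom x ∈ S₀ := by
    obtain ⟨_, ⟨S₀, hS₀, rfl⟩, hxS₀, -⟩ :=
      S.isBasis_affineOpens.exists_subset_of_mem_open (Set.mem_univ (G.hom x)) isOpen_univ
    exact ⟨S₀, hS₀, hxS₀⟩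
  obtain ⟨U, hUc, hU⟩ := exists_compact_open G S₀ hS₀
  obtain ⟨B, hB, hbound⟩ := exists_bound_of_compact G U hUc
  -- the set of generizations over the image of `z`
  let 𝒢 : Set G.left := {v | G.hom v = G.hom z ∧
    ∃ x' ∈ SGA3x.neutralSet G, G.hom x' ∈ S₀ ∧ v ⤳ x'}
  have hNτ : ∀ x' ∈ SGA3x.neutralSet G, x' ∈ tauSet G := fun x' hx' =>
    ⟨1, one_pos, by rw [pow_one]; exact hx'⟩
  have h𝒢τ : ∀ v ∈ 𝒢, v ∈ tauSet G := by
    rintro v ⟨-, x', hx', -, hvx'⟩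
    exact stableUnderGeneralization_tauSet G hvx' (hNτ x' hx')
  have h𝒢U : ∀ v ∈ 𝒢, v ∈ U := by
    rintro v ⟨-, x', hx', hx'S, hvx'⟩
    exact hvx'.mem_open U.2 (hU ⟨hx', hx'S⟩)
  have h𝒢B : ∀ v (hv : v ∈ 𝒢), ord G v (h𝒢τ v hv) ≤ B := fun v hv =>
    Nat.le_of_dvd hB (ord_dvd G v _ B (hbound v (h𝒢U v hv) (h𝒢τ v hv)))
  -- the inductive step
  have step : ∀ v (hv : v ∈ 𝒢), (¬ ∃ a, ord G v (h𝒢τ v hv) = p ^ a) →
      ∃ v₀, ∃ hv₀ : v₀ ∈ 𝒢, (¬ ∃ a, ord G v₀ (h𝒢τ v₀ hv₀) = p ^ a) ∧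
        ord G v (h𝒢τ v hv) < ord G v₀ (h𝒢τ v₀ hv₀) := by
    intro v hv hbad
    set n := ord G v (h𝒢τ v hv) with hn
    have hnpos : 0 < n := ord_pos G v _
    obtain ⟨ℓ, hℓ, hℓn, hℓp⟩ : ∃ ℓ : ℕ, ℓ.Prime ∧ ℓ ∣ n ∧ ℓ ≠ p := by
      by_contra hcon
      push Not at hcon
      exact hbad ⟨_, Nat.eq_prime_pow_of_unique_prime_dvd hnpos.ne'
        (fun {d} hd hdn => hcon d hd hdn)⟩
    have hcop : Nat.Coprime ℓ p := by
      rcases hp with hp | hp
      · exact (Nat.coprime_primes hℓ hp).2 hℓp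
      · rw [hp]; exact Nat.coprime_one_right _
    have hℓopen := hopen ℓ hℓ.pos hcop
    obtain ⟨hvz, x', hx', hx'S, hvx'⟩ := hv
    obtain ⟨x₀, hx₀, hx₀x'⟩ := exists_root G ℓ hℓopen x' hx'
    -- lift the generization
    obtain ⟨W, hW, hx₀W⟩ : ∃ W : G.left.Opens, IsAffineOpen W ∧ x₀ ∈ W := by
      obtain ⟨_, ⟨W, hW, rfl⟩, hxW, -⟩ :=
        G.left.isBasis_affineOpens.exists_subset_of_mem_open (Set.mem_univ x₀) isOpen_univ
      exact ⟨W, hW, hxW⟩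
    haveI : IsNoetherianRing Γ(G.left, W) := IsLocallyNoetherian.component_noetherian ⟨W, hW⟩
    haveI : NoetherianSpace ↥W := noetherianSpace_of_isAffineOpen W hW
    haveI : QuasiSober ↥W := inferInstanceAs (QuasiSober ↥(W : Scheme.{u}))
    obtain ⟨w₀, hw₀, hw₀v⟩ := exists_specializes_of_isOpenMap
      (ψ := fun w : ↥W => ((𝟙 G : G ⟶ G) ^ ℓ).left w.1)
      (((𝟙 G : G ⟶ G) ^ ℓ).left.continuous.comp continuous_subtype_val)
      (hℓopen.comp W.2.isOpenEmbedding_subtypeVal.isOpenMap) ⟨x₀, hx₀W⟩ v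
      (by show v ⤳ ((𝟙 G : G ⟶ G) ^ ℓ).left x₀; rw [hx₀x']; exact hvx')
    have hw₀x₀ : w₀.1 ⤳ x₀ := hw₀.map continuous_subtype_val
    have hv₀𝒢 : w₀.1 ∈ 𝒢 := by
      refine ⟨?_, x₀, hx₀, ?_, hw₀x₀⟩
      · rw [← hvz, ← hw₀v]; exact (hom_pow G ℓ w₀.1).symm
      · have : G.hom x₀ = G.hom x' := by rw [← hx₀x']; exact (hom_pow G ℓ x₀).symm
        rw [this]; exact hx'S
    refine ⟨w₀.1, hv₀𝒢, ?_⟩
    set o₀ := ord G w₀.1 (h𝒢τ w₀.1 hv₀𝒢) with ho₀
    have hpow : ∀ k : ℕ, ((𝟙 G : G ⟶ G) ^ k).left v = ((𝟙 G : G ⟶ G) ^ (ℓ * k)).left w₀.1 := by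
      intro k
      rw [← pow_pow_apply, hw₀v]
    -- `n ∣ o₀`
    have hno₀ : n ∣ o₀ := by
      apply ord_dvd G v _ o₀
      rw [hpow, mul_comm]
      exact pow_mul_mem G w₀.1 o₀ ℓ (ord_mem G w₀.1 _)
    have hℓo₀ : ℓ ∣ o₀ := hℓn.trans hno₀
    obtain ⟨c, hc⟩ := hℓo₀
    have hnc : n ∣ c := by
      apply ord_dvd G v _ c
      rw [hpow, ← hc]
      exact ord_mem G w₀.1 _
    obtain ⟨c', hc'⟩ := hnc
    have ho₀pos : 0 < o₀ := ord_pos G w₀.1 _
    constructor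
    · rintro ⟨a, ha⟩
      have hℓpa : ℓ ∣ p ^ a := by rw [← ha, hc]; exact dvd_mul_right _ _
      rcases hp with hp | hp
      · exact hℓp ((Nat.prime_dvd_prime_iff_eq hℓ hp).1 (hℓ.dvd_of_dvd_pow hℓpa))
      · rw [hp, one_pow] at hℓpa
        exact hℓ.one_lt.ne' (Nat.dvd_one.1 hℓpa)
    · have hc'pos : 0 < c' := by
        rcases Nat.eq_zero_or_pos c' with h0 | h0
        · rw [h0, mul_zero] at hc'; rw [hc', mul_zero] at hc; omega
        · exact h0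
      calc n < ℓ * n := by
            have := hℓ.two_le
            nlinarith
        _ ≤ ℓ * (n * c') := by
            exact Nat.mul_le_mul_left _ (Nat.le_mul_of_pos_right _ hc'pos)
        _ = o₀ := by rw [hc, hc']
  -- conclude
  have hz𝒢 : z ∈ 𝒢 := ⟨rfl, x, hx, hxS₀, hzx⟩
  have hgrow : ∀ k : ℕ, ∀ v (hv : v ∈ 𝒢), (¬ ∃ a, ord G v (h𝒢τ v hv) = p ^ a) →
      ∃ v₀, ∃ hv₀ : v₀ ∈ 𝒢, (¬ ∃ a, ord G v₀ (h𝒢τ v₀ hv₀) = p ^ a) ∧
        ord G v (h𝒢τ v hv) + k ≤ ord G v₀ (h𝒢τ v₀ hv₀) := by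
    intro k
    induction k with
    | zero => intro v hv hbad; exact ⟨v, hv, hbad, le_rfl⟩
    | succ k ih =>
      intro v hv hbad
      obtain ⟨v₁, hv₁, hbad₁, hle₁⟩ := ih v hv hbad
      obtain ⟨v₂, hv₂, hbad₂, hlt₂⟩ := step v₁ hv₁ hbad₁
      exact ⟨v₂, hv₂, hbad₂, by omega⟩
  by_cases hgood : ∃ a, ord G z (h𝒢τ z hz𝒢) = p ^ a
  · obtain ⟨a, ha⟩ := hgood
    exact ⟨a, by rw [← ha]; exact ord_mem G z _⟩
  · exfalso
    obtain ⟨v₀, hv₀, -, hle⟩ := hgrow (B + 1) z hz𝒢 hgood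
    have := h𝒢B v₀ hv₀
    omega

/-- **FGA 236 / SGA 6 XIII 4.7**: the `p`-power torsion component set is open when the
prime-to-`p` power maps are open. -/
theorem isOpen_pPower [IsCommMonObj G] (p : ℕ)
    (hS : ∀ s : ↥S, ringExpChar (S.residueField s) = p)
    (hopen : ∀ n : ℕ, 0 < n → Nat.Coprime n p → IsOpenMap ((𝟙 G : G ⟶ G) ^ n).left.base) :
    IsOpen {x : ↥G.left | ∃ h : ℕ,
      ((𝟙 G : G ⟶ G) ^ (p ^ h)).left.base x ∈ SGA3x.neutralSet G} := by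
  haveI : IsLocallyNoetherian G.left := LocallyOfFiniteType.isLocallyNoetherian G.hom
  by_cases hne : Nonempty G.left
  · obtain ⟨x₀⟩ := hne
    have hp : p.Prime ∨ p = 1 := by
      have := TauPrime.expChar_prime_or_one (G.hom x₀)
      rwa [hS] at this
    apply isOpen_of_stableUnderGeneralization _
      (fun h => ((𝟙 G : G ⟶ G) ^ (p ^ h)).left ⁻¹' SGA3x.neutralSet G)
    · ext x
      simp only [Set.mem_setOf_eq, Set.mem_iUnion, Set.mem_preimage]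
    · intro h
      exact isLocallyConstructible_preimage _ (isLocallyConstructible_neutralSet G)
    · rintro x z hzx ⟨h, hxh⟩
      have h1 : ((𝟙 G : G ⟶ G) ^ (p ^ h)).left z ⤳ ((𝟙 G : G ⟶ G) ^ (p ^ h)).left x :=
        hzx.map ((𝟙 G : G ⟶ G) ^ (p ^ h)).left.continuous
      obtain ⟨h', hh'⟩ := exists_pPow_of_specializes G p hp hopen _ _ h1 hxh
      refine ⟨h + h', ?_⟩
      show ((𝟙 G : G ⟶ G) ^ (p ^ (h + h'))).left z ∈ SGA3x.neutralSet G
      rw [pow_add, ← pow_pow_apply]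
      exact hh'
  · have : {x : ↥G.left | ∃ h : ℕ,
        ((𝟙 G : G ⟶ G) ^ (p ^ h)).left.base x ∈ SGA3x.neutralSet G} = ∅ := by
      ext x
      exact (hne ⟨x⟩).elim
    rw [this]
    exact isOpen_empty

end Groth.Agent.Lib.Helper72.TauPOpen
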