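import Groth.Agent.Lib.Helper72.TauGrp

/-!
# `p`-power and prime-to-`p` torsion component sets are closed when `G⁰` is (helper72)
-/

set_option autoImplicit false
universe u

open CategoryTheory CategoryTheory.Limits MonoidalCategory CartesianMonoidalCategory MonObj GrpObj
  AlgebraicGeometry TopologicalSpace Topology

namespace Groth.Agent.Lib.Helper72.TauPrime

open Groth.Agent.Lib.Helper72.NeutralOpen Groth.Agent.Lib.Helper19 Groth.Agent.Lib.Helper72.TauOpen
  Groth.Agent.Lib.Helper72.TauGrp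

section Base

variable {S : Scheme.{u}}

/-- The locus where a prime `q` vanishes in the residue field is closed. -/
lemma isClosed_natCast_eq_zero (q : ℕ) : IsClosed {s : S | ((q : ℕ) : S.residueField s) = 0} := by
  have : {s : S | ((q : ℕ) : S.residueField s) = 0} =
      ((S.basicOpen ((q : ℕ) : Γ(S, ⊤)) : S.Opens) : Set S)ᶜ := by
    ext s
    simp only [Set.mem_setOf_eq, Set.mem_compl_iff, SetLike.mem_coe]
    rw [← Scheme.evaluation_eq_zero_iff_notMem_basicOpen S s (Set.mem_univ s), map_natCast]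
  rw [this]
  exact (S.basicOpen _).2.isClosed_compl

lemma expChar_eq_iff (s : S) {q : ℕ} (hq : q.Prime) :
    ringExpChar (S.residueField s) = q ↔ ((q : ℕ) : S.residueField s) = 0 := by
  constructor
  · intro h
    have h1 : ringChar (S.residueField s) = q := by
      unfold ringExpChar at h
      rcases le_total (ringChar (S.residueField s)) 1 with h2 | h2
      · rw [max_eq_right h2] at h
        exact absurd h.symm hq.ne_one
      · rwa [max_eq_left h2] at h
    rw [← h1]
    exact ringChar.Nat.cast_ringChar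
  · intro h
    have h1 : ringChar (S.residueField s) = q := CharP.ringChar_of_prime_eq_zero hq h
    unfold ringExpChar
    rw [h1, max_eq_left hq.one_lt.le]

lemma expChar_prime_or_one (s : S) :
    (ringExpChar (S.residueField s)).Prime ∨ ringExpChar (S.residueField s) = 1 :=
  expChar_is_prime_or_one (S.residueField s) _

lemma isClosed_expChar_pow (p : S → ℕ) (hp : ∀ s, ringExpChar (S.residueField s) = p s) (d : ℕ) :
    IsClosed {s : S | ∃ h : ℕ, d = p s ^ h} := by
  by_cases hd1 : d = 1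
  · have : {s : S | ∃ h : ℕ, d = p s ^ h} = Set.univ := by
      ext s
      simp only [Set.mem_setOf_eq, Set.mem_univ, iff_true]
      exact ⟨0, by rw [hd1, pow_zero]⟩
    rw [this]; exact isClosed_univ
  by_cases hne : {s : S | ∃ h : ℕ, d = p s ^ h}.Nonempty
  · obtain ⟨s₀, h₀, hd⟩ := hne
    have hq1 : p s₀ ≠ 1 := fun h => hd1 (by rw [hd, h, one_pow])
    have hq : (p s₀).Prime := by
      rcases expChar_prime_or_one s₀ with h | h
      · rwa [hp] at h
      · rw [hp] at h; exact absurd h hq1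
    have hh₀ : h₀ ≠ 0 := fun h => hd1 (by rw [hd, h, pow_zero])
    have : {s : S | ∃ h : ℕ, d = p s ^ h} = {s : S | ((p s₀ : ℕ) : S.residueField s) = 0} := by
      ext s
      simp only [Set.mem_setOf_eq]
      rw [← expChar_eq_iff s hq, hp]
      constructor
      · rintro ⟨h, hd'⟩
        have hs1 : p s ≠ 1 := fun h' => hd1 (by rw [hd', h', one_pow])
        have hsp : (p s).Prime := by
          rcases expChar_prime_or_one s with h' | h'
          · rwa [hp] at h'
          · rw [hp] at h'; exact absurd h' hs1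
        have hh : h ≠ 0 := fun h' => hd1 (by rw [hd', h', pow_zero])
        have hdvd : p s ∣ p s₀ ^ h₀ := by
          rw [← hd, hd']; exact dvd_pow_self _ hh
        exact (Nat.prime_dvd_prime_iff_eq hsp hq).1 (hsp.dvd_of_dvd_pow hdvd)
      · intro h
        exact ⟨h₀, by rw [h, hd]⟩
    rw [this]
    exact isClosed_natCast_eq_zero _
  · rw [Set.not_nonempty_iff_eq_empty] at hne
    rw [hne]; exact isClosed_empty

end Base

variable {S : Scheme.{u}} (G : Over S) [GrpObj G]

/-- On an affine open of `G` the torsion orders modulo the neutral components are bounded when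
the neutral set is closed. -/
theorem exists_bound [IsLocallyNoetherian S] [LocallyOfFiniteType G.hom]
    (h0 : IsClosed (SGA3x.neutralSet G)) (W : G.left.Opens) (hW : IsAffineOpen W) :
    ∃ M : ℕ, 0 < M ∧ ∀ x ∈ W, x ∈ tauSet G →
      ((𝟙 G : G ⟶ G) ^ M).left x ∈ SGA3x.neutralSet G := by
  haveI : IsLocallyNoetherian G.left := LocallyOfFiniteType.isLocallyNoetherian G.hom
  haveI : IsNoetherianRing Γ(G.left, W) := IsLocallyNoetherian.component_noetherian ⟨W, hW⟩
  haveI : NoetherianSpace ↥W := noetherianSpace_of_isAffineOpen W hW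
  haveI : QuasiSober ↥W := inferInstanceAs (QuasiSober ↥(W : Scheme.{u}))
  have hZ : ∀ Z : irreducibleComponents ↥W, ∃ n : ℕ, 0 < n ∧ ∀ a : ↥W, a ∈ Z.1 →
      a.1 ∈ tauSet G → ((𝟙 G : G ⟶ G) ^ n).left a.1 ∈ SGA3x.neutralSet G := by
    intro Z
    obtain ⟨ζ, hζ⟩ := QuasiSober.sober Z.2.1 (isClosed_of_mem_irreducibleComponents _ Z.2)
    by_cases hζτ : ζ.1 ∈ tauSet G
    · obtain ⟨n, hn, hζn⟩ := hζτ
      refine ⟨n, hn, fun a ha _ => ?_⟩
      have h1 : ζ.1 ⤳ a.1 := (hζ.specializes ha).map continuous_subtype_val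
      exact (h1.map ((𝟙 G : G ⟶ G) ^ n).left.continuous).mem_closed h0 hζn
    · refine ⟨1, one_pos, fun a ha haτ => ?_⟩
      exfalso
      have h1 : ζ.1 ⤳ a.1 := (hζ.specializes ha).map continuous_subtype_val
      exact hζτ (stableUnderGeneralization_tauSet G h1 haτ)
  choose n hn hnZ using hZ
  haveI : Finite (irreducibleComponents ↥W) :=
    (NoetherianSpace.finite_irreducibleComponents (α := ↥W)).to_subtype
  haveI := Fintype.ofFinite (irreducibleComponents ↥W)
  refine ⟨∏ Z, n Z, Finset.prod_pos fun Z _ => hn Z, ?_⟩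
  intro x hxW hxτ
  let a : ↥W := ⟨x, hxW⟩
  let Z : irreducibleComponents ↥W :=
    ⟨irreducibleComponent a, irreducibleComponent_mem_irreducibleComponents a⟩
  have h1 := hnZ Z a mem_irreducibleComponent hxτ
  obtain ⟨c, hc⟩ : n Z ∣ ∏ Z, n Z := Finset.dvd_prod_of_mem n (Finset.mem_univ Z)
  rw [hc]
  exact pow_mul_mem G x _ _ h1

/-- **FGA 236 / SGA 6 XIII 4.7**: the prime-to-`pe` torsion component set is closed when the
neutral set is. -/
theorem isClosed_primeTo [IsLocallyNoetherian S] [LocallyOfFiniteType G.hom]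
    (h0 : IsClosed (SGA3x.neutralSet G)) (pe : ℕ) :
    IsClosed {x : ↥G.left | ∃ n : ℕ, 0 < n ∧ Nat.Coprime n pe ∧
      ((𝟙 G : G ⟶ G) ^ n).left.base x ∈ SGA3x.neutralSet G} := by
  have hcov : IsOpenCover (fun i : G.left.affineOpens => (i : G.left.Opens)) :=
    iSup_affineOpens_eq_top G.left
  rw [hcov.isClosed_iff_coe_preimage]
  intro W
  obtain ⟨M, hM, hbound⟩ := exists_bound G h0 W.1 W.2
  have hset : ((↑) ⁻¹' {x : ↥G.left | ∃ n : ℕ, 0 < n ∧ Nat.Coprime n pe ∧
      ((𝟙 G : G ⟶ G) ^ n).left.base x ∈ SGA3x.neutralSet G} : Set ↥W.1) =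
      ⋃ d ∈ (M.divisors.filter fun d => Nat.Coprime d pe),
        ((↑) ⁻¹' (((𝟙 G : G ⟶ G) ^ d).left ⁻¹' SGA3x.neutralSet G) : Set ↥W.1) := by
    ext a
    simp only [Set.mem_preimage, Set.mem_setOf_eq, Set.mem_iUnion, Finset.mem_filter,
      Nat.mem_divisors, exists_prop]
    constructor
    · rintro ⟨n, hn, hcop, hmem⟩
      have hτ : a.1 ∈ tauSet G := ⟨n, hn, hmem⟩
      have hMmem := hbound a.1 a.2 hτ
      refine ⟨Nat.gcd n M, ⟨⟨Nat.gcd_dvd_right n M, hM.ne'⟩,
        Nat.Coprime.coprime_dvd_left (Nat.gcd_dvd_left n M) hcop⟩, ?_⟩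
      exact pow_gcd_mem G a.1 n M hmem hMmem
    · rintro ⟨d, ⟨⟨hdM, -⟩, hcop⟩, hmem⟩
      exact ⟨d, Nat.pos_of_dvd_of_pos hdM hM, hcop, hmem⟩
  rw [hset]
  refine Set.Finite.isClosed_biUnion (Finset.finite_toSet _) fun d _ => ?_
  exact (h0.preimage ((𝟙 G : G ⟶ G) ^ d).left.continuous).preimage continuous_subtype_val

/-- **FGA 236 / SGA 6 XIII 4.7**: the `p`-power torsion component set is closed when the neutral
set is. -/
theorem isClosed_pPower [IsLocallyNoetherian S] [LocallyOfFiniteType G.hom]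
    (h0 : IsClosed (SGA3x.neutralSet G)) (p : ↥S → ℕ)
    (hp : ∀ s : ↥S, ringExpChar (S.residueField s) = p s) :
    IsClosed {x : ↥G.left | ∃ h m : ℕ, m = p (G.hom.base x) ^ h ∧
      ((𝟙 G : G ⟶ G) ^ m).left.base x ∈ SGA3x.neutralSet G} := by
  have hcov : IsOpenCover (fun i : G.left.affineOpens => (i : G.left.Opens)) :=
    iSup_affineOpens_eq_top G.left
  rw [hcov.isClosed_iff_coe_preimage]
  intro W
  obtain ⟨M, hM, hbound⟩ := exists_bound G h0 W.1 W.2
  have hset : ((↑) ⁻¹' {x : ↥G.left | ∃ h m : ℕ, m = p (G.hom.base x) ^ h ∧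
      ((𝟙 G : G ⟶ G) ^ m).left.base x ∈ SGA3x.neutralSet G} : Set ↥W.1) =
      ⋃ d ∈ M.divisors,
        ((↑) ⁻¹' ((((𝟙 G : G ⟶ G) ^ d).left ⁻¹' SGA3x.neutralSet G) ∩
          G.hom ⁻¹' {s : S | ∃ h : ℕ, d = p s ^ h}) : Set ↥W.1) := by
    ext a
    simp only [Set.mem_preimage, Set.mem_setOf_eq, Set.mem_iUnion, Nat.mem_divisors,
      exists_prop, Set.mem_inter_iff]
    constructor
    · rintro ⟨h, m, rfl, hmem⟩
      have hpos : 0 < p (G.hom.base a.1) := by
        rcases expChar_prime_or_one (G.hom.base a.1) with h' | h'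
        · rw [hp] at h'; exact h'.pos
        · rw [hp] at h'; rw [h']; exact one_pos
      have hτ : a.1 ∈ tauSet G := ⟨_, pow_pos hpos h, hmem⟩
      have hMmem := hbound a.1 a.2 hτ
      refine ⟨Nat.gcd (p (G.hom.base a.1) ^ h) M, ⟨Nat.gcd_dvd_right _ M, hM.ne'⟩,
        pow_gcd_mem G a.1 _ M hmem hMmem, ?_⟩
      have hdvd : Nat.gcd (p (G.hom.base a.1) ^ h) M ∣ p (G.hom.base a.1) ^ h :=
        Nat.gcd_dvd_left _ _
      rcases expChar_prime_or_one (G.hom.base a.1) with h' | h'
      · rw [hp] at h'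
        obtain ⟨k, -, hk⟩ := (Nat.dvd_prime_pow h').1 hdvd
        exact ⟨k, hk⟩
      · rw [hp] at h'
        rw [h', one_pow] at hdvd ⊢
        exact ⟨0, by rw [Nat.gcd_one_left, pow_zero]⟩
    · rintro ⟨d, -, hmem, h, hd⟩
      exact ⟨h, d, hd, hmem⟩
  rw [hset]
  refine Set.Finite.isClosed_biUnion (Finset.finite_toSet _) fun d _ => ?_
  refine IsClosed.preimage continuous_subtype_val ?_
  exact (h0.preimage ((𝟙 G : G ⟶ G) ^ d).left.continuous).inter
    ((isClosed_expChar_pow p hp d).preimage G.hom.continuous)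

end Groth.Agent.Lib.Helper72.TauPrime
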