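import Groth.Agent.Lib.Helper72.TauPrime
import Groth.Agent.Lib.Helper59.PowEtale
import Groth.Agent.Lib.Helper19.GC.OpenSubgroup

/-!
# Roots in the neutral components, lifting of generizations along open maps (helper72)
-/

set_option autoImplicit false
universe u

open CategoryTheory CategoryTheory.Limits MonoidalCategory CartesianMonoidalCategory MonObj GrpObj
  AlgebraicGeometry TopologicalSpace Topology

namespace Groth.Agent.Lib.Helper72.TauRoot

open Groth.Agent.Lib.Helper72.NeutralOpen Groth.Agent.Lib.Helper19 Groth.Agent.Lib.Helper72.TauOpen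
  Groth.Agent.Lib.Helper72.TauGrp Groth.Agent.Lib.Helper72.TauGen
  Groth.Agent.Lib.Helper72.NeutralFlat Groth.Agent.Lib.Helper72.GrpComp

section Top

/-- A noetherian quasi-sober space which is a monotone union of constructible subsets equals one
of them. -/
theorem exists_eq_univ_of_monotone {X : Type*} [TopologicalSpace X] [NoetherianSpace X]
    [QuasiSober X] (C : ℕ → Set X) (hmono : Monotone C) (hc : ∀ m, IsConstructible (C m))
    (hU : ⋃ m, C m = Set.univ) : ∃ m, C m = Set.univ := by
  have key : ∀ Z : Set X, IsClosed Z → ∃ m, Z ⊆ C m := by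
    apply Groth.Agent.Lib.Helper35.noeth_closed_induction
    · exact ⟨0, Set.empty_subset _⟩
    · rintro Z₁ Z₂ _ _ ⟨m₁, h1⟩ ⟨m₂, h2⟩
      exact ⟨max m₁ m₂, Set.union_subset (h1.trans (hmono (le_max_left _ _)))
        (h2.trans (hmono (le_max_right _ _)))⟩
    · intro Z hZ hZirr IH
      obtain ⟨ζ, hζ⟩ := QuasiSober.sober hZirr hZ
      have hζZ : ζ ∈ Z := hζ.mem
      obtain ⟨m, hm⟩ : ∃ m, ζ ∈ C m := by
        have : ζ ∈ ⋃ m, C m := by rw [hU]; exact Set.mem_univ _
        exact Set.mem_iUnion.1 this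
      have hopen : ∃ V : Set X, IsOpen V ∧ (V ∩ Z).Nonempty ∧ V ∩ Z ⊆ C m := by
        rcases Groth.Agent.Lib.Helper35.constr_dichotomy (hc m) hZirr with h | ⟨V, hV, hne, hsub⟩
        · exact h
        · exfalso
          obtain ⟨y, hyV, hyZ⟩ := hne
          have hζV : ζ ∈ V := (hζ.specializes hyZ).mem_open hV hyV
          exact hsub ⟨hζV, hζZ⟩ hm
      obtain ⟨V, hV, hne, hsub⟩ := hopen
      obtain ⟨m', hm'⟩ := IH _ (hZ.sdiff hV) (Groth.Agent.Lib.Helper35.sdiff_open_ssubset hne)
      refine ⟨max m m', fun z hz => ?_⟩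
      by_cases hzV : z ∈ V
      · exact hmono (le_max_left _ _) (hsub ⟨hzV, hz⟩)
      · exact hmono (le_max_right _ _) (hm' ⟨hz, hzV⟩)
  obtain ⟨m, hm⟩ := key Set.univ isClosed_univ
  exact ⟨m, Set.eq_univ_of_univ_subset hm⟩

/-- Generizations lift along open continuous maps out of a noetherian quasi-sober space. -/
theorem exists_specializes_of_isOpenMap {X Y : Type*} [TopologicalSpace X] [TopologicalSpace Y]
    [T0Space Y] [NoetherianSpace X] [QuasiSober X] {ψ : X → Y} (hc : Continuous ψ)
    (ho : IsOpenMap ψ) (x₀ : X) (v : Y) (hv : v ⤳ ψ x₀) : ∃ v₀, v₀ ⤳ x₀ ∧ ψ v₀ = v := by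
  let F : Set X := ψ ⁻¹' {v}
  have hx₀ : x₀ ∈ closure F := by
    rw [mem_closure_iff]
    intro O hO hxO
    have h1 : v ∈ ψ '' O := hv.mem_open (ho O hO) ⟨x₀, hxO, rfl⟩
    obtain ⟨o, hoO, hov⟩ := h1
    exact ⟨o, hoO, hov⟩
  have key : ∀ Z : Set X, IsClosed Z → x₀ ∈ closure (F ∩ Z) → ∃ v₀, v₀ ⤳ x₀ ∧ ψ v₀ = v := by
    apply Groth.Agent.Lib.Helper35.noeth_closed_induction
    · intro h; simp at h
    · intro Z₁ Z₂ _ _ h1 h2 h
      rw [Set.inter_union_distrib_left, closure_union] at h
      rcases h with h | h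
      · exact h1 h
      · exact h2 h
    · intro Z hZ hZirr IH h
      obtain ⟨ζ, hζ⟩ := QuasiSober.sober hZirr hZ
      by_cases hζF : ψ ζ = v
      · refine ⟨ζ, ?_, hζF⟩
        have : x₀ ∈ Z := (closure_minimal Set.inter_subset_right hZ) h
        exact hζ.specializes this
      · -- `ζ` is not in the closed set `ψ⁻¹ (closure {v})`
        let Cl : Set X := ψ ⁻¹' closure {v}
        have hCl : IsClosed Cl := isClosed_closure.preimage hc
        have hFC : F ⊆ Cl := fun a ha => by
          show ψ a ∈ closure {v}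
          rw [show ψ a = v from ha]; exact subset_closure rfl
        have hζC : ζ ∉ Cl := by
          intro hmem
          -- `v ⤳ ψ ζ`
          have h1 : v ⤳ ψ ζ := specializes_iff_mem_closure.2 hmem
          -- `ψ ζ ⤳ v` as soon as `F ∩ Z` is nonempty
          have hne : (F ∩ Z).Nonempty := by
            by_contra hemp
            rw [Set.not_nonempty_iff_eq_empty] at hemp
            rw [hemp, closure_empty] at h
            exact h
          obtain ⟨z, hzF, hzZ⟩ := hne
          have h2 : ψ ζ ⤳ v := by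
            have := (hζ.specializes hzZ).map hc
            rwa [show ψ z = v from hzF] at this
          exact hζF (h2.antisymm h1).eq
        have hlt : Z ∩ Cl ⊂ Z := by
          refine ⟨Set.inter_subset_left, fun hsub => hζC (hsub hζ.mem).2⟩
        apply IH _ (hZ.inter hCl) hlt
        have : F ∩ Z = F ∩ (Z ∩ Cl) := by
          ext a
          constructor
          · rintro ⟨haF, haZ⟩; exact ⟨haF, haZ, hFC haF⟩
          · rintro ⟨haF, haZ, -⟩; exact ⟨haF, haZ⟩
        rw [← this]; exact h
  exact key Set.univ isClosed_univ (by rwa [Set.inter_univ])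

end Top

variable {S : Scheme.{u}} (G : Over S) [GrpObj G]

/-- If the `d`-th power map of a commutative group scheme is open then every point of the neutral
components is a `d`-th power of such a point. -/
theorem exists_root [IsCommMonObj G] [LocallyOfFiniteType G.hom] (d : ℕ)
    (hd : IsOpenMap ((𝟙 G : G ⟶ G) ^ d).left.base) (x : G.left)
    (hx : x ∈ SGA3x.neutralSet G) :
    ∃ x₀ ∈ SGA3x.neutralSet G, ((𝟙 G : G ⟶ G) ^ d).left x₀ = x := by
  obtain ⟨s, hs⟩ : ∃ s, s = G.hom x := ⟨_, rfl⟩
  let φ : Spec (CommRingCat.of ↑(S.residueField s)) ⟶ S := S.fromSpecResidueField s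
  let A : Over (Spec (CommRingCat.of ↑(S.residueField s))) := Red.bc φ G
  haveI : LocallyOfFiniteType A.hom := by dsimp [A, Red.bc]; infer_instance
  haveI : IsCommMonObj A := by dsimp [A, Red.bc]; infer_instance
  let q : A.left ⟶ G.left := pullback.fst G.hom φ
  let ψ : G ⟶ G := (𝟙 G : G ⟶ G) ^ d
  let ψA : A ⟶ A := (𝟙 A : A ⟶ A) ^ d
  have hψq : ψA.left ≫ q = q ≫ ψ.left := by
    have h1 : (Over.pullback φ).map ψ = ψA := Groth.Agent.Lib.Helper59.PowEtale.map_pow' G φ d
    rw [← h1]
    exact ActBC.pullback_map_left_fst _ _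
  have hψq' : ∀ a : A.left, q (ψA.left a) = ψ.left (q a) := fun a => by
    rw [← Scheme.Hom.comp_apply, hψq, Scheme.Hom.comp_apply]
  have hqemb : IsEmbedding q := (G.hom.fiberι s).isEmbedding
  have hqrange : Set.range q = G.hom ⁻¹' {s} := G.hom.range_fiberι s
  have hψAopen : IsOpenMap ψA.left := by
    intro O hO
    obtain ⟨O', hO', rfl⟩ := hqemb.isInducing.isOpen_iff.1 hO
    have : ψA.left '' (q ⁻¹' O') = q ⁻¹' (ψ.left '' O') := by
      ext b
      constructor
      · rintro ⟨a, ha, rfl⟩
        exact ⟨q a, ha, (hψq' a).symm⟩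
      · rintro ⟨o', ho', hb⟩
        have ho's : o' ∈ Set.range q := by
          rw [hqrange]
          show G.hom o' = s
          have h1 : G.hom (ψ.left o') = G.hom o' := hom_pow G d o'
          rw [← h1, hb]
          have : q b ∈ G.hom ⁻¹' {s} := by rw [← hqrange]; exact ⟨b, rfl⟩
          exact this
        obtain ⟨a, rfl⟩ := ho's
        refine ⟨a, ho', hqemb.injective ?_⟩
        rw [hψq', hb]
    rw [this]
    exact (hd O' hO').preimage q.continuous
  obtain ⟨A₀, _, incl, _, hoi, hrange, -⟩ := exists_openIdentityComponent A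
  rw [ePt_eq_unitPt, ← AutSch.neutralSet_eq_connectedComponent] at hrange
  haveI : IsMonHom ψA := Groth.Agent.Lib.Helper19.isMonHom_pow' _ d
  let u : A₀ ⟶ A := incl ≫ ψA
  have hYsub : IsSubgroupSet A (Set.range u.left) := isSubgroupSet_range u
  have hYeq : Set.range u.left = ψA.left '' SGA3x.neutralSet A := by
    rw [← hrange]
    ext b
    constructor
    · rintro ⟨a, rfl⟩
      exact ⟨incl.left a, ⟨a, rfl⟩, rfl⟩
    · rintro ⟨_, ⟨a, rfl⟩, rfl⟩
      exact ⟨a, rfl⟩
  have hNopen : IsOpen (SGA3x.neutralSet A) := by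
    rw [← hrange]; exact incl.left.isOpenEmbedding.isOpen_range
  have hYopen : IsOpen (Set.range u.left) := by rw [hYeq]; exact hψAopen _ hNopen
  let W : A.left.Opens := ⟨Set.range u.left, hYopen⟩
  obtain ⟨inst, hmon⟩ := exists_grpObj_of_isSubgroupSet A W hYsub
  haveI : IsOpenImmersion (iof A W).left := (inferInstance : IsOpenImmersion W.ι)
  have hsub := neutralSet_subset_range A (Hof A W) (iof A W)
  have hrW : Set.range (iof A W).left = Set.range u.left := by
    show Set.range W.ι = _
    rw [Scheme.Opens.range_ι]; rfl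
  rw [hrW, hYeq] at hsub
  -- transfer
  have hxr : x ∈ Set.range q := by rw [hqrange]; exact hs.symm
  obtain ⟨a, rfl⟩ := hxr
  have ha : a ∈ SGA3x.neutralSet A := by
    rw [show SGA3x.neutralSet A = q ⁻¹' SGA3x.neutralSet G from neutralSet_bc φ G]
    exact hx
  obtain ⟨a₀, ha₀, rfl⟩ := hsub ha
  refine ⟨q a₀, ?_, (hψq' a₀).symm⟩
  have := ha₀
  rw [show SGA3x.neutralSet A = q ⁻¹' SGA3x.neutralSet G from neutralSet_bc φ G] at this
  exact this

end Groth.Agent.Lib.Helper72.TauRoot
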