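import Groth.Agent.Lib.Helper22.GrpUnivOpen
import Groth.Agent.Lib.Helper72.NeutralOpen
import Groth.Prelude

/-!
# Openness of the neutral component set over the base at its points

For a group scheme `G` locally of finite presentation over `S` which is universally open at the
points of the union `N` of the neutral components of its fibres, the restriction `N → S` is open
at every point of `N`: the image of `U ∩ N`, `U` an open neighbourhood of `x ∈ N`, is a
neighbourhood of the image of `x`.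
-/

set_option autoImplicit false
set_option linter.style.haveILetI false
open CategoryTheory AlgebraicGeometry TopologicalSpace Topology Limits
universe u

namespace Groth.Agent.Lib.Helper72.TauUnivOpen

open MonoidalCategory CartesianMonoidalCategory MonObj GrpObj
open Groth.Agent.Lib.Helper73 Groth.Agent.Lib.Helper19 Groth.Agent.Lib.Helper22.SecComp
open Groth.Agent.Lib.Helper22 Groth.Agent.Lib.Helper22.SecCompDimConst
open Groth.Agent.Lib.Helper22.SecCompDimConstFP Groth.Agent.Lib.Helper22.GrpUnivOpen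
open Groth.Agent.Lib.Helper72.NeutralOpen

set_option backward.isDefEq.respectTransparency false in
theorem image_inter_neutralSet_mem_nhds {S : Scheme.{u}} (G : Over S) [GrpObj G]
    [LocallyOfFinitePresentation G.hom]
    (hLC : IsLocallyConstructible (SGA3x.neutralSet G))
    (hopen : ∀ x ∈ SGA3x.neutralSet G, EGA43.IsUnivOpenAt G.hom x)
    (x : G.left) (hx : x ∈ SGA3x.neutralSet G) (U : Set G.left) (hU : IsOpen U) (hxU : x ∈ U) :
    G.hom.base '' (U ∩ SGA3x.neutralSet G) ∈ nhds (G.hom.base x) := by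
  set f := G.hom with hf
  set e : S ⟶ G.left := eS G with he
  have hef : e ≫ f = 𝟙 S := eS_hom G
  have hefa : ∀ t : S, f.base (e.base t) = t := fun t => apply_section f e hef t
  have hirrX : ∀ t : S, IsIrreducible (connectedComponentIn (f.base ⁻¹' {t}) (e.base t)) :=
    fun t => isIrreducible_neutralComponent G t
  have hmem : ∀ t : S, connectedComponentIn (f.base ⁻¹' {t}) (e.base t) ⊆ SGA3x.neutralSet G :=
    fun t z hz => Set.mem_iUnion.mpr ⟨t, hz⟩
  set s := f.base x with hs
  have hxs : x ∈ connectedComponentIn (f.base ⁻¹' {s}) (e.base s) := by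
    obtain ⟨p, hp⟩ := Set.mem_iUnion.mp hx
    have hp' : x ∈ connectedComponentIn (f.base ⁻¹' {p}) (e.base p) := hp
    have hfx : f.base x = p := connectedComponentIn_subset (f.base ⁻¹' {p}) (e.base p) hp'
    rw [hs, hfx]; exact hp'
  -- dimensions
  have hdim : ∀ t : S, topologicalKrullDim ↥(f.base ⁻¹' {t}) =
      topologicalKrullDim ↥(connectedComponentIn (f.base ⁻¹' {t}) (e.base t)) := by
    intro t
    rw [← fibreDimAt_section_eq f e hef t (hirrX t),
      ← (IsHomeomorph.topologicalKrullDim_eq _ (f.fiberHomeo t).isHomeomorph)]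
    have := dim_fiber_eq_fibreDimAt_of_grpObj S G (e.base t)
    rw [← this, hefa t]
  have hfib : ∀ t : S, topologicalKrullDim ↥(f.fiber t) =
      topologicalKrullDim ↥(connectedComponentIn (f.base ⁻¹' {t}) (e.base t)) := by
    intro t
    rw [← hdim t]
    exact IsHomeomorph.topologicalKrullDim_eq _ (f.fiberHomeo t).isHomeomorph
  obtain ⟨V, hV, hVd⟩ := dim_sectionComponent_const_beta f e hef hirrX s
    (fun ξ hξ _ => hopen ξ (hmem s hξ)) (fun y' _ _ => hfib y')
  obtain ⟨V₀, hV₀V, hV₀, hsV₀⟩ := mem_nhds_iff.mp hV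
  -- affine opens
  obtain ⟨W, hW, hsW, -⟩ :=
    exists_isAffineOpen_mem_and_subset (X := S) (x := s) (U := ⊤) trivial
  let U' : G.left.Opens := ⟨U, hU⟩ ⊓ f ⁻¹ᵁ W
  obtain ⟨U₀, hU₀, hxU₀, hU₀U'⟩ :=
    exists_isAffineOpen_mem_and_subset (X := G.left) (x := x) (U := U') ⟨hxU, hsW⟩
  have hle : U₀ ≤ f ⁻¹ᵁ W := fun z hz => (hU₀U' hz).2
  let ψ : (U₀ : Scheme.{u}) ⟶ (W : Scheme.{u}) := f.resLE W U₀ hle
  have hψ : ψ ≫ W.ι = U₀.ι ≫ f := Scheme.Hom.resLE_comp_ι _ _
  haveI : IsAffine (U₀ : Scheme.{u}) := hU₀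
  haveI : IsAffine (W : Scheme.{u}) := hW
  haveI : QuasiCompact ψ := inferInstance
  let C : Set (U₀ : Scheme.{u}) := U₀.ι.base ⁻¹' SGA3x.neutralSet G
  have hC : IsLocallyConstructible C := isLocallyConstructible_preimage U₀.ι hLC
  have hC' : IsLocallyConstructible (ψ.base '' C) := ψ.isLocallyConstructible_image hC
  have hψa : ∀ z : (U₀ : Scheme.{u}), W.ι.base (ψ.base z) = f.base (U₀.ι.base z) := by
    intro z
    have := congrArg (fun φ : (U₀ : Scheme.{u}) ⟶ S => φ.base z) hψ
    simpa using this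
  let sW : (W : Scheme.{u}) := ⟨s, hsW⟩
  have hsW' : W.ι.base sW = s := rfl
  have hnot : sW ∉ closure ((ψ.base '' C)ᶜ) := by
    intro hcl
    obtain ⟨u, hu, hus⟩ := exists_specializes_of_mem_closure_of_isLocallyConstructible
      (Y := (W : Scheme.{u})) _ (isLocallyConstructible_compl' hC') sW hcl
    apply hu
    have hy : W.ι.base u ⤳ s := hus.map W.ι.continuous
    have hyV : W.ι.base u ∈ V := hV₀V (hy.mem_open hV₀ hsV₀)
    have hdimeq := hVd (W.ι.base u) hyV
    have hsub := subset_closure_sectionComponent f e hef hirrX s (W.ι.base u) hy hdimeq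
    have hxcl : x ∈ closure (connectedComponentIn (f.base ⁻¹' {W.ι.base u}) (e.base (W.ι.base u))) :=
      hsub hxs
    obtain ⟨z, hzU₀, hzC⟩ := mem_closure_iff.mp hxcl U₀ U₀.2 hxU₀
    refine ⟨⟨z, hzU₀⟩, hmem _ hzC, ?_⟩
    apply W.ι.isEmbedding.injective
    rw [hψa]
    have hzf : z ∈ f.base ⁻¹' {W.ι.base u} :=
      connectedComponentIn_subset (f.base ⁻¹' {W.ι.base u}) (e.base (W.ι.base u)) hzC
    exact hzf
  have hnhds : ψ.base '' C ∈ nhds sW := by
    rw [← mem_interior_iff_mem_nhds, interior_eq_compl_closure_compl]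
    exact hnot
  have h2 : W.ι.base '' (ψ.base '' C) ∈ nhds s :=
    W.ι.isOpenEmbedding.isOpenMap.image_mem_nhds hnhds
  refine Filter.mem_of_superset h2 ?_
  rintro _ ⟨_, ⟨z, hz, rfl⟩, rfl⟩
  exact ⟨U₀.ι.base z, ⟨(hU₀U' z.2).1, hz⟩, (hψa z).symm⟩

end Groth.Agent.Lib.Helper72.TauUnivOpen
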