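import Mathlib

/-!
# Maximal ideals avoiding countably many elements, over an uncountable field (helper72)

* `isAlgebraic_of_surjective_mvPolynomial`: a field which is a quotient of a polynomial ring in
  countably many variables over an uncountable field `k` is algebraic over `k`.
* `exists_maximal_avoiding`: in a finitely generated `k`-domain, countably many nonzero elements
  are simultaneously avoided by some maximal ideal.
-/

set_option autoImplicit false
universe u

open Cardinal

namespace Groth.Agent.Lib.Helper72.UncountableAvoid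

/-- A field extension of an uncountable field generated as an algebra by countably many elements is
algebraic. -/
theorem isAlgebraic_of_surjective_mvPolynomial (k K : Type u) [Field k] [Uncountable k] [Field K]
    [Algebra k K] (σ : Type) [Countable σ] (ψ : MvPolynomial σ k →ₐ[k] K)
    (hψ : Function.Surjective ψ) : Algebra.IsAlgebraic k K := by
  by_contra hna
  have htr : Algebra.Transcendental k K := Algebra.transcendental_iff_not_isAlgebraic.mpr hna
  have h1 : Module.rank k K = #K := Algebra.Transcendental.rank_eq_cardinalMk k K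
  have h2 : Module.rank k K ≤ Module.rank k (MvPolynomial σ k) :=
    LinearMap.rank_le_of_surjective ψ.toLinearMap hψ
  have h3 : Cardinal.lift.{u} #(σ →₀ ℕ) =
      Cardinal.lift.{0} (Module.rank k (MvPolynomial σ k)) :=
    (MvPolynomial.basisMonomials σ k).mk_eq_rank
  have h4 : Module.rank k (MvPolynomial σ k) ≤ ℵ₀ := by
    rw [Cardinal.lift_id'] at h3
    rw [← h3, Cardinal.lift_le_aleph0]
    exact Cardinal.mk_le_aleph0
  have h5 : #k ≤ #K := Cardinal.mk_le_of_injective (algebraMap k K).injective
  have h6 : ℵ₀ < #k := Cardinal.aleph0_lt_mk_iff.mpr inferInstance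
  have := h6.trans_le (h5.trans (h1 ▸ h2.trans h4))
  exact lt_irrefl _ this

/-- In a finitely generated domain over an uncountable field, countably many nonzero elements are
simultaneously avoided by some maximal ideal. -/
theorem exists_maximal_avoiding (k : Type u) [Field k] [Uncountable k] (A : Type u) [CommRing A]
    [IsDomain A] [Algebra k A] [Algebra.FiniteType k A] (f : ℕ → A) (hf : ∀ n, f n ≠ 0) :
    ∃ m : Ideal A, m.IsMaximal ∧ ∀ n, f n ∉ m := by
  obtain ⟨n, g, hg⟩ := Algebra.FiniteType.iff_quotient_mvPolynomial''.mp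
    (inferInstance : Algebra.FiniteType k A)
  let L := FractionRing A
  let φ : MvPolynomial (Fin n ⊕ ℕ) k →ₐ[k] L :=
    MvPolynomial.aeval (Sum.elim (fun i => algebraMap A L (g (MvPolynomial.X i)))
      (fun j => (algebraMap A L (f j))⁻¹))
  let A' : Subalgebra k L := φ.range
  have hA : ∀ a : A, algebraMap A L a ∈ A' := by
    intro a
    obtain ⟨p, rfl⟩ := hg a
    refine ⟨MvPolynomial.rename Sum.inl p, ?_⟩
    have : φ.comp (MvPolynomial.rename Sum.inl) = (IsScalarTower.toAlgHom k A L).comp g := by
      apply MvPolynomial.algHom_ext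
      intro i
      simp [φ]
    exact congrArg (fun h => h p) this
  let ι : A →ₐ[k] A' := (IsScalarTower.toAlgHom k A L).codRestrict A' hA
  have hinv : ∀ j : ℕ, ∃ b : A', ι (f j) * b = 1 := by
    intro j
    refine ⟨⟨φ (MvPolynomial.X (Sum.inr j)), ⟨_, rfl⟩⟩, ?_⟩
    apply Subtype.ext
    have h0 : algebraMap A L (f j) ≠ 0 := by
      intro h
      exact hf j ((IsFractionRing.injective A L) (by rw [h, map_zero]))
    simp only [ι, φ, MulMemClass.coe_mul, AlgHom.coe_codRestrict, IsScalarTower.coe_toAlgHom',
      MvPolynomial.aeval_X, Sum.elim_inr, OneMemClass.coe_one]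
    exact mul_inv_cancel₀ h0
  obtain ⟨m', hm'⟩ := Ideal.exists_maximal A'
  let _ : Field (A' ⧸ m') := Ideal.Quotient.field m'
  let ψ : MvPolynomial (Fin n ⊕ ℕ) k →ₐ[k] (A' ⧸ m') :=
    (Ideal.Quotient.mkₐ k m').comp φ.rangeRestrict
  have hψ : Function.Surjective ψ :=
    (Ideal.Quotient.mkₐ_surjective k m').comp φ.rangeRestrict_surjective
  have halg : Algebra.IsAlgebraic k (A' ⧸ m') :=
    isAlgebraic_of_surjective_mvPolynomial k (A' ⧸ m') (Fin n ⊕ ℕ) ψ hψ
  let χ : A →ₐ[k] (A' ⧸ m') := (Ideal.Quotient.mkₐ k m').comp ι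
  have hfield : IsField χ.range := Subalgebra.isField_of_algebraic χ.range
  let _ : Field χ.range := hfield.toField
  have hmax : (RingHom.ker χ.rangeRestrict.toRingHom).IsMaximal :=
    RingHom.ker_isMaximal_of_surjective χ.rangeRestrict.toRingHom χ.rangeRestrict_surjective
  refine ⟨RingHom.ker χ.rangeRestrict.toRingHom, hmax, fun j hj => ?_⟩
  have h1 : χ (f j) = 0 := by
    have := congrArg Subtype.val (RingHom.mem_ker.mp hj)
    simpa using this
  have h2 : ι (f j) ∈ m' := Ideal.Quotient.eq_zero_iff_mem.mp h1
  obtain ⟨b, hb⟩ := hinv j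
  have h3 : (1 : A') ∈ m' := hb ▸ m'.mul_mem_right b h2
  exact hm'.ne_top ((Ideal.eq_top_iff_one m').mpr h3)

end Groth.Agent.Lib.Helper72.UncountableAvoid
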