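import Mathlib
import Groth.Agent.Lib.Helper72.UnivGen

/-!
# Homogeneity for universally generalizing morphisms over a one-point (non-reduced) base

The homogeneity principle of `Helper19.Grp.OrbitHomogeneity` needs the group `G` to be flat over
the one-point base `S`.  For the pointwise property `UG` (universally generalizing at a point)
flatness of `G → S` can be replaced by `G → S` being universally generalizing, which always holds
over the spectrum of a local artinian ring.  Consequence: a homomorphism `u : G ⟶ H` of group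
schemes over a local artinian ring, locally of finite presentation, hitting a point of `H`
without proper generization, is universally open.
-/

set_option autoImplicit false

universe u

open AlgebraicGeometry CategoryTheory CategoryTheory.Limits

namespace Groth.Agent.Lib.Helper72.UnivGenHomog

open Groth.Agent.Lib.Helper72.UnivGen

/-- `UG` ascends along any base change. -/
theorem UG.baseChange {X' X Y' Y : Scheme.{u}} {k : X' ⟶ X} {f' : X' ⟶ Y'} {f : X ⟶ Y}
    {g : Y' ⟶ Y} (sq : IsPullback k f' f g) (x' : X') (h : UG f (k x')) : UG f' x' := by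
  intro X₂ Y₂ k₂ f₂ g₂ sq₂ x₂ hx₂ y₂ hy₂
  exact h (k₂ ≫ k) f₂ (g₂ ≫ g) (sq₂.paste_horiz sq) x₂
    (by rw [Scheme.Hom.comp_apply, hx₂]) y₂ hy₂

/-- A morphism which is `UG` at every point has generalizing base changes. -/
theorem generalizingMap_of_forall_UG {X' X Y' Y : Scheme.{u}} {k : X' ⟶ X} {f' : X' ⟶ Y'}
    {f : X ⟶ Y} {g : Y' ⟶ Y} (sq : IsPullback k f' f g) (h : ∀ x, UG f x) :
    GeneralizingMap f' := by
  intro x' y' hy'
  exact h (k x') k f' g sq x' rfl y' hy'

/-- Flat morphisms are universally generalizing. -/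
theorem UG_of_flat {X Y : Scheme.{u}} (f : X ⟶ Y) [Flat f] (x : X) : UG f x := by
  intro X' Y' k f' g sq x' _ y' hy'
  have : Flat f' := MorphismProperty.of_isPullback sq inferInstance
  exact Flat.generalizingMap f' hy'

/-- A pointwise property of morphisms invariant under base change along universally generalizing
morphisms. -/
def IsUGBaseChangeInvariant' (Q : ∀ {X Y : Scheme.{u}} (_ : X ⟶ Y), X → Prop) : Prop :=
  ∀ {X' X Y' Y : Scheme.{u}} {k : X' ⟶ X} {f' : X' ⟶ Y'} {f : X ⟶ Y} {g : Y' ⟶ Y},
    IsPullback k f' f g → (∀ y', UG g y') → ∀ x' : X', Q f' x' ↔ Q f (k x')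

theorem isUGBaseChangeInvariant'_UG :
    IsUGBaseChangeInvariant' (fun {X Y : Scheme.{u}} (f : X ⟶ Y) x => UG f x) := by
  intro X' X Y' Y k f' f g sq hg x'
  constructor
  · -- descent
    intro h X₂ Y₂ k₂ f₂ g₂ sq₂ x₂ hx₂ y₂ hy₂
    let f₃ : pullback k₂ k ⟶ pullback g₂ g := pullback.map k₂ k g₂ g f₂ f' f sq₂.w sq.w
    have hf₃fst : f₃ ≫ pullback.fst g₂ g = pullback.fst k₂ k ≫ f₂ := pullback.lift_fst _ _ _
    have hf₃snd : f₃ ≫ pullback.snd g₂ g = pullback.snd k₂ k ≫ f' := pullback.lift_snd _ _ _
    have top : IsPullback (pullback.snd k₂ k) (pullback.fst k₂ k) k k₂ :=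
      (IsPullback.of_hasPullback k₂ k).flip
    have R1 : IsPullback (pullback.snd k₂ k) (pullback.fst k₂ k ≫ f₂) (k ≫ f) g₂ :=
      top.paste_vert sq₂
    have bot : IsPullback (pullback.snd g₂ g) (pullback.fst g₂ g) g g₂ :=
      (IsPullback.of_hasPullback g₂ g).flip
    have face : IsPullback (pullback.snd k₂ k) f₃ f' (pullback.snd g₂ g) := by
      refine IsPullback.of_bot ?_ hf₃snd.symm bot
      rw [hf₃fst, ← sq.w]
      exact R1
    obtain ⟨x₃, hx₃1, hx₃2⟩ := Scheme.Pullback.exists_preimage_pullback (f := k₂) (g := k) x₂ x' hx₂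
    have hgen : GeneralizingMap (pullback.fst g₂ g) := generalizingMap_of_forall_UG bot hg
    have h1 : pullback.fst g₂ g (f₃ x₃) = f₂ x₂ := by
      rw [← Scheme.Hom.comp_apply, hf₃fst, Scheme.Hom.comp_apply, hx₃1]
    obtain ⟨y₃, hy₃, hy₃'⟩ := hgen (h1 ▸ hy₂)
    obtain ⟨z₃, hz₃, hz₃'⟩ := h (pullback.snd k₂ k) f₃ (pullback.snd g₂ g) face x₃ hx₃2 y₃ hy₃
    refine ⟨pullback.fst k₂ k z₃, ?_, ?_⟩
    · rw [← hx₃1]
      exact hz₃.map (pullback.fst k₂ k).continuous
    · rw [← Scheme.Hom.comp_apply, ← hf₃fst, Scheme.Hom.comp_apply, hz₃', hy₃']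
  · -- ascent
    exact UG.baseChange sq x'

/-- `UG` descends along base change by a surjective closed immersion of the target. -/
theorem UG_of_isPullback_of_isClosedImmersion {X' X Y' Y : Scheme.{u}} {k : X' ⟶ X}
    {f' : X' ⟶ Y'} {f : X ⟶ Y} {g : Y' ⟶ Y} (sq : IsPullback k f' f g) [IsClosedImmersion g]
    [Surjective g] (h : ∀ x', UG f' x') (x : X) : UG f x := by
  intro X₂ Y₂ k₂ f₂ t sq₂ x₂ _ y₂ hy₂
  -- base change of `g` to `Y₂`
  let gT : pullback t g ⟶ Y₂ := pullback.fst t g
  haveI : IsClosedImmersion gT := inferInstance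
  haveI : Surjective gT := inferInstance
  let p1 : pullback f₂ gT ⟶ X₂ := pullback.fst f₂ gT
  let p2 : pullback f₂ gT ⟶ pullback t g := pullback.snd f₂ gT
  haveI : Surjective p1 := inferInstance
  -- `p2` is a base change of `f'`
  have R1 : IsPullback (p1 ≫ k₂) p2 f (gT ≫ t) :=
    (IsPullback.of_hasPullback f₂ gT).paste_horiz sq₂
  have hw : (p1 ≫ k₂) ≫ f = (p2 ≫ pullback.snd t g) ≫ g := by
    rw [Category.assoc p2, ← pullback.condition]; exact R1.w
  let l : pullback f₂ gT ⟶ X' := sq.lift (p1 ≫ k₂) (p2 ≫ pullback.snd t g) hw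
  have hl1 : l ≫ k = p1 ≫ k₂ := sq.lift_fst _ _ _
  have hl2 : l ≫ f' = p2 ≫ pullback.snd t g := sq.lift_snd _ _ _
  have R2 : IsPullback l p2 f' (pullback.snd t g) := by
    refine IsPullback.of_right ?_ hl2 sq
    rw [hl1, ← pullback.condition]
    exact R1
  obtain ⟨x₂', hx₂'⟩ := (inferInstance : Surjective p1).surj x₂
  obtain ⟨y₂', hy₂'⟩ := (inferInstance : Surjective gT).surj y₂
  have hcomm : gT (p2 x₂') = f₂ x₂ := by
    rw [← Scheme.Hom.comp_apply, ← pullback.condition, Scheme.Hom.comp_apply, hx₂']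
  have hspec : y₂' ⤳ p2 x₂' := by
    rw [← gT.isEmbedding.isInducing.specializes_iff, hy₂', hcomm]
    exact hy₂
  obtain ⟨z', hz', hz''⟩ := h (l x₂') l p2 (pullback.snd t g) R2 x₂' rfl y₂' hspec
  refine ⟨p1 z', ?_, ?_⟩
  · rw [← hx₂']
    exact hz'.map p1.continuous
  · rw [← Scheme.Hom.comp_apply, pullback.condition, Scheme.Hom.comp_apply, hz'', hy₂']

/-- Every morphism to the spectrum of a local artinian ring is universally generalizing. -/
theorem UG_of_isArtinianRing {A : Type u} [CommRing A] [IsArtinianRing A] [IsLocalRing A]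
    {X : Scheme.{u}} (f : X ⟶ Spec (CommRingCat.of A)) (x : X) : UG f x := by
  let g : Spec (CommRingCat.of (IsLocalRing.ResidueField A)) ⟶ Spec (CommRingCat.of A) :=
    Spec.map (CommRingCat.ofHom (IsLocalRing.residue A))
  haveI : IsClosedImmersion g :=
    IsClosedImmersion.spec_of_surjective _ Ideal.Quotient.mk_surjective
  haveI : Subsingleton ↥(Spec (CommRingCat.of A)) :=
    Groth.Agent.Lib.Helper19.subsingleton_Spec_of_isArtinianRing_of_isLocalRing A
  haveI : Nonempty ↥(Spec (CommRingCat.of (IsLocalRing.ResidueField A))) :=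
    inferInstanceAs (Nonempty (PrimeSpectrum (IsLocalRing.ResidueField A)))
  haveI : Surjective g := ⟨fun y => by
    obtain ⟨z⟩ := ‹Nonempty ↥(Spec (CommRingCat.of (IsLocalRing.ResidueField A)))›
    exact ⟨z, Subsingleton.elim _ _⟩⟩
  haveI : Subsingleton ↥(Spec (CommRingCat.of (IsLocalRing.ResidueField A))) :=
    inferInstanceAs (Subsingleton (PrimeSpectrum (IsLocalRing.ResidueField A)))
  have sq : IsPullback (pullback.fst f g) (pullback.snd f g) f g := IsPullback.of_hasPullback f g
  haveI : Flat (pullback.snd f g) := inferInstance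
  have hfl : ∀ x', UG (pullback.snd f g) x' := fun x' => UG_of_flat _ x'
  intro X₂ Y₂
  exact UG_of_isPullback_of_isClosedImmersion sq hfl x

section Orbit

open MonoidalCategory CartesianMonoidalCategory MonObj GrpObj Groth.Agent.Lib.Helper19

variable {S : Scheme.{u}} {G X : Over S} [GrpObj G] (a : AlgGrp.Action G X)
  (o : 𝟙_ (Over S) ⟶ X)

/-- Translation invariance along the orbit map. -/
theorem snd_iff_mul_of_isUGBaseChangeInvariant'
    {Q : ∀ {X Y : Scheme.{u}} (_ : X ⟶ Y), X → Prop} (hQ : IsUGBaseChangeInvariant' Q)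
    (hG : ∀ g, UG G.hom g) (z : ↥(G ⊗ G).left) :
    Q (a.orbitMap o).left ((snd G G).left z) ↔ Q (a.orbitMap o).left (μ[G].left z) := by
  have sq1 := (isPullback_whiskerLeft_snd G (a.orbitMap o)).map (Over.forget _)
  have sq2 := (isPullback_whiskerLeft_orbitMap_mul a o).map (Over.forget _)
  simp only [Over.forget_obj, Over.forget_map] at sq1 sq2
  have hsnd : (snd G X).left = pullback.snd G.hom X.hom := rfl
  have h1 : ∀ y, UG (snd G X).left y := by
    intro y
    rw [hsnd]
    exact UG.baseChange (IsPullback.of_hasPullback G.hom X.hom) y (hG _)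
  haveI : IsIso (actShear a).hom.left :=
    inferInstanceAs (IsIso ((Over.forget _).map (actShear a).hom))
  have h2 : ∀ y, UG a.act.left y := by
    intro y
    have e : a.act.left = (actShear a).hom.left ≫ (snd G X).left := by
      rw [← Over.comp_left, actShear_hom_snd]
    have sqi : IsPullback (actShear a).hom.left a.act.left (snd G X).left (𝟙 X.left) :=
      IsPullback.of_horiz_isIso ⟨by rw [Category.comp_id, e]⟩
    intro X₂ Y₂
    exact UG.baseChange sqi y (h1 _)
  exact (hQ sq1.flip h1 z).symm.trans (hQ sq2.flip h2 z)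

/-- Homogeneity of orbit maps over a one-point base, for group schemes whose structure morphism
is universally generalizing. -/
theorem forall_of_exists_orbitMap_of_isUGBaseChangeInvariant'
    {Q : ∀ {X Y : Scheme.{u}} (_ : X ⟶ Y), X → Prop} (hQ : IsUGBaseChangeInvariant' Q)
    [Subsingleton S] (hG : ∀ g, UG G.hom g) (x : G.left) (hx : Q (a.orbitMap o).left x)
    (y : G.left) : Q (a.orbitMap o).left y := by
  have hxy : G.hom y = G.hom x := Subsingleton.elim _ _
  obtain ⟨w, hw1, hw2⟩ := Scheme.Pullback.exists_preimage_pullback y x hxy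
  have hfst : (fst G G).left = pullback.fst G.hom G.hom := rfl
  have hsnd : (snd G G).left = pullback.snd G.hom G.hom := rfl
  let σ := Groth.Agent.Lib.Helper10.GrpShear.sigma (G := G)
  let z : ↥(G ⊗ G).left := σ.inv.left w
  have h1 : (snd G G).left z = x := by
    have e0 : σ.inv ≫ snd G G = snd G G := by
      simp [σ, Groth.Agent.Lib.Helper10.GrpShear.sigma]
    have e := congrArg (fun φ => φ.left w) e0
    simp only [Over.comp_left, Scheme.Hom.comp_apply] at e
    rw [← hw2, ← hsnd]
    exact e
  have h2 : μ[G].left z = y := by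
    have e0 : σ.inv ≫ μ[G] = fst G G := by
      rw [← Groth.Agent.Lib.Helper10.GrpShear.sigma_hom_fst, Iso.inv_hom_id_assoc]
    have e := congrArg (fun φ => φ.left w) e0
    simp only [Over.comp_left, Scheme.Hom.comp_apply] at e
    rw [← hw1, ← hfst]
    exact e
  have key := (snd_iff_mul_of_isUGBaseChangeInvariant' a o hQ hG z).mp (h1 ▸ hx)
  exact h2 ▸ key

end Orbit

/-- A morphism locally of finite presentation which is universally generalizing at every point is
universally open. -/
theorem universallyOpen_of_forall_UG {X Y : Scheme.{u}} (f : X ⟶ Y)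
    [LocallyOfFinitePresentation f] (h : ∀ x, UG f x) : UniversallyOpen f :=
  ⟨MorphismProperty.universally_mk' _ _ fun t _ =>
    isOpenMap_of_generalizingMap _
      (generalizingMap_of_forall_UG (IsPullback.of_hasPullback t f).flip h)⟩

section Hom

open MonoidalCategory CartesianMonoidalCategory MonObj GrpObj Groth.Agent.Lib.Helper19

variable {S : Scheme.{u}} {G H : Over S} [GrpObj G] [GrpObj H]

/-- A homomorphism of group schemes over a one-point base (with `G → S` universally generalizing)
is universally generalizing at every point as soon as its image contains a point without proper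
generization. -/
theorem forall_UG_hom [Subsingleton S] (hG : ∀ g, UG G.hom g) (u : G ⟶ H) [IsMonHom u]
    (h : ∃ x : G.left, ∀ y : H.left, y ⤳ u.left x → y = u.left x) (x : G.left) : UG u.left x := by
  obtain ⟨x₀, hx₀⟩ := h
  have key := forall_of_exists_orbitMap_of_isUGBaseChangeInvariant'
    (Q := fun {X Y : Scheme.{u}} (f : X ⟶ Y) x => UG f x)
    ((NonAbH1.trivialAction H).restrict u) η[H] isUGBaseChangeInvariant'_UG hG x₀
  rw [orbitMap_restrict_trivialAction_one u] at key
  have h0 : UG u.left x₀ := UG_of_maximal _ x₀ hx₀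
  intro X₂ Y₂
  exact key h0 x

/-- Over a local artinian ring, an open homomorphism (locally of finite presentation) of group
schemes is universally open. -/
theorem universallyOpen_hom_of_isOpenMap {A : Type u} [CommRing A] [IsArtinianRing A]
    [IsLocalRing A] {G H : Over (Spec (CommRingCat.of A))} [GrpObj G] [GrpObj H] (u : G ⟶ H)
    [IsMonHom u] [LocallyOfFinitePresentation u.left] (hu : IsOpenMap u.left) :
    UniversallyOpen u.left := by
  haveI : Subsingleton ↥(Spec (CommRingCat.of A)) :=
    subsingleton_Spec_of_isArtinianRing_of_isLocalRing A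
  have hG : ∀ g, UG G.hom g := fun g => UG_of_isArtinianRing G.hom g
  apply universallyOpen_of_forall_UG
  apply forall_UG_hom hG u
  -- a point of `G`
  obtain ⟨pt⟩ : Nonempty ↥(Spec (CommRingCat.of A)) :=
    inferInstanceAs (Nonempty (PrimeSpectrum A))
  let g₀ : G.left := η[G].left (show ↥(𝟙_ (Over (Spec (CommRingCat.of A)))).left from pt)
  obtain ⟨Z, hZ, hsub⟩ := exists_mem_irreducibleComponents_subset_of_isIrreducible
    ({u.left g₀} : Set H.left) isIrreducible_singleton
  let ξ : H.left := hZ.1.genericPoint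
  have hξ : closure {ξ} = Z :=
    hZ.1.closure_genericPoint (isClosed_of_mem_irreducibleComponents Z hZ)
  have hspec : ξ ⤳ u.left g₀ := by
    rw [specializes_iff_mem_closure, hξ]; exact hsub rfl
  have hmem : ξ ∈ Set.range u.left := hspec.mem_open hu.isOpen_range ⟨g₀, rfl⟩
  obtain ⟨x, hx⟩ := hmem
  refine ⟨x, ?_⟩
  rw [hx]
  intro y hy
  have hw : closure {ξ} ∈ irreducibleComponents H.left := hξ ▸ hZ
  have h1 : closure {ξ} ⊆ closure {y} := specializes_iff_closure_subset.1 hy
  have h2 : closure {y} ⊆ closure {ξ} := hw.2 isIrreducible_singleton.closure h1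
  exact (hy.antisymm (specializes_iff_closure_subset.2 h2)).eq

end Hom

end Groth.Agent.Lib.Helper72.UnivGenHomog
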